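import Mathlib.RingTheory.Flat.Stability
import Mathlib.RingTheory.Flat.Tensor
import Mathlib.RingTheory.Flat.Localization
import Mathlib.LinearAlgebra.TensorProduct.Quotient
import Mathlib.RingTheory.Polynomial.Basic
import Mathlib.RingTheory.Localization.AtPrime.Basic
import Mathlib.RingTheory.LocalRing.ResidueField.Basic

set_option autoImplicit false
set_option linter.style.haveILetI false
universe u v
open TensorProduct

namespace Groth.Agent.Lib.Helper37

section one

variable {C : Type u} [CommRing C] {F : Type u} [CommRing F] [Algebra C F] [Module.Flat C F]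
  {M : Type v} [AddCommGroup M] [Module C M]

/-- If `1 ⊗ z = 0` in `F ⊗ M` with `F` flat, the annihilator of `z` generates the unit ideal
of `F`. -/
theorem map_ker_toSpanSingleton_eq_top (z : M) (hz : (1 : F) ⊗ₜ[C] z = 0) :
    Ideal.map (algebraMap C F) (LinearMap.ker (LinearMap.toSpanSingleton C M z)) = ⊤ := by
  set I : Ideal C := LinearMap.ker (LinearMap.toSpanSingleton C M z) with hI
  let f : (C ⧸ I) →ₗ[C] M := Submodule.liftQ I (LinearMap.toSpanSingleton C M z) le_rfl
  have hf : Function.Injective f := by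
    rw [← LinearMap.ker_eq_bot]
    exact Submodule.ker_liftQ_eq_bot _ _ _ le_rfl
  have hf' := Module.Flat.lTensor_preserves_injective_linearMap (M := F) f hf
  have h1 : f.lTensor F ((1 : F) ⊗ₜ[C] (Ideal.Quotient.mk I 1)) = 0 := by
    rw [LinearMap.lTensor_tmul]
    have : f (Ideal.Quotient.mk I 1) = z := by
      change Submodule.liftQ I (LinearMap.toSpanSingleton C M z) le_rfl (Submodule.Quotient.mk 1) = z
      rw [Submodule.liftQ_apply, LinearMap.toSpanSingleton_apply, one_smul]
    rw [this, hz]
  have h2 : (1 : F) ⊗ₜ[C] (Ideal.Quotient.mk I 1) = 0 := hf' (by rw [h1, map_zero])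
  have h3 := congrArg (TensorProduct.tensorQuotEquivQuotSMul F I) h2
  rw [TensorProduct.tensorQuotEquivQuotSMul_tmul_mk, map_zero, one_smul,
    Submodule.Quotient.mk_eq_zero] at h3
  rw [Ideal.eq_top_iff_one]
  have hle : (I • (⊤ : Submodule C F)) ≤ (Ideal.map (algebraMap C F) I).restrictScalars C := by
    rw [Submodule.smul_le]
    intro r hr n _
    change r • n ∈ Ideal.map (algebraMap C F) I
    rw [Algebra.smul_def]
    exact Ideal.mul_mem_right _ _ (Ideal.mem_map_of_mem _ hr)
  exact hle h3

end one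

section family

variable {C : Type u} [CommRing C] {ι : Type*} (F : ι → Type u) [∀ i, CommRing (F i)]
  [∀ i, Algebra C (F i)] [∀ i, Module.Flat C (F i)]
  (hF : ∀ I : Ideal C, (∀ i, I.map (algebraMap C (F i)) = ⊤) → I = ⊤)
  {M : Type v} [AddCommGroup M] [Module C M] {N : Type v} [AddCommGroup N] [Module C N]

include hF

theorem eq_zero_of_forall_tmul_eq_zero (z : M) (h : ∀ i, (1 : F i) ⊗ₜ[C] z = 0) : z = 0 := by
  have := hF _ fun i => map_ker_toSpanSingleton_eq_top (F := F i) z (h i)
  have h1 : (1 : C) ∈ LinearMap.ker (LinearMap.toSpanSingleton C M z) := by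
    rw [this]; trivial
  rw [LinearMap.mem_ker, LinearMap.toSpanSingleton_apply, one_smul] at h1
  exact h1

theorem injective_of_forall_lTensor_injective (f : M →ₗ[C] N)
    (h : ∀ i, Function.Injective (f.lTensor (F i))) : Function.Injective f := by
  rw [injective_iff_map_eq_zero]
  intro z hz
  apply eq_zero_of_forall_tmul_eq_zero F hF
  intro i
  apply h i
  rw [LinearMap.lTensor_tmul, hz, tmul_zero, map_zero]

theorem flat_of_forall_flat {M : Type u} [AddCommGroup M] [Module C M]
    (h : ∀ i, Module.Flat (F i) (F i ⊗[C] M)) : Module.Flat C M := by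
  rw [Module.Flat.iff_lTensor_injective']
  intro I
  apply injective_of_forall_lTensor_injective F hF
  intro i
  haveI : Module.Flat C (F i ⊗[C] M) := Module.Flat.trans C (F i) (F i ⊗[C] M)
  have h1 : Function.Injective (I.subtype.lTensor (F i ⊗[C] M)) :=
    Module.Flat.lTensor_preserves_injective_linearMap _ Subtype.val_injective
  rw [LinearMap.lTensor_tensor] at h1
  simpa using h1

end family

section polyFamily
open Polynomial IsLocalRing

variable {C : Type u} [CommRing C]

/-- The local ring `C[T]_{𝔭 C[T]}`. -/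
abbrev PolyLoc (p : Ideal C) [p.IsPrime] : Type u :=
  Localization.AtPrime (Ideal.map (Polynomial.C : C →+* C[X]) p)

instance (p : Ideal C) [p.IsPrime] : Module.Flat C (PolyLoc p) :=
  Module.Flat.trans C C[X] (PolyLoc p)

lemma algebraMap_polyLoc_mem_maximalIdeal (p : Ideal C) [p.IsPrime] {z : C} (hz : z ∈ p) :
    algebraMap C (PolyLoc p) z ∈ maximalIdeal (PolyLoc p) := by
  rw [IsScalarTower.algebraMap_apply C C[X] (PolyLoc p),
    IsLocalization.AtPrime.to_map_mem_maximal_iff (PolyLoc p)
      (Ideal.map (Polynomial.C : C →+* C[X]) p)]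
  exact Ideal.mem_map_of_mem _ hz

instance (p : Ideal C) [p.IsPrime] : Infinite (ResidueField (PolyLoc p)) := by
  let g : ℕ → ResidueField (PolyLoc p) := fun n =>
    residue (PolyLoc p) (algebraMap C[X] (PolyLoc p) (X ^ n))
  refine Infinite.of_injective g ?_
  intro n m hnm
  by_contra hne
  have h1 : residue (PolyLoc p) (algebraMap C[X] (PolyLoc p) (X ^ n - X ^ m)) = 0 := by
    rw [map_sub, map_sub, sub_eq_zero]
    exact hnm
  rw [residue_eq_zero_iff, IsLocalization.AtPrime.to_map_mem_maximal_iff (PolyLoc p)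
    (Ideal.map (Polynomial.C : C →+* C[X]) p), Ideal.mem_map_C_iff] at h1
  have h2 := h1 n
  rw [coeff_sub, coeff_X_pow, coeff_X_pow, if_pos rfl, if_neg hne, sub_zero] at h2
  exact (Ideal.IsPrime.ne_top ‹_›) ((Ideal.eq_top_iff_one _).mpr h2)

theorem polyLoc_family_faithful (I : Ideal C)
    (h : ∀ p : {p : Ideal C // p.IsMaximal},
      haveI := p.2.isPrime
      I.map (algebraMap C (PolyLoc p.1)) = ⊤) : I = ⊤ := by
  by_contra hI
  obtain ⟨p, hp, hIp⟩ := Ideal.exists_le_maximal I hI
  haveI := hp.isPrime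
  have h1 := h ⟨p, hp⟩
  have h2 : I.map (algebraMap C (PolyLoc p)) ≤ maximalIdeal (PolyLoc p) := by
    rw [Ideal.map_le_iff_le_comap]
    intro z hz
    exact algebraMap_polyLoc_mem_maximalIdeal p (hIp hz)
  rw [h1, top_le_iff] at h2
  exact (Ideal.IsPrime.ne_top inferInstance) h2

end polyFamily

end Groth.Agent.Lib.Helper37
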