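import Groth.Agent.Lib.Helper37.GrpdRData
import Mathlib.Algebra.Category.Ring.Constructions
import Mathlib.RingTheory.TensorProduct.Maps

set_option autoImplicit false
set_option linter.style.haveILetI false
universe u
open CategoryTheory CategoryTheory.Limits TensorProduct

namespace Groth.Agent.Lib.Helper37

section bcPushout

variable {C X Y Z W : Type u} [CommRing C] [CommRing X] [CommRing Y] [CommRing Z] [CommRing W]
  [Algebra C X] [Algebra C Y] [Algebra C Z] [Algebra C W]

/-- Base change of a `C`-algebra hom along `C → C'`, as a ring hom. -/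
noncomputable def bcHom (C' : Type u) [CommRing C'] [Algebra C C'] (f : X →ₐ[C] Y) :
    C' ⊗[C] X →+* C' ⊗[C] Y :=
  (Algebra.TensorProduct.map (AlgHom.id C' C') f).toRingHom

variable {C' : Type u} [CommRing C'] [Algebra C C']

@[simp] lemma bcHom_tmul (f : X →ₐ[C] Y) (c : C') (x : X) :
    bcHom C' f (c ⊗ₜ x) = c ⊗ₜ f x := rfl

lemma bcHom_comp_apply (f : X →ₐ[C] Y) (g : Y →ₐ[C] Z) (t : C' ⊗[C] X) :
    bcHom C' g (bcHom C' f t) = bcHom C' (g.comp f) t := by
  induction t using TensorProduct.induction_on with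
  | zero => simp
  | tmul c x => rfl
  | add a b ha hb => rw [map_add, map_add, map_add, ha, hb]

lemma bcHom_congr_apply {f g : X →ₐ[C] Y} (h : ∀ x, f x = g x) (t : C' ⊗[C] X) :
    bcHom C' f t = bcHom C' g t := by
  have : f = g := AlgHom.ext h
  rw [this]

lemma bcHom_id_apply (t : C' ⊗[C] X) : bcHom C' (AlgHom.id C X) t = t := by
  induction t using TensorProduct.induction_on with
  | zero => simp
  | tmul c x => rfl
  | add a b ha hb => rw [map_add, ha, hb]

/-- The inclusion `X → C' ⊗ X`. -/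
noncomputable def bcIncl (C' : Type u) [CommRing C'] [Algebra C C'] (X : Type u) [CommRing X]
    [Algebra C X] : X →+* C' ⊗[C] X :=
  (Algebra.TensorProduct.includeRight : X →ₐ[C] C' ⊗[C] X).toRingHom

@[simp] lemma bcIncl_apply (x : X) : bcIncl C' X x = (1 : C') ⊗ₜ[C] x := rfl

theorem isPushout_bcIncl (f : X →ₐ[C] Y) :
    IsPushout (CommRingCat.ofHom f.toRingHom) (CommRingCat.ofHom (bcIncl C' X))
      (CommRingCat.ofHom (bcIncl C' Y)) (CommRingCat.ofHom (bcHom C' f)) := by
  have t := (CommRingCat.isPushout_tensorProduct C C' X).flip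
  have s := (CommRingCat.isPushout_tensorProduct C C' Y).flip
  have h1 : CommRingCat.ofHom (algebraMap C Y) =
      CommRingCat.ofHom (algebraMap C X) ≫ CommRingCat.ofHom f.toRingHom := by
    ext z
    simp
  have h2 : CommRingCat.ofHom (S := C' ⊗[C] Y)
        (Algebra.TensorProduct.includeLeftRingHom : C' →+* C' ⊗[C] Y) =
      CommRingCat.ofHom (S := C' ⊗[C] X)
        (Algebra.TensorProduct.includeLeftRingHom : C' →+* C' ⊗[C] X) ≫
        CommRingCat.ofHom (bcHom C' f) := by
    ext z
    simp [bcHom]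
  rw [h1, h2] at s
  refine IsPushout.of_left s ?_ t
  ext x
  simp [bcHom, bcIncl]

theorem isPushout_bc (f : X →ₐ[C] Y) (g : X →ₐ[C] Z) (h : Y →ₐ[C] W) (k : Z →ₐ[C] W)
    (hsq : IsPushout (CommRingCat.ofHom f.toRingHom) (CommRingCat.ofHom g.toRingHom)
      (CommRingCat.ofHom h.toRingHom) (CommRingCat.ofHom k.toRingHom)) :
    IsPushout (CommRingCat.ofHom (bcHom C' f)) (CommRingCat.ofHom (bcHom C' g))
      (CommRingCat.ofHom (bcHom C' h)) (CommRingCat.ofHom (bcHom C' k)) := by
  have hr := (isPushout_bcIncl (C' := C') h).flip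
  have big := hsq.paste_horiz hr
  have e1 : CommRingCat.ofHom f.toRingHom ≫ CommRingCat.ofHom (bcIncl C' Y) =
      CommRingCat.ofHom (bcIncl C' X) ≫ CommRingCat.ofHom (bcHom C' f) := by
    ext x
    simp [bcHom, bcIncl]
  have e2 : CommRingCat.ofHom k.toRingHom ≫ CommRingCat.ofHom (bcIncl C' W) =
      CommRingCat.ofHom (bcIncl C' Z) ≫ CommRingCat.ofHom (bcHom C' k) := by
    ext x
    simp [bcHom, bcIncl]
  rw [e1, e2] at big
  have hl := (isPushout_bcIncl (C' := C') g).flip
  refine IsPushout.of_left big ?_ hl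
  have hw : ∀ x, h (f x) = k (g x) := fun x => congrArg (fun φ => φ.hom x) hsq.w
  have key : (bcHom C' h).comp (bcHom C' f) = (bcHom C' k).comp (bcHom C' g) := by
    refine RingHom.ext fun t => ?_
    rw [RingHom.comp_apply, RingHom.comp_apply, bcHom_comp_apply, bcHom_comp_apply]
    exact bcHom_congr_apply (fun x => hw x) t
  rw [← CommRingCat.ofHom_comp, ← CommRingCat.ofHom_comp, key]

end bcPushout

section bcData

variable {A B P : Type u} [CommRing A] [CommRing B] [CommRing P] [Algebra A B]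
  {C : Type u} [CommRing C] [Algebra C A] [Algebra C B] [IsScalarTower C A B] [Algebra C P]

/-- The algebra structure of `C' ⊗ B` over `C' ⊗ A`. -/
@[instance_reducible]
noncomputable def bcAlgebra (C' : Type u) [CommRing C'] [Algebra C C'] :
    Algebra (C' ⊗[C] A) (C' ⊗[C] B) :=
  (bcHom C' (IsScalarTower.toAlgHom C A B)).toAlgebra

attribute [local instance] bcAlgebra

lemma bcAlgebra_algebraMap_tmul (C' : Type u) [CommRing C'] [Algebra C C'] (c : C') (a : A) :
    algebraMap (C' ⊗[C] A) (C' ⊗[C] B) (c ⊗ₜ a) = c ⊗ₜ algebraMap A B a := rfl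

namespace RData

variable (D : RData A B P)
  (hP : ∀ z : C, algebraMap C P z = D.p₂ (algebraMap C B z))
  (hinvC : ∀ z : C, D.τ (algebraMap C A z) = algebraMap C B z)

/-- `τ` as a `C`-algebra hom. -/
noncomputable def τa : A →ₐ[C] B := { D.τ with commutes' := hinvC }

/-- `e` as a `C`-algebra hom. -/
noncomputable def ea : B →ₐ[C] A :=
  { D.e with
    commutes' := fun z => by
      change D.e (algebraMap C B z) = _
      rw [IsScalarTower.algebraMap_apply C A B, D.hes] }

/-- `p₂` as a `C`-algebra hom. -/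
noncomputable def p₂a : B →ₐ[C] P := { D.p₂ with commutes' := fun z => (hP z).symm }

/-- `c` as a `C`-algebra hom. -/
noncomputable def ca : B →ₐ[C] P :=
  { D.c with
    commutes' := fun z => by
      change D.c (algebraMap C B z) = _
      rw [IsScalarTower.algebraMap_apply C A B, D.c_sigma,
        ← IsScalarTower.algebraMap_apply C A B, hP] }

/-- `p₁` as a `C`-algebra hom. -/
noncomputable def p₁a : B →ₐ[C] P :=
  { D.p₁ with
    commutes' := fun z => by
      change D.p₁ (algebraMap C B z) = _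
      rw [IsScalarTower.algebraMap_apply C A B, D.p₁_sigma, hinvC, hP] }

/-- Base change of the ring data along `C → C'`. -/
noncomputable def baseChange (C' : Type u) [CommRing C'] [Algebra C C'] :
    RData (C' ⊗[C] A) (C' ⊗[C] B) (C' ⊗[C] P) where
  τ := bcHom C' (D.τa hinvC)
  e := bcHom C' D.ea
  c := bcHom C' (D.ca hP)
  p₁ := bcHom C' (D.p₁a hP hinvC)
  p₂ := bcHom C' (D.p₂a hP)
  hes t := by
    change bcHom C' D.ea (bcHom C' (IsScalarTower.toAlgHom C A B) t) = t
    rw [bcHom_comp_apply, bcHom_congr_apply (g := AlgHom.id C A) (fun x => D.hes x),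
      bcHom_id_apply]
  het t := by
    rw [bcHom_comp_apply, bcHom_congr_apply (g := AlgHom.id C A) (fun x => D.het x),
      bcHom_id_apply]
  hps := isPushout_bc (IsScalarTower.toAlgHom C A B) (IsScalarTower.toAlgHom C A B)
    (D.p₂a hP) (D.ca hP) D.hps
  hpt := isPushout_bc (D.τa hinvC) (IsScalarTower.toAlgHom C A B)
    (D.p₂a hP) (D.p₁a hP hinvC) D.hpt
  hct t := by
    rw [bcHom_comp_apply, bcHom_comp_apply]
    exact bcHom_congr_apply (fun x => D.hct x) t

end RData

theorem baseChange_finite_projective (C' : Type u) [CommRing C'] [Algebra C C']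
    [Module.Finite A B] [Module.Projective A B] :
    Module.Finite (C' ⊗[C] A) (C' ⊗[C] B) ∧ Module.Projective (C' ⊗[C] A) (C' ⊗[C] B) := by
  letI : Algebra A (C' ⊗[C] A) := (bcIncl C' A).toAlgebra
  letI : Algebra B (C' ⊗[C] B) := (bcIncl C' B).toAlgebra
  letI : Algebra A (C' ⊗[C] B) :=
    ((algebraMap (C' ⊗[C] A) (C' ⊗[C] B)).comp (algebraMap A (C' ⊗[C] A))).toAlgebra
  haveI : IsScalarTower A (C' ⊗[C] A) (C' ⊗[C] B) := IsScalarTower.of_algebraMap_eq (fun _ => rfl)
  haveI : IsScalarTower A B (C' ⊗[C] B) := IsScalarTower.of_algebraMap_eq (fun _ => rfl)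
  have hpo : Algebra.IsPushout A (C' ⊗[C] A) B (C' ⊗[C] B) :=
    (CommRingCat.isPushout_iff_isPushout (R := A) (R' := C' ⊗[C] A) (S := B)
      (S' := C' ⊗[C] B)).mp (isPushout_bcIncl (C' := C') (IsScalarTower.toAlgHom C A B)).flip
  have ibc : IsBaseChange (C' ⊗[C] A) (IsScalarTower.toAlgHom A B (C' ⊗[C] B)).toLinearMap :=
    hpo.out
  exact ⟨Module.Finite.equiv ibc.equiv, Module.Projective.of_equiv ibc.equiv⟩

theorem RData.baseChange_invariants (D : RData A B P)
    (hP : ∀ z : C, algebraMap C P z = D.p₂ (algebraMap C B z))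
    (hinvC : ∀ z : C, D.τ (algebraMap C A z) = algebraMap C B z)
    (C' : Type u) [CommRing C'] [Algebra C C'] [Module.Flat C C']
    (hinj : Function.Injective (algebraMap C A))
    (hinv : ∀ a, algebraMap A B a = D.τ a → a ∈ Set.range (algebraMap C A)) :
    Function.Injective (algebraMap C' (C' ⊗[C] A)) ∧
      ∀ t : C' ⊗[C] A, algebraMap (C' ⊗[C] A) (C' ⊗[C] B) t = (D.baseChange hP hinvC C').τ t ↔
        t ∈ Set.range (algebraMap C' (C' ⊗[C] A)) := by
  let τlin : A →ₗ[C] B := (D.τa hinvC).toLinearMap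
  let σlin : A →ₗ[C] B := (IsScalarTower.toAlgHom C A B).toLinearMap
  let δ : A →ₗ[C] B := σlin - τlin
  let ι : C →ₗ[C] A := Algebra.linearMap C A
  have hδ : ∀ a, δ a = algebraMap A B a - D.τ a := fun a => rfl
  have hex : Function.Exact ι δ := by
    intro a
    rw [hδ, sub_eq_zero]
    constructor
    · intro ha
      exact hinv a ha
    · rintro ⟨z, rfl⟩
      change algebraMap A B (algebraMap C A z) = D.τ (algebraMap C A z)
      rw [hinvC, ← IsScalarTower.algebraMap_apply]
  have hex' := Module.Flat.lTensor_exact C' hex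
  have hinj' := Module.Flat.lTensor_preserves_injective_linearMap (M := C') ι hinj
  have hincl : ∀ c : C', algebraMap C' (C' ⊗[C] A) c =
      ι.lTensor C' ((TensorProduct.rid C C').symm c) := by
    intro c
    rw [TensorProduct.rid_symm_apply, LinearMap.lTensor_tmul,
      Algebra.TensorProduct.algebraMap_apply, Algebra.algebraMap_self, RingHom.id_apply]
    change c ⊗ₜ[C] (1 : A) = c ⊗ₜ[C] algebraMap C A 1
    rw [map_one]
  have hδT : ∀ t, δ.lTensor C' t =
      algebraMap (C' ⊗[C] A) (C' ⊗[C] B) t - (D.baseChange hP hinvC C').τ t := by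
    intro t
    induction t using TensorProduct.induction_on with
    | zero => simp
    | tmul c a =>
      rw [LinearMap.lTensor_tmul, hδ, TensorProduct.tmul_sub]
      rfl
    | add x y hx hy => rw [map_add, hx, hy, map_add, map_add]; abel
  refine ⟨?_, fun t => ⟨fun ht => ?_, ?_⟩⟩
  · intro c₁ c₂ h
    rw [hincl, hincl] at h
    exact (TensorProduct.rid C C').symm.injective (hinj' h)
  · have h0 : δ.lTensor C' t = 0 := by rw [hδT, ht, sub_self]
    obtain ⟨z, hz⟩ := (hex' t).mp h0
    refine ⟨TensorProduct.rid C C' z, ?_⟩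
    rw [hincl, LinearEquiv.symm_apply_apply, hz]
  · rintro ⟨c, rfl⟩
    rw [Algebra.TensorProduct.algebraMap_apply, Algebra.algebraMap_self, RingHom.id_apply]
    change c ⊗ₜ[C] algebraMap A B 1 = c ⊗ₜ[C] D.τ 1
    rw [map_one, map_one]

theorem RData.baseChange_span (D : RData A B P)
    (hP : ∀ z : C, algebraMap C P z = D.p₂ (algebraMap C B z))
    (hinvC : ∀ z : C, D.τ (algebraMap C A z) = algebraMap C B z)
    (C' : Type u) [CommRing C'] [Algebra C C']
    (hspan : Submodule.span A (Set.range D.τ) = ⊤) :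
    Submodule.span (C' ⊗[C] A) (Set.range (D.baseChange hP hinvC C').τ) = ⊤ := by
  rw [eq_top_iff]
  rintro t -
  induction t using TensorProduct.induction_on with
  | zero => exact Submodule.zero_mem _
  | add a b ha hb => exact Submodule.add_mem _ ha hb
  | tmul c b =>
    have hb : b ∈ Submodule.span A (Set.range D.τ) := by rw [hspan]; trivial
    induction hb using Submodule.span_induction generalizing c with
    | mem b hb =>
      obtain ⟨a, rfl⟩ := hb
      exact Submodule.subset_span ⟨c ⊗ₜ a, rfl⟩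
    | zero => rw [tmul_zero]; exact Submodule.zero_mem _
    | add b b' _ _ hb hb' => rw [tmul_add]; exact Submodule.add_mem _ (hb c) (hb' c)
    | smul a b _ hb =>
      have : c ⊗ₜ[C] (a • b) = ((1 : C') ⊗ₜ[C] a) • (c ⊗ₜ[C] b) := by
        rw [Algebra.smul_def a b, Algebra.smul_def ((1 : C') ⊗ₜ[C] a) (c ⊗ₜ[C] b),
          bcAlgebra_algebraMap_tmul, Algebra.TensorProduct.tmul_mul_tmul, one_mul]
      rw [this]
      exact Submodule.smul_mem _ _ (hb c)

end bcData

end Groth.Agent.Lib.Helper37
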