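import Groth.Agent.Lib.Helper37.GrpdLocal
import Groth.Agent.Lib.Helper37.GrpdBaseChange
import Groth.Agent.Lib.Helper37.FamilyDescent
import Mathlib.RingTheory.Finiteness.Descent
import Mathlib.RingTheory.Flat.FaithfullyFlat.Algebra
import Mathlib.RingTheory.TensorProduct.Free

set_option autoImplicit false
set_option linter.style.haveILetI false
universe u
open TensorProduct IsLocalRing

namespace Groth.Agent.Lib.Helper37

attribute [local instance] bcAlgebra

namespace RData

variable {A B P : Type u} [CommRing A] [CommRing B] [CommRing P] [Algebra A B] (D : RData A B P)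

section localStep

variable {C : Type u} [CommRing C] [Algebra C A] [Algebra C B] [IsScalarTower C A B] [Algebra C P]

theorem local_step [Module.Finite A B] [Module.Projective A B]
    (hP : ∀ z : C, algebraMap C P z = D.p₂ (algebraMap C B z))
    (hinvC : ∀ z : C, D.τ (algebraMap C A z) = algebraMap C B z)
    (hinj : Function.Injective (algebraMap C A))
    (hinv : ∀ a, algebraMap A B a = D.τ a → a ∈ Set.range (algebraMap C A))
    (hspan : Submodule.span A (Set.range D.τ) = ⊤)
    (F : Type u) [CommRing F] [Algebra C F] [Module.Flat C F] [IsLocalRing F]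
    [Infinite (ResidueField F)]
    (ψ : A ⊗[C] A →ₗ[C] B) (hψ : ∀ a a', ψ (a ⊗ₜ a') = algebraMap A B a * D.τ a') :
    Module.Flat F (F ⊗[C] A) ∧ Function.Injective (ψ.lTensor F) := by
  obtain ⟨hfin, hproj⟩ := baseChange_finite_projective (A := A) (B := B) (C := C) F
  obtain ⟨hinj', hinv'⟩ := D.baseChange_invariants hP hinvC F hinj hinv
  have hspan' := D.baseChange_span hP hinvC F hspan
  obtain ⟨r, x, hb, hc⟩ := (D.baseChange hP hinvC F).local_theorem hinj' hinv' hspan'
  let eC : (Fin r → F) ≃ₗ[F] F ⊗[C] A := LinearEquiv.ofBijective _ hc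
  refine ⟨Module.Flat.of_linearEquiv eC.symm, ?_⟩
  -- the basis of `A'` over `F`
  let b : Module.Basis (Fin r) F (F ⊗[C] A) := Module.Basis.ofEquivFun eC.symm
  have hbx : ∀ j, b j = x j := by
    intro j
    simp only [b, Module.Basis.coe_ofEquivFun, LinearEquiv.symm_symm, eC,
      LinearEquiv.ofBijective_apply, Fintype.linearCombination_apply]
    simp [Pi.single_apply]
  let bT := Algebra.TensorProduct.basis (F ⊗[C] A) b
  haveI : IsScalarTower F (F ⊗[C] A) (F ⊗[C] B) := IsScalarTower.of_algebraMap_eq (fun c => by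
    rw [Algebra.TensorProduct.algebraMap_apply, Algebra.TensorProduct.algebraMap_apply,
      bcAlgebra_algebraMap_tmul, map_one])
  let τ' : F ⊗[C] A →ₐ[F] F ⊗[C] B := Algebra.TensorProduct.map (AlgHom.id F F) (D.τa hinvC)
  let Ψ : (F ⊗[C] A) ⊗[F] (F ⊗[C] A) →ₐ[F ⊗[C] A] F ⊗[C] B :=
    Algebra.TensorProduct.lift (Algebra.ofId (F ⊗[C] A) (F ⊗[C] B)) τ' (fun _ _ => Commute.all _ _)
  have hΨ : ∀ s t, Ψ (s ⊗ₜ t) = algebraMap (F ⊗[C] A) (F ⊗[C] B) s * τ' t := by
    intro s t
    simp [Ψ, Algebra.ofId_apply]
  have hcomp : Ψ.toLinearMap ∘ₗ bT.equivFun.symm.toLinearMap = (D.baseChange hP hinvC F).gmap x := by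
    refine (Pi.basisFun (F ⊗[C] A) (Fin r)).ext fun j => ?_
    rw [LinearMap.comp_apply, LinearEquiv.coe_coe, Pi.basisFun_apply, gmap_apply]
    have : bT.equivFun.symm (Pi.single j 1) = bT j := by
      rw [Module.Basis.equivFun_symm_apply]
      simp [Pi.single_apply]
    rw [this, Algebra.TensorProduct.basis_apply, AlgHom.toLinearMap_apply, hΨ, map_one, one_mul,
      hbx]
    simp [Pi.single_apply]
    rfl
  have hΨinj : Function.Injective Ψ := by
    have h1 : Function.Injective (Ψ.toLinearMap ∘ₗ bT.equivFun.symm.toLinearMap) := by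
      rw [hcomp]; exact hb.1
    intro s t hst
    obtain ⟨s', rfl⟩ := bT.equivFun.symm.surjective s
    obtain ⟨t', rfl⟩ := bT.equivFun.symm.surjective t
    rw [h1 hst]
  have hfac : ∀ t, ψ.lTensor F t =
      Ψ (TensorProduct.AlgebraTensorModule.distribBaseChange C F A A t) := by
    intro t
    induction t using TensorProduct.induction_on with
    | zero => simp
    | add s t hs ht => rw [map_add, hs, ht, map_add, map_add]
    | tmul c t =>
      induction t using TensorProduct.induction_on with
      | zero => simp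
      | add s t hs ht => rw [tmul_add, map_add, hs, ht, map_add, map_add]
      | tmul a a' =>
        rw [LinearMap.lTensor_tmul, hψ, TensorProduct.AlgebraTensorModule.distribBaseChange_tmul,
          hΨ, bcAlgebra_algebraMap_tmul]
        change _ = (c ⊗ₜ[C] algebraMap A B a) * ((1 : F) ⊗ₜ[C] D.τ a')
        rw [Algebra.TensorProduct.tmul_mul_tmul, mul_one]
  intro s t hst
  rw [hfac, hfac] at hst
  exact (TensorProduct.AlgebraTensorModule.distribBaseChange C F A A).injective (hΨinj hst)

end localStep

/-- The ring-level quotient theorem for a finite locally free groupoid with `(t, s)` a closed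
immersion. -/
theorem ring_theorem [Module.Finite A B] [Module.Projective A B] [Algebra.FinitePresentation A B]
    {C : Type u} [CommRing C] [Algebra C A] (hinj : Function.Injective (algebraMap C A))
    (hinv : ∀ a, algebraMap A B a = D.τ a ↔ a ∈ Set.range (algebraMap C A))
    (ψ : A ⊗[C] A →+* B) (hψ : ∀ a a', ψ (a ⊗ₜ a') = algebraMap A B a * D.τ a')
    (hψs : Function.Surjective ψ) :
    Module.Finite C A ∧ Module.Flat C A ∧ Algebra.FinitePresentation C A ∧
      Function.Bijective ψ := by
  letI : Algebra C B := ((algebraMap A B).comp (algebraMap C A)).toAlgebra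
  haveI : IsScalarTower C A B := IsScalarTower.of_algebraMap_eq fun _ => rfl
  letI : Algebra C P := (D.p₂.comp (algebraMap C B)).toAlgebra
  have hP : ∀ z : C, algebraMap C P z = D.p₂ (algebraMap C B z) := fun _ => rfl
  have hinvC : ∀ z : C, D.τ (algebraMap C A z) = algebraMap C B z :=
    fun z => ((hinv _).mpr ⟨z, rfl⟩).symm
  have hinv' : ∀ a, algebraMap A B a = D.τ a → a ∈ Set.range (algebraMap C A) :=
    fun a ha => (hinv a).mp ha
  haveI : Algebra.IsIntegral C A := D.isIntegral_of_invariants hinv'
  have hspan : Submodule.span A (Set.range D.τ) = ⊤ := by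
    rw [eq_top_iff]
    rintro b -
    obtain ⟨t, rfl⟩ := hψs b
    induction t using TensorProduct.induction_on with
    | zero => rw [map_zero]; exact Submodule.zero_mem _
    | add s t hs ht => rw [map_add]; exact Submodule.add_mem _ hs ht
    | tmul a a' =>
      rw [hψ, ← Algebra.smul_def]
      exact Submodule.smul_mem _ _ (Submodule.subset_span ⟨a', rfl⟩)
  -- `ψ` as an `A`-algebra hom
  let ψa : A ⊗[C] A →ₐ[A] B :=
    { ψ with
      commutes' := fun a => by
        change ψ (a ⊗ₜ[C] (1 : A)) = _
        rw [hψ, map_one, mul_one] }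
  have hψa : ∀ t, ψa t = ψ t := fun _ => rfl
  let ψC : A ⊗[C] A →ₗ[C] B := ψa.toLinearMap.restrictScalars C
  have hψC : ∀ a a', ψC (a ⊗ₜ a') = algebraMap A B a * D.τ a' := hψ
  let ι := {p : Ideal C // p.IsMaximal}
  have hloc : ∀ p : ι, Module.Flat (@PolyLoc C _ p.1 p.2.isPrime)
      (@PolyLoc C _ p.1 p.2.isPrime ⊗[C] A) ∧
      Function.Injective (ψC.lTensor (@PolyLoc C _ p.1 p.2.isPrime)) := by
    intro p
    haveI := p.2.isPrime
    exact D.local_step hP hinvC hinj hinv' hspan (PolyLoc p.1) ψC hψC
  have hflat : Module.Flat C A :=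
    flat_of_forall_flat (fun p : ι => @PolyLoc C _ p.1 p.2.isPrime) polyLoc_family_faithful
      fun p => (hloc p).1
  have hψinj : Function.Injective ψ :=
    injective_of_forall_lTensor_injective (fun p : ι => @PolyLoc C _ p.1 p.2.isPrime)
      polyLoc_family_faithful ψC fun p => (hloc p).2
  have hbij : Function.Bijective ψ := ⟨hψinj, hψs⟩
  haveI : FaithfulSMul C A := (faithfulSMul_iff_algebraMap_injective C A).mpr hinj
  haveI hff : Module.FaithfullyFlat C A :=
    Module.FaithfullyFlat.of_comap_surjective (Algebra.IsIntegral.comap_surjective C A)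
  let e : A ⊗[C] A ≃ₐ[A] B := AlgEquiv.ofBijective ψa hbij
  haveI : Module.Finite A (A ⊗[C] A) := Module.Finite.equiv e.symm.toLinearEquiv
  haveI : Algebra.FinitePresentation A (A ⊗[C] A) := Algebra.FinitePresentation.equiv e.symm
  exact ⟨Module.Finite.of_finite_tensorProduct_of_faithfullyFlat A, hflat,
    Algebra.FinitePresentation.of_finitePresentation_tensorProduct_of_faithfullyFlat A, hbij⟩

end RData

end Groth.Agent.Lib.Helper37
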