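import Mathlib
set_option linter.style.haveILetI false
set_option autoImplicit false
universe u v

open MvPolynomial TensorProduct

namespace Groth.Agent.Lib.Helper37.IrrSpread

/-- A finite type algebra over a domain `A` into which `A` injects admits an `A`-algebra map to an
algebraic closure of the fraction field. -/
theorem exists_algHom_algebraicClosure {A : Type u} [CommRing A] [IsDomain A]
    (B : Type u) [CommRing B] [Algebra A B] [Algebra.FiniteType A B]
    (h : Function.Injective (algebraMap A B)) :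
    Nonempty (B →ₐ[A] AlgebraicClosure (FractionRing A)) := by
  let K := FractionRing A
  have hinj : Function.Injective (LinearMap.lTensor K (Algebra.linearMap A B)) :=
    Module.Flat.lTensor_preserves_injective_linearMap _ h
  haveI : Nontrivial (K ⊗[A] B) := by
    have : Nontrivial (K ⊗[A] A) := (TensorProduct.rid A K).toEquiv.nontrivial
    exact hinj.nontrivial
  obtain ⟨𝔪, h𝔪⟩ := Ideal.exists_maximal (K ⊗[A] B)
  letI : Field ((K ⊗[A] B) ⧸ 𝔪) := Ideal.Quotient.field 𝔪
  haveI : Algebra.FiniteType K ((K ⊗[A] B) ⧸ 𝔪) := inferInstance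
  haveI : Module.Finite K ((K ⊗[A] B) ⧸ 𝔪) := finite_of_finite_type_of_isJacobsonRing K _
  haveI : Algebra.IsIntegral K ((K ⊗[A] B) ⧸ 𝔪) := Algebra.IsIntegral.of_finite K _
  haveI : Algebra.IsAlgebraic K ((K ⊗[A] B) ⧸ 𝔪) := Algebra.IsIntegral.isAlgebraic
  let l : ((K ⊗[A] B) ⧸ 𝔪) →ₐ[K] AlgebraicClosure K := IsAlgClosed.lift
  exact ⟨(l.restrictScalars A).comp
    (((Ideal.Quotient.mkₐ K 𝔪).restrictScalars A).comp Algebra.TensorProduct.includeRight)⟩


section Poly

variable {σ : Type} {R : Type v} [CommSemiring R]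

abbrev mdeg (m : σ →₀ ℕ) : ℕ := m.sum fun _ e => e
abbrev Idx (σ : Type) (e : ℕ) := {m : σ →₀ ℕ // mdeg m ≤ e}

instance [Finite σ] (e : ℕ) : Finite (Idx σ e) :=
  (Finsupp.finite_of_degree_le (σ := σ) e).to_subtype

variable [Finite σ]

noncomputable def poly (e : ℕ) (v : Idx σ e → R) : MvPolynomial σ R :=
  AddMonoidAlgebra.ofCoeff (Finsupp.ofSupportFinite
    (fun m => if h : mdeg m ≤ e then v ⟨m, h⟩ else 0)
    ((Finsupp.finite_of_degree_le (σ := σ) e).subset (by
      intro m hm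
      simp only [Function.mem_support, ne_eq, dite_eq_right_iff, not_forall] at hm
      exact hm.1)))

theorem coeff_poly (e : ℕ) (v : Idx σ e → R) (m : σ →₀ ℕ) :
    coeff m (poly e v) = if h : mdeg m ≤ e then v ⟨m, h⟩ else 0 := rfl

theorem totalDegree_poly_le (e : ℕ) (v : Idx σ e → R) : (poly e v).totalDegree ≤ e := by
  refine Finset.sup_le fun m hm => ?_
  rw [mem_support_iff, coeff_poly] at hm
  by_contra h
  rw [dif_neg h] at hm
  exact hm rfl

theorem map_poly {R' : Type*} [CommSemiring R'] (ψ : R →+* R') (e : ℕ) (v : Idx σ e → R) :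
    map ψ (poly e v) = poly e (fun m => ψ (v m)) := by
  ext m
  rw [coeff_map, coeff_poly, coeff_poly]
  split_ifs <;> simp

theorem poly_coeff (e : ℕ) (q : MvPolynomial σ R) (hq : q.totalDegree ≤ e) :
    poly e (fun m => coeff m.1 q) = q := by
  ext m
  rw [coeff_poly]
  split_ifs with h
  · rfl
  · exact (coeff_eq_zero_of_totalDegree_lt (lt_of_le_of_lt hq (not_le.mp h))).symm

end Poly

section Univ

variable {σ : Type} [Finite σ] {A : Type u} [CommRing A] (P : MvPolynomial σ A) (e₁ e₂ : ℕ)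

/-- the polynomial ring of coefficients of the two generic factors. -/
abbrev T (σ : Type) (A : Type u) [CommRing A] (e₁ e₂ : ℕ) : Type u :=
  MvPolynomial (Idx σ e₁ ⊕ Idx σ e₂) A

/-- the first generic factor. -/
noncomputable def Q₁ : MvPolynomial σ (T σ A e₁ e₂) := poly e₁ fun m => X (Sum.inl m)

/-- the second generic factor. -/
noncomputable def Q₂ : MvPolynomial σ (T σ A e₁ e₂) := poly e₂ fun m => X (Sum.inr m)

/-- the ideal of relations `P = Q₁ Q₂`. -/
noncomputable def relIdeal : Ideal (T σ A e₁ e₂) :=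
  Ideal.span (Set.range fun m : σ →₀ ℕ =>
    coeff m (map (C : A →+* T σ A e₁ e₂) P - Q₁ e₁ e₂ * Q₂ e₁ e₂))

/-- the universal algebra of factorizations of `P` into factors of degrees `≤ e₁`, `≤ e₂`. -/
abbrev B : Type u := T σ A e₁ e₂ ⧸ relIdeal P e₁ e₂

variable {P e₁ e₂}

/-- a factorisation over `R` gives a point of `B`. -/
theorem exists_hom_of_factor {R : Type v} [CommRing R] (g : A →+* R) (q₁ q₂ : MvPolynomial σ R)
    (h₁ : q₁.totalDegree ≤ e₁) (h₂ : q₂.totalDegree ≤ e₂) (h : map g P = q₁ * q₂) :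
    ∃ ψ : B P e₁ e₂ →+* R, ∀ a : A, ψ (algebraMap A (B P e₁ e₂) a) = g a := by
  let ψ₀ : T σ A e₁ e₂ →+* R :=
    eval₂Hom g (Sum.elim (fun m => coeff m.1 q₁) (fun m => coeff m.1 q₂))
  have hC : ψ₀.comp C = g := by
    ext a
    simp [ψ₀]
  have hQ₁ : map ψ₀ (Q₁ e₁ e₂) = q₁ := by
    rw [Q₁, map_poly]
    simp only [ψ₀, coe_eval₂Hom, eval₂_X, Sum.elim_inl]
    exact poly_coeff e₁ q₁ h₁
  have hQ₂ : map ψ₀ (Q₂ e₁ e₂) = q₂ := by
    rw [Q₂, map_poly]
    simp only [ψ₀, coe_eval₂Hom, eval₂_X, Sum.elim_inr]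
    exact poly_coeff e₂ q₂ h₂
  have hker : ∀ x ∈ relIdeal P e₁ e₂, ψ₀ x = 0 := by
    intro x hx
    have : relIdeal P e₁ e₂ ≤ RingHom.ker ψ₀ := by
      rw [relIdeal, Ideal.span_le]
      rintro _ ⟨m, rfl⟩
      rw [SetLike.mem_coe, RingHom.mem_ker, ← coeff_map, map_sub, map_mul, MvPolynomial.map_map, hC, hQ₁, hQ₂,
        h, sub_self, coeff_zero]
    exact this hx
  refine ⟨Ideal.Quotient.lift _ ψ₀ hker, fun a => ?_⟩
  have : algebraMap A (B P e₁ e₂) a = Ideal.Quotient.mk _ (C a) := rfl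
  rw [this, Ideal.Quotient.lift_mk, ← RingHom.comp_apply, hC]

/-- a point of `B` gives a factorisation. -/
theorem exists_factor_of_hom {R : Type v} [CommRing R] (ψ : B P e₁ e₂ →+* R) :
    ∃ q₁ q₂ : MvPolynomial σ R, q₁.totalDegree ≤ e₁ ∧ q₂.totalDegree ≤ e₂ ∧
      map (ψ.comp (algebraMap A (B P e₁ e₂))) P = q₁ * q₂ := by
  let π : T σ A e₁ e₂ →+* B P e₁ e₂ := Ideal.Quotient.mk _
  let ψ₀ : T σ A e₁ e₂ →+* R := ψ.comp π
  refine ⟨map ψ₀ (Q₁ e₁ e₂), map ψ₀ (Q₂ e₁ e₂), ?_, ?_, ?_⟩
  · rw [Q₁, map_poly]; exact totalDegree_poly_le _ _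
  · rw [Q₂, map_poly]; exact totalDegree_poly_le _ _
  · have hC : ψ₀.comp C = ψ.comp (algebraMap A (B P e₁ e₂)) := rfl
    ext m
    have h0 : ψ₀ (coeff m (map (C : A →+* T σ A e₁ e₂) P - Q₁ e₁ e₂ * Q₂ e₁ e₂)) = 0 := by
      have : π (coeff m (map (C : A →+* T σ A e₁ e₂) P - Q₁ e₁ e₂ * Q₂ e₁ e₂)) = 0 :=
        Ideal.Quotient.eq_zero_iff_mem.mpr (Ideal.subset_span ⟨m, rfl⟩)
      simp only [ψ₀, RingHom.comp_apply, this, map_zero]
    rw [← coeff_map, map_sub, map_mul, MvPolynomial.map_map, hC, coeff_sub, sub_eq_zero] at h0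
    exact h0

end Univ


section Main

variable {σ : Type} [Finite σ]

omit [Finite σ] in
theorem one_le_totalDegree_of_not_isUnit {κ : Type v} [Field κ] {q : MvPolynomial σ κ}
    (h0 : q ≠ 0) (hu : ¬ IsUnit q) : 1 ≤ q.totalDegree := by
  by_contra h
  have h' : q.totalDegree = 0 := by omega
  rw [totalDegree_eq_zero_iff_eq_C] at h'
  apply hu
  rw [h']
  refine IsUnit.map C (IsUnit.mk0 _ ?_)
  intro hc
  rw [hc, map_zero] at h'
  exact h0 h'

omit [Finite σ] in
theorem totalDegree_eq_zero_of_isUnit {κ : Type v} [Field κ] {q : MvPolynomial σ κ}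
    (hu : IsUnit q) : q.totalDegree = 0 :=
  ((isUnit_iff_totalDegree_of_isReduced).mp hu).2

theorem exists_ne_zero_forall_irreducible {A : Type u} [CommRing A] [IsDomain A]
    (P : MvPolynomial σ A)
    (hP : Irreducible (map (algebraMap A (AlgebraicClosure (FractionRing A))) P)) :
    ∃ f : A, f ≠ 0 ∧ ∀ (κ : Type u) [Field κ] (g : A →+* κ), g f ≠ 0 →
      Irreducible (map g P) := by
  classical
  set ι := algebraMap A (AlgebraicClosure (FractionRing A)) with hιdef
  have hι : Function.Injective ι := by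
    have h1 := IsFractionRing.injective A (FractionRing A)
    have h2 := (algebraMap (FractionRing A) (AlgebraicClosure (FractionRing A))).injective
    have h3 : ι = (algebraMap (FractionRing A) (AlgebraicClosure (FractionRing A))).comp
        (algebraMap A (FractionRing A)) :=
      IsScalarTower.algebraMap_eq A (FractionRing A) (AlgebraicClosure (FractionRing A))
    rw [h3]
    exact h2.comp h1
  obtain ⟨d, hd⟩ : ∃ d, d = P.totalDegree := ⟨_, rfl⟩
  have hP0 : P ≠ 0 := by
    rintro rfl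
    exact hP.ne_zero (map_zero _)
  have hdι : (map ι P).totalDegree = d := by
    simp only [totalDegree, support_map_of_injective _ hι, hd]
  have hd1 : 1 ≤ d := by
    rw [← hdι]
    exact one_le_totalDegree_of_not_isUnit hP.ne_zero hP.not_isUnit
  obtain ⟨m₀, hm₀, hm₀d⟩ : ∃ m₀ ∈ P.support, mdeg m₀ = d := by
    have hne : P.support.Nonempty := by
      rw [Finset.nonempty_iff_ne_empty, ne_eq, support_eq_empty]
      exact hP0
    obtain ⟨m₀, hm₀, h⟩ := Finset.exists_mem_eq_sup P.support hne (fun s => mdeg s)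
    exact ⟨m₀, hm₀, h.symm.trans hd.symm⟩
  have hc : coeff m₀ P ≠ 0 := mem_support_iff.mp hm₀
  -- the auxiliary elements
  have key : ∀ p : ℕ × ℕ, ∃ a : A, a ≠ 0 ∧
      (1 ≤ p.1 → 1 ≤ p.2 → p.1 + p.2 = d → algebraMap A (B P p.1 p.2) a = 0) := by
    rintro ⟨e₁, e₂⟩
    by_cases hcond : 1 ≤ e₁ ∧ 1 ≤ e₂ ∧ e₁ + e₂ = d
    · obtain ⟨h1, h2, h12⟩ := hcond
      have hni : ¬ Function.Injective (algebraMap A (B P e₁ e₂)) := by
        intro hinj
        obtain ⟨χ⟩ := exists_algHom_algebraicClosure (B P e₁ e₂) hinj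
        obtain ⟨q₁, q₂, hq₁, hq₂, hq⟩ := exists_factor_of_hom χ.toRingHom
        have hχ : χ.toRingHom.comp (algebraMap A (B P e₁ e₂)) = ι := χ.comp_algebraMap
        rw [hχ] at hq
        have hdeg : d ≤ q₁.totalDegree + q₂.totalDegree := by
          rw [← hdι, hq]
          exact totalDegree_mul _ _
        rcases hP.isUnit_or_isUnit hq with hu | hu
        · have := totalDegree_eq_zero_of_isUnit hu
          omega
        · have := totalDegree_eq_zero_of_isUnit hu
          omega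
      rw [injective_iff_map_eq_zero] at hni
      push Not at hni
      obtain ⟨a, ha, ha0⟩ := hni
      exact ⟨a, ha0, fun _ _ _ => ha⟩
    · exact ⟨1, one_ne_zero, fun h1 h2 h12 => absurd ⟨h1, h2, h12⟩ hcond⟩
  choose F hF0 hF using key
  refine ⟨coeff m₀ P * ∏ p ∈ (Finset.range (d + 1) ×ˢ Finset.range (d + 1)), F p,
    mul_ne_zero hc (Finset.prod_ne_zero_iff.mpr fun p _ => hF0 p), ?_⟩
  intro κ _ g hg
  rw [map_mul, map_prod] at hg
  have hgc : g (coeff m₀ P) ≠ 0 := left_ne_zero_of_mul hg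
  have hgF : ∀ p ∈ (Finset.range (d + 1) ×ˢ Finset.range (d + 1)), g (F p) ≠ 0 :=
    Finset.prod_ne_zero_iff.mp (right_ne_zero_of_mul hg)
  have hm₀' : m₀ ∈ (map g P).support := by
    rw [mem_support_iff, coeff_map]
    exact hgc
  have hP'0 : map g P ≠ 0 := by
    intro h
    rw [h] at hm₀'
    simp at hm₀'
  have hd' : (map g P).totalDegree = d := by
    apply le_antisymm
    · have h1 : (map g P).totalDegree ≤ P.totalDegree :=
        Finset.sup_mono (support_map_subset g P)
      rw [hd]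
      exact h1
    · rw [← hm₀d]
      exact le_totalDegree hm₀'
  refine ⟨fun hu => ?_, fun a b hab => ?_⟩
  · have := totalDegree_eq_zero_of_isUnit hu
    omega
  · by_contra hcon
    push Not at hcon
    obtain ⟨hua, hub⟩ := hcon
    have ha0 : a ≠ 0 := by
      rintro rfl
      rw [zero_mul] at hab
      exact hP'0 hab
    have hb0 : b ≠ 0 := by
      rintro rfl
      rw [mul_zero] at hab
      exact hP'0 hab
    have h1 := one_le_totalDegree_of_not_isUnit ha0 hua
    have h2 := one_le_totalDegree_of_not_isUnit hb0 hub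
    have h12 : a.totalDegree + b.totalDegree = d := by
      rw [← hd', hab, totalDegree_mul_of_isDomain ha0 hb0]
    obtain ⟨ψ, hψ⟩ := exists_hom_of_factor (P := P) g a b le_rfl le_rfl hab
    have hz := hF (a.totalDegree, b.totalDegree) h1 h2 h12
    have := hψ (F (a.totalDegree, b.totalDegree))
    rw [hz, map_zero] at this
    exact hgF (a.totalDegree, b.totalDegree) (Finset.mem_product.mpr ⟨Finset.mem_range.mpr (by simp only; omega), Finset.mem_range.mpr (by simp only; omega)⟩) this.symm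

end Main

end Groth.Agent.Lib.Helper37.IrrSpread
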