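import Groth.Agent.Lib.Helper37.Groupoid

/-!
# The difference `r₁⁻¹ ∘ r₂` of two arrows with the same target, on `T`-points (helper37)
-/

set_option autoImplicit false

universe u

namespace Groth.Agent.Lib.Helper37

open CategoryTheory CategoryTheory.Limits AlgebraicGeometry Grpd

variable {S : Scheme.{u}} (G : GroupoidScheme S) {T : Scheme.{u}}

/-- `r₁⁻¹ ∘ r₂` for two `T`-points of `R` with the same target. -/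
noncomputable def dif (r₁ r₂ : T ⟶ G.R) (h : r₁ ≫ G.t = r₂ ≫ G.t) : T ⟶ G.R :=
  gcomp G (r₁ ≫ G.i) r₂ (by rw [Category.assoc, G.i_s, h])

lemma dif_t (r₁ r₂ : T ⟶ G.R) (h : r₁ ≫ G.t = r₂ ≫ G.t) : dif G r₁ r₂ h ≫ G.t = r₁ ≫ G.s := by
  unfold dif
  rw [gcomp_t, Category.assoc, G.i_t]

lemma dif_s (r₁ r₂ : T ⟶ G.R) (h : r₁ ≫ G.t = r₂ ≫ G.t) : dif G r₁ r₂ h ≫ G.s = r₂ ≫ G.s := by
  unfold dif
  rw [gcomp_s]

lemma dif_congr {r₁ r₁' r₂ r₂' : T ⟶ G.R} (h₁ : r₁ = r₁') (h₂ : r₂ = r₂')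
    (h : r₁ ≫ G.t = r₂ ≫ G.t) (h' : r₁' ≫ G.t = r₂' ≫ G.t) :
    dif G r₁ r₂ h = dif G r₁' r₂' h' := by
  subst h₁ h₂
  rfl

lemma precomp_dif {T' : Scheme.{u}} (f : T' ⟶ T) (r₁ r₂ : T ⟶ G.R) (h : r₁ ≫ G.t = r₂ ≫ G.t) :
    f ≫ dif G r₁ r₂ h = dif G (f ≫ r₁) (f ≫ r₂)
      (by rw [Category.assoc, Category.assoc, h]) := by
  unfold dif
  rw [precomp_gcomp]
  exact gcomp_congr G (Category.assoc _ _ _).symm rfl _ _

/-- `a⁻¹ ∘ (a ∘ b) = b`. -/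
lemma dif_gcomp (a b : T ⟶ G.R) (hab : a ≫ G.s = b ≫ G.t) (c : T ⟶ G.R)
    (hc : c = gcomp G a b hab) (h : a ≫ G.t = c ≫ G.t) :
    dif G a c h = b := by
  subst hc
  unfold dif
  exact i_gcomp_gcomp G a b hab _

/-- `a ∘ (a⁻¹ ∘ b) = b`. -/
lemma gcomp_dif (a b : T ⟶ G.R) (h : a ≫ G.t = b ≫ G.t) (c : T ⟶ G.R)
    (hc : c = dif G a b h) (h' : a ≫ G.s = c ≫ G.t) :
    gcomp G a c h' = b := by
  subst hc
  unfold dif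
  exact gcomp_i_gcomp G a b h _ _

/-- `(a ∘ b⁻¹)⁻¹ ∘ a = b` when `s a = s b`. -/
lemma dif_gcomp_i (a b : T ⟶ G.R) (hab : a ≫ G.s = b ≫ G.s) (y : T ⟶ G.R)
    (h₁ : a ≫ G.s = (b ≫ G.i) ≫ G.t) (hy : y = gcomp G a (b ≫ G.i) h₁)
    (h : y ≫ G.t = a ≫ G.t) :
    dif G y a h = b := by
  have hyb : y ≫ G.s = b ≫ G.t := by rw [hy, gcomp_s, Category.assoc, G.i_s]
  have ha : a = gcomp G y b hyb := by
    subst hy
    exact (gcomp_i_gcomp' G a b hab h₁ _).symm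
  exact dif_gcomp G y b hyb a ha h

/-- `a ∘ (y⁻¹ ∘ a)⁻¹ = y` when `t y = t a`. -/
lemma gcomp_dif_i (y a : T ⟶ G.R) (h : y ≫ G.t = a ≫ G.t) (b : T ⟶ G.R)
    (hb : b = dif G y a h) (h' : a ≫ G.s = (b ≫ G.i) ≫ G.t) :
    gcomp G a (b ≫ G.i) h' = y := by
  have hyb : y ≫ G.s = b ≫ G.t := by rw [hb, dif_t]
  have ha : gcomp G y b hyb = a := gcomp_dif G y a h b hb hyb
  have h'' : gcomp G y b hyb ≫ G.s = (b ≫ G.i) ≫ G.t := by rw [ha, h']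
  rw [gcomp_congr G ha.symm rfl h' h'']
  exact gcomp_gcomp_i G y b hyb _

end Groth.Agent.Lib.Helper37
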