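import Groth.Agent.Lib.Helper37.GroupoidDif
import Mathlib.AlgebraicGeometry.Morphisms.FlatRank

/-!
# Ranks of `s` and `t` for a finite locally free groupoid (helper37)
-/

set_option autoImplicit false

universe u

namespace Groth.Agent.Lib.Helper37

open CategoryTheory CategoryTheory.Limits AlgebraicGeometry Grpd

variable {S : Scheme.{u}} (G : GroupoidScheme S)

lemma c_s : G.c ≫ G.s = pullback.snd G.s G.t ≫ G.s := by
  conv_lhs => rw [c_eq_gcomp G]
  exact gcomp_s G _ _ _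

lemma c_t : G.c ≫ G.t = pullback.fst G.s G.t ≫ G.t := by
  conv_lhs => rw [c_eq_gcomp G]
  exact gcomp_t G _ _ _

/-- The inverse is an involution. -/
lemma i_i : G.i ≫ G.i = 𝟙 G.R := by
  have h₁ : G.i ≫ G.s = 𝟙 G.R ≫ G.t := by rw [G.i_s, Category.id_comp]
  have h₂ : gcomp G G.i (𝟙 G.R) h₁ = G.s ≫ G.e := by
    have := i_gcomp G (𝟙 G.R) G.i (Category.id_comp _).symm h₁
    rw [this, Category.id_comp]
  have h₃ : (G.i ≫ G.i) ≫ G.s = gcomp G G.i (𝟙 G.R) h₁ ≫ G.t := by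
    rw [gcomp_t, Category.assoc, G.i_s, G.i_t]
  have h₄ : gcomp G (G.i ≫ G.i) (gcomp G G.i (𝟙 G.R) h₁) h₃ = 𝟙 G.R :=
    i_gcomp_gcomp G G.i (𝟙 G.R) h₁ h₃
  have h₅ : (G.i ≫ G.i) ≫ G.s = (G.s ≫ G.e) ≫ G.t := by
    rw [Category.assoc, G.i_s, G.i_t, Category.assoc, G.e_t, Category.comp_id]
  rw [gcomp_congr G rfl h₂ h₃ h₅] at h₄
  rw [← h₄]
  refine (gcomp_e G (G.i ≫ G.i) (G.s ≫ G.e) ?_ h₅).symm
  rw [Category.assoc, ← Category.assoc G.i G.s, G.i_s, ← Category.assoc, G.i_t]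

instance isIso_i : IsIso G.i := ⟨G.i, i_i G, i_i G⟩

/-- The composition `c` is the base change of `t` along `t`, through the first projection. -/
theorem isPullback_c_fst : IsPullback G.c (pullback.fst G.s G.t) G.t G.t := by
  have hmono : ∀ {T : Scheme.{u}} (l l' : T ⟶ pullback G.s G.t), l ≫ G.c = l' ≫ G.c →
      l ≫ pullback.fst G.s G.t = l' ≫ pullback.fst G.s G.t → l = l' := by
    intro T l l' h1 h2
    apply pullback.hom_ext h2
    have key : ∀ l : T ⟶ pullback G.s G.t, l ≫ pullback.snd G.s G.t =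
        dif G (l ≫ pullback.fst G.s G.t) (l ≫ G.c)
          (by rw [Category.assoc, Category.assoc, c_t]) := fun l =>
      (dif_gcomp G (l ≫ pullback.fst G.s G.t) (l ≫ pullback.snd G.s G.t)
        (by rw [Category.assoc, Category.assoc, pullback.condition]) _ (comp_c G l) _).symm
    rw [key l, key l']
    exact dif_congr G h2 h1 _ _
  have hex : ∀ c : PullbackCone G.t G.t, ∃ l : c.pt ⟶ pullback G.s G.t,
      l ≫ G.c = c.fst ∧ l ≫ pullback.fst G.s G.t = c.snd := by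
    intro c
    have hc : c.snd ≫ G.t = c.fst ≫ G.t := c.condition.symm
    refine ⟨pullback.lift c.snd (dif G c.snd c.fst hc) (by rw [dif_t]), ?_,
      pullback.lift_fst _ _ _⟩
    rw [lift_c]
    exact gcomp_dif G c.snd c.fst hc _ rfl _
  choose l hl₁ hl₂ using hex
  exact ⟨⟨c_t G⟩, ⟨PullbackCone.IsLimit.mk _ l hl₁ hl₂ (fun c m hm1 hm2 =>
    hmono _ _ (hm1.trans (hl₁ c).symm) (hm2.trans (hl₂ c).symm))⟩⟩

/-- The rank of `t` is constant along orbits. -/
theorem finrank_t_s_eq_finrank_t_t [Flat G.t] [IsFinite G.t] (ρ : G.R) :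
    G.t.finrank (G.s ρ) = G.t.finrank (G.t ρ) := by
  have h1 := Scheme.Hom.finrank_of_isPullback _ _ _ _ (isPullback_c_fst G) ρ
  have h2 := Scheme.Hom.finrank_of_isPullback _ _ _ _
    (IsPullback.of_hasPullback G.s G.t).flip ρ
  rw [← h1, ← h2]

/-- `s` and `t` have the same rank function. -/
theorem finrank_s_eq_finrank_t [Flat G.s] [IsFinite G.s] : G.t.finrank = G.s.finrank := by
  have : G.t = G.i ≫ G.s := G.i_s.symm
  rw [this, Scheme.Hom.finrank_comp_left_of_isIso]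

end Groth.Agent.Lib.Helper37
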