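import Groth.Agent.Lib.Helper37.Groupoid

/-!
# The morphism `j = (t, s)` and the stabilizer of a groupoid scheme (helper37)
-/

set_option autoImplicit false

universe u

namespace Groth.Agent.Lib.Helper37

open CategoryTheory CategoryTheory.Limits AlgebraicGeometry Grpd

variable {S : Scheme.{u}} (G : GroupoidScheme S) {T : Scheme.{u}}

lemma j_fst : G.j ≫ pullback.fst G.pU G.pU = G.t := by
  unfold GroupoidScheme.j
  rw [pullback.lift_fst]

lemma j_snd : G.j ≫ pullback.snd G.pU G.pU = G.s := by
  unfold GroupoidScheme.j
  rw [pullback.lift_snd]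

lemma diag_fst : G.diag ≫ pullback.fst G.pU G.pU = 𝟙 _ := by
  unfold GroupoidScheme.diag
  rw [pullback.lift_fst]

lemma diag_snd : G.diag ≫ pullback.snd G.pU G.pU = 𝟙 _ := by
  unfold GroupoidScheme.diag
  rw [pullback.lift_snd]

/-- Two `T`-points of `R` have the same image under `j` iff they have the same target and
source. -/
lemma comp_j_eq_iff (a b : T ⟶ G.R) :
    a ≫ G.j = b ≫ G.j ↔ a ≫ G.t = b ≫ G.t ∧ a ≫ G.s = b ≫ G.s := by
  constructor
  · intro h
    constructor
    · have := congrArg (· ≫ pullback.fst G.pU G.pU) h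
      simpa only [Category.assoc, j_fst] using this
    · have := congrArg (· ≫ pullback.snd G.pU G.pU) h
      simpa only [Category.assoc, j_snd] using this
  · rintro ⟨h1, h2⟩
    apply pullback.hom_ext
    · simpa only [Category.assoc, j_fst] using h1
    · simpa only [Category.assoc, j_snd] using h2

/-- A `T`-point `a` of `R` and a `T`-point `u` of `U` satisfy `j a = Δ u` iff `t a = u = s a`. -/
lemma comp_j_eq_comp_diag_iff (a : T ⟶ G.R) (u : T ⟶ G.U) :
    a ≫ G.j = u ≫ G.diag ↔ a ≫ G.t = u ∧ a ≫ G.s = u := by
  constructor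
  · intro h
    constructor
    · have := congrArg (· ≫ pullback.fst G.pU G.pU) h
      simpa only [Category.assoc, j_fst, diag_fst, Category.comp_id] using this
    · have := congrArg (· ≫ pullback.snd G.pU G.pU) h
      simpa only [Category.assoc, j_snd, diag_snd, Category.comp_id] using this
  · rintro ⟨h1, h2⟩
    apply pullback.hom_ext
    · simpa only [Category.assoc, j_fst, diag_fst, Category.comp_id] using h1
    · simpa only [Category.assoc, j_snd, diag_snd, Category.comp_id] using h2

lemma stab_t : pullback.fst G.j G.diag ≫ G.t = pullback.snd G.j G.diag :=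
  ((comp_j_eq_comp_diag_iff G _ _).mp pullback.condition).1

lemma stab_s : pullback.fst G.j G.diag ≫ G.s = pullback.snd G.j G.diag :=
  ((comp_j_eq_comp_diag_iff G _ _).mp pullback.condition).2

end Groth.Agent.Lib.Helper37
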