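import Groth.Agent.Lib.Helper37.FinGrpdStrat
import Mathlib.RingTheory.Ideal.MinimalPrime.Localization

/-!
# Finite groupoids, finitely presented case (helper37): `W' → W` is locally of finite presentation
and `W` contains the points whose orbit consists of generic points.
-/

set_option autoImplicit false
set_option linter.style.haveILetI false
set_option linter.unusedSectionVars false
universe u

namespace Groth.Agent.Lib.Helper37.FS

open CategoryTheory CategoryTheory.Limits AlgebraicGeometry
open Groth.Agent.Lib.Helper10.Fitting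

/-- An element of a minimal prime is killed, up to a power, by an element outside the prime. -/
theorem exists_mul_pow_eq_zero {B : Type*} [CommRing B] (p : Ideal B) [p.IsPrime]
    (hp : p ∈ minimalPrimes B) {f : B} (hf : f ∈ p) : ∃ g ∉ p, ∃ N : ℕ, g * f ^ N = 0 := by
  have h1 := IsLocalization.AtPrime.radical_map_of_mem_minimalPrimes
    (A := Localization.AtPrime p) p ⊥ hp
  rw [Ideal.map_bot] at h1
  have h2 : algebraMap B (Localization.AtPrime p) f ∈ (⊥ : Ideal (Localization.AtPrime p)).radical := by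
    rw [h1]
    exact Ideal.mem_map_of_mem _ hf
  obtain ⟨N, hN⟩ := h2
  rw [Ideal.mem_bot, ← map_pow, IsLocalization.map_eq_zero_iff p.primeCompl] at hN
  obtain ⟨g, hg⟩ := hN
  exact ⟨g.1, g.2, N, hg⟩

variable {X Y : Scheme.{u}}

/-- Around a generic point of its support, a locally finitely generated ideal sheaf has
support containing an open neighbourhood. -/
theorem exists_open_subset_support_of_generic (I : X.IdealSheafData)
    (hfg : ∀ U : X.affineOpens, (I.ideal U).FG) {x : X} (hx : x ∈ I.support)
    (hgen : ∀ y : X, y ⤳ x → y = x) : ∃ N : X.Opens, x ∈ N ∧ (N : Set X) ⊆ I.support := by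
  classical
  obtain ⟨A, hA, hxA, -⟩ := exists_isAffineOpen_mem_and_subset (x := x) (U := ⊤) trivial
  set p := hA.primeIdealOf ⟨x, hxA⟩ with hp
  have hpx : hA.fromSpec p = x := hA.fromSpec_primeIdealOf ⟨x, hxA⟩
  have hbo : ∀ (f : Γ(X, A)) (q : Spec Γ(X, A)), hA.fromSpec q ∈ X.basicOpen f ↔ f ∉ q.asIdeal := by
    intro f q
    exact SetLike.ext_iff.mp (hA.fromSpec_preimage_basicOpen f) q
  have hmin : p.asIdeal ∈ minimalPrimes Γ(X, A) := by
    refine ⟨⟨p.2, bot_le⟩, ?_⟩
    rintro q ⟨hq, -⟩ hqp
    have hsp : (⟨q, hq⟩ : PrimeSpectrum Γ(X, A)) ⤳ p :=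
      (PrimeSpectrum.le_iff_specializes _ _).mp hqp
    have h2 : hA.fromSpec ⟨q, hq⟩ ⤳ hA.fromSpec p := hsp.map hA.fromSpec.continuous
    rw [hpx] at h2
    have h3 := hgen _ h2
    rw [← hpx] at h3
    have h4 := hA.fromSpec.isOpenEmbedding.injective h3
    rw [← h4]
  have hle : I.ideal ⟨A, hA⟩ ≤ p.asIdeal := by
    intro f hf
    rw [Scheme.IdealSheafData.mem_support_iff_of_mem (U := ⟨A, hA⟩) hxA,
      Scheme.mem_zeroLocus_iff] at hx
    have := hx f hf
    rw [← hpx] at this
    by_contra hfp
    exact this ((hbo f p).mpr hfp)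
  obtain ⟨s, hs⟩ := hfg ⟨A, hA⟩
  have hsp : ∀ f ∈ s, f ∈ p.asIdeal := fun f hf => hle (hs ▸ Ideal.subset_span hf)
  choose! g hg N hN using fun f (hf : f ∈ s) => exists_mul_pow_eq_zero p.asIdeal hmin (hsp f hf)
  refine ⟨X.basicOpen (∏ f ∈ s, g f), ?_, ?_⟩
  · rw [← hpx]
    refine (hbo _ p).mpr ?_
    rw [Ideal.IsPrime.prod_mem_iff]
    rintro ⟨f, hf, hgf⟩
    exact hg f hf hgf
  · intro y hy
    have hyA : y ∈ A := X.basicOpen_le _ hy
    rw [SetLike.mem_coe, Scheme.IdealSheafData.mem_support_iff_of_mem (U := ⟨A, hA⟩) hyA, ← hs,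
      Scheme.zeroLocus_span, Scheme.mem_zeroLocus_iff]
    intro f hf hyf
    have h1 : y ∈ X.basicOpen (g f) := by
      rw [← Finset.mul_prod_erase s g hf, Scheme.basicOpen_mul] at hy
      exact hy.1
    have h2 : y ∈ X.basicOpen (f ^ N f) := by
      rw [Scheme.mem_basicOpen _ _ _ hyA] at hyf ⊢
      rw [map_pow]
      exact hyf.pow _
    have h3 : y ∈ X.basicOpen (g f * f ^ N f) := by
      rw [Scheme.basicOpen_mul]
      exact ⟨h1, h2⟩
    rw [hN f hf, Scheme.basicOpen_zero] at h3
    exact h3


-- copied from `Groth.Agent.Lib.Helper45.FittSheaf` (helper45) to avoid its heavy imports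
/-- The Fitting ideals of a finitely presented module are finitely generated. -/
theorem fitt_fg_of_finitePresentation {A : Type*} [CommRing A] {N : Type*} [AddCommGroup N]
    [Module A N] [Module.FinitePresentation A N] (r : ℕ) : (Fitt.ideal A N r).FG := by
  classical
  obtain ⟨n, x, hx⟩ := Module.Finite.exists_fin (R := A) (M := N)
  have hsurj : Function.Surjective (Fintype.linearCombination A x) := by
    rw [← LinearMap.range_eq_top, Fintype.range_linearCombination, hx]
  obtain ⟨S, hS⟩ := Module.FinitePresentation.fg_ker (Fintype.linearCombination A x) hsurj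
  have hSrel : ∀ v ∈ (S : Set (Fin n → A)), v ∈ Rel A x := by
    intro v hv
    change v ∈ LinearMap.ker (Fintype.linearCombination A x)
    rw [← hS]
    exact Submodule.subset_span hv
  -- the finite set of admissible rows
  let S' : Set (Fin n → A) := (S : Set (Fin n → A)) ∪ Set.range (fun j : Fin n => Pi.single j 1)
  have hS'fin : S'.Finite := S.finite_toSet.union (Set.finite_range _)
  let T : Set (Matrix (Fin n) (Fin n) A) := {a | (∀ i, a i ∈ S') ∧
    (Finset.univ.filter fun i => a i ∉ (S : Set (Fin n → A))).card ≤ r}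
  have hTfin : T.Finite := by
    have h1 : (Set.pi Set.univ (fun _ : Fin n => S')).Finite := Set.Finite.pi fun _ => hS'fin
    refine h1.subset ?_
    intro a ha i _
    exact ha.1 i
  have heq : Fitt.ideal A N r = Ideal.span (Matrix.det '' T) := by
    rw [fitt_eq_G x hx r]
    apply le_antisymm
    · refine G_le_of_rel_le_span x r (S : Set (Fin n → A)) (le_of_eq hS.symm) _ ?_
      intro a ha hcard
      apply Ideal.subset_span
      refine ⟨a, ⟨fun i => ?_, ?_⟩, rfl⟩
      · rcases ha i with h | ⟨j, hj⟩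
        · exact Or.inl h
        · exact Or.inr ⟨j, hj.symm⟩
      · convert hcard
    · rw [Ideal.span_le]
      rintro _ ⟨a, ⟨-, hcard⟩, rfl⟩
      apply det_mem_G
      unfold nonRelCard
      refine le_trans (Finset.card_le_card ?_) hcard
      intro i hi
      rw [Finset.mem_filter] at hi ⊢
      exact ⟨hi.1, fun h => hi.2 (hSrel _ h)⟩
  rw [heq]
  exact ⟨(hTfin.image _).toFinset, by rw [Set.Finite.coe_toFinset]⟩


/-- For a finite, locally finitely presented morphism the Fitting ideal sheaves are locally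
finitely generated. -/
theorem fittSheaf_ideal_fg (f : X ⟶ Y) [IsFinite f] [LocallyOfFinitePresentation f] (r : ℕ)
    (U : Y.affineOpens) : ((fittSheaf f r).ideal U).FG := by
  letI : Algebra Γ(Y, U.1) Γ(X, f ⁻¹ᵁ U.1) := (f.app U.1).hom.toAlgebra
  haveI : Module.Finite Γ(Y, U.1) Γ(X, f ⁻¹ᵁ U.1) := IsFinite.finite_app f U.1 U.2
  have happ : f.appLE U.1 (f ⁻¹ᵁ U.1) le_rfl = f.app U.1 := f.appLE_eq_app
  haveI hfp : Algebra.FinitePresentation Γ(Y, U.1) Γ(X, f ⁻¹ᵁ U.1) := by
    have := HasRingHomProperty.appLE (P := @LocallyOfFinitePresentation) (f := f) inferInstance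
      U ⟨_, U.2.preimage f⟩ le_rfl
    rw [happ] at this
    exact this
  haveI : Module.FinitePresentation Γ(Y, U.1) Γ(X, f ⁻¹ᵁ U.1) :=
    Module.FinitePresentation.of_finite_of_finitePresentation _ _
  exact fitt_fg_of_finitePresentation r

/-- A closed subscheme with locally finitely generated ideal sheaf is locally of finite
presentation. -/
theorem lfp_subschemeι_of_fg (I : X.IdealSheafData) (h : ∀ U : X.affineOpens, (I.ideal U).FG) :
    LocallyOfFinitePresentation I.subschemeι := by
  refine lfp_of_app _ (fun U => ?_)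
  refine RingHom.FinitePresentation.of_surjective _ (I.subschemeι_app_surjective U) ?_
  rw [I.ker_subschemeι_app U]
  exact h U

theorem lfp_comap_subschemeι (I : Y.IdealSheafData) (k : X ⟶ Y)
    [LocallyOfFinitePresentation I.subschemeι] :
    LocallyOfFinitePresentation (I.comap k).subschemeι := by
  rw [← Scheme.IdealSheafData.comapIso_hom_fst]
  infer_instance

theorem lfp_morphismRestrict_of_comap (I : X.IdealSheafData) (U : X.Opens)
    [LocallyOfFinitePresentation (I.comap U.ι).subschemeι] :
    LocallyOfFinitePresentation (I.subschemeι ∣_ U) := by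
  have h1 : LocallyOfFinitePresentation (pullback.fst U.ι I.subschemeι) := by
    rw [← Scheme.IdealSheafData.comapIso_inv_subschemeι]
    infer_instance
  have h2 : LocallyOfFinitePresentation (pullback.snd I.subschemeι U.ι) := by
    rw [← pullbackSymmetry_hom_comp_fst]
    infer_instance
  delta morphismRestrict
  infer_instance

end Groth.Agent.Lib.Helper37.FS

namespace Groth.Agent.Lib.Helper37.FGS

open CategoryTheory CategoryTheory.Limits AlgebraicGeometry Grpd

variable {S : Scheme.{u}} (G : GroupoidScheme S) [IsFinite G.s] [IsFinite G.t]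

set_option backward.isDefEq.respectTransparency.types false in
theorem lfp_W'_subschemeι [LocallyOfFinitePresentation G.s] :
    LocallyOfFinitePresentation (W' G).subschemeι := by
  refine IsZariskiLocalAtTarget.of_iSup_eq_top (P := @LocallyOfFinitePresentation) (V G) (V_cov G)
    (fun n => ?_)
  haveI : LocallyOfFinitePresentation (Z G n).subschemeι :=
    FS.lfp_subschemeι_of_fg _ (FS.fittSheaf_ideal_fg G.s n)
  haveI : LocallyOfFinitePresentation ((W' G).comap (V G n).ι).subschemeι := by
    rw [W'_comap G (V G n).ι n (fun y => y.2)]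
    exact FS.lfp_comap_subschemeι _ _
  exact FS.lfp_morphismRestrict_of_comap (W' G) (V G n)

theorem mem_W_of_generic_orbit [LocallyOfFinitePresentation G.s] (u : G.U)
    (hgen : ∀ r : G.R, G.s r = u → ∀ x : G.U, x ⤳ G.t r → x = G.t r) : u ∈ W G := by
  classical
  have hex := exists_notMem_Zs G u
  have hm0 : Nat.find hex ≠ 0 := by
    intro h0
    have := Nat.find_spec hex
    rw [h0, Zs_zero] at this
    exact this (Set.mem_univ u)
  obtain ⟨n, hn⟩ := Nat.exists_eq_succ_of_ne_zero hm0
  have hun : u ∈ Zs G n := by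
    by_contra h
    have := Nat.find_min' hex h
    omega
  have hun1 : u ∉ Zs G (n + 1) := by
    have := Nat.find_spec hex
    rwa [hn] at this
  refine (mem_W G).mpr ⟨n, hun1, ?_⟩
  rintro ⟨r, hr, hru⟩
  obtain ⟨r', hr's, hr't⟩ := exists_inv_point G r
  have hgen' : ∀ x : G.U, x ⤳ G.s r → x = G.s r := by
    have := hgen r' (hr's.trans hru)
    rwa [hr't] at this
  have hZ : G.s r ∈ Zs G n := (s_mem_Zs_iff G n r).mpr (hru ▸ hun)
  obtain ⟨N, hxN, hN⟩ := FS.exists_open_subset_support_of_generic (Z G n)
    (FS.fittSheaf_ideal_fg G.s n) hZ hgen'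
  obtain ⟨y, hyN, hyA⟩ := mem_closure_iff.mp hr N N.2 hxN
  exact A_subset_compl_Zs G n hyA (hN hyN)

end Groth.Agent.Lib.Helper37.FGS
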