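import Mathlib
import Groth.Agent.Lib.Helper18.FTIdeal
import Groth.Agent.Lib.Helper37.FinGrpdStratFP
set_option autoImplicit false
universe u
open CategoryTheory CategoryTheory.Limits AlgebraicGeometry

namespace Groth.Agent.Lib.Helper37.FTLim

variable {Y : Scheme.{u}}

/-- finite type sub-ideal sheaves of a given ideal sheaf. -/
abbrev FTSub (I : Y.IdealSheafData) : Type u :=
  {K : Y.IdealSheafData // K ≤ I ∧ ∀ V : Y.affineOpens, (K.ideal V).FG}

instance (I : Y.IdealSheafData) : Nonempty (FTSub I) :=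
  ⟨⟨⊥, bot_le, fun V => by
    rw [Scheme.IdealSheafData.ideal_bot]; exact Submodule.fg_bot⟩⟩

instance (I : Y.IdealSheafData) : IsDirected (FTSub I) (· ≤ ·) :=
  ⟨fun K K' => ⟨⟨K.1 ⊔ K'.1, sup_le K.2.1 K'.2.1, fun V => by
    rw [Scheme.IdealSheafData.ideal_sup]; exact Submodule.FG.sup (K.2.2 V) (K'.2.2 V)⟩,
    le_sup_left (a := K.1), le_sup_right (a := K.1)⟩⟩

/-- the forgetful functor. -/
def forgetFT (I : Y.IdealSheafData) : FTSub I ⥤ Y.IdealSheafData :=
  (Subtype.mono_coe _).functor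

/-- the cocone with vertex `I`. -/
def coconeFT (I : Y.IdealSheafData) : Cocone (forgetFT I) where
  pt := I
  ι := { app := fun K => homOfLE K.2.1 }

/-- on a qcqs scheme, an ideal sheaf is the colimit of its finite type sub-ideal sheaves. -/
def isColimitCoconeFT [CompactSpace Y] [QuasiSeparatedSpace Y] (I : Y.IdealSheafData) :
    IsColimit (coconeFT I) where
  desc s := homOfLE (by
    intro W x hx
    obtain ⟨K, hK, hxK, hfg⟩ := Groth.Agent.Lib.Helper18.FTApprox.exists_le_ft_mem I W x hx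
    exact leOfHom (s.ι.app ⟨K, hK, hfg⟩) W hxK)
  fac _ _ := Subsingleton.elim _ _
  uniq _ _ _ := Subsingleton.elim _ _

end Groth.Agent.Lib.Helper37.FTLim

namespace Groth.Agent.Lib.Helper37.FTLim
open CategoryTheory CategoryTheory.Limits AlgebraicGeometry

theorem closedImmersion_limit {X Y : Scheme.{u}} (ι : X ⟶ Y)
    [IsClosedImmersion ι] [CompactSpace Y] [QuasiSeparatedSpace Y] :
    ∃ (I : Type u) (_ : Preorder I) (_ : IsDirected I (fun a b => a ≤ b)) (_ : Nonempty I)
      (D : Iᵒᵖ ⥤ Over Y) (c : Limits.Cone D) (_ : Limits.IsLimit c),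
      (∀ i, IsClosedImmersion (D.obj i).hom ∧ LocallyOfFinitePresentation (D.obj i).hom) ∧
      Nonempty (c.pt ≅ Over.mk ι) := by
  let L := (Scheme.IdealSheafData.subschemeFunctor Y).rightOp
  have : PreservesColimitsOfSize.{u, u} L := Y.kerAdjunction.leftAdjoint_preservesColimits
  refine ⟨FTSub ι.ker, inferInstance, inferInstance, inferInstance,
    (forgetFT ι.ker ⋙ L).leftOp, coneLeftOpOfCocone (L.mapCocone (coconeFT ι.ker)),
    isLimitConeLeftOpOfCocone _ (isColimitOfPreserves L (isColimitCoconeFT ι.ker)), ?_, ?_⟩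
  · intro i
    refine ⟨?_, ?_⟩
    · change IsClosedImmersion (i.unop.1.subschemeι)
      infer_instance
    · change LocallyOfFinitePresentation (i.unop.1.subschemeι)
      exact Groth.Agent.Lib.Helper37.FS.lfp_subschemeι_of_fg _ i.unop.2.2
  · refine ⟨Over.isoMk (asIso ι.toImage).symm ?_⟩
    change (asIso ι.toImage).inv ≫ ι = ι.imageι
    rw [Iso.inv_comp_eq]
    exact ι.toImage_imageι.symm

end Groth.Agent.Lib.Helper37.FTLim
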