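import Groth.Agent.S7469

/-!
# V coverings: the key refinement lemma (helper37)

If `E` is a V covering of `T` and `g : A ⟶ T` is a morphism from an affine scheme, then some
standard V covering of `A` (indexed in universe `0`) refines `E` over `g`.
-/

set_option autoImplicit false

universe w u

namespace Groth.Agent.Lib.Helper37

open CategoryTheory CategoryTheory.Limits AlgebraicGeometry HTop TopologicalSpace

/-- A morphism from the spectrum of a local ring lands in any open containing the image of the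
closed point. -/
lemma range_subset_of_closedPoint_mem {R : CommRingCat.{u}} [IsLocalRing R] {X : Scheme.{u}}
    (v : Spec R ⟶ X) (W : X.Opens) (h : v (IsLocalRing.closedPoint R) ∈ W) :
    Set.range v ⊆ (W : Set X) := by
  rintro _ ⟨p, rfl⟩
  have hp : p ⤳ IsLocalRing.closedPoint R := IsLocalRing.specializes_closedPoint p
  exact (hp.map v.continuous).mem_open W.2 h

theorem exists_standardV_refinesOver {A T : Scheme.{u}} [IsAffine A] (g : A ⟶ T)
    (E : PreZeroHypercover.{w} T) (hE : IsVCover E) :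
    ∃ F : PreZeroHypercover.{0} A, IsStandardV F ∧ RefinesOver g F E := by
  -- Step 1: choose affine opens
  have h1 : ∀ x : A, ∃ (U : T.affineOpens) (W : A.affineOpens), x ∈ W.1 ∧ W.1 ≤ g ⁻¹ᵁ U.1 := by
    intro x
    obtain ⟨U, hU, hxU, -⟩ := Opens.isBasis_iff_nbhd.mp T.isBasis_affineOpens
      (Opens.mem_top (g x))
    obtain ⟨W, hW, hxW, hWU⟩ := Opens.isBasis_iff_nbhd.mp A.isBasis_affineOpens
      (show x ∈ g ⁻¹ᵁ U from hxU)
    exact ⟨⟨U, hU⟩, ⟨W, hW⟩, hxW, hWU⟩
  choose U W hxW hWU using h1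
  obtain ⟨s, hs⟩ := isCompact_univ.elim_finite_subcover (fun x : A => ((W x).1 : Set A))
    (fun x => (W x).1.2) (fun x _ => Set.mem_iUnion.mpr ⟨x, hxW x⟩)
  -- Step 2: standard V coverings of the `U x`
  choose G hGstd hGref using fun x => hE (U x)
  have hWaff : ∀ x, IsAffine ((W x).1 : Scheme.{u}) := fun x => (W x).2
  -- re-index the finite set by `Fin n`
  let y : Fin s.card → A := fun a => (s.equivFin.symm a : A)
  have hy : ∀ x : A, ∃ a : Fin s.card, x ∈ (W (y a)).1 := by
    intro x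
    have hx := hs (Set.mem_univ x)
    simp only [Set.mem_iUnion] at hx
    obtain ⟨z, hz, hxz⟩ := hx
    exact ⟨s.equivFin ⟨z, hz⟩, by simpa [y] using hxz⟩
  let F : PreZeroHypercover.{0} A :=
    { I₀ := Σ a : Fin s.card, (G (y a)).I₀
      X := fun p => pullback (g.resLE (U (y p.1)).1 (W (y p.1)).1 (hWU _)) ((G (y p.1)).f p.2)
      f := fun p => pullback.fst _ _ ≫ (W (y p.1)).1.ι }
  refine ⟨F, ⟨inferInstance, ?_, ?_, ?_⟩, ?_⟩
  · have : ∀ a : Fin s.card, Finite (G (y a)).I₀ := fun a => (hGstd (y a)).finite_index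
    exact (inferInstance : Finite (Σ a : Fin s.card, (G (y a)).I₀))
  · rintro ⟨a, j⟩
    have := hWaff (y a)
    exact (Groth.Agent.S7469.result (g.resLE (U (y a)).1 (W (y a)).1 (hWU _)) (G (y a))
      (hGstd (y a))).isAffine_obj j
  · intro V _ _ v
    obtain ⟨a, ha⟩ := hy (v (IsLocalRing.closedPoint V))
    have hrange : Set.range v ⊆ Set.range (W (y a)).1.ι := by
      rw [Scheme.Opens.range_ι]
      exact range_subset_of_closedPoint_mem v _ ha
    have := hWaff (y a)
    obtain ⟨W', hW1, hW2, φ, hφ, j, g', hg'⟩ :=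
      (Groth.Agent.S7469.result (g.resLE (U (y a)).1 (W (y a)).1 (hWU _)) (G (y a))
        (hGstd (y a))).lift V (IsOpenImmersion.lift (W (y a)).1.ι v hrange)
    refine ⟨W', hW1, hW2, φ, hφ, ⟨a, j⟩, g', ?_⟩
    show g' ≫ pullback.fst _ _ ≫ (W (y a)).1.ι = _
    have hg'' : g' ≫ pullback.fst (g.resLE (U (y a)).1 (W (y a)).1 (hWU _)) ((G (y a)).f j) =
        Spec.map φ ≫ IsOpenImmersion.lift (W (y a)).1.ι v hrange := hg'
    rw [← Category.assoc, hg'', Category.assoc, IsOpenImmersion.lift_fac]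
  · rintro ⟨a, j⟩
    obtain ⟨i, k, hk⟩ := hGref (y a) j
    refine ⟨i, pullback.snd _ _ ≫ k, ?_⟩
    show (pullback.snd _ _ ≫ k) ≫ E.f i = (pullback.fst _ _ ≫ (W (y a)).1.ι) ≫ g
    rw [Category.assoc, hk, ← Category.assoc, ← pullback.condition, Category.assoc,
      Scheme.Hom.resLE_comp_ι, Category.assoc]

end Groth.Agent.Lib.Helper37
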