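import Groth.Agent.Lib.Helper37.Seminormal
import Mathlib.Algebra.CharP.Lemmas
import Mathlib.Data.Nat.Choose.Sum

/-!
# Absolutely weakly normal rings are local (helper37)
-/

set_option autoImplicit false

universe u

namespace Groth.Agent.Lib.Helper37

open HTop

section general

variable {A : Type u} [CommRing A]

/-- In a reduced ring, `u^p = v^p` and `p^p u = p^p v` force `u = v`. -/
theorem eq_of_pow_prime_eq [IsReduced A] {p : ℕ} (hp : p.Prime) {u v : A} (h1 : u ^ p = v ^ p)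
    (h2 : (p : A) ^ p * u = (p : A) ^ p * v) : u = v := by
  obtain ⟨r, hr⟩ := exists_add_pow_prime_eq hp v (u - v)
  rw [add_sub_cancel, h1] at hr
  -- `d^p = -(p * v * d * r)`
  have hd : (u - v) ^ p = -(v * r) * ((p : A) * (u - v)) := by
    have : (u - v) ^ p + (p : A) * v * (u - v) * r = 0 := by
      have := hr
      linear_combination -this
    linear_combination this
  have hpd : (p : A) ^ p * (u - v) = 0 := by rw [mul_sub, h2, sub_self]
  have hpos : 0 < p := hp.pos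
  have hnil : ((u - v) ^ p) ^ p = 0 := by
    rw [hd, mul_pow, mul_pow]
    obtain ⟨q, rfl⟩ : ∃ q, p = q + 1 := ⟨p - 1, by omega⟩
    calc (-(v * r)) ^ (q + 1) * (((q + 1 : ℕ) : A) ^ (q + 1) * (u - v) ^ (q + 1))
        = (-(v * r)) ^ (q + 1) * (u - v) ^ q * (((q + 1 : ℕ) : A) ^ (q + 1) * (u - v)) := by ring
      _ = 0 := by rw [hpd, mul_zero]
  rw [← pow_mul] at hnil
  exact sub_eq_zero.mp (IsNilpotent.eq_zero ⟨_, hnil⟩)

theorem isAWNRing_iff :
    IsAWNRing A ↔ IsSeminormalRing A ∧ ∀ p : ℕ, p.Prime → ∀ x y : A, (p : A) ^ p * x = y ^ p →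
      ∃ a : A, x = a ^ p ∧ y = (p : A) * a := by
  constructor
  · rintro ⟨h1, h2⟩
    exact ⟨h1, fun p hp x y hxy => (h2 p hp x y hxy).exists⟩
  · rintro ⟨h1, h2⟩
    refine ⟨h1, fun p hp x y hxy => ?_⟩
    have hred : IsReduced A := isReduced_of_isSeminormalRing h1
    obtain ⟨a, ha1, ha2⟩ := h2 p hp x y hxy
    refine ⟨a, ⟨ha1, ha2⟩, ?_⟩
    rintro b ⟨hb1, hb2⟩
    refine eq_of_pow_prime_eq hp (hb1.symm.trans ha1) ?_
    obtain ⟨q, rfl⟩ : ∃ q, p = q + 1 := ⟨p - 1, by have := hp.pos; omega⟩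
    have e : ((q + 1 : ℕ) : A) * b = ((q + 1 : ℕ) : A) * a := hb2.symm.trans ha2
    rw [pow_succ, mul_assoc, mul_assoc, e]

end general

section localization

variable {A : Type u} [CommRing A]

/-- Clearing denominators in the equation `p^p x = y^p` in `A_f`. -/
theorem exists_pth_lift (f : A) (B : Type u) [CommRing B] [Algebra A B] [IsLocalization.Away f B]
    (q : ℕ) (x y : B) (hxy : ((q + 1 : ℕ) : B) ^ (q + 1) * x = y ^ (q + 1)) :
    ∃ (M : ℕ) (x₂ y₂ : A), ((q + 1 : ℕ) : A) ^ (q + 1) * x₂ = y₂ ^ (q + 1) ∧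
      algebraMap A B x₂ = algebraMap A B f ^ ((q + 1) * M) * x ∧
      algebraMap A B y₂ = algebraMap A B f ^ M * y := by
  obtain ⟨n, x₀, hx₀⟩ := IsLocalization.Away.surj f x
  obtain ⟨m, y₀, hy₀⟩ := IsLocalization.Away.surj f y
  set φ := algebraMap A B f with hφ
  let x₁ : A := f ^ (q * n + (q + 1) * m) * x₀
  let y₁ : A := f ^ n * y₀
  have hx₁ : algebraMap A B x₁ = φ ^ ((q + 1) * (n + m)) * x := by
    simp only [x₁, map_mul, map_pow, ← hx₀, ← hφ]
    ring
  have hy₁ : algebraMap A B y₁ = φ ^ (n + m) * y := by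
    simp only [y₁, map_mul, map_pow, ← hy₀, ← hφ]
    ring
  have h1 : algebraMap A B (((q + 1 : ℕ) : A) ^ (q + 1) * x₁) = algebraMap A B (y₁ ^ (q + 1)) := by
    rw [map_mul, map_pow, map_pow, map_natCast, hx₁, hy₁, mul_pow, ← hxy]
    ring
  obtain ⟨k, hk⟩ := IsLocalization.Away.exists_of_eq f h1
  refine ⟨n + m + k, f ^ ((q + 1) * k) * x₁, f ^ k * y₁, ?_, ?_, ?_⟩
  · calc ((q + 1 : ℕ) : A) ^ (q + 1) * (f ^ ((q + 1) * k) * x₁)
        = f ^ (q * k) * (f ^ k * (((q + 1 : ℕ) : A) ^ (q + 1) * x₁)) := by ring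
      _ = f ^ (q * k) * (f ^ k * y₁ ^ (q + 1)) := by rw [hk]
      _ = (f ^ k * y₁) ^ (q + 1) := by ring
  · rw [map_mul, map_pow, hx₁, ← hφ]
    ring
  · rw [map_mul, map_pow, hy₁, ← hφ]
    ring

/-- Absolute weak normality passes to `A_f`. -/
theorem isAWNRing_of_isLocalizationAway (f : A) (B : Type u) [CommRing B] [Algebra A B]
    [IsLocalization.Away f B] (hA : IsAWNRing A) : IsAWNRing B := by
  rw [isAWNRing_iff] at hA ⊢
  obtain ⟨hsn, hA⟩ := hA
  refine ⟨isSeminormalRing_of_isLocalizationAway f B hsn, fun p hp x y hxy => ?_⟩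
  obtain ⟨q, rfl⟩ : ∃ q, p = q + 1 := ⟨p - 1, by have := hp.pos; omega⟩
  obtain ⟨M, x₂, y₂, h₂, hx₂, hy₂⟩ := exists_pth_lift f B q x y hxy
  obtain ⟨a₂, ha1, ha2⟩ := hA (q + 1) hp x₂ y₂ h₂
  have hu : IsUnit (algebraMap A B f) := IsLocalization.Away.algebraMap_isUnit f
  obtain ⟨u, hu⟩ := hu
  refine ⟨algebraMap A B a₂ * (↑(u⁻¹ ^ M) : B), ?_, ?_⟩
  · have : x = (↑(u⁻¹ ^ ((q + 1) * M)) : B) * algebraMap A B x₂ := by
      rw [hx₂, ← hu, ← Units.val_pow_eq_pow_val, ← mul_assoc, ← Units.val_mul]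
      simp
    rw [this, ha1, map_pow, mul_pow, ← Units.val_pow_eq_pow_val, ← pow_mul, mul_comm M (q + 1),
      mul_comm]
  · have : y = (↑(u⁻¹ ^ M) : B) * algebraMap A B y₂ := by
      rw [hy₂, ← hu, ← Units.val_pow_eq_pow_val, ← mul_assoc, ← Units.val_mul]
      simp
    rw [this, ha2, map_mul, map_natCast]
    ring

/-- The ideal of "denominators" of a solution of `x = a^p`, `y = p a`. -/
def pthIdeal [IsReduced A] (p : ℕ) (hp : p.Prime) (x y : A) (hxy : (p : A) ^ p * x = y ^ p) :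
    Ideal A where
  carrier := {c | ∃ b : A, b ^ p = c ^ p * x ∧ (p : A) * b = c * y}
  zero_mem' := ⟨0, by simp [hp.ne_zero], by simp⟩
  add_mem' := by
    rintro c c' ⟨b, hb1, hb2⟩ ⟨b', hb1', hb2'⟩
    refine ⟨b + b', ?_, by rw [mul_add, hb2, hb2']; ring⟩
    have key : ∀ k ∈ Finset.range (p + 1),
        b ^ k * b' ^ (p - k) = c ^ k * c' ^ (p - k) * x := by
      intro k hk
      have hk' : k ≤ p := Nat.lt_succ_iff.mp (Finset.mem_range.mp hk)
      refine eq_of_pow_prime_eq hp ?_ ?_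
      · calc (b ^ k * b' ^ (p - k)) ^ p = (b ^ p) ^ k * (b' ^ p) ^ (p - k) := by ring
          _ = (c ^ p) ^ k * (c' ^ p) ^ (p - k) * (x ^ k * x ^ (p - k)) := by
              rw [hb1, hb1']; ring
          _ = (c ^ k * c' ^ (p - k) * x) ^ p := by
              rw [← pow_add, Nat.add_sub_cancel' hk']; ring
      · calc (p : A) ^ p * (b ^ k * b' ^ (p - k))
            = ((p : A) ^ k * (p : A) ^ (p - k)) * (b ^ k * b' ^ (p - k)) := by
              rw [← pow_add, Nat.add_sub_cancel' hk']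
          _ = ((p : A) * b) ^ k * ((p : A) * b') ^ (p - k) := by ring
          _ = c ^ k * c' ^ (p - k) * (y ^ k * y ^ (p - k)) := by rw [hb2, hb2']; ring
          _ = c ^ k * c' ^ (p - k) * ((p : A) ^ p * x) := by
              rw [← pow_add, Nat.add_sub_cancel' hk', hxy]
          _ = (p : A) ^ p * (c ^ k * c' ^ (p - k) * x) := by ring
    rw [add_pow, add_pow, Finset.sum_mul]
    refine Finset.sum_congr rfl (fun k hk => ?_)
    rw [key k hk]
    ring
  smul_mem' := by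
    rintro r c ⟨b, hb1, hb2⟩
    refine ⟨r * b, ?_, ?_⟩
    · rw [smul_eq_mul, mul_pow, hb1]; ring
    · rw [smul_eq_mul, mul_left_comm, hb2]; ring

/-- Absolute weak normality descends along a finite family generating the unit ideal. -/
theorem isAWNRing_of_span_eq_top (s : Finset A) (hs : Ideal.span (s : Set A) = ⊤)
    (B : A → Type u) [∀ f, CommRing (B f)] [∀ f, Algebra A (B f)]
    (hB : ∀ f ∈ s, IsLocalization.Away f (B f)) (h : ∀ f ∈ s, IsAWNRing (B f)) :
    IsAWNRing A := by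
  have hsn : IsSeminormalRing A :=
    isSeminormalRing_of_span_eq_top s hs B hB (fun f hf => (h f hf).1)
  have hred : IsReduced A := isReduced_of_isSeminormalRing hsn
  rw [isAWNRing_iff]
  refine ⟨hsn, fun p hp x y hxy => ?_⟩
  have htop : pthIdeal p hp x y hxy = ⊤ := by
    refine ideal_eq_top_of_forall_pow_mem s hs _ (fun f hf => ?_)
    have := hB f hf
    obtain ⟨a, ⟨ha1, ha2⟩, -⟩ := (h f hf).2 p hp (algebraMap A (B f) x) (algebraMap A (B f) y)
      (by rw [← map_natCast (algebraMap A (B f)), ← map_pow, ← map_pow, ← map_mul, hxy])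
    obtain ⟨n, b, hb⟩ := IsLocalization.Away.surj f a
    have e1 : algebraMap A (B f) (b ^ p) = algebraMap A (B f) ((f ^ n) ^ p * x) := by
      rw [map_pow, ← hb, map_mul, map_pow, map_pow, ha1]; ring
    have e2 : algebraMap A (B f) ((p : A) * b) = algebraMap A (B f) (f ^ n * y) := by
      rw [map_mul, map_natCast, ← hb, map_mul, map_pow, ha2]; ring
    obtain ⟨k1, hk1⟩ := IsLocalization.Away.exists_of_eq f e1
    obtain ⟨k2, hk2⟩ := IsLocalization.Away.exists_of_eq f e2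
    obtain ⟨q, rfl⟩ : ∃ q, p = q + 1 := ⟨p - 1, by have := hp.pos; omega⟩
    refine ⟨k1 + k2 + n, f ^ (k1 + k2) * b, ?_, ?_⟩
    · calc (f ^ (k1 + k2) * b) ^ (q + 1)
          = f ^ (q * k1 + (q + 1) * k2) * (f ^ k1 * b ^ (q + 1)) := by ring
        _ = f ^ (q * k1 + (q + 1) * k2) * (f ^ k1 * ((f ^ n) ^ (q + 1) * x)) := by rw [hk1]
        _ = (f ^ (k1 + k2 + n)) ^ (q + 1) * x := by ring
    · calc ((q + 1 : ℕ) : A) * (f ^ (k1 + k2) * b)
          = f ^ k1 * (f ^ k2 * (((q + 1 : ℕ) : A) * b)) := by ring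
        _ = f ^ k1 * (f ^ k2 * (f ^ n * y)) := by rw [hk2]
        _ = f ^ (k1 + k2 + n) * y := by ring
  have h1 : (1 : A) ∈ pthIdeal p hp x y hxy := by rw [htop]; trivial
  obtain ⟨b, hb1, hb2⟩ := h1
  exact ⟨b, by rw [hb1]; ring, by rw [hb2]; ring⟩

end localization

end Groth.Agent.Lib.Helper37
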