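import Groth.Prelude.Def_AlgGrp
import Groth.Agent.Lib.Helper37.Groupoid

/-!
# The action groupoid of a group scheme action (helper37)
-/

set_option autoImplicit false
set_option linter.style.haveILetI false
set_option linter.unusedSectionVars false
universe u

namespace Groth.Agent.Lib.Helper37.Act

open CategoryTheory CategoryTheory.Limits MonoidalCategory CartesianMonoidalCategory MonObj GrpObj
  AlgebraicGeometry

variable {S : Scheme.{u}} {G X : Over S} [GrpObj G] (a : AlgGrp.Action G X)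

theorem act_one {T : Over S} (x : T ⟶ X) : lift (1 : T ⟶ G) x ≫ a.act = x := by
  have h : lift (1 : T ⟶ G) x = lift (toUnit T) x ≫ (η[G] ▷ X) := by
    apply CartesianMonoidalCategory.hom_ext
    · simp [Hom.one_def]
    · simp
  rw [h, Category.assoc, a.one_act]
  simp

theorem act_mul {T : Over S} (g h : T ⟶ G) (x : T ⟶ X) :
    lift (g * h) x ≫ a.act = lift g (lift h x ≫ a.act) ≫ a.act := by
  have h1 : lift (g * h) x = lift (lift g h) x ≫ (μ[G] ▷ X) := by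
    apply CartesianMonoidalCategory.hom_ext
    · simp [Hom.mul_def]
    · simp
  have h2 : lift (lift g h) x ≫ (α_ G G X).hom ≫ (G ◁ a.act) = lift g (lift h x ≫ a.act) := by
    apply CartesianMonoidalCategory.hom_ext
    · simp
    · simp
  rw [h1, Category.assoc, a.mul_act, ← h2]
  simp only [Category.assoc]

section Points

variable {T : Scheme.{u}} (π : T ⟶ S)

/-- a `T`-point of `G ×_S X` as a morphism over `S` -/
noncomputable def ov (ρ : T ⟶ (G ⊗ X).left) (h : ρ ≫ (G ⊗ X).hom = π) : Over.mk π ⟶ G ⊗ X := Over.homMk ρ h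

/-- group component -/
noncomputable def gc (ρ : T ⟶ (G ⊗ X).left) (h : ρ ≫ (G ⊗ X).hom = π) : Over.mk π ⟶ G := ov π ρ h ≫ fst G X

/-- point component -/
noncomputable def xc (ρ : T ⟶ (G ⊗ X).left) (h : ρ ≫ (G ⊗ X).hom = π) : Over.mk π ⟶ X := ov π ρ h ≫ snd G X

variable {π}

/-- a `T`-point of `G ×_S X` from its components -/
noncomputable def mk (g : Over.mk π ⟶ G) (x : Over.mk π ⟶ X) : T ⟶ (G ⊗ X).left := (lift g x).left

lemma mk_over (g : Over.mk π ⟶ G) (x : Over.mk π ⟶ X) : mk g x ≫ (G ⊗ X).hom = π :=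
  Over.w (lift g x)

lemma ov_mk (g : Over.mk π ⟶ G) (x : Over.mk π ⟶ X) (h : mk g x ≫ (G ⊗ X).hom = π) :
    ov π (mk g x) h = lift g x := by
  apply Over.OverMorphism.ext
  rfl

@[simp]
lemma gc_mk (g : Over.mk π ⟶ G) (x : Over.mk π ⟶ X) (h : mk g x ≫ (G ⊗ X).hom = π) :
    gc π (mk g x) h = g := by
  rw [gc, ov_mk, lift_fst]

@[simp]
lemma xc_mk (g : Over.mk π ⟶ G) (x : Over.mk π ⟶ X) (h : mk g x ≫ (G ⊗ X).hom = π) :
    xc π (mk g x) h = x := by
  rw [xc, ov_mk, lift_snd]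

lemma gc_of_eq {ρ : T ⟶ (G ⊗ X).left} (h : ρ ≫ (G ⊗ X).hom = π) {g : Over.mk π ⟶ G}
    {x : Over.mk π ⟶ X} (e : ρ = mk g x) : gc π ρ h = g := by
  subst e
  exact gc_mk g x h

lemma xc_of_eq {ρ : T ⟶ (G ⊗ X).left} (h : ρ ≫ (G ⊗ X).hom = π) {g : Over.mk π ⟶ G}
    {x : Over.mk π ⟶ X} (e : ρ = mk g x) : xc π ρ h = x := by
  subst e
  exact xc_mk g x h

lemma ov_eq_lift (ρ : T ⟶ (G ⊗ X).left) (h : ρ ≫ (G ⊗ X).hom = π) :
    ov π ρ h = lift (gc π ρ h) (xc π ρ h) := by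
  apply CartesianMonoidalCategory.hom_ext
  · rw [lift_fst, gc]
  · rw [lift_snd, xc]

lemma mk_gc_xc (ρ : T ⟶ (G ⊗ X).left) (h : ρ ≫ (G ⊗ X).hom = π) :
    mk (gc π ρ h) (xc π ρ h) = ρ := by
  rw [mk, ← ov_eq_lift]
  rfl

lemma ext_pt {ρ ρ' : T ⟶ (G ⊗ X).left} (h : ρ ≫ (G ⊗ X).hom = π) (h' : ρ' ≫ (G ⊗ X).hom = π)
    (hg : gc π ρ h = gc π ρ' h') (hx : xc π ρ h = xc π ρ' h') : ρ = ρ' := by
  rw [← mk_gc_xc ρ h, ← mk_gc_xc ρ' h', hg, hx]

lemma mk_snd (g : Over.mk π ⟶ G) (x : Over.mk π ⟶ X) : mk g x ≫ (snd G X).left = x.left := by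
  rw [mk, ← Over.comp_left, lift_snd]

lemma mk_act (g : Over.mk π ⟶ G) (x : Over.mk π ⟶ X) :
    mk g x ≫ a.act.left = (lift g x ≫ a.act).left := by
  rw [mk, ← Over.comp_left]

lemma xc_left (ρ : T ⟶ (G ⊗ X).left) (h : ρ ≫ (G ⊗ X).hom = π) :
    (xc π ρ h).left = ρ ≫ (snd G X).left := rfl

lemma ov_act_left (ρ : T ⟶ (G ⊗ X).left) (h : ρ ≫ (G ⊗ X).hom = π) :
    (ov π ρ h ≫ a.act).left = ρ ≫ a.act.left := rfl

/-- precomposition -/
lemma comp_mk {T' : Scheme.{u}} (f : T' ⟶ T) {π' : T' ⟶ S} (hf : f ≫ π = π')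
    (g : Over.mk π ⟶ G) (x : Over.mk π ⟶ X) :
    f ≫ mk g x = mk (π := π') ((Over.homMk f hf : Over.mk π' ⟶ Over.mk π) ≫ g)
      ((Over.homMk f hf : Over.mk π' ⟶ Over.mk π) ≫ x) := by
  rw [mk, mk, ← comp_lift]
  rfl

end Points


section Groupoid

/-- source -/
noncomputable abbrev src (G X : Over S) : (G ⊗ X).left ⟶ X.left := (snd G X).left

/-- target -/
noncomputable abbrev tgt : (G ⊗ X).left ⟶ X.left := a.act.left

lemma src_over : src G X ≫ X.hom = (G ⊗ X).hom := Over.w (snd G X)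

lemma tgt_over : tgt a ≫ X.hom = (G ⊗ X).hom := Over.w a.act

/-- structure map of the scheme of composable pairs -/
noncomputable abbrev πP : pullback (src G X) (tgt a) ⟶ S := pullback.fst _ _ ≫ (G ⊗ X).hom

lemma snd_over : pullback.snd (src G X) (tgt a) ≫ (G ⊗ X).hom = πP a := by
  rw [← tgt_over a, ← pullback.condition_assoc, src_over]

/-- composition `((g, x), (h, y)) ↦ (g h, y)` (defined when `x = h y`) -/
noncomputable def comp : pullback (src G X) (tgt a) ⟶ (G ⊗ X).left :=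
  mk (π := πP a) (gc (πP a) (pullback.fst _ _) rfl * gc (πP a) (pullback.snd _ _) (snd_over a))
    (xc (πP a) (pullback.snd _ _) (snd_over a))

variable {T : Scheme.{u}} {π : T ⟶ S}

lemma lift_comp (α β : T ⟶ (G ⊗ X).left) (h : α ≫ src G X = β ≫ tgt a)
    (hα : α ≫ (G ⊗ X).hom = π) (hβ : β ≫ (G ⊗ X).hom = π) :
    pullback.lift α β h ≫ comp a = mk (gc π α hα * gc π β hβ) (xc π β hβ) := by
  have hf : pullback.lift α β h ≫ πP a = π := by rw [pullback.lift_fst_assoc, hα]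
  rw [comp, comp_mk _ hf]
  have e1 : (Over.homMk (pullback.lift α β h) hf : Over.mk π ⟶ Over.mk (πP a)) ≫
        ov (πP a) (pullback.fst _ _) rfl = ov π α hα := by
    apply Over.OverMorphism.ext
    exact pullback.lift_fst _ _ _
  have e2 : (Over.homMk (pullback.lift α β h) hf : Over.mk π ⟶ Over.mk (πP a)) ≫
        ov (πP a) (pullback.snd _ _) (snd_over a) = ov π β hβ := by
    apply Over.OverMorphism.ext
    exact pullback.lift_snd _ _ _
  rw [MonObj.comp_mul]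
  simp only [gc, xc, ← Category.assoc, e1, e2]


/-- identity `x ↦ (1, x)` -/
noncomputable def idn (G X : Over S) [GrpObj G] : X.left ⟶ (G ⊗ X).left :=
  mk (π := X.hom) (1 : Over.mk X.hom ⟶ G) (𝟙 X)

/-- inverse `(g, x) ↦ (g⁻¹, g x)` -/
noncomputable def invr : (G ⊗ X).left ⟶ (G ⊗ X).left :=
  mk (π := (G ⊗ X).hom) ((fst G X)⁻¹ : Over.mk (G ⊗ X).hom ⟶ G) a.act

lemma comp_idn (f : T ⟶ X.left) (hf : f ≫ X.hom = π) :
    f ≫ idn G X = mk (1 : Over.mk π ⟶ G) (Over.homMk f hf : Over.mk π ⟶ X) := by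
  rw [idn, comp_mk f hf, MonObj.comp_one]
  rfl

lemma comp_invr (α : T ⟶ (G ⊗ X).left) (hα : α ≫ (G ⊗ X).hom = π) :
    α ≫ invr a = mk ((gc π α hα)⁻¹) (ov π α hα ≫ a.act) := by
  rw [invr, comp_mk α hα, GrpObj.comp_inv]
  rfl

lemma xc_eq_of_src_eq_tgt (α β : T ⟶ (G ⊗ X).left) (h : α ≫ src G X = β ≫ tgt a)
    (hα : α ≫ (G ⊗ X).hom = π) (hβ : β ≫ (G ⊗ X).hom = π) :
    xc π α hα = ov π β hβ ≫ a.act := by
  apply Over.OverMorphism.ext
  exact h

lemma ov_act (α : T ⟶ (G ⊗ X).left) (hα : α ≫ (G ⊗ X).hom = π) :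
    ov π α hα ≫ a.act = lift (gc π α hα) (xc π α hα) ≫ a.act := by
  rw [← ov_eq_lift]

lemma over_eq (α β : T ⟶ (G ⊗ X).left) (h : α ≫ src G X = β ≫ tgt a) :
    β ≫ (G ⊗ X).hom = α ≫ (G ⊗ X).hom :=
  calc β ≫ (G ⊗ X).hom = β ≫ tgt a ≫ X.hom := by rw [tgt_over]
    _ = α ≫ src G X ≫ X.hom := by rw [← Category.assoc, ← h, Category.assoc]
    _ = α ≫ (G ⊗ X).hom := by rw [src_over]

lemma inv_act : lift ((fst G X)⁻¹) a.act ≫ a.act = snd G X := by
  have h0 := act_mul a ((fst G X)⁻¹) (fst G X) (snd G X)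
  rw [lift_fst_snd, Category.id_comp, inv_mul_cancel, act_one] at h0
  exact h0.symm

/-- **The action groupoid** `G ×_S X ⇉ X`. -/
noncomputable def actGrpd : Grpd.GroupoidScheme S where
  U := X.left
  R := (G ⊗ X).left
  pU := X.hom
  pR := (G ⊗ X).hom
  s := src G X
  t := tgt a
  e := idn G X
  i := invr a
  c := comp a
  s_over := src_over
  t_over := tgt_over a
  comp_s := fun {T} α β h => by
    have hβ : β ≫ (G ⊗ X).hom = α ≫ (G ⊗ X).hom := over_eq a α β h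
    rw [lift_comp a α β h rfl hβ, mk_snd]
    rfl
  comp_t := fun {T} α β h => by
    have hβ : β ≫ (G ⊗ X).hom = α ≫ (G ⊗ X).hom := over_eq a α β h
    rw [lift_comp a α β h rfl hβ, mk_act, act_mul, ← ov_act, ← xc_eq_of_src_eq_tgt a α β h rfl hβ,
      ← ov_act]
    rfl
  assoc := fun {T} α β γ h₁ h₂ => by
    have hβ : β ≫ (G ⊗ X).hom = α ≫ (G ⊗ X).hom := over_eq a α β h₁
    have hγ : γ ≫ (G ⊗ X).hom = α ≫ (G ⊗ X).hom := (over_eq a β γ h₂).trans hβ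
    have e1 := lift_comp a α β h₁ rfl hβ
    have e2 := lift_comp a β γ h₂ hβ hγ
    have o1 : (pullback.lift α β h₁ ≫ comp a) ≫ (G ⊗ X).hom = α ≫ (G ⊗ X).hom := by
      rw [e1, mk_over]
    have o2 : (pullback.lift β γ h₂ ≫ comp a) ≫ (G ⊗ X).hom = α ≫ (G ⊗ X).hom := by
      rw [e2, mk_over]
    rw [lift_comp a _ γ _ o1 hγ, lift_comp a α _ _ rfl o2, gc_of_eq o1 e1, gc_of_eq o2 e2,
      xc_of_eq o2 e2, _root_.mul_assoc]
  e_s := by rw [idn, mk_snd]; rfl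
  e_t := by rw [idn, mk_act, act_one]; rfl
  comp_e := fun {T} α => by
    have h1 : α ≫ src G X ≫ idn G X = mk (1 : Over.mk (α ≫ (G ⊗ X).hom) ⟶ G) (xc _ α rfl) := by
      rw [← Category.assoc, comp_idn (α ≫ src G X) (by rw [Category.assoc, src_over])]
      rfl
    have o1 : (α ≫ src G X ≫ idn G X) ≫ (G ⊗ X).hom = α ≫ (G ⊗ X).hom := by rw [h1, mk_over]
    rw [lift_comp a α _ _ rfl o1, gc_of_eq o1 h1, xc_of_eq o1 h1, _root_.mul_one]
    exact mk_gc_xc α rfl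
  e_comp := fun {T} α => by
    have h1 : α ≫ tgt a ≫ idn G X =
        mk (1 : Over.mk (α ≫ (G ⊗ X).hom) ⟶ G) (ov _ α rfl ≫ a.act) := by
      rw [← Category.assoc, comp_idn (α ≫ tgt a) (by rw [Category.assoc, tgt_over])]
      rfl
    have o1 : (α ≫ tgt a ≫ idn G X) ≫ (G ⊗ X).hom = α ≫ (G ⊗ X).hom := by rw [h1, mk_over]
    rw [lift_comp a _ α _ o1 rfl, gc_of_eq o1 h1, _root_.one_mul]
    exact mk_gc_xc α rfl
  i_s := by rw [invr, mk_snd]
  i_t := by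
    rw [invr, mk_act, inv_act]
  comp_i := fun {T} α => by
    have h1 := comp_invr a α rfl
    have h2 : α ≫ tgt a ≫ idn G X =
        mk (1 : Over.mk (α ≫ (G ⊗ X).hom) ⟶ G) (ov _ α rfl ≫ a.act) := by
      rw [← Category.assoc, comp_idn (α ≫ tgt a) (by rw [Category.assoc, tgt_over])]
      rfl
    have o1 : (α ≫ invr a) ≫ (G ⊗ X).hom = α ≫ (G ⊗ X).hom := by rw [h1, mk_over]
    rw [lift_comp a α _ _ rfl o1, h2, gc_of_eq o1 h1, xc_of_eq o1 h1, mul_inv_cancel]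
  i_comp := fun {T} α => by
    have h1 := comp_invr a α rfl
    have h2 : α ≫ src G X ≫ idn G X = mk (1 : Over.mk (α ≫ (G ⊗ X).hom) ⟶ G) (xc _ α rfl) := by
      rw [← Category.assoc, comp_idn (α ≫ src G X) (by rw [Category.assoc, src_over])]
      rfl
    have o1 : (α ≫ invr a) ≫ (G ⊗ X).hom = α ≫ (G ⊗ X).hom := by rw [h1, mk_over]
    rw [lift_comp a _ α _ o1 rfl, h2, gc_of_eq o1 h1, inv_mul_cancel]

end Groupoid

end Groth.Agent.Lib.Helper37.Act
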