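import Groth.Agent.Lib.Helper37.GrpdGlueNM

set_option autoImplicit false
set_option linter.style.haveILetI false
universe u

namespace Groth.Agent.Lib.Helper37.NM

open CategoryTheory CategoryTheory.Limits AlgebraicGeometry Grpd

variable {S : Scheme.{u}}

/-- In the equivalence-relation case the quotient map is finite locally free with kernel pair
`(t, s)`. -/
theorem quotMap_mono_props (G : GroupoidScheme S) [IsFinite G.s] [Flat G.s]
    [LocallyOfFinitePresentation G.s] [Mono G.j]
    (horb : ∀ u : G.U, ∃ V : G.U.Opens, IsAffineOpen V ∧ ∀ r : G.R, G.s r = u → G.t r ∈ V) :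
    IsFinite (quotMap G (hcov_of_horb horb)) ∧ Flat (quotMap G (hcov_of_horb horb)) ∧
      LocallyOfFinitePresentation (quotMap G (hcov_of_horb horb)) ∧
      IsPullback G.t G.s (quotMap G (hcov_of_horb horb)) (quotMap G (hcov_of_horb horb)) := by
  have hcov := hcov_of_horb horb
  have hw := quotMap_cond hcov
  obtain ⟨Y', q', hfin, hflat, hlfp, hsurj, hpb⟩ :=
    Groth.Agent.Lib.Helper37.exists_global_quotient G (fun u => by
      obtain ⟨W, hW⟩ := hcov u
      exact ⟨W.1, W.2.1, hW, W.2.2⟩)
  haveI := hfin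
  haveI := hflat
  haveI := hlfp
  haveI := hsurj
  obtain ⟨g, hg⟩ := exists_desc horb q' hpb.w
  let g' := fppfDesc q' hpb (quotMap G hcov) hw
  have hg' : q' ≫ g' = quotMap G hcov := fppfDesc_fac _ _ _ _
  haveI : Epi q' := Flat.epi_of_flat_of_surjective q'
  have h1 : g ≫ g' = 𝟙 _ := by
    apply quotMap_epi horb
    rw [← Category.assoc, hg, hg', Category.comp_id]
  have h2 : g' ≫ g = 𝟙 _ := by
    rw [← cancel_epi q', ← Category.assoc, hg', hg, Category.comp_id]
  haveI : IsIso g := ⟨⟨g', h1, h2⟩⟩
  haveI : IsIso g' := ⟨⟨g, h2, h1⟩⟩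
  have hq : quotMap G hcov = q' ≫ g' := hg'.symm
  have hpb' : IsPullback G.t G.s (quotMap G hcov) (quotMap G hcov) := by
    apply isPullback_of_comp_mono _ g
    rw [hg]
    exact hpb
  refine ⟨?_, ?_, ?_, hpb'⟩
  · rw [hq]; infer_instance
  · rw [hq]; infer_instance
  · rw [hq]; infer_instance

/-- **Quotient by a finite locally free groupoid**, with the additional properties in the
equivalence-relation case. -/
theorem exists_quotient_full (G : GroupoidScheme S) [IsFinite G.s] [Flat G.s]
    [LocallyOfFinitePresentation G.s]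
    (horb : ∀ u : G.U, ∃ V : G.U.Opens, IsAffineOpen V ∧ ∀ r : G.R, G.s r = u → G.t r ∈ V) :
    ∃ (Y : Scheme.{u}) (p : G.U ⟶ Y) (w : G.t ≫ p = G.s ≫ p),
      Nonempty (IsColimit (Cofork.ofπ p w)) ∧ IsIntegralHom p ∧ Surjective p ∧ IsOpenMap p ∧
      (∀ x y : G.U, p x = p y ↔ ∃ r : G.R, G.t r = x ∧ G.s r = y) ∧
      Function.Surjective (pullback.lift G.t G.s w) ∧ (IsAffine G.U → IsAffine Y) ∧
      (Mono G.j → IsFinite p ∧ Flat p ∧ LocallyOfFinitePresentation p ∧
        IsPullback G.t G.s p p) := by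
  refine ⟨quotY G, quotMap G (hcov_of_horb horb), quotMap_cond _, ⟨?_⟩, inferInstance,
    inferInstance, quotMap_isOpenMap _, quotMap_eq_iff _, lift_surjective _,
    fun _ => isAffine_quotY, fun hm => ?_⟩
  · exact Cofork.IsColimit.mk _ (fun s => (exists_desc horb s.π s.condition).choose)
      (fun s => (exists_desc horb s.π s.condition).choose_spec)
      (fun s m hm => quotMap_epi horb _ _
        (hm.trans (exists_desc horb s.π s.condition).choose_spec.symm))
  · haveI := hm
    exact quotMap_mono_props G horb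

end Groth.Agent.Lib.Helper37.NM
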