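import Mathlib.AlgebraicGeometry.AffineScheme
import Mathlib.RingTheory.Ideal.Operations

/-!
# Basic opens containing finitely many points (helper37)

In an affine scheme (or an affine open of a scheme), every finite set of points contained in an
open `O` is contained in a basic open contained in `O` (prime avoidance).
-/

set_option autoImplicit false

universe u

namespace Groth.Agent.Lib.Helper37

open CategoryTheory AlgebraicGeometry

/-- Prime avoidance in `Spec A`: a finite set of points in an open `O` lies in a basic open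
contained in `O`. -/
theorem exists_basicOpen_le_of_finite {A : Type u} [CommRing A]
    (O : TopologicalSpace.Opens (PrimeSpectrum A)) (F : Set (PrimeSpectrum A)) (hF : F.Finite)
    (hFO : F ⊆ O) :
    ∃ f : A, F ⊆ PrimeSpectrum.basicOpen f ∧ PrimeSpectrum.basicOpen f ≤ O := by
  classical
  obtain ⟨J, hJ⟩ : ∃ J : Ideal A, (O : Set (PrimeSpectrum A))ᶜ = PrimeSpectrum.zeroLocus J :=
    (PrimeSpectrum.isClosed_iff_zeroLocus_ideal _).mp O.2.isClosed_compl
  by_cases hne : F.Nonempty
  · obtain ⟨p₀, hp₀⟩ := hne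
    have hnot : ¬ ((J : Set A) ⊆ ⋃ p ∈ (↑hF.toFinset : Set (PrimeSpectrum A)), p.asIdeal) := by
      rw [Ideal.subset_union_prime (f := fun p : PrimeSpectrum A => p.asIdeal) p₀ p₀
        (fun p _ _ _ => p.2)]
      rintro ⟨p, hp, hJp⟩
      have hpF : p ∈ F := hF.mem_toFinset.mp hp
      have : p ∈ (O : Set (PrimeSpectrum A))ᶜ := by
        rw [hJ]
        exact hJp
      exact this (hFO hpF)
    obtain ⟨f, hfJ, hf⟩ := Set.not_subset.mp hnot
    refine ⟨f, fun p hp => ?_, fun p hp => ?_⟩
    · show f ∉ p.asIdeal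
      intro hfp
      exact hf (Set.mem_biUnion (show p ∈ (↑hF.toFinset : Set _) from hF.mem_toFinset.mpr hp) hfp)
    · by_contra hpO
      have : p ∈ PrimeSpectrum.zeroLocus (J : Set A) := by
        rw [← hJ]
        exact hpO
      exact hp (this hfJ)
  · rw [Set.not_nonempty_iff_eq_empty] at hne
    refine ⟨0, by rw [hne]; exact Set.empty_subset _, ?_⟩
    rw [PrimeSpectrum.basicOpen_zero]
    exact bot_le

/-- In an affine open `V` of a scheme, a finite set of points of `V` contained in an open `O` lies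
in a basic open `D(f) ⊆ V` contained in `O`. -/
theorem exists_basicOpen_le_of_finite_of_isAffineOpen {X : Scheme.{u}} {V : X.Opens}
    (hV : IsAffineOpen V) (O : X.Opens) (E : Set X) (hE : E.Finite) (hEV : E ⊆ V) (hEO : E ⊆ O) :
    ∃ f : Γ(X, V), E ⊆ X.basicOpen f ∧ X.basicOpen f ≤ O := by
  obtain ⟨f, hf₁, hf₂⟩ := exists_basicOpen_le_of_finite (A := Γ(X, V)) (hV.fromSpec ⁻¹ᵁ O)
    (hV.fromSpec ⁻¹' E) (hE.preimage hV.fromSpec.isOpenEmbedding.injective.injOn)
    (fun p hp => hEO hp)
  refine ⟨f, fun x hx => ?_, ?_⟩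
  · obtain ⟨p, rfl⟩ : x ∈ Set.range hV.fromSpec := by
      rw [hV.range_fromSpec]
      exact hEV hx
    have h1 : p ∈ hV.fromSpec ⁻¹ᵁ X.basicOpen f := by
      rw [hV.fromSpec_preimage_basicOpen]
      exact hf₁ hx
    exact h1
  · rw [← hV.fromSpec_image_basicOpen]
    rintro _ ⟨p, hp, rfl⟩
    exact hf₂ hp

end Groth.Agent.Lib.Helper37
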