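import Groth.Agent.Lib.Helper37.ActionGrpd
import Groth.Agent.Lib.Helper37.GrpdQuotFull
import Groth.Agent.Lib.Helper37.PrimeAvoidOpen
import Groth.Agent.Lib.Helper37.GroupoidStab
import Mathlib.AlgebraicGeometry.Morphisms.UniversallyInjective

set_option autoImplicit false
set_option linter.style.haveILetI false
set_option linter.unusedSectionVars false
universe u

namespace Groth.Agent.Lib.Helper37.Act

open CategoryTheory CategoryTheory.Limits MonoidalCategory CartesianMonoidalCategory MonObj GrpObj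
  AlgebraicGeometry

variable {S : Scheme.{u}} {G X : Over S} [GrpObj G] (a : AlgGrp.Action G X)

instance [IsFinite G.hom] : IsFinite (actGrpd a).s :=
  inferInstanceAs (IsFinite (pullback.snd G.hom X.hom))

instance [Flat G.hom] : Flat (actGrpd a).s :=
  inferInstanceAs (Flat (pullback.snd G.hom X.hom))

instance [LocallyOfFinitePresentation G.hom] : LocallyOfFinitePresentation (actGrpd a).s :=
  inferInstanceAs (LocallyOfFinitePresentation (pullback.snd G.hom X.hom))

set_option backward.isDefEq.respectTransparency.types false in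
instance [UniversallyInjective G.hom] : UniversallyInjective (actGrpd a).s :=
  MorphismProperty.pullback_snd (P := @UniversallyInjective) G.hom X.hom inferInstance

/-- For a free action, an arrow is determined by its source and target. -/
theorem eq_of_src_tgt
    (hfree : ∀ (T : Over S) (g : T ⟶ G) (x : T ⟶ X), lift g x ≫ a.act = x → g = toUnit T ≫ η[G])
    {T : Scheme.{u}} (α β : T ⟶ (G ⊗ X).left) (ht : α ≫ tgt a = β ≫ tgt a)
    (hs : α ≫ src G X = β ≫ src G X) : α = β := by
  have hβ : β ≫ (G ⊗ X).hom = α ≫ (G ⊗ X).hom := by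
    rw [← src_over, ← Category.assoc, ← hs, Category.assoc]
  have hx : xc _ α rfl = xc _ β hβ := by
    apply Over.OverMorphism.ext
    exact hs
  have hact : lift (gc _ α rfl) (xc _ α rfl) ≫ a.act = lift (gc _ β hβ) (xc _ α rfl) ≫ a.act := by
    rw [← ov_act a α rfl, hx, ← ov_act a β hβ]
    apply Over.OverMorphism.ext
    exact ht
  have h1 : lift ((gc _ β hβ)⁻¹ * gc _ α rfl) (xc _ α rfl) ≫ a.act = xc _ α rfl := by
    rw [act_mul, hact, ← act_mul, inv_mul_cancel, act_one]
  have h2 := hfree _ _ _ h1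
  rw [← Hom.one_def, inv_mul_eq_one] at h2
  exact ext_pt rfl hβ h2.symm hx

/-- A free action gives an equivalence relation. -/
theorem mono_j_of_free
    (hfree : ∀ (T : Over S) (g : T ⟶ G) (x : T ⟶ X), lift g x ≫ a.act = x → g = toUnit T ≫ η[G]) :
    Mono (actGrpd a).j := by
  refine ⟨fun {T} α β h => eq_of_src_tgt a hfree α β ?_ ?_⟩
  · have := congrArg (· ≫ pullback.fst _ _) h
    simp only [Category.assoc, j_fst] at this
    exact this
  · have := congrArg (· ≫ pullback.snd _ _) h
    simp only [Category.assoc, j_snd] at this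
    exact this


section Orbits

lemma hom_tgt_apply (r : (actGrpd a).R) :
    (actGrpd a).pU ((actGrpd a).t r) = (actGrpd a).pU ((actGrpd a).s r) := by
  rw [← Scheme.Hom.comp_apply, ← Scheme.Hom.comp_apply, (actGrpd a).t_over, (actGrpd a).s_over]

/-- orbits lie in affine opens if `X ⟶ S` is affine -/
theorem horb_of_isAffineHom [IsAffineHom X.hom] (x : (actGrpd a).U) :
    ∃ V : (actGrpd a).U.Opens, IsAffineOpen V ∧
      ∀ r : (actGrpd a).R, (actGrpd a).s r = x → (actGrpd a).t r ∈ V := by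
  obtain ⟨V₀, hV₀, hx, -⟩ :=
    exists_isAffineOpen_mem_and_subset (x := (actGrpd a).pU x) (U := ⊤) trivial
  haveI : IsAffineHom (actGrpd a).pU := inferInstanceAs (IsAffineHom X.hom)
  refine ⟨(actGrpd a).pU ⁻¹ᵁ V₀, hV₀.preimage (actGrpd a).pU, fun r hr => ?_⟩
  change (actGrpd a).pU ((actGrpd a).t r) ∈ V₀
  rw [hom_tgt_apply, hr]
  exact hx

/-- orbits lie in affine opens if `X` is open in an affine scheme and `G` is finite -/
theorem horb_of_isOpenImmersion [IsFinite G.hom] {Z : Scheme.{u}} [IsAffine Z] (i : X.left ⟶ Z)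
    [IsOpenImmersion i] (x : (actGrpd a).U) :
    ∃ V : (actGrpd a).U.Opens, IsAffineOpen V ∧
      ∀ r : (actGrpd a).R, (actGrpd a).s r = x → (actGrpd a).t r ∈ V := by
  have hfin : ((actGrpd a).s ⁻¹' {x}).Finite := Scheme.Hom.finite_preimage_singleton _ x
  have hE : (i '' ((actGrpd a).t '' ((actGrpd a).s ⁻¹' {x}))).Finite := (hfin.image _).image _
  obtain ⟨f, hf1, hf2⟩ := exists_basicOpen_le_of_finite_of_isAffineOpen (isAffineOpen_top Z)
    i.opensRange _ hE (fun _ _ => trivial) (by
      rintro _ ⟨y, -, rfl⟩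
      exact ⟨y, rfl⟩)
  refine ⟨i ⁻¹ᵁ Z.basicOpen f,
    ((isAffineOpen_top Z).basicOpen f).preimage_of_isOpenImmersion i hf2, fun r hr => ?_⟩
  exact hf1 ⟨_, ⟨r, hr, rfl⟩, rfl⟩

/-- orbits are points if `G ⟶ S` is universally injective -/
theorem horb_of_universallyInjective [UniversallyInjective G.hom] (x : (actGrpd a).U) :
    ∃ V : (actGrpd a).U.Opens, IsAffineOpen V ∧
      ∀ r : (actGrpd a).R, (actGrpd a).s r = x → (actGrpd a).t r ∈ V := by
  obtain ⟨V, hV, hx, -⟩ := exists_isAffineOpen_mem_and_subset (x := x) (U := ⊤) trivial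
  refine ⟨V, hV, fun r hr => ?_⟩
  have h1 : (actGrpd a).s ((actGrpd a).e x) = x := by
    rw [← Scheme.Hom.comp_apply, (actGrpd a).e_s]; rfl
  have h2 : r = (actGrpd a).e x := (actGrpd a).s.injective (hr.trans h1.symm)
  have h3 : (actGrpd a).t ((actGrpd a).e x) = x := by
    rw [← Scheme.Hom.comp_apply, (actGrpd a).e_t]; rfl
  rw [h2, h3]
  exact hx

end Orbits


section Quot

/-- Quotient of a free action of a finite locally free group scheme with orbits in affine opens. -/
theorem exists_quotient_of_free [IsFinite G.hom] [Flat G.hom] [LocallyOfFinitePresentation G.hom]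
    (hfree : ∀ (T : Over S) (g : T ⟶ G) (x : T ⟶ X), lift g x ≫ a.act = x → g = toUnit T ≫ η[G])
    (horb : ∀ x : (actGrpd a).U, ∃ V : (actGrpd a).U.Opens, IsAffineOpen V ∧
      ∀ r : (actGrpd a).R, (actGrpd a).s r = x → (actGrpd a).t r ∈ V) :
    ∃ (Y : Scheme.{u}) (p : X.left ⟶ Y) (pY : Y ⟶ S), p ≫ pY = X.hom ∧ IsFinite p ∧ Flat p ∧
      LocallyOfFinitePresentation p ∧ Surjective p ∧
      IsPullback a.act.left (snd G X).left p p := by
  haveI := mono_j_of_free a hfree
  obtain ⟨Y, p, w, ⟨hcolim⟩, -, hsurj, -, -, -, -, hmono⟩ :=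
    NM.exists_quotient_full (actGrpd a) horb
  obtain ⟨hfin, hflat, hlfp, hpb⟩ := hmono inferInstance
  have hpU : (actGrpd a).t ≫ (actGrpd a).pU = (actGrpd a).s ≫ (actGrpd a).pU := by
    rw [(actGrpd a).t_over, (actGrpd a).s_over]
  let pY : Y ⟶ S := Cofork.IsColimit.desc hcolim (actGrpd a).pU hpU
  have hfac : p ≫ pY = (actGrpd a).pU := Cofork.IsColimit.π_desc hcolim
  exact ⟨Y, p, pY, hfac, hfin, hflat, hlfp, hsurj, hpb⟩

end Quot

end Groth.Agent.Lib.Helper37.Act
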