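import Groth.Agent.Lib.Helper37.SerreFT
import Groth.Agent.Lib.Helper18.LSubQcqs
import Groth.Agent.Lib.Helper11.NegPowers
import Groth.Agent.Lib.Helper11.AffineCrit
import Groth.Agent.Lib.Helper1.QCohVanishing
import Groth.Agent.Lib.Helper49.InvOfTensor

set_option autoImplicit false
set_option linter.style.haveILetI false
universe u
open CategoryTheory CategoryTheory.Limits Opposite TopologicalSpace AlgebraicGeometry

namespace Groth.Agent.Lib.Helper37.AmpleAffine

open Groth.Agent.Lib.Helper1 Groth.Agent.Lib.Helper45 Groth.Agent.Lib.Helper37.SerreFT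

variable {X : Scheme.{u}}

section FTColim

open Groth.Agent.Lib.Helper18.LSubM

variable (F : X.Modules) [F.IsQuasicoherent]

/-- the quasi-coherent finite type subsheaves of `F`. -/
abbrev QFTSub : Type u := {K : LSub F // K.IsQFT}

instance [CompactSpace X] [QuasiSeparatedSpace X] : Nonempty (QFTSub F) := by
  obtain ⟨K, hK, -⟩ := exists_isQFT_through_section (F := F) (isAffineOpen_bot X) 0
  exact ⟨⟨K, hK⟩⟩

instance : IsDirected (QFTSub F) (· ≤ ·) :=
  ⟨fun K K' => ⟨⟨K.1.sup K'.1, K.2.sup K'.2⟩, LSub.le_sup_left K.1 K'.1,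
    LSub.le_sup_right K.1 K'.1⟩⟩

omit [F.IsQuasicoherent] in
variable {F} in
theorem range_le_of_le {K K' : LSub F} (h : K ≤ K') (U : X.affineOpens)
    (a : Γ(K.toModules, U.1)) :
    ∃ m : Γ(K'.toModules, U.1), K'.ι.app U.1 m = K.ι.app U.1 a :=
  ⟨K'.sec U.1 _ (h U.1 (K.ι_app_mem U.1 a)), rfl⟩

/-- the diagram of quasi-coherent finite type subsheaves. -/
noncomputable def diagQ : QFTSub F ⥤ X.Modules where
  obj K := K.1.toModules
  map {K K'} f := liftOfRangeLE K'.1.ι K.1.ι (range_le_of_le (show K.1 ≤ K'.1 from leOfHom f))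
  map_id K := by
    rw [← cancel_mono K.1.ι, liftOfRangeLE_comp, Category.id_comp]
  map_comp {K K' K''} f g := by
    rw [← cancel_mono K''.1.ι, Category.assoc, liftOfRangeLE_comp, liftOfRangeLE_comp,
      liftOfRangeLE_comp]

/-- the cocone with vertex `F`. -/
noncomputable def coconeQ : Cocone (diagQ F) where
  pt := F
  ι :=
    { app := fun K => K.1.ι
      naturality := fun K K' f => by
        dsimp [diagQ]
        rw [liftOfRangeLE_comp, Category.comp_id] }

/-- On a qcqs scheme, a quasi-coherent module is, as an abelian sheaf, the directed colimit of its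
quasi-coherent subsheaves of finite type. -/
theorem nonempty_isColimit_mapCocone_coconeQ [CompactSpace X] [QuasiSeparatedSpace X] :
    Nonempty (IsColimit ((toAbF X).mapCocone (coconeQ F))) := by
  refine H1Colim.isColimit_of_injective_of_locally_surjective (X := X.toTopCat)
    (diagQ F ⋙ toAbF X) ((toAbF X).mapCocone (coconeQ F)) ?_ ?_
  · intro K U
    exact K.1.ι_app_injective U
  · intro U s x hx
    obtain ⟨_, ⟨W, hW, rfl⟩, hxW, hWU⟩ :=
      X.isBasis_affineOpens.exists_subset_of_mem_open hx U.2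
    let s' : Γ(F, U) := s
    let sW : Γ(F, W) := F.presheaf.map (homOfLE hWU).op s'
    obtain ⟨K, hK, hsK⟩ := exists_isQFT_through_section (F := F) hW sW
    exact ⟨W, hWU, ⟨K, hK⟩, K.sec W sW hsK, hxW, rfl⟩

end FTColim

section Coh

theorem subsingleton_HH_of_iso {M N : X.Modules} (e : M ≅ N) (p : ℕ)
    (h : Subsingleton (Coh.HH X M p)) : Subsingleton (Coh.HH X N p) := by
  let e' := (Sheaf.functorH (Opens.grothendieckTopology X) p).mapIso ((toAbF X).mapIso e)
  haveI : Subsingleton ((Sheaf.functorH (Opens.grothendieckTopology X) p).obj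
    ((toAbF X).obj M) : Type u) := h
  exact (e'.addCommGroupIsoToAddEquiv).symm.toEquiv.subsingleton

/-- vanishing of `H^p` for all quasi-coherent modules of finite type implies vanishing for all
quasi-coherent modules, on a qcqs scheme. -/
theorem subsingleton_HH_of_forall_ft [CompactSpace X] [QuasiSeparatedSpace X] (p : ℕ)
    (h : ∀ M : X.Modules, M.IsQuasicoherent → SheafOfModules.IsFiniteType (R := X.ringCatSheaf) M →
      Subsingleton (Coh.HH X M p))
    (F : X.Modules) [F.IsQuasicoherent] : Subsingleton (Coh.HH X F p) := by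
  obtain ⟨hc⟩ := nonempty_isColimit_mapCocone_coconeQ F
  haveI : PrespectralSpace X.toTopCat := inferInstanceAs (PrespectralSpace X)
  haveI : QuasiSeparatedSpace X.toTopCat := inferInstanceAs (QuasiSeparatedSpace X)
  haveI : CompactSpace X.toTopCat := inferInstanceAs (CompactSpace X)
  refine H1Colim.subsingleton_H_of_isColimit (X := X.toTopCat) _ _ hc p fun K => ?_
  exact h K.1.toModules K.2.isQuasicoherent K.2.isFiniteType

/-- right-exactness: `H^p(S.X₂) = 0 = H^{p+1}(S.X₁)` implies `H^p(S.X₃) = 0`. -/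
theorem subsingleton_HH_X₃ {S : ShortComplex X.Modules} (hS : S.ShortExact) (p : ℕ)
    (h2 : Subsingleton (Coh.HH X S.X₂ p)) (h1 : Subsingleton (Coh.HH X S.X₁ (p + 1))) :
    Subsingleton (Coh.HH X S.X₃ p) := by
  have hS' := shortExact_map_toAbF hS
  refine ⟨fun x y => ?_⟩
  suffices H : ∀ x : Coh.HH X S.X₃ p, x = 0 by rw [H x, H y]
  intro x
  let x' : Abelian.Ext (Groth.Agent.S0459.cZ X.toTopCat) (S.map (toAbF X)).X₃ p := x
  obtain ⟨x₂, hx₂⟩ := Abelian.Ext.covariant_sequence_exact₃ _ hS' x' rfl (h1.elim _ _)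
  have : x₂ = 0 := h2.elim _ _
  rw [this, Abelian.Ext.zero_comp] at hx₂
  exact hx₂.symm

attribute [local instance] Abelian.hasFiniteBiproducts in
theorem subsingleton_HH_biproduct {k : ℕ} (N : Fin k → X.Modules) (p : ℕ)
    (h : ∀ j, Subsingleton (Coh.HH X (N j) p)) : Subsingleton (Coh.HH X (⨁ N) p) := by
  let Φ : X.Modules ⥤ AddCommGrpCat.{u} :=
    toAbF X ⋙ Sheaf.functorH (Opens.grothendieckTopology X) p
  have hz : ∀ j, IsZero (Φ.obj (N j)) := fun j =>
    haveI : Subsingleton (Φ.obj (N j) : Type u) := h j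
    AddCommGrpCat.isZero_of_subsingleton _
  have : IsZero (Φ.obj (⨁ N)) := by
    rw [IsZero.iff_id_eq_zero, ← Φ.map_id, ← biproduct.total, Φ.map_sum]
    refine Finset.sum_eq_zero fun j _ => ?_
    rw [Φ.map_comp, (hz j).eq_of_tgt (Φ.map (biproduct.π N j)) 0, zero_comp]
  exact AddCommGrpCat.subsingleton_of_isZero this

end Coh

section Resolution

open Groth.Agent.Lib.Helper49 Groth.Agent.Lib.Helper11.GenLocus
open Groth.Agent.Lib.Helper11.NegPowers MonoidalCategory

attribute [local instance] Abelian.hasFiniteBiproducts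

/-- `L^k ⊗ L'^k ≅ O_X` when `L ⊗ L' ≅ O_X`. -/
noncomputable def powInvIso {L L' : X.Modules} (ε₀ : CohB1.tensorMod L L' ≅ Coh.structureModule X)
    (k : ℕ) : CohB1.tensorMod (CohB1.tensorPow L k) (CohB1.tensorPow L' k) ≅
      Coh.structureModule X :=
  tensorPowTensor L L' k ≪≫ tensorPowCongr ε₀ k ≪≫ tensorPowUnitIso X k

/-- local resolution by a negative power with exponent at least `n₀`. -/
theorem exists_local_quotient_ge [CompactSpace X] [QuasiSeparatedSpace X] (F : X.Modules)
    [F.IsQuasicoherent] (hF : SheafOfModules.IsFiniteType (R := X.ringCatSheaf) F)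
    (L L' : X.Modules) (hL : PicF.IsInvertible L) (hL' : PicF.IsInvertible L')
    (ε₀ : CohB1.tensorMod L L' ≅ Coh.structureModule X) (n₀ n : ℕ)
    (s : Coh.structureModule X ⟶ CohB1.tensorPow L (n + 1))
    (ha : IsAffineOpen (CohB1.genLocus _ s)) :
    ∃ (k : ℕ) (r : ℕ) (φ : Fin r → (CohB1.tensorPow L' k ⟶ F)), n₀ ≤ k ∧
      ∀ (V : X.Opens) (_ : V ≤ CohB1.genLocus _ s) (y : Γ(F, V)) (x : X), x ∈ V →
        ∃ (W : X.Opens) (hWV : W ≤ V), x ∈ W ∧ ∃ m : Fin r → Γ(CohB1.tensorPow L' k, W),
          mres F hWV y = ∑ j, (φ j).app W (m j) := by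
  have hP := isInvertible_tensorPow hL (n + 1)
  obtain ⟨K, hK⟩ := genOnBy_twist_of_affine F (CohB1.tensorPow L (n + 1)) hF hP s ha
  obtain ⟨r, v, hv⟩ := hK (K + n₀) (Nat.le_add_right K n₀)
  let θ := tensorModCongr (Iso.refl F) (tensorPowMul L (n + 1) (K + n₀))
  have hv' := hv.of_iso θ
  have hM := isInvertible_tensorPow hL' ((n + 1) * (K + n₀))
  let ε := powInvIso ε₀ ((n + 1) * (K + n₀))
  refine ⟨(n + 1) * (K + n₀), r, fun j => twistHom (θ.hom.app ⊤ (v j)) ε, ?_, ?_⟩
  · calc n₀ ≤ K + n₀ := Nat.le_add_left _ _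
      _ ≤ (n + 1) * (K + n₀) := Nat.le_mul_of_pos_left _ (Nat.succ_pos n)
  · intro V hV y x hx
    exact twistHom_locally_surjective _ _ hv' hM ε V hV y x hx

/-- global resolution of a quasi-coherent module of finite type by negative powers of an ample
invertible module with exponents at least `n₀`. -/
theorem exists_resolution_ge (F : X.Modules) [F.IsQuasicoherent]
    (hF : SheafOfModules.IsFiniteType (R := X.ringCatSheaf) F)
    (L L' : X.Modules) (hL : CohB1.IsAmple L)
    (ε₀ : CohB1.tensorMod L L' ≅ Coh.structureModule X) (n₀ : ℕ) :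
    ∃ (k : ℕ) (N : Fin k → X.Modules) (π : (⨁ N) ⟶ F),
      (∀ j, ∃ m : ℕ, n₀ ≤ m ∧ N j = CohB1.tensorPow L' m) ∧ Epi π := by
  haveI : CompactSpace X := hL.2.1
  haveI : QuasiSeparatedSpace X := quasiSeparatedSpace_of_isAmple hL
  have hL' : PicF.IsInvertible L' :=
    isInvertible_of_tensor_iso L' L (tensorModBraid L' L ≪≫ ε₀)
  apply exists_global_quotient F (fun M => ∃ m : ℕ, n₀ ≤ m ∧ M = CohB1.tensorPow L' m)
  intro x
  obtain ⟨n, s, hxs, ha⟩ := hL.2.2 x
  obtain ⟨k, r, φ, hk, hsurj⟩ := exists_local_quotient_ge F hF L L' hL.1 hL' ε₀ n₀ n s ha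
  exact ⟨CohB1.genLocus _ s, CohB1.tensorPow L' k, r, φ, hxs, ⟨k, hk, rfl⟩, hsurj⟩

/-- If `L` is ample with inverse `L'` and the higher cohomology of all large powers of `L'` vanishes,
then the higher cohomology of every quasi-coherent module vanishes. -/
theorem subsingleton_HH_of_ample (L L' : X.Modules) (hL : CohB1.IsAmple L)
    (ε₀ : CohB1.tensorMod L L' ≅ Coh.structureModule X) (n₀ : ℕ)
    (h : ∀ n : ℕ, n₀ ≤ n → ∀ p : ℕ, 0 < p → Subsingleton (Coh.HH X (CohB1.tensorPow L' n) p))
    (p : ℕ) (hp : 0 < p) (F : X.Modules) (hqF : F.IsQuasicoherent) :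
    Subsingleton (Coh.HH X F p) := by
  haveI : CompactSpace X := hL.2.1
  haveI : QuasiSeparatedSpace X := quasiSeparatedSpace_of_isAmple hL
  have hL' : PicF.IsInvertible L' :=
    isInvertible_of_tensor_iso L' L (tensorModBraid L' L ≪≫ ε₀)
  obtain ⟨d, hd⟩ := exists_vanishing_qcqs X
  -- descending induction
  have key : ∀ (m p : ℕ), 0 < p → d ≤ p + m → ∀ F : X.Modules, F.IsQuasicoherent →
      Subsingleton (Coh.HH X F p) := by
    intro m
    induction m with
    | zero => intro p _ hdp F hqF; exact hd F hqF p hdp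
    | succ m ih =>
      intro p hp hdp F hqF
      have ih' := ih (p + 1) (Nat.succ_pos p) (by omega)
      haveI := hqF
      refine subsingleton_HH_of_forall_ft p (fun M hqM hM => ?_) F
      haveI := hqM
      obtain ⟨k, N, π, hN, hπ⟩ := exists_resolution_ge M hM L L' hL ε₀ n₀
      have hNq : (⨁ N).IsQuasicoherent := by
        refine Groth.Agent.Lib.Helper11.AffineCrit.isQuasicoherent_biproduct' N fun j => ?_
        obtain ⟨m', -, hm'⟩ := hN j
        rw [hm']
        exact isQuasicoherent_of_isInvertible (isInvertible_tensorPow hL' m')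
      let S : ShortComplex X.Modules := ShortComplex.mk (kernel.ι π) π (kernel.condition _)
      have hS : S.ShortExact := ShortComplex.ShortExact.mk' (ShortComplex.exact_kernel π)
        (inferInstanceAs (Mono (kernel.ι π))) hπ
      refine subsingleton_HH_X₃ hS p ?_ ?_
      · refine subsingleton_HH_biproduct N p fun j => ?_
        obtain ⟨m', hm', hj⟩ := hN j
        rw [hj]
        exact h m' hm' p hp
      · exact ih' (kernel π) (isQuasicoherent_kernel π hNq hqM)
  exact key d p hp (Nat.le_add_left d p) F hqF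

/-- If `L` is ample with inverse `L'` and the higher cohomology of all large powers of `L'` vanishes,
then `X` is affine. -/
theorem isAffine_of_ample (L L' : X.Modules) (hL : CohB1.IsAmple L)
    (hinv : Nonempty (CohB1.tensorMod L L' ≅ Coh.structureModule X)) (n₀ : ℕ)
    (h : ∀ n : ℕ, n₀ ≤ n → ∀ p : ℕ, 0 < p → Subsingleton (Coh.HH X (CohB1.tensorPow L' n) p)) :
    IsAffine X := by
  obtain ⟨ε₀⟩ := hinv
  haveI : CompactSpace X := hL.2.1
  exact isAffine_of_forall_subsingleton_HH_one X fun I _ _ hqI =>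
    subsingleton_HH_of_ample L L' hL ε₀ n₀ h 1 Nat.one_pos I hqI

end Resolution

end Groth.Agent.Lib.Helper37.AmpleAffine
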