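import Mathlib.RingTheory.Ideal.Colon
import Mathlib.RingTheory.Ideal.Maximal
import Mathlib.RingTheory.Noetherian.Basic
import Mathlib.RingTheory.Artinian.Module
import Mathlib.LinearAlgebra.Dimension.Constructions
import Mathlib.LinearAlgebra.FiniteDimensional.Lemmas
import Mathlib.LinearAlgebra.TensorProduct.Quotient
import Mathlib.Tactic.LinearCombination
import Mathlib.RingTheory.IsTensorProduct

/-!
# Modules over a finite-dimensional algebra with bounded fibre ranks (helper37)

Let `B` be a finite-dimensional algebra over a field `k` and `M` a `B`-module such that for every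
maximal ideal `q` of `B` the module `M / qM` is generated by at most `n` elements. Then `M` has
dimension at most `n * dim_k B` over `k`.
-/

set_option autoImplicit false

namespace Groth.Agent.Lib.Helper37

open Module

section

variable {k B M : Type*} [Field k] [CommRing B] [Algebra k B] [Module.Finite k B]
  [AddCommGroup M] [Module B M] [Module k M] [IsScalarTower k B M]

/-- The key step: if `J < I` are ideals with nothing in between, then `I M` is spanned over `k` by
`J M` and `W • s_i`, where `W` is a `k`-complement of `J` in `I`. -/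
theorem finrank_smul_top_le_aux (n : ℕ)
    (hF : ∀ q : Ideal B, q.IsMaximal →
      ∃ s : Fin n → M, Submodule.span B (Set.range s) ⊔ q • (⊤ : Submodule B M) = ⊤) :
    ∀ (d : ℕ) (I : Ideal B), finrank k (I.restrictScalars k) = d →
      Module.Finite k ((I • (⊤ : Submodule B M)).restrictScalars k) ∧
        finrank k ((I • (⊤ : Submodule B M)).restrictScalars k) ≤ n * d := by
  intro d
  induction d using Nat.strong_induction_on with
  | _ d ih =>
  intro I hI
  by_cases hbot : I = ⊥
  · subst hbot
    have h0 : ((⊥ : Ideal B) • (⊤ : Submodule B M)).restrictScalars k = ⊥ := by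
      rw [Submodule.bot_smul]; rfl
    rw [h0]
    exact ⟨inferInstance, by simp⟩
  -- a maximal ideal strictly below `I`
  have hnoeth : IsNoetherianRing B :=
    isNoetherian_of_tower k (isNoetherian_of_isNoetherianRing_of_finite k B)
  have hwf : WellFoundedGT (Ideal B) := inferInstance
  obtain ⟨J, hJI, hJmax⟩ := hwf.wf.has_min {J : Ideal B | J < I} ⟨⊥, bot_lt_iff_ne_bot.mpr hbot⟩
  have hJI' : J < I := hJI
  have hmax : ∀ J' : Ideal B, J < J' → J' ≤ I → J' = I := by
    intro J' h1 h2
    by_contra hne
    exact hJmax J' (lt_of_le_of_ne h2 hne) h1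
  obtain ⟨x₀, hx₀I, hx₀J⟩ := SetLike.exists_of_lt hJI'
  -- the colon ideal
  set q : Ideal B := J.colon {x₀} with hq
  have hqmem : ∀ b : B, b ∈ q ↔ b * x₀ ∈ J := fun b => by
    rw [hq, Submodule.mem_colon_singleton, smul_eq_mul]
  have hqmax : q.IsMaximal := by
    rw [Ideal.isMaximal_iff]
    refine ⟨fun h1 => hx₀J (by simpa using (hqmem 1).mp h1), ?_⟩
    intro Q b hqQ hbq hbQ
    have hbx : b * x₀ ∉ J := fun h => hbq ((hqmem b).mpr h)
    have hbxI : b * x₀ ∈ I := I.mul_mem_left b hx₀I
    have hsup : J ⊔ Ideal.span {b * x₀} = I := by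
      refine hmax _ ?_ (sup_le hJI'.le ((Ideal.span_singleton_le_iff_mem I).mpr hbxI))
      refine lt_of_le_of_ne le_sup_left (fun h => hbx ?_)
      rw [h]
      exact Ideal.mem_sup_right (Ideal.mem_span_singleton_self _)
    have hx₀' : x₀ ∈ J ⊔ Ideal.span {b * x₀} := hsup ▸ hx₀I
    obtain ⟨j, hj, y, hy, hjy⟩ := Submodule.mem_sup.mp hx₀'
    obtain ⟨c, rfl⟩ := Ideal.mem_span_singleton'.mp hy
    have h1 : (1 - c * b) ∈ q := by
      rw [hqmem]
      have : (1 - c * b) * x₀ = j := by linear_combination (-1 : B) * hjy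
      rw [this]; exact hj
    have : (1 : B) = (1 - c * b) + c * b := by ring
    rw [this]
    exact Q.add_mem (hqQ h1) (Q.mul_mem_left c hbQ)
  obtain ⟨s, hs⟩ := hF q hqmax
  have hJx : J ⊔ Ideal.span {x₀} = I := by
    refine hmax _ ?_ (sup_le hJI'.le ((Ideal.span_singleton_le_iff_mem I).mpr hx₀I))
    refine lt_of_le_of_ne le_sup_left (fun h => hx₀J ?_)
    rw [h]
    exact Ideal.mem_sup_right (Ideal.mem_span_singleton_self _)
  -- `I q ⊆ J`
  have hIq : ∀ a ∈ I, ∀ c ∈ q, a * c ∈ J := by
    intro a ha c hc
    rw [← hJx] at ha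
    obtain ⟨j, hj, y, hy, rfl⟩ := Submodule.mem_sup.mp ha
    obtain ⟨e, rfl⟩ := Ideal.mem_span_singleton'.mp hy
    have h1 : j * c ∈ J := J.mul_mem_right c hj
    have h2 : e * x₀ * c = e * (c * x₀) := by ring
    rw [add_mul, h2]
    exact J.add_mem h1 (J.mul_mem_left e ((hqmem c).mp hc))
  -- a `k`-complement of `J` in `I`
  set Jk : Submodule k B := J.restrictScalars k with hJk
  set Ik : Submodule k B := I.restrictScalars k with hIk
  have hJkIk : Jk < Ik :=
    SetLike.lt_iff_le_and_exists.mpr ⟨fun x hx => hJI'.le hx, x₀, hx₀I, hx₀J⟩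
  obtain ⟨W₀, hW₀⟩ := Submodule.exists_isCompl Jk
  set W : Submodule k B := W₀ ⊓ Ik with hW
  have hJW : Jk ⊔ W = Ik := by
    rw [hW, ← sup_inf_assoc_of_le W₀ hJkIk.le, hW₀.sup_eq_top, top_inf_eq]
  have hJWinf : Jk ⊓ W = ⊥ := by
    rw [hW, ← inf_assoc, hW₀.inf_eq_bot, bot_inf_eq]
  have hdim : finrank k Jk + finrank k W = finrank k Ik := by
    have := Submodule.finrank_sup_add_finrank_inf_eq Jk W
    rw [hJW, hJWinf, finrank_bot, add_zero] at this
    exact this.symm
  have hJlt : finrank k Jk < d := hI ▸ Submodule.finrank_lt_finrank_of_lt hJkIk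
  obtain ⟨hfinJ, hrankJ⟩ := ih _ hJlt J rfl
  -- the linear map `Φ`
  let Φ : (Fin n → W) →ₗ[k] M :=
    { toFun := fun w => ∑ i, ((w i : B) • s i)
      map_add' := by
        intro w w'
        simp only [Pi.add_apply, Submodule.coe_add, add_smul, Finset.sum_add_distrib]
      map_smul' := by
        intro c w
        simp only [Pi.smul_apply, Submodule.coe_smul, RingHom.id_apply, Finset.smul_sum,
          smul_assoc] }
  set NJ : Submodule k M := (J • (⊤ : Submodule B M)).restrictScalars k with hNJ
  set P : Submodule k M := NJ ⊔ LinearMap.range Φ with hP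
  have hPfin : Module.Finite k P := by
    rw [hP]
    infer_instance
  have hPrank : finrank k P ≤ n * d := by
    calc finrank k P ≤ finrank k NJ + finrank k (LinearMap.range Φ) :=
          Submodule.finrank_add_le_finrank_add_finrank _ _
      _ ≤ n * finrank k Jk + finrank k (Fin n → W) :=
          add_le_add hrankJ (LinearMap.finrank_range_le Φ)
      _ = n * finrank k Jk + n * finrank k W := by
          rw [Module.finrank_pi_fintype]; simp
      _ = n * d := by rw [← mul_add, hdim, hI]
  -- `I M ≤ P`
  have hle : (I • (⊤ : Submodule B M)).restrictScalars k ≤ P := by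
    -- first: `a • s i ∈ P` for `a ∈ I`
    have h1 : ∀ a ∈ I, ∀ i, a • s i ∈ P := by
      intro a ha i
      have ha' : a ∈ Jk ⊔ W := by rw [hJW]; exact ha
      obtain ⟨j, hj, w, hw, rfl⟩ := Submodule.mem_sup.mp ha'
      rw [add_smul]
      refine P.add_mem (Submodule.mem_sup_left ?_) (Submodule.mem_sup_right ?_)
      · exact Submodule.smul_mem_smul hj Submodule.mem_top
      · refine ⟨Pi.single i ⟨w, hw⟩, ?_⟩
        change ∑ i', (((Pi.single i (⟨w, hw⟩ : W) : Fin n → W) i' : W) : B) • s i' = w • s i
        rw [Finset.sum_eq_single i]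
        · simp
        · intro i' _ hne
          simp [Pi.single_eq_of_ne hne]
        · intro h; exact absurd (Finset.mem_univ i) h
    -- then: `a • u ∈ P` for `u` in the span
    have h2 : ∀ u ∈ Submodule.span B (Set.range s), ∀ a ∈ I, a • u ∈ P := by
      intro u hu
      induction hu using Submodule.span_induction with
      | mem x hx =>
        obtain ⟨i, rfl⟩ := hx
        exact fun a ha => h1 a ha i
      | zero => intro a _; simp
      | add x y _ _ hx hy =>
        intro a ha
        rw [smul_add]
        exact P.add_mem (hx a ha) (hy a ha)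
      | smul b x _ hx =>
        intro a ha
        rw [smul_smul]
        exact hx _ (I.mul_mem_right b ha)
    -- and `a • m' ∈ J M` for `m' ∈ q M`
    have h3 : ∀ m' ∈ q • (⊤ : Submodule B M), ∀ a ∈ I, a • m' ∈ P := by
      intro m' hm' a ha
      refine Submodule.mem_sup_left ?_
      change a • m' ∈ J • (⊤ : Submodule B M)
      refine Submodule.smul_induction_on hm' (fun c hc m₁ _ => ?_) (fun x y hx hy => ?_)
      · rw [smul_smul]
        exact Submodule.smul_mem_smul (hIq a ha c hc) Submodule.mem_top
      · rw [smul_add]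
        exact Submodule.add_mem _ hx hy
    intro x hx
    change x ∈ I • (⊤ : Submodule B M) at hx
    refine Submodule.smul_induction_on hx (fun a ha m _ => ?_) (fun x y hx hy => P.add_mem hx hy)
    have hm : m ∈ Submodule.span B (Set.range s) ⊔ q • (⊤ : Submodule B M) := by
      rw [hs]; exact Submodule.mem_top
    obtain ⟨u, hu, m', hm', rfl⟩ := Submodule.mem_sup.mp hm
    rw [smul_add]
    exact P.add_mem (h2 u hu a ha) (h3 m' hm' a ha)
  refine ⟨?_, (Submodule.finrank_mono hle).trans hPrank⟩
  exact Module.Finite.of_injective (Submodule.inclusion hle) (Submodule.inclusion_injective hle)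

end

end Groth.Agent.Lib.Helper37

namespace Groth.Agent.Lib.Helper37

open Module TensorProduct

section

variable {k B M : Type*} [Field k] [CommRing B] [Algebra k B] [Module.Finite k B]
  [AddCommGroup M] [Module B M] [Module k M] [IsScalarTower k B M]

/-- Let `B` be a finite-dimensional algebra over a field `k` and `M` a `B`-module such that for
every maximal ideal `q` of `B` the module `M / qM` is generated by at most `n` elements. Then `M`
has dimension at most `n * dim_k B` over `k`. -/
theorem finite_and_finrank_le_of_fibre_generators (n : ℕ)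
    (hF : ∀ q : Ideal B, q.IsMaximal →
      ∃ s : Fin n → M, Submodule.span B (Set.range s) ⊔ q • (⊤ : Submodule B M) = ⊤) :
    Module.Finite k M ∧ finrank k M ≤ n * finrank k B := by
  obtain ⟨h1, h2⟩ := finrank_smul_top_le_aux (k := k) n hF _ (⊤ : Ideal B) rfl
  have htop : ((⊤ : Ideal B) • (⊤ : Submodule B M)).restrictScalars k = ⊤ := by
    rw [Submodule.top_smul]; rfl
  rw [htop] at h1 h2
  have htop' : (⊤ : Ideal B).restrictScalars k = ⊤ := rfl
  rw [htop', finrank_top, finrank_top] at h2
  exact ⟨Module.Finite.equiv (Submodule.topEquiv (R := k) (M := M)), h2⟩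

end

section

variable {B C D : Type*} [CommRing B] [CommRing C] [CommRing D]
  (q : Ideal B) [hq : q.IsMaximal] [Algebra B C] [Algebra (B ⧸ q) D] [Algebra C D] [Algebra B D]
  [IsScalarTower B C D] [IsScalarTower B (B ⧸ q) D] [Algebra.IsPushout B (B ⧸ q) C D]

/-- If `D = (B / q) ⊗_B C` has dimension at most `n` over the field `B / q`, then `C / qC` is
generated by at most `n` elements as a `B`-module. -/
theorem exists_generators_of_isPushout_quotient (n : ℕ)
    (hfin : Module.Finite (B ⧸ q) D) (hrank : finrank (B ⧸ q) D ≤ n) :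
    ∃ s : Fin n → C, Submodule.span B (Set.range s) ⊔ q • (⊤ : Submodule B C) = ⊤ := by
  letI := Ideal.Quotient.field q
  let e := Algebra.IsPushout.equiv B (B ⧸ q) C D
  -- surjectivity of `C → D`
  have hsurj : Function.Surjective (algebraMap C D) := by
    intro d
    obtain ⟨t, rfl⟩ := e.surjective d
    induction t with
    | zero => exact ⟨0, by simp⟩
    | add x y hx hy =>
      obtain ⟨a, ha⟩ := hx
      obtain ⟨b, hb⟩ := hy
      exact ⟨a + b, by rw [map_add, map_add, ha, hb]⟩
    | tmul l c =>
      obtain ⟨b, rfl⟩ := Ideal.Quotient.mk_surjective l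
      refine ⟨b • c, ?_⟩
      rw [Algebra.IsPushout.equiv_tmul, Algebra.smul_def, map_mul,
        ← IsScalarTower.algebraMap_apply B C D, IsScalarTower.algebraMap_apply B (B ⧸ q) D]
      rfl
  -- the kernel of `C → D`
  have hker : ∀ c : C, algebraMap C D c = 0 → c ∈ q • (⊤ : Submodule B C) := by
    intro c hc
    have h1 : e (1 ⊗ₜ c) = 0 := by rw [Algebra.IsPushout.equiv_tmul, map_one, one_mul, hc]
    have h2 : (1 : B ⧸ q) ⊗ₜ[B] c = 0 := by
      have := e.injective (h1.trans (map_zero e).symm)
      exact this
    have h3 := congrArg (TensorProduct.quotTensorEquivQuotSMul C q) h2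
    rw [TensorProduct.quotTensorEquivQuotSMul_mk_one_tmul, map_zero] at h3
    exact (Submodule.Quotient.mk_eq_zero _).mp h3
  -- a basis of `D`
  let bas := Module.finBasis (B ⧸ q) D
  choose lift hlift using fun i => hsurj (bas i)
  let s : Fin n → C := fun i =>
    if h : i.1 < finrank (B ⧸ q) D then lift ⟨i.1, h⟩ else 0
  refine ⟨s, eq_top_iff.mpr fun c _ => ?_⟩
  have hc := bas.sum_repr (algebraMap C D c)
  choose coef hcoef using fun i => Ideal.Quotient.mk_surjective (bas.repr (algebraMap C D c) i)
  let c₀ : C := ∑ i, coef i • lift i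
  have hc₀ : algebraMap C D c₀ = algebraMap C D c := by
    rw [← hc, map_sum]
    refine Finset.sum_congr rfl fun i _ => ?_
    rw [Algebra.smul_def, map_mul, ← IsScalarTower.algebraMap_apply B C D,
      IsScalarTower.algebraMap_apply B (B ⧸ q) D, hlift, ← hcoef, Algebra.smul_def]
    rfl
  have hdecomp : c = c₀ + (c - c₀) := by ring
  rw [hdecomp]
  refine Submodule.add_mem _ (Submodule.mem_sup_left ?_)
    (Submodule.mem_sup_right (hker _ (by rw [map_sub, hc₀, sub_self])))
  refine Submodule.sum_mem _ fun i _ => Submodule.smul_mem _ _ (Submodule.subset_span ?_)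
  refine ⟨⟨i.1, i.2.trans_le hrank⟩, ?_⟩
  simp only [s, i.2, dite_true]

end

end Groth.Agent.Lib.Helper37
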