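import Mathlib

/-!
# Density in fibre products over a field-like base (helper37)
-/

set_option autoImplicit false
universe u

namespace Groth.Agent.Lib.Helper37.TD

open CategoryTheory CategoryTheory.Limits AlgebraicGeometry

variable {X₁ X₂ B : Scheme.{u}} (f₁ : X₁ ⟶ B) (f₂ : X₂ ⟶ B)

/-- closure in the second factor, when the first factor is the range of a morphism which is
universally open over the base. -/
theorem inter_preimage_closure_subset_right {T₁ : Scheme.{u}} (a₁ : T₁ ⟶ X₁)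
    [UniversallyOpen (a₁ ≫ f₁)] (A₂ : Set X₂) :
    (pullback.fst f₁ f₂) ⁻¹' Set.range a₁ ∩ (pullback.snd f₁ f₂) ⁻¹' closure A₂ ⊆
      closure ((pullback.fst f₁ f₂) ⁻¹' Set.range a₁ ∩ (pullback.snd f₁ f₂) ⁻¹' A₂) := by
  let q : pullback (a₁ ≫ f₁) f₂ ⟶ pullback f₁ f₂ :=
    pullback.map (a₁ ≫ f₁) f₂ f₁ f₂ a₁ (𝟙 _) (𝟙 _) (by rw [Category.comp_id])
      (by rw [Category.comp_id, Category.id_comp])
  have hq : Set.range q = (pullback.fst f₁ f₂) ⁻¹' Set.range a₁ := by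
    rw [Scheme.Pullback.range_map]
    simp
  have hqs : q ≫ pullback.snd f₁ f₂ = pullback.snd (a₁ ≫ f₁) f₂ := by
    simp only [q, pullback.lift_snd, Category.comp_id]
  have hopen : IsOpenMap (pullback.snd (a₁ ≫ f₁) f₂) := (pullback.snd (a₁ ≫ f₁) f₂).isOpenMap
  rintro w ⟨hw1, hw2⟩
  rw [← hq] at hw1
  obtain ⟨v, rfl⟩ := hw1
  have hv : v ∈ (pullback.snd (a₁ ≫ f₁) f₂) ⁻¹' closure A₂ := by
    show (pullback.snd (a₁ ≫ f₁) f₂) v ∈ closure A₂
    rw [← hqs, Scheme.Hom.comp_apply]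
    exact hw2
  rw [hopen.preimage_closure_eq_closure_preimage (pullback.snd (a₁ ≫ f₁) f₂).continuous] at hv
  have h1 := image_closure_subset_closure_image q.continuous ⟨v, hv, rfl⟩
  refine closure_mono ?_ h1
  rintro _ ⟨v', hv', rfl⟩
  refine ⟨?_, ?_⟩
  · rw [← hq]; exact ⟨v', rfl⟩
  · show (pullback.snd f₁ f₂) (q v') ∈ A₂
    rw [← Scheme.Hom.comp_apply, hqs]
    exact hv'

theorem inter_preimage_closure_subset_left {T₂ : Scheme.{u}} (a₂ : T₂ ⟶ X₂)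
    [UniversallyOpen (a₂ ≫ f₂)] (A₁ : Set X₁) :
    (pullback.fst f₁ f₂) ⁻¹' closure A₁ ∩ (pullback.snd f₁ f₂) ⁻¹' Set.range a₂ ⊆
      closure ((pullback.fst f₁ f₂) ⁻¹' A₁ ∩ (pullback.snd f₁ f₂) ⁻¹' Set.range a₂) := by
  let q : pullback f₁ (a₂ ≫ f₂) ⟶ pullback f₁ f₂ :=
    pullback.map f₁ (a₂ ≫ f₂) f₁ f₂ (𝟙 _) a₂ (𝟙 _) (by rw [Category.comp_id, Category.id_comp])
      (by rw [Category.comp_id])
  have hq : Set.range q = (pullback.snd f₁ f₂) ⁻¹' Set.range a₂ := by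
    rw [Scheme.Pullback.range_map]
    simp
  have hqs : q ≫ pullback.fst f₁ f₂ = pullback.fst f₁ (a₂ ≫ f₂) := by
    simp only [q, pullback.lift_fst, Category.comp_id]
  have hopen : IsOpenMap (pullback.fst f₁ (a₂ ≫ f₂)) := (pullback.fst f₁ (a₂ ≫ f₂)).isOpenMap
  rintro w ⟨hw1, hw2⟩
  rw [← hq] at hw2
  obtain ⟨v, rfl⟩ := hw2
  have hv : v ∈ (pullback.fst f₁ (a₂ ≫ f₂)) ⁻¹' closure A₁ := by
    show (pullback.fst f₁ (a₂ ≫ f₂)) v ∈ closure A₁
    rw [← hqs, Scheme.Hom.comp_apply]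
    exact hw1
  rw [hopen.preimage_closure_eq_closure_preimage (pullback.fst f₁ (a₂ ≫ f₂)).continuous] at hv
  have h1 := image_closure_subset_closure_image q.continuous ⟨v, hv, rfl⟩
  refine closure_mono ?_ h1
  rintro _ ⟨v', hv', rfl⟩
  refine ⟨?_, ?_⟩
  · show (pullback.fst f₁ f₂) (q v') ∈ A₁
    rw [← Scheme.Hom.comp_apply, hqs]
    exact hv'
  · rw [← hq]; exact ⟨v', rfl⟩

/-- the product of the closures of two ranges is contained in the closure of the product. -/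
theorem preimage_closure_inter_subset {T₁ T₂ Z₂ : Scheme.{u}} (a₁ : T₁ ⟶ X₁) (a₂ : T₂ ⟶ X₂)
    (ι₂ : Z₂ ⟶ X₂) (hι₂ : Set.range ι₂ = closure (Set.range a₂))
    [UniversallyOpen (a₁ ≫ f₁)] [UniversallyOpen (ι₂ ≫ f₂)] :
    (pullback.fst f₁ f₂) ⁻¹' closure (Set.range a₁) ∩
        (pullback.snd f₁ f₂) ⁻¹' closure (Set.range a₂) ⊆
      closure ((pullback.fst f₁ f₂) ⁻¹' Set.range a₁ ∩ (pullback.snd f₁ f₂) ⁻¹' Set.range a₂) := by
  have h1 := inter_preimage_closure_subset_left f₁ f₂ ι₂ (Set.range a₁)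
  have h2 := inter_preimage_closure_subset_right f₁ f₂ a₁ (Set.range a₂)
  rw [hι₂] at h1
  exact h1.trans (closure_minimal h2 isClosed_closure)

end Groth.Agent.Lib.Helper37.TD
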