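import Groth.Agent.Lib.Helper37.Groupoid

/-!
# Sub-groupoids along a monomorphism, and compatibilities of groupoid morphisms (helper37)
-/

set_option autoImplicit false
universe u

namespace Groth.Agent.Lib.Helper37.SubG

open CategoryTheory CategoryTheory.Limits AlgebraicGeometry Grpd

variable {S : Scheme.{u}}

section Hom

variable {G₁ G₂ : GroupoidScheme S} (f : GroupoidScheme.Hom G₁ G₂)

lemma hom_gcomp {T : Scheme.{u}} (α β : T ⟶ G₁.R) (h : α ≫ G₁.s = β ≫ G₁.t)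
    (h' : (α ≫ f.fR) ≫ G₂.s = (β ≫ f.fR) ≫ G₂.t) :
    gcomp G₁ α β h ≫ f.fR = gcomp G₂ (α ≫ f.fR) (β ≫ f.fR) h' :=
  f.comm_c α β h

/-- a morphism of groupoids commutes with the identities. -/
lemma hom_e : G₁.e ≫ f.fR = f.fU ≫ G₂.e := by
  have hs : (G₁.e ≫ f.fR) ≫ G₂.s = f.fU := by
    rw [Category.assoc, f.comm_s, ← Category.assoc, G₁.e_s, Category.id_comp]
  have ht : (G₁.e ≫ f.fR) ≫ G₂.t = f.fU := by
    rw [Category.assoc, f.comm_t, ← Category.assoc, G₁.e_t, Category.id_comp]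
  have h₁ : G₁.e ≫ G₁.s = G₁.e ≫ G₁.t := by rw [G₁.e_s, G₁.e_t]
  have e1 : gcomp G₁ G₁.e G₁.e h₁ = G₁.e :=
    gcomp_e G₁ G₁.e G₁.e (by rw [← Category.assoc, G₁.e_s, Category.id_comp]) h₁
  have h₂ : (G₁.e ≫ f.fR) ≫ G₂.s = (G₁.e ≫ f.fR) ≫ G₂.t := by rw [hs, ht]
  have e2 : gcomp G₂ (G₁.e ≫ f.fR) (G₁.e ≫ f.fR) h₂ = G₁.e ≫ f.fR := by
    rw [← hom_gcomp f G₁.e G₁.e h₁ h₂, e1]
  have h₃ : gcomp G₂ (G₁.e ≫ f.fR) (G₁.e ≫ f.fR) h₂ ≫ G₂.s = ((G₁.e ≫ f.fR) ≫ G₂.i) ≫ G₂.t := by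
    rw [gcomp_s, Category.assoc _ G₂.i, G₂.i_t]
  have e3 := gcomp_gcomp_i G₂ (G₁.e ≫ f.fR) (G₁.e ≫ f.fR) h₂ h₃
  have h₄ : (G₁.e ≫ f.fR) ≫ G₂.s = ((G₁.e ≫ f.fR) ≫ G₂.i) ≫ G₂.t := by
    rw [Category.assoc _ G₂.i, G₂.i_t]
  rw [gcomp_congr G₂ e2 rfl h₃ h₄, gcomp_i G₂ _ _ rfl, ← Category.assoc, ht] at e3
  exact e3.symm

/-- a morphism of groupoids commutes with the inverses. -/
lemma hom_i : G₁.i ≫ f.fR = f.fR ≫ G₂.i := by
  have h₁ : G₁.i ≫ G₁.s = 𝟙 G₁.R ≫ G₁.t := by rw [G₁.i_s, Category.id_comp]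
  have e1 : gcomp G₁ G₁.i (𝟙 G₁.R) h₁ = G₁.s ≫ G₁.e := by
    have := i_gcomp G₁ (𝟙 G₁.R) G₁.i (Category.id_comp _).symm h₁
    rw [this, Category.id_comp]
  have h₂ : (G₁.i ≫ f.fR) ≫ G₂.s = (𝟙 G₁.R ≫ f.fR) ≫ G₂.t := by
    rw [Category.assoc, f.comm_s, ← Category.assoc, G₁.i_s, Category.id_comp, f.comm_t]
  have e2 : gcomp G₂ (G₁.i ≫ f.fR) (𝟙 G₁.R ≫ f.fR) h₂ = (G₁.s ≫ G₁.e) ≫ f.fR := by
    rw [← hom_gcomp f G₁.i (𝟙 G₁.R) h₁ h₂, e1]
  have h₃ : gcomp G₂ (G₁.i ≫ f.fR) (𝟙 G₁.R ≫ f.fR) h₂ ≫ G₂.s =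
      ((𝟙 G₁.R ≫ f.fR) ≫ G₂.i) ≫ G₂.t := by
    rw [gcomp_s, Category.assoc _ G₂.i, G₂.i_t]
  have e3 := gcomp_gcomp_i G₂ (G₁.i ≫ f.fR) (𝟙 G₁.R ≫ f.fR) h₂ h₃
  have e4 : (G₁.s ≫ G₁.e) ≫ f.fR = ((𝟙 G₁.R ≫ f.fR) ≫ G₂.i) ≫ G₂.t ≫ G₂.e := by
    rw [Category.assoc, hom_e f, Category.id_comp, Category.assoc f.fR, ← Category.assoc G₂.i,
      G₂.i_t, ← Category.assoc f.fR, f.comm_s, Category.assoc]
  have h₄ : ((G₁.s ≫ G₁.e) ≫ f.fR) ≫ G₂.s = ((𝟙 G₁.R ≫ f.fR) ≫ G₂.i) ≫ G₂.t := by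
    rw [e4]
    simp only [Category.assoc, G₂.e_s, Category.comp_id]
  rw [gcomp_congr G₂ e2 rfl h₃ h₄, e_gcomp G₂ _ _ e4, Category.id_comp] at e3
  exact e3.symm

end Hom

section Sub

variable (G : GroupoidScheme S) {Z : Scheme.{u}} (ι : Z ⟶ G.R) [Mono ι]
  (e' : G.U ⟶ Z) (he : e' ≫ ι = G.e)
  (i' : Z ⟶ Z) (hi : i' ≫ ι = ι ≫ G.i)
  (c' : pullback (ι ≫ G.s) (ι ≫ G.t) ⟶ Z)
  (hc : c' ≫ ι = pullback.map (ι ≫ G.s) (ι ≫ G.t) G.s G.t ι ι (𝟙 _)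
    (by rw [Category.comp_id]) (by rw [Category.comp_id]) ≫ G.c)

omit [Mono ι] in
include hc in
lemma lift_c'_ι {T : Scheme.{u}} (α β : T ⟶ Z) (h : α ≫ ι ≫ G.s = β ≫ ι ≫ G.t) :
    (pullback.lift α β h ≫ c') ≫ ι =
      gcomp G (α ≫ ι) (β ≫ ι) (by rw [Category.assoc, Category.assoc, h]) := by
  rw [Category.assoc, hc, ← Category.assoc]
  unfold gcomp
  congr 1
  apply pullback.hom_ext
  · rw [Category.assoc, pullback.lift_fst, pullback.lift_fst, ← Category.assoc, pullback.lift_fst]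
  · rw [Category.assoc, pullback.lift_snd, pullback.lift_snd, ← Category.assoc, pullback.lift_snd]

/-- The sub-groupoid with arrows `Z`. -/
noncomputable def subGrpd : GroupoidScheme S where
  U := G.U
  R := Z
  pU := G.pU
  pR := ι ≫ G.pR
  s := ι ≫ G.s
  t := ι ≫ G.t
  e := e'
  i := i'
  c := c'
  s_over := by rw [Category.assoc, G.s_over]
  t_over := by rw [Category.assoc, G.t_over]
  comp_s := fun α β h => by
    rw [← Category.assoc, lift_c'_ι G ι c' hc α β h, gcomp_s, Category.assoc]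
  comp_t := fun α β h => by
    rw [← Category.assoc, lift_c'_ι G ι c' hc α β h, gcomp_t, Category.assoc]
  assoc := fun α β γ h₁ h₂ => by
    rw [← cancel_mono ι]
    refine (lift_c'_ι G ι c' hc _ _ _).trans (Eq.trans ?_ (lift_c'_ι G ι c' hc _ _ _).symm)
    have e1 := lift_c'_ι G ι c' hc α β h₁
    have e2 := lift_c'_ι G ι c' hc β γ h₂
    have k₁ : (α ≫ ι) ≫ G.s = (β ≫ ι) ≫ G.t := by rw [Category.assoc, Category.assoc, h₁]
    have k₂ : (β ≫ ι) ≫ G.s = (γ ≫ ι) ≫ G.t := by rw [Category.assoc, Category.assoc, h₂]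
    refine (gcomp_congr G e1 rfl _ (by rw [gcomp_s]; exact k₂)).trans
      (Eq.trans ?_ (gcomp_congr G rfl e2 _ (by rw [gcomp_t]; exact k₁)).symm)
    exact gcomp_assoc G _ _ _ _ _ _ _
  e_s := by rw [← Category.assoc, he, G.e_s]
  e_t := by rw [← Category.assoc, he, G.e_t]
  comp_e := fun α => by
    rw [← cancel_mono ι, lift_c'_ι G ι c' hc]
    refine gcomp_e G _ _ ?_ _
    rw [Category.assoc, Category.assoc, Category.assoc, Category.assoc, he]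
  e_comp := fun α => by
    rw [← cancel_mono ι, lift_c'_ι G ι c' hc]
    refine e_gcomp G _ _ ?_ _
    rw [Category.assoc, Category.assoc, Category.assoc, Category.assoc, he]
  i_s := by rw [← Category.assoc, hi, Category.assoc, G.i_s]
  i_t := by rw [← Category.assoc, hi, Category.assoc, G.i_t]
  comp_i := fun α => by
    rw [← cancel_mono ι, lift_c'_ι G ι c' hc]
    rw [gcomp_i G _ _ (by rw [Category.assoc, hi, Category.assoc])]
    simp only [Category.assoc, he]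
  i_comp := fun α => by
    rw [← cancel_mono ι, lift_c'_ι G ι c' hc]
    rw [i_gcomp G _ _ (by rw [Category.assoc, hi, Category.assoc])]
    simp only [Category.assoc, he]

/-- The inclusion of the sub-groupoid. -/
noncomputable def subGrpdHom : GroupoidScheme.Hom (subGrpd G ι e' he i' hi c' hc) G where
  fU := 𝟙 _
  fR := ι
  fU_over := Category.id_comp _
  comm_s := (Category.comp_id _).symm
  comm_t := (Category.comp_id _).symm
  comm_c := fun α β h => lift_c'_ι G ι c' hc α β h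

/-- lifting a morphism of groupoids to the sub-groupoid. -/
noncomputable def liftHom {G₁ : GroupoidScheme S} (f : GroupoidScheme.Hom G₁ G) (g : G₁.R ⟶ Z)
    (hg : g ≫ ι = f.fR) : GroupoidScheme.Hom G₁ (subGrpd G ι e' he i' hi c' hc) where
  fU := f.fU
  fR := g
  fU_over := f.fU_over
  comm_s := by
    show g ≫ ι ≫ G.s = G₁.s ≫ f.fU
    rw [← Category.assoc, hg, f.comm_s]
  comm_t := by
    show g ≫ ι ≫ G.t = G₁.t ≫ f.fU
    rw [← Category.assoc, hg, f.comm_t]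
  comm_c := fun α β h => by
    have h' : (α ≫ g) ≫ ι ≫ G.s = (β ≫ g) ≫ ι ≫ G.t := by
      rw [Category.assoc, Category.assoc, ← Category.assoc g, ← Category.assoc g, hg, f.comm_s,
        f.comm_t, ← Category.assoc, ← Category.assoc, h]
    show (pullback.lift α β h ≫ G₁.c) ≫ g = pullback.lift (α ≫ g) (β ≫ g) h' ≫ c'
    rw [← cancel_mono ι]
    refine Eq.trans ?_ (lift_c'_ι G ι c' hc _ _ h').symm
    rw [Category.assoc, hg]
    refine (f.comm_c α β h).trans ?_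
    apply gcomp_congr
    · rw [Category.assoc, hg]
    · rw [Category.assoc, hg]

end Sub

end Groth.Agent.Lib.Helper37.SubG
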