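import Mathlib
import Groth.Agent.Lib.Helper37.SubGrpd
import Groth.Agent.Lib.Helper37.ProdDense
import Groth.Agent.Lib.Helper19.Subscheme

/-!
# The reduced closure of the image of a morphism of groupoids over a perfect field (helper37)
-/

set_option autoImplicit false
universe u

namespace Groth.Agent.Lib.Helper37.SubG

open CategoryTheory CategoryTheory.Limits AlgebraicGeometry Grpd

variable {S : Scheme.{u}} {G₁ G₂ : GroupoidScheme S} (f : GroupoidScheme.Hom G₁ G₂)

/-- the closure of the image of `f.fR`. -/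
def clC : TopologicalSpace.Closeds G₂.R := ⟨closure (Set.range f.fR), isClosed_closure⟩

/-- the reduced closed subscheme on the closure of the image. -/
noncomputable abbrev clZ : Scheme.{u} := (Scheme.IdealSheafData.vanishingIdeal (clC f)).subscheme

/-- its inclusion. -/
noncomputable abbrev clι : clZ f ⟶ G₂.R := (Scheme.IdealSheafData.vanishingIdeal (clC f)).subschemeι

lemma range_clι : Set.range (clι f) = closure (Set.range f.fR) := by
  rw [Scheme.IdealSheafData.range_subschemeι, Scheme.IdealSheafData.coe_support_vanishingIdeal]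
  rfl

instance : IsReduced (clZ f) := Groth.Agent.Lib.Helper19.isReduced_subscheme_vanishingIdeal _

section

variable [IsIso f.fU]

theorem exists_cl_e' [IsReduced G₂.U] : ∃ e' : G₂.U ⟶ clZ f, e' ≫ clι f = G₂.e := by
  have h1 : G₂.e = (inv f.fU ≫ G₁.e) ≫ f.fR := by
    rw [Category.assoc, hom_e f, IsIso.inv_hom_id_assoc]
  apply Groth.Agent.Lib.Helper19.exists_lift_of_isReduced_of_range_subset
  rw [range_clι, h1, Scheme.Hom.comp_base, TopCat.coe_comp, Set.range_comp]
  exact (Set.image_subset_range _ _).trans subset_closure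

omit [IsIso f.fU] in
theorem exists_cl_i' : ∃ i' : clZ f ⟶ clZ f, i' ≫ clι f = clι f ≫ G₂.i := by
  apply Groth.Agent.Lib.Helper19.exists_lift_of_isReduced_of_range_subset
  rw [Scheme.Hom.comp_base, TopCat.coe_comp, Set.range_comp, range_clι]
  refine (image_closure_subset_closure_image G₂.i.continuous).trans (closure_mono ?_)
  rw [← Set.range_comp, ← TopCat.coe_comp, ← Scheme.Hom.comp_base, ← hom_i f,
    Scheme.Hom.comp_base, TopCat.coe_comp, Set.range_comp]
  exact Set.image_subset_range _ _

variable [Subsingleton G₂.U] [IsIntegral G₂.U]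

theorem exists_cl_c' (hred : IsReduced (pullback (clι f ≫ G₂.s) (clι f ≫ G₂.t))) :
    ∃ c' : pullback (clι f ≫ G₂.s) (clι f ≫ G₂.t) ⟶ clZ f,
    c' ≫ clι f = pullback.map (clι f ≫ G₂.s) (clι f ≫ G₂.t) G₂.s G₂.t
      (clι f) (clι f) (𝟙 _) (by rw [Category.comp_id]) (by rw [Category.comp_id]) ≫ G₂.c := by
  apply Groth.Agent.Lib.Helper19.exists_lift_of_isReduced_of_range_subset
  rw [Scheme.Hom.comp_base, TopCat.coe_comp, Set.range_comp, Scheme.Pullback.range_map,
    range_clι]
  -- the fibre square of `f.fR`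
  let aa : pullback (f.fR ≫ G₂.s) (f.fR ≫ G₂.t) ⟶ pullback G₂.s G₂.t :=
    pullback.map _ _ _ _ f.fR f.fR (𝟙 _) (by rw [Category.comp_id]) (by rw [Category.comp_id])
  have haa : Set.range aa = (pullback.fst G₂.s G₂.t) ⁻¹' Set.range f.fR ∩
      (pullback.snd G₂.s G₂.t) ⁻¹' Set.range f.fR := Scheme.Pullback.range_map _ _ _ _ _ _ _ _ _
  have hcond : pullback.fst (f.fR ≫ G₂.s) (f.fR ≫ G₂.t) ≫ G₁.s =
      pullback.snd (f.fR ≫ G₂.s) (f.fR ≫ G₂.t) ≫ G₁.t := by
    rw [← cancel_mono f.fU, Category.assoc, Category.assoc, ← f.comm_s, ← f.comm_t]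
    exact pullback.condition
  have hcomp : aa ≫ G₂.c = gcomp G₁ _ _ hcond ≫ f.fR := by
    rw [hom_gcomp f _ _ hcond (by
      rw [Category.assoc, Category.assoc]; exact pullback.condition)]
    rw [comp_c]
    apply gcomp_congr
    · simp only [aa, pullback.lift_fst]
    · simp only [aa, pullback.lift_snd]
  have hdense := TD.preimage_closure_inter_subset G₂.s G₂.t f.fR f.fR (clι f) (range_clι f)
  refine (Set.image_mono (by simpa using hdense)).trans ?_
  refine (image_closure_subset_closure_image G₂.c.continuous).trans (closure_mono ?_)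
  rw [← haa, ← Set.range_comp, ← TopCat.coe_comp, ← Scheme.Hom.comp_base, hcomp,
    Scheme.Hom.comp_base, TopCat.coe_comp, Set.range_comp]
  exact Set.image_subset_range _ _

/-- the reduced closure of the image of `f.fR`, as a groupoid on `G₂.U`. -/
noncomputable def closureGrpd (hred : IsReduced (pullback (clι f ≫ G₂.s) (clι f ≫ G₂.t))) :
    GroupoidScheme S :=
  subGrpd G₂ (clι f) (exists_cl_e' f).choose (exists_cl_e' f).choose_spec
    (exists_cl_i' f).choose (exists_cl_i' f).choose_spec (exists_cl_c' f hred).choose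
    (exists_cl_c' f hred).choose_spec

/-- the inclusion of the closure groupoid. -/
noncomputable def closureHom (hred : IsReduced (pullback (clι f ≫ G₂.s) (clι f ≫ G₂.t))) :
    GroupoidScheme.Hom (closureGrpd f hred) G₂ :=
  subGrpdHom G₂ (clι f) (exists_cl_e' f).choose (exists_cl_e' f).choose_spec
    (exists_cl_i' f).choose (exists_cl_i' f).choose_spec (exists_cl_c' f hred).choose
    (exists_cl_c' f hred).choose_spec

end

end Groth.Agent.Lib.Helper37.SubG
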