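import Mathlib
import Groth.Agent.Lib.Helper7.FlatImage

/-!
# Scheme-theoretic images and flat base change: auxiliary lemmas (helper37)
-/

set_option autoImplicit false
universe u

namespace Groth.Agent.Lib.Helper37.SI

open CategoryTheory CategoryTheory.Limits AlgebraicGeometry

/-- the map to the scheme-theoretic image is schematically dominant. -/
theorem ker_toImage {X Y : Scheme.{u}} (f : X ⟶ Y) [QuasiCompact f] : f.toImage.ker = ⊥ := by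
  refine Scheme.IdealSheafData.ext_of_iSup_eq_top
    (fun U₀ : Y.affineOpens => (⟨f.imageι ⁻¹ᵁ U₀.1, U₀.2.preimage f.imageι⟩ :
      f.image.affineOpens)) ?_ ?_
  · rw [eq_top_iff]
    intro x _
    obtain ⟨_, ⟨U₀, hU₀, rfl⟩, hx, -⟩ := Y.isBasis_affineOpens.exists_subset_of_mem_open
      (Set.mem_univ (f.imageι x)) isOpen_univ
    exact TopologicalSpace.Opens.mem_iSup.mpr ⟨⟨U₀, hU₀⟩, hx⟩
  · intro U₀
    rw [Scheme.Hom.ker_apply, Scheme.IdealSheafData.ideal_bot]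
    exact (RingHom.injective_iff_ker_eq_bot _).mp (f.toImage_app_injective U₀)

/-- flat base change of the scheme-theoretic image, for an arbitrary cartesian square. -/
theorem ker_of_isPullback {P X Y Y' : Scheme.{u}} {fst : P ⟶ X} {g' : P ⟶ Y'} {f : X ⟶ Y}
    {p : Y' ⟶ Y} (H : IsPullback fst g' f p) [QuasiCompact f] [Flat p] :
    g'.ker = f.ker.comap p := by
  have h1 : H.isoPullback.hom ≫ pullback.snd f p = g' := H.isoPullback_hom_snd
  rw [← h1, Scheme.Hom.ker_comp_of_isIso]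
  exact Groth.Agent.Lib.Helper7.ker_pullback_snd_eq_comap_ker f p

theorem ker_eq_bot_of_isPullback {P X Y Y' : Scheme.{u}} {fst : P ⟶ X} {g' : P ⟶ Y'} {f : X ⟶ Y}
    {p : Y' ⟶ Y} (H : IsPullback fst g' f p) [QuasiCompact f] [Flat p] (hf : f.ker = ⊥) :
    g'.ker = ⊥ := by
  rw [ker_of_isPullback H, hf, Scheme.IdealSheafData.comap_bot]

theorem ker_comp_eq_bot {X Y Z : Scheme.{u}} (f : X ⟶ Y) (g : Y ⟶ Z) (hf : f.ker = ⊥)
    (hg : g.ker = ⊥) : (f ≫ g).ker = ⊥ := by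
  rw [Scheme.Hom.ker_comp, hf, Scheme.IdealSheafData.map_bot, hg]

theorem ker_comp_of_ker_eq_bot {X Y Z : Scheme.{u}} (f : X ⟶ Y) (g : Y ⟶ Z) (hf : f.ker = ⊥) :
    (f ≫ g).ker = g.ker := by
  rw [Scheme.Hom.ker_comp, hf, Scheme.IdealSheafData.map_bot]

/-- a fibre product of two schematically dominant quasi-compact morphisms over a base over which
everything is flat is schematically dominant. -/
theorem ker_pullback_map_eq_bot {X₁ X₂ Z₁ Z₂ B : Scheme.{u}} (f₁ : X₁ ⟶ B) (f₂ : X₂ ⟶ B)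
    (h₁ : Z₁ ⟶ B) (h₂ : Z₂ ⟶ B) (g₁ : X₁ ⟶ Z₁) (g₂ : X₂ ⟶ Z₂)
    (e₁ : f₁ ≫ 𝟙 B = g₁ ≫ h₁) (e₂ : f₂ ≫ 𝟙 B = g₂ ≫ h₂)
    [QuasiCompact g₁] [QuasiCompact g₂] [Flat h₁] [Flat f₂]
    (k₁ : g₁.ker = ⊥) (k₂ : g₂.ker = ⊥) :
    (pullback.map f₁ f₂ h₁ h₂ g₁ g₂ (𝟙 B) e₁ e₂).ker = ⊥ := by
  -- first factor: base change of `g₁`
  let m₁ : pullback f₁ f₂ ⟶ pullback h₁ f₂ :=
    pullback.map f₁ f₂ h₁ f₂ g₁ (𝟙 _) (𝟙 B) e₁ (by rw [Category.id_comp, Category.comp_id])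
  let m₂ : pullback h₁ f₂ ⟶ pullback h₁ h₂ :=
    pullback.map h₁ f₂ h₁ h₂ (𝟙 _) g₂ (𝟙 B) (by rw [Category.id_comp, Category.comp_id]) e₂
  have hm : pullback.map f₁ f₂ h₁ h₂ g₁ g₂ (𝟙 B) e₁ e₂ = m₁ ≫ m₂ := by
    apply pullback.hom_ext
    · simp only [m₁, m₂, Category.assoc, pullback.lift_fst, Category.comp_id]
    · simp only [m₁, m₂, Category.assoc, pullback.lift_snd, pullback.lift_snd_assoc,
        Category.comp_id]
  have hm₁fst : m₁ ≫ pullback.fst h₁ f₂ = pullback.fst f₁ f₂ ≫ g₁ := pullback.lift_fst _ _ _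
  have hm₁snd : m₁ ≫ pullback.snd h₁ f₂ = pullback.snd f₁ f₂ := by
    simp only [m₁, pullback.lift_snd, Category.comp_id]
  have hm₂fst : m₂ ≫ pullback.fst h₁ h₂ = pullback.fst h₁ f₂ := by
    simp only [m₂, pullback.lift_fst, Category.comp_id]
  have hm₂snd : m₂ ≫ pullback.snd h₁ h₂ = pullback.snd h₁ f₂ ≫ g₂ := pullback.lift_snd _ _ _
  have e₁' : f₁ = g₁ ≫ h₁ := by rw [← e₁, Category.comp_id]
  have e₂' : f₂ = g₂ ≫ h₂ := by rw [← e₂, Category.comp_id]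
  have H₁ : IsPullback m₁ (pullback.fst f₁ f₂) (pullback.fst h₁ f₂) g₁ := by
    refine IsPullback.of_right ?_ hm₁fst (IsPullback.of_hasPullback h₁ f₂).flip
    rw [hm₁snd, ← e₁']
    exact (IsPullback.of_hasPullback f₁ f₂).flip
  have H₂ : IsPullback m₂ (pullback.snd h₁ f₂) (pullback.snd h₁ h₂) g₂ := by
    refine IsPullback.of_right ?_ hm₂snd (IsPullback.of_hasPullback h₁ h₂)
    rw [hm₂fst, ← e₂']
    exact IsPullback.of_hasPullback h₁ f₂
  rw [hm]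
  exact ker_comp_eq_bot _ _ (ker_eq_bot_of_isPullback H₁.flip k₁)
    (ker_eq_bot_of_isPullback H₂.flip k₂)

/-- factoring through a closed subscheme can be tested on a morphism with the same kernel. -/
theorem exists_factor {T Z X X' Z' : Scheme.{u}} (a : T ⟶ X) (ι : Z ⟶ X) (hk : ι.ker = a.ker)
    (h : X ⟶ X') (ι' : Z' ⟶ X') [IsClosedImmersion ι'] (l : T ⟶ Z') (hl : a ≫ h = l ≫ ι') :
    ∃ l' : Z ⟶ Z', l' ≫ ι' = ι ≫ h := by
  have H : ι'.ker ≤ (ι ≫ h).ker := by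
    rw [Scheme.Hom.ker_comp, hk, ← Scheme.Hom.ker_comp, hl]
    exact Scheme.Hom.le_ker_comp _ _
  exact ⟨IsClosedImmersion.lift ι' (ι ≫ h) H, IsClosedImmersion.lift_fac _ _ _⟩

end Groth.Agent.Lib.Helper37.SI
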