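import Mathlib
import Groth.Agent.Lib.Helper37.SubGrpd
import Groth.Agent.Lib.Helper37.SchImage

/-!
# The scheme-theoretic image of a morphism of groupoids over a field is a sub-groupoid (helper37)
-/

set_option autoImplicit false
universe u

namespace Groth.Agent.Lib.Helper37.SubG

open CategoryTheory CategoryTheory.Limits AlgebraicGeometry Grpd

variable {S : Scheme.{u}} {G₁ G₂ : GroupoidScheme S} (f : GroupoidScheme.Hom G₁ G₂)

section Image

variable [IsIso f.fU] [QuasiCompact f.fR]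

omit [QuasiCompact f.fR] in
theorem exists_e' : ∃ e' : G₂.U ⟶ f.fR.image, e' ≫ f.fR.imageι = G₂.e := by
  have h1 : G₂.e = (inv f.fU ≫ G₁.e) ≫ f.fR := by
    rw [Category.assoc, hom_e f, IsIso.inv_hom_id_assoc]
  have H : f.fR.imageι.ker ≤ G₂.e.ker := by
    rw [Scheme.IdealSheafData.ker_subschemeι, h1]
    exact Scheme.Hom.le_ker_comp _ _
  exact ⟨IsClosedImmersion.lift f.fR.imageι G₂.e H, IsClosedImmersion.lift_fac _ _ _⟩

omit [IsIso f.fU] [QuasiCompact f.fR] in
theorem exists_i' : ∃ i' : f.fR.image ⟶ f.fR.image, i' ≫ f.fR.imageι = f.fR.imageι ≫ G₂.i :=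
  SI.exists_factor f.fR f.fR.imageι (Scheme.IdealSheafData.ker_subschemeι _) G₂.i f.fR.imageι
    (G₁.i ≫ f.fR.toImage) (by rw [Category.assoc, f.fR.toImage_imageι, hom_i f])

variable [Subsingleton G₂.U] [IsIntegral G₂.U]

theorem exists_c' : ∃ c' : pullback (f.fR.imageι ≫ G₂.s) (f.fR.imageι ≫ G₂.t) ⟶ f.fR.image,
    c' ≫ f.fR.imageι = pullback.map (f.fR.imageι ≫ G₂.s) (f.fR.imageι ≫ G₂.t) G₂.s G₂.t
      f.fR.imageι f.fR.imageι (𝟙 _) (by rw [Category.comp_id]) (by rw [Category.comp_id]) ≫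
        G₂.c := by
  set ι := f.fR.imageι with hι
  set g := f.fR.toImage with hg
  have hgι : g ≫ ι = f.fR := f.fR.toImage_imageι
  -- the fibre square of `g`
  let gg : pullback (f.fR ≫ G₂.s) (f.fR ≫ G₂.t) ⟶ pullback (ι ≫ G₂.s) (ι ≫ G₂.t) :=
    pullback.map _ _ _ _ g g (𝟙 _) (by rw [Category.comp_id, ← Category.assoc, hgι])
      (by rw [Category.comp_id, ← Category.assoc, hgι])
  have hgg : gg.ker = ⊥ :=
    SI.ker_pullback_map_eq_bot _ _ _ _ g g _ _ (SI.ker_toImage f.fR) (SI.ker_toImage f.fR)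
  let ιι : pullback (ι ≫ G₂.s) (ι ≫ G₂.t) ⟶ pullback G₂.s G₂.t :=
    pullback.map (ι ≫ G₂.s) (ι ≫ G₂.t) G₂.s G₂.t ι ι (𝟙 _) (by rw [Category.comp_id])
      (by rw [Category.comp_id])
  -- composable pairs in `R₁`
  have hcond : pullback.fst (f.fR ≫ G₂.s) (f.fR ≫ G₂.t) ≫ G₁.s =
      pullback.snd (f.fR ≫ G₂.s) (f.fR ≫ G₂.t) ≫ G₁.t := by
    rw [← cancel_mono f.fU, Category.assoc, Category.assoc, ← f.comm_s, ← f.comm_t]
    exact pullback.condition
  have hcomp : gg ≫ ιι ≫ G₂.c = gcomp G₁ _ _ hcond ≫ f.fR := by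
    rw [hom_gcomp f _ _ hcond (by
      rw [Category.assoc, Category.assoc]; exact pullback.condition)]
    rw [← Category.assoc, comp_c]
    apply gcomp_congr
    · simp only [gg, ιι, Category.assoc, pullback.lift_fst, pullback.lift_fst_assoc, hgι]
    · simp only [gg, ιι, Category.assoc, pullback.lift_snd, pullback.lift_snd_assoc, hgι]
  have H : ι.ker ≤ (ιι ≫ G₂.c).ker := by
    rw [← SI.ker_comp_of_ker_eq_bot gg (ιι ≫ G₂.c) hgg, hcomp, hι,
      Scheme.IdealSheafData.ker_subschemeι]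
    exact Scheme.Hom.le_ker_comp _ _
  exact ⟨IsClosedImmersion.lift ι (ιι ≫ G₂.c) H, IsClosedImmersion.lift_fac _ _ _⟩

/-- the scheme-theoretic image of `f.fR`, as a groupoid on `G₂.U`. -/
noncomputable def imageGrpd : GroupoidScheme S :=
  subGrpd G₂ f.fR.imageι (exists_e' f).choose (exists_e' f).choose_spec
    (exists_i' f).choose (exists_i' f).choose_spec (exists_c' f).choose (exists_c' f).choose_spec

/-- the inclusion of the image groupoid. -/
noncomputable def imageHom : GroupoidScheme.Hom (imageGrpd f) G₂ :=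
  subGrpdHom G₂ f.fR.imageι (exists_e' f).choose (exists_e' f).choose_spec
    (exists_i' f).choose (exists_i' f).choose_spec (exists_c' f).choose (exists_c' f).choose_spec

/-- the morphism to the image groupoid. -/
noncomputable def toImageHom : GroupoidScheme.Hom G₁ (imageGrpd f) :=
  liftHom G₂ f.fR.imageι (exists_e' f).choose (exists_e' f).choose_spec
    (exists_i' f).choose (exists_i' f).choose_spec (exists_c' f).choose (exists_c' f).choose_spec
    f f.fR.toImage f.fR.toImage_imageι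

end Image

end Groth.Agent.Lib.Helper37.SubG
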