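import Mathlib
import Groth.Agent.Lib.Helper37.ImageGrpd

/-!
# The pair groupoid `U ×_S U` and the morphism `j = (t, s)` (helper37)
-/

set_option autoImplicit false
universe u

namespace Groth.Agent.Lib.Helper37.SubG

open CategoryTheory CategoryTheory.Limits AlgebraicGeometry Grpd

variable {S : Scheme.{u}}

section Pair

variable (U : Scheme.{u}) (pU : U ⟶ S)

lemma pair_cond : (pullback.fst (pullback.snd pU pU) (pullback.fst pU pU) ≫ pullback.fst pU pU) ≫ pU =
    (pullback.snd (pullback.snd pU pU) (pullback.fst pU pU) ≫ pullback.snd pU pU) ≫ pU := by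
  rw [Category.assoc, Category.assoc, pullback.condition (f := pU),
    ← Category.assoc, pullback.condition, Category.assoc, pullback.condition (f := pU)]

/-- The pair groupoid `U ×_S U ⇉ U`. -/
noncomputable def pairGrpd : GroupoidScheme S where
  U := U
  R := pullback pU pU
  pU := pU
  pR := pullback.fst pU pU ≫ pU
  s := pullback.snd pU pU
  t := pullback.fst pU pU
  e := pullback.lift (𝟙 U) (𝟙 U) rfl
  i := pullback.lift (pullback.snd pU pU) (pullback.fst pU pU) pullback.condition.symm
  c := pullback.lift (pullback.fst _ _ ≫ pullback.fst pU pU) (pullback.snd _ _ ≫ pullback.snd pU pU)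
    (pair_cond U pU)
  s_over := pullback.condition.symm
  t_over := rfl
  comp_s := fun α β h => by
    simp only [Category.assoc, pullback.lift_snd, pullback.lift_snd_assoc]
  comp_t := fun α β h => by
    simp only [Category.assoc, pullback.lift_fst, pullback.lift_fst_assoc]
  assoc := fun α β γ h₁ h₂ => by
    apply pullback.hom_ext
    · simp only [Category.assoc, pullback.lift_fst, pullback.lift_fst_assoc]
    · simp only [Category.assoc, pullback.lift_snd, pullback.lift_snd_assoc]
  e_s := pullback.lift_snd _ _ _
  e_t := pullback.lift_fst _ _ _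
  comp_e := fun α => by
    apply pullback.hom_ext
    · simp only [Category.assoc, pullback.lift_fst, pullback.lift_fst_assoc]
    · simp only [Category.assoc, pullback.lift_snd, pullback.lift_snd_assoc, Category.comp_id]
  e_comp := fun α => by
    apply pullback.hom_ext
    · simp only [Category.assoc, pullback.lift_fst, pullback.lift_fst_assoc, Category.comp_id]
    · simp only [Category.assoc, pullback.lift_snd, pullback.lift_snd_assoc]
  i_s := pullback.lift_snd _ _ _
  i_t := pullback.lift_fst _ _ _
  comp_i := fun α => by
    apply pullback.hom_ext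
    · simp only [Category.assoc, pullback.lift_fst, pullback.lift_fst_assoc, Category.comp_id]
    · simp only [Category.assoc, pullback.lift_snd, pullback.lift_snd_assoc, Category.comp_id]
  i_comp := fun α => by
    apply pullback.hom_ext
    · simp only [Category.assoc, pullback.lift_fst, pullback.lift_fst_assoc, Category.comp_id]
    · simp only [Category.assoc, pullback.lift_snd, pullback.lift_snd_assoc, Category.comp_id]

end Pair

variable (G : GroupoidScheme S)

/-- `j = (t, s)` as a morphism to the pair groupoid. -/
noncomputable def jHom : GroupoidScheme.Hom G (pairGrpd G.U G.pU) where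
  fU := 𝟙 _
  fR := G.j
  fU_over := Category.id_comp _
  comm_s := by
    show G.j ≫ pullback.snd G.pU G.pU = G.s ≫ 𝟙 _
    rw [GroupoidScheme.j, pullback.lift_snd, Category.comp_id]
  comm_t := by
    show G.j ≫ pullback.fst G.pU G.pU = G.t ≫ 𝟙 _
    rw [GroupoidScheme.j, pullback.lift_fst, Category.comp_id]
  comm_c := fun α β h => by
    have h' : (α ≫ G.j) ≫ pullback.snd G.pU G.pU = (β ≫ G.j) ≫ pullback.fst G.pU G.pU := by
      rw [Category.assoc, Category.assoc, GroupoidScheme.j, pullback.lift_snd, pullback.lift_fst, h]
    show (pullback.lift α β h ≫ G.c) ≫ G.j = pullback.lift (α ≫ G.j) (β ≫ G.j) h' ≫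
      pullback.lift (pullback.fst _ _ ≫ pullback.fst G.pU G.pU)
        (pullback.snd _ _ ≫ pullback.snd G.pU G.pU) (pair_cond G.U G.pU)
    apply pullback.hom_ext
    · have e1 : ((pullback.lift α β h ≫ G.c) ≫ G.j) ≫ pullback.fst G.pU G.pU =
          (pullback.lift α β h ≫ G.c) ≫ G.t := by
        rw [Category.assoc, GroupoidScheme.j, pullback.lift_fst]
      have e2 : (α ≫ G.j) ≫ pullback.fst G.pU G.pU = α ≫ G.t := by
        rw [Category.assoc, GroupoidScheme.j, pullback.lift_fst]
      refine e1.trans ((G.comp_t α β h).trans ?_)
      rw [Category.assoc, pullback.lift_fst, ← Category.assoc, pullback.lift_fst, e2]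
    · have e1 : ((pullback.lift α β h ≫ G.c) ≫ G.j) ≫ pullback.snd G.pU G.pU =
          (pullback.lift α β h ≫ G.c) ≫ G.s := by
        rw [Category.assoc, GroupoidScheme.j, pullback.lift_snd]
      have e2 : (β ≫ G.j) ≫ pullback.snd G.pU G.pU = β ≫ G.s := by
        rw [Category.assoc, GroupoidScheme.j, pullback.lift_snd]
      refine e1.trans ((G.comp_s α β h).trans ?_)
      rw [Category.assoc, pullback.lift_snd, ← Category.assoc, pullback.lift_snd, e2]

end Groth.Agent.Lib.Helper37.SubG
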