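import Mathlib
import Groth.Agent.Lib.Helper37.ClosureGrpd
import Groth.Agent.Lib.Helper37.PairGrpd
import Groth.Agent.Lib.Helper62.PerfectReducedGen

set_option autoImplicit false
universe u

namespace Groth.Agent.Lib.Helper37.SubG

open CategoryTheory CategoryTheory.Limits AlgebraicGeometry Grpd

theorem isReduced_pullback_of_perfectField {k : Type u} [Field k] [PerfectField k]
    {U X Y : Scheme.{u}} (eU : U ≅ Spec (CommRingCat.of k)) (f : X ⟶ U) (g : Y ⟶ U)
    [IsReduced X] [IsReduced Y] : IsReduced (pullback f g) := by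
  let θ : pullback f g ⟶ pullback (f ≫ eU.hom) (g ≫ eU.hom) :=
    pullback.map _ _ _ _ (𝟙 _) (𝟙 _) eU.hom (by rw [Category.id_comp]) (by rw [Category.id_comp])
  have : IsIso θ := inferInstance
  have h1 : GeometricallyReduced (f ≫ eU.hom) :=
    Groth.Agent.Lib.Helper62.geometricallyReduced_of_isReduced_of_perfectField _
  have h2 : IsReduced (pullback (f ≫ eU.hom) (g ≫ eU.hom)) := Groth.Agent.S4628.result _ _
  exact isReduced_of_isOpenImmersion θ

end Groth.Agent.Lib.Helper37.SubG
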