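import Mathlib
import Groth.Agent.Lib.Helper70.LangTop

set_option autoImplicit false
universe u

namespace Groth.Agent.Lib.Helper37.AL

open Polynomial PrimeSpectrum

/-- In a domain finitely generated over a field `k₁`, every element of any subfield is algebraic
over `k₁`. -/
theorem isAlgebraic_of_ringHom_field {k₁ B k₂ : Type*} [Field k₁] [CommRing B] [IsDomain B]
    [Algebra k₁ B] [Algebra.FiniteType k₁ B] [Field k₂] (φ : k₂ →+* B) (a : k₂) :
    IsAlgebraic k₁ (φ a) := by
  by_contra htr
  have hinj : Function.Injective (aeval (R := k₁) (φ a)) := transcendental_iff_injective.mp htr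
  set ψ : k₁[X] →+* B := (aeval (R := k₁) (φ a)).toRingHom with hψ
  have hψinj : Function.Injective ψ := hinj
  have hft : ψ.FiniteType := by
    have h1 : (ψ.comp (C : k₁ →+* k₁[X])).FiniteType := by
      have : ψ.comp (C : k₁ →+* k₁[X]) = algebraMap k₁ B := by
        ext x
        simp [hψ]
      rw [this]
      exact RingHom.finiteType_algebraMap.mpr inferInstance
    exact RingHom.FiniteType.of_comp_finiteType h1
  have hfp : ψ.FinitePresentation := RingHom.FinitePresentation.of_finiteType.mp hft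
  have hcons := PrimeSpectrum.isConstructible_range_comap hfp
  have hbot : (⊥ : PrimeSpectrum k₁[X]) ∈ Set.range (comap ψ) := by
    refine ⟨⊥, ?_⟩
    ext x
    simp only [comap_asIdeal, Ideal.mem_comap]
    show ψ x ∈ (⊥ : Ideal B) ↔ x ∈ (⊥ : Ideal k₁[X])
    rw [Ideal.mem_bot, Ideal.mem_bot]
    exact ⟨fun h => hψinj (h.trans (map_zero ψ).symm), fun h => by rw [h, map_zero]⟩
  have hd : closure {(⊥ : PrimeSpectrum k₁[X])} = Set.univ := by
    rw [PrimeSpectrum.closure_singleton]
    show zeroLocus ((⊥ : Ideal k₁[X]) : Set k₁[X]) = Set.univ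
    simp
  obtain ⟨U, hUo, hbU, hUs⟩ :=
    Groth.Agent.Lib.Helper70.LangTop.exists_open_subset_of_dense hcons ⊥ hbot hd
  obtain ⟨_, ⟨_, ⟨g, rfl⟩, rfl⟩, hbg, hgU⟩ :=
    PrimeSpectrum.isBasis_basic_opens.exists_subset_of_mem_open hbU hUo
  have hg0 : g ≠ 0 := by
    intro h
    rw [h] at hbg
    simp at hbg
  -- choose the exponent
  obtain ⟨m, hm1, hm2⟩ : ∃ m : ℕ, g.natDegree < m ∧ (m : k₁) ≠ 0 := by
    by_cases h : ((g.natDegree + 1 : ℕ) : k₁) = 0
    · refine ⟨g.natDegree + 2, by omega, ?_⟩
      intro h2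
      have : ((g.natDegree + 2 : ℕ) : k₁) = ((g.natDegree + 1 : ℕ) : k₁) + 1 := by push_cast; ring
      rw [this, h, zero_add] at h2
      exact one_ne_zero h2
    · exact ⟨g.natDegree + 1, by omega, h⟩
  set Q : k₁[X] := X ^ m - C 1 with hQ
  have hsep : Q.Separable := separable_X_pow_sub_C 1 hm2 one_ne_zero
  have hmpos : 0 < m := by omega
  have hQdeg : Q.natDegree = m := natDegree_X_pow_sub_C
  have hQ0 : Q ≠ 0 := by
    intro h
    rw [h, natDegree_zero] at hQdeg
    omega
  have hQg : ¬ Q ∣ g := by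
    intro h
    have := natDegree_le_of_dvd h hg0
    omega
  have hrad : (Ideal.span {Q}).IsRadical := by
    rw [← isRadical_iff_span_singleton]
    exact hsep.squarefree.isRadical
  have hgn : g ∉ (Ideal.span {Q}).radical := by
    rw [hrad.radical, Ideal.mem_span_singleton]
    exact hQg
  rw [Ideal.radical_eq_sInf, Submodule.mem_sInf] at hgn
  push Not at hgn
  obtain ⟨n, ⟨hQn, hnprime⟩, hgn'⟩ := hgn
  have hnU : (⟨n, hnprime⟩ : PrimeSpectrum k₁[X]) ∈ Set.range (comap ψ) := by
    apply hUs
    apply hgU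
    exact hgn'
  obtain ⟨q, hq⟩ := hnU
  have hQq : ψ Q ∈ q.asIdeal := by
    have : Q ∈ (comap ψ q).asIdeal := by
      rw [hq]
      exact hQn (Ideal.subset_span rfl)
    exact this
  have hψQ : ψ Q = φ (a ^ m - 1) := by
    simp [hψ, hQ]
  have ham : a ^ m - 1 ≠ 0 := by
    intro h
    rw [hψQ, h, map_zero] at hQq
    have : ψ Q = 0 := by rw [hψQ, h, map_zero]
    exact hQ0 (hψinj (this.trans (map_zero ψ).symm))
  have hunit : IsUnit (ψ Q) := by
    rw [hψQ]
    exact (isUnit_iff_ne_zero.mpr ham).map φ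
  exact q.isPrime.ne_top (Ideal.eq_top_of_isUnit_mem _ hQq hunit)

/-- Two coefficient fields of a domain of finite type which share a retraction coincide. -/
theorem ringHom_eq_of_retraction {k B : Type*} [Field k] [CommRing B] [IsDomain B]
    (σ τ : k →+* B) (ε : B →+* k) (hσ : σ.FiniteType) (h1 : ∀ x, ε (σ x) = x)
    (h2 : ∀ x, ε (τ x) = x) : σ = τ := by
  letI := σ.toAlgebra
  have hft : Algebra.FiniteType k B := RingHom.finiteType_algebraMap.mp hσ
  ext a
  have halg : IsAlgebraic k (τ a) := isAlgebraic_of_ringHom_field τ a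
  have hint : IsIntegral k (τ a) := halg.isIntegral
  let εA : B →ₐ[k] k := { ε with commutes' := fun x => h1 x }
  have hroot : (minpoly k (τ a)).IsRoot a := by
    have e1 : aeval (εA (τ a)) (minpoly k (τ a)) = 0 := by
      rw [aeval_algHom_apply, minpoly.aeval, map_zero]
    have e2 : εA (τ a) = a := h2 a
    rw [e2] at e1
    simpa [IsRoot.def, aeval_def] using e1
  have hdeg : (minpoly k (τ a)).degree = 1 :=
    degree_eq_one_of_irreducible_of_root (minpoly.irreducible hint) hroot
  obtain ⟨a', ha'⟩ := minpoly.mem_range_of_degree_eq_one k (τ a) hdeg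
  have : a' = a := by
    have := congrArg ε ha'
    rw [h2] at this
    exact (h1 a').symm.trans this
  rw [← ha', this]
  rfl

end Groth.Agent.Lib.Helper37.AL
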