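import Mathlib.AlgebraicGeometry.Sites.Fpqc
import Mathlib.AlgebraicGeometry.Morphisms.UniversallyOpen
import Mathlib.AlgebraicGeometry.Morphisms.Finite
import Mathlib.AlgebraicGeometry.Morphisms.FlatMono

set_option autoImplicit false
set_option linter.style.haveILetI false
universe u

namespace Groth.Agent.Lib.Helper37

open CategoryTheory CategoryTheory.Limits AlgebraicGeometry

section Desc

variable {W Y R Z : Scheme.{u}} (q : W ⟶ Y) [Flat q] [LocallyOfFinitePresentation q]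
  [Surjective q] {a b : R ⟶ W} (hpb : IsPullback a b q q)

include hpb in
/-- fppf descent of morphisms: a morphism equalising the kernel pair of an fppf cover descends
uniquely. -/
theorem fppf_existsUnique_desc (g : W ⟶ Z) (hg : a ≫ g = b ≫ g) : ∃! m : Y ⟶ Z, q ≫ m = g := by
  have hsh := (GrothendieckTopology.Subcanonical.isSheaf_of_isRepresentable
    (J := Scheme.fppfTopology) (yoneda.obj Z)).isSheafFor _
    (Precoverage.generate_mem_toGrothendieck q.singleton_mem_fppfPrecoverage)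
  rw [Presieve.isSheafFor_singleton] at hsh
  obtain ⟨m, hm, hmu⟩ := hsh g (by
    intro T p₁ p₂ h
    obtain ⟨r, hr1, hr2⟩ := hpb.exists_lift p₁ p₂ h
    change p₁ ≫ g = p₂ ≫ g
    rw [← hr1, ← hr2, Category.assoc, Category.assoc, hg])
  exact ⟨m, hm, hmu⟩

/-- The descended morphism. -/
noncomputable def fppfDesc (g : W ⟶ Z) (hg : a ≫ g = b ≫ g) : Y ⟶ Z :=
  (fppf_existsUnique_desc q hpb g hg).exists.choose

@[reassoc (attr := simp)]
lemma fppfDesc_fac (g : W ⟶ Z) (hg : a ≫ g = b ≫ g) : q ≫ fppfDesc q hpb g hg = g :=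
  (fppf_existsUnique_desc q hpb g hg).exists.choose_spec

/-- The cofork of a kernel pair of an fppf cover is a coequalizer. -/
noncomputable def isColimitCoforkOfKernelPair : IsColimit (Cofork.ofπ q hpb.w) :=
  Cofork.IsColimit.mk _ (fun s => fppfDesc q hpb s.π s.condition)
    (fun s => fppfDesc_fac q hpb s.π s.condition)
    (fun s m hm => by
      rw [← cancel_epi q]
      rw [fppfDesc_fac]
      exact hm)

end Desc

/-- Two fppf covers with the same kernel pair have canonically isomorphic targets. -/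
theorem exists_iso_of_kernelPair {W Y₁ Y₂ R : Scheme.{u}} (q₁ : W ⟶ Y₁) (q₂ : W ⟶ Y₂)
    [Flat q₁] [LocallyOfFinitePresentation q₁] [Surjective q₁]
    [Flat q₂] [LocallyOfFinitePresentation q₂] [Surjective q₂]
    {a b : R ⟶ W} (h₁ : IsPullback a b q₁ q₁) (h₂ : IsPullback a b q₂ q₂) :
    ∃ e : Y₁ ≅ Y₂, q₁ ≫ e.hom = q₂ := by
  refine ⟨⟨fppfDesc q₁ h₁ q₂ h₂.w, fppfDesc q₂ h₂ q₁ h₁.w, ?_, ?_⟩, fppfDesc_fac q₁ h₁ q₂ h₂.w⟩
  · rw [← cancel_epi q₁, fppfDesc_fac_assoc, fppfDesc_fac, Category.comp_id]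
  · rw [← cancel_epi q₂, fppfDesc_fac_assoc, fppfDesc_fac, Category.comp_id]

/-- If `i` is a monomorphism, a kernel pair of `g ≫ i` is a kernel pair of `g`. -/
lemma isPullback_of_comp_mono {R W V Y : Scheme.{u}} {a b : R ⟶ W} (g : W ⟶ V) (i : V ⟶ Y)
    [Mono i] (h : IsPullback a b (g ≫ i) (g ≫ i)) : IsPullback a b g g := by
  have w : a ≫ g = b ≫ g := by
    rw [← cancel_mono i, Category.assoc, Category.assoc, h.w]
  refine ⟨⟨w⟩, ⟨PullbackCone.IsLimit.mk _ (fun s => h.lift s.fst s.snd (by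
    rw [← Category.assoc, ← Category.assoc, s.condition])) (fun s => h.lift_fst _ _ _)
    (fun s => h.lift_snd _ _ _) (fun s m hm1 hm2 => ?_)⟩⟩
  apply h.hom_ext
  · rw [h.lift_fst]; exact hm1
  · rw [h.lift_snd]; exact hm2

set_option backward.isDefEq.respectTransparency.types false in
/-- Let `q' : W' ⟶ Y'` be an fppf cover with kernel pair `(a, b)`, and `g : W' ⟶ Y` flat and
locally of finite presentation with the same kernel pair. Then the induced map `Y' ⟶ Y` is an
open immersion. -/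
theorem isOpenImmersion_of_kernelPair {W' Y' Y R' : Scheme.{u}} (q' : W' ⟶ Y')
    [Flat q'] [LocallyOfFinitePresentation q'] [Surjective q']
    {a b : R' ⟶ W'} (hpb : IsPullback a b q' q') (g : W' ⟶ Y) [Flat g]
    [LocallyOfFinitePresentation g] (hpb2 : IsPullback a b g g) (φ : Y' ⟶ Y)
    (hφ : q' ≫ φ = g) : IsOpenImmersion φ := by
  let V : Y.Opens := ⟨Set.range g, g.isOpenMap.isOpen_range⟩
  let g' : W' ⟶ V := IsOpenImmersion.lift V.ι g (by simp [V])
  have hg' : g' ≫ V.ι = g := IsOpenImmersion.lift_fac _ _ _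
  haveI : Flat g' := by
    apply MorphismProperty.of_postcomp (W := @Flat) (W' := @IsOpenImmersion) g' V.ι inferInstance
    rw [hg']; infer_instance
  haveI : LocallyOfFinitePresentation g' := by
    apply MorphismProperty.of_postcomp (W := @LocallyOfFinitePresentation)
      (W' := @IsOpenImmersion) g' V.ι inferInstance
    rw [hg']; infer_instance
  haveI : Surjective g' := ⟨fun ⟨x, ⟨y, hy⟩⟩ ↦
      ⟨y, by apply V.ι.isOpenEmbedding.injective; simp [← Scheme.Hom.comp_apply, g', hy]⟩⟩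
  have hpb3 : IsPullback a b g' g' := by
    apply isPullback_of_comp_mono g' V.ι
    rw [hg']
    exact hpb2
  obtain ⟨e, he⟩ := exists_iso_of_kernelPair q' g' hpb hpb3
  have : φ = e.hom ≫ V.ι := by
    rw [← cancel_epi q', hφ, ← Category.assoc, he, hg']
  rw [this]
  infer_instance

/-- Restriction of a kernel pair to a "saturated" pair of subobjects. -/
theorem isPullback_restrict {R W Y R' W' : Scheme.{u}} {t s : R ⟶ W} {q : W ⟶ Y}
    (hpb : IsPullback t s q q) (ιW : W' ⟶ W) (ιR : R' ⟶ R) [Mono ιW] [Mono ιR]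
    (t' s' : R' ⟶ W') (ht : t' ≫ ιW = ιR ≫ t) (hs : s' ≫ ιW = ιR ≫ s)
    (hlift : ∀ {T : Scheme.{u}} (r : T ⟶ R) (a b : T ⟶ W'), r ≫ t = a ≫ ιW → r ≫ s = b ≫ ιW →
      ∃ r' : T ⟶ R', r' ≫ ιR = r) :
    IsPullback t' s' (ιW ≫ q) (ιW ≫ q) := by
  have w : t' ≫ ιW ≫ q = s' ≫ ιW ≫ q := by
    rw [← Category.assoc, ht, ← Category.assoc, hs, Category.assoc, Category.assoc, hpb.w]
  have hex : ∀ c : PullbackCone (ιW ≫ q) (ιW ≫ q), ∃ l : c.pt ⟶ R',
      l ≫ t' = c.fst ∧ l ≫ s' = c.snd := by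
    intro c
    have hc : (c.fst ≫ ιW) ≫ q = (c.snd ≫ ιW) ≫ q := by
      rw [Category.assoc, Category.assoc]; exact c.condition
    obtain ⟨r', hr'⟩ := hlift (hpb.lift _ _ hc) c.fst c.snd (hpb.lift_fst _ _ _)
      (hpb.lift_snd _ _ _)
    refine ⟨r', ?_, ?_⟩
    · rw [← cancel_mono ιW, Category.assoc, ht, ← Category.assoc, hr', hpb.lift_fst]
    · rw [← cancel_mono ιW, Category.assoc, hs, ← Category.assoc, hr', hpb.lift_snd]
  choose l hl₁ hl₂ using hex
  refine ⟨⟨w⟩, ⟨PullbackCone.IsLimit.mk _ l hl₁ hl₂ (fun c m hm1 hm2 => ?_)⟩⟩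
  rw [← cancel_mono ιR]
  apply hpb.hom_ext
  · rw [Category.assoc, ← ht, ← Category.assoc, hm1, Category.assoc, ← ht, ← Category.assoc, hl₁]
  · rw [Category.assoc, ← hs, ← Category.assoc, hm2, Category.assoc, ← hs, ← Category.assoc, hl₂]

end Groth.Agent.Lib.Helper37
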