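import Groth.Agent.Lib.Helper37.GroupoidNorm
import Mathlib.LinearAlgebra.Charpoly.BaseChange

set_option autoImplicit false
set_option linter.style.haveILetI false
universe u v w
open Polynomial

namespace Groth.Agent.Lib.Helper37

section pch
variable {A : Type u} [CommRing A] {M : Type v} [AddCommGroup M] [Module A M]
  {F : Type w} [AddCommGroup F] [Module A F] [Module.Free A F] [Module.Finite A F]

/-- The characteristic polynomial of `φ ⊕ 0` on a finite free module `F` presenting `M` as a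
retract (`r ∘ i = id`). -/
noncomputable def pch (i : M →ₗ[A] F) (r : F →ₗ[A] M) (φ : M →ₗ[A] M) : A[X] :=
  (i ∘ₗ φ ∘ₗ r).charpoly

lemma pch_monic (i : M →ₗ[A] F) (r : F →ₗ[A] M) (φ : M →ₗ[A] M) : (pch i r φ).Monic :=
  LinearMap.charpoly_monic _

omit [Module.Free A F] [Module.Finite A F] in
lemma r_comp_pow (i : M →ₗ[A] F) (r : F →ₗ[A] M) (hri : r ∘ₗ i = LinearMap.id) (φ : M →ₗ[A] M)
    (k : ℕ) : r ∘ₗ ((i ∘ₗ φ ∘ₗ r) ^ k) = (φ ^ k) ∘ₗ r := by
  induction k with
  | zero => simp [Module.End.one_eq_id]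
  | succ k ih =>
    rw [pow_succ, Module.End.mul_eq_comp, ← LinearMap.comp_assoc, ih, pow_succ,
      Module.End.mul_eq_comp]
    ext x
    have := LinearMap.congr_fun hri (φ (r x))
    simp only [LinearMap.comp_apply, LinearMap.id_apply] at this ⊢
    rw [this]

omit [Module.Free A F] [Module.Finite A F] in
lemma r_comp_aeval (i : M →ₗ[A] F) (r : F →ₗ[A] M) (hri : r ∘ₗ i = LinearMap.id) (φ : M →ₗ[A] M)
    (p : A[X]) : r ∘ₗ (aeval (i ∘ₗ φ ∘ₗ r) p) = (aeval φ p) ∘ₗ r := by
  induction p using Polynomial.induction_on' with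
  | add p q hp hq => simp only [map_add, LinearMap.comp_add, LinearMap.add_comp, hp, hq]
  | monomial n a =>
    rw [aeval_monomial, aeval_monomial]
    ext x
    have := LinearMap.congr_fun (r_comp_pow i r hri φ n) x
    simp only [LinearMap.comp_apply] at this
    simp [Module.algebraMap_end_apply, this]

lemma aeval_pch (i : M →ₗ[A] F) (r : F →ₗ[A] M) (hri : r ∘ₗ i = LinearMap.id) (φ : M →ₗ[A] M) :
    aeval φ (pch i r φ) = 0 := by
  have h1 : aeval (i ∘ₗ φ ∘ₗ r) (pch i r φ) = 0 := LinearMap.aeval_self_charpoly _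
  have h2 := r_comp_aeval i r hri φ (pch i r φ)
  rw [h1, LinearMap.comp_zero] at h2
  ext x
  have := LinearMap.congr_fun h2 (i x)
  have hx := LinearMap.congr_fun hri x
  simp only [LinearMap.comp_apply, LinearMap.id_apply, LinearMap.zero_apply] at this hx ⊢
  rw [hx] at this
  exact this.symm

section indep
variable {F' : Type w} [AddCommGroup F'] [Module A F'] [Module.Free A F'] [Module.Finite A F']

/-- The swap map `(M ⊕ K) × (M ⊕ K') → (M ⊕ K') × (M ⊕ K)`. -/
def swapLin (i : M →ₗ[A] F) (r : F →ₗ[A] M) (i' : M →ₗ[A] F') (r' : F' →ₗ[A] M) :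
    (F × F') →ₗ[A] (F' × F) :=
  LinearMap.prod
    (i' ∘ₗ r ∘ₗ LinearMap.fst A F F' + (LinearMap.snd A F F' - i' ∘ₗ r' ∘ₗ LinearMap.snd A F F'))
    (i ∘ₗ r' ∘ₗ LinearMap.snd A F F' + (LinearMap.fst A F F' - i ∘ₗ r ∘ₗ LinearMap.fst A F F'))

omit [Module.Free A F] [Module.Finite A F] [Module.Free A F'] [Module.Finite A F'] in
lemma swapLin_apply (i : M →ₗ[A] F) (r : F →ₗ[A] M) (i' : M →ₗ[A] F') (r' : F' →ₗ[A] M)
    (v : F) (w : F') :
    swapLin i r i' r' (v, w) = (i' (r v) + (w - i' (r' w)), i (r' w) + (v - i (r v))) := rfl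

omit [Module.Free A F] [Module.Finite A F] [Module.Free A F'] [Module.Finite A F'] in
lemma swapLin_swapLin (i : M →ₗ[A] F) (r : F →ₗ[A] M) (hr : ∀ x, r (i x) = x)
    (i' : M →ₗ[A] F') (r' : F' →ₗ[A] M) (hr' : ∀ x, r' (i' x) = x) :
    (swapLin i' r' i r) ∘ₗ (swapLin i r i' r') = LinearMap.id := by
  refine LinearMap.ext fun ⟨v, w⟩ => ?_
  simp only [LinearMap.comp_apply, swapLin_apply, LinearMap.id_apply, map_add, map_sub, hr, hr']
  refine Prod.ext ?_ ?_ <;>
  · simp only
    abel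

/-- The swap equivalence. -/
def swapEquiv (i : M →ₗ[A] F) (r : F →ₗ[A] M) (hr : ∀ x, r (i x) = x)
    (i' : M →ₗ[A] F') (r' : F' →ₗ[A] M) (hr' : ∀ x, r' (i' x) = x) :
    (F × F') ≃ₗ[A] (F' × F) :=
  LinearEquiv.ofLinearMap (swapLin i r i' r') (swapLin i' r' i r)
    (swapLin_swapLin i' r' hr' i r hr) (swapLin_swapLin i r hr i' r' hr')

lemma pch_mul_charpoly_zero (i : M →ₗ[A] F) (r : F →ₗ[A] M) (hr : ∀ x, r (i x) = x)
    (i' : M →ₗ[A] F') (r' : F' →ₗ[A] M) (hr' : ∀ x, r' (i' x) = x) (φ : M →ₗ[A] M) :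
    pch i r φ * (0 : F' →ₗ[A] F').charpoly = pch i' r' φ * (0 : F →ₗ[A] F).charpoly := by
  have hconj : (swapEquiv i r hr i' r' hr').conj ((i ∘ₗ φ ∘ₗ r).prodMap (0 : F' →ₗ[A] F')) =
      (i' ∘ₗ φ ∘ₗ r').prodMap (0 : F →ₗ[A] F) := by
    apply LinearMap.ext
    intro x
    obtain ⟨⟨v, w⟩, rfl⟩ := (swapEquiv i r hr i' r' hr').surjective x
    rw [LinearEquiv.conj_apply_apply, LinearEquiv.symm_apply_apply]
    change swapLin i r i' r' _ = (i' ∘ₗ φ ∘ₗ r').prodMap 0 (swapLin i r i' r' (v, w))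
    simp only [LinearMap.prodMap_apply, LinearMap.comp_apply, LinearMap.zero_apply, swapLin_apply,
      map_add, map_sub, map_zero, hr, hr']
    ext <;> simp
  have := LinearEquiv.charpoly_conj (swapEquiv i r hr i' r' hr')
    ((i ∘ₗ φ ∘ₗ r).prodMap (0 : F' →ₗ[A] F'))
  rw [hconj, LinearMap.charpoly_prodMap, LinearMap.charpoly_prodMap] at this
  exact this.symm

end indep

end pch

section baseChange
open TensorProduct

theorem exists_presentation_baseChange {A B' P M F : Type u} [CommRing A] [CommRing B']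
    [Algebra A B'] [AddCommGroup M] [Module A M] [AddCommGroup F] [Module A F] [Module.Free A F]
    [Module.Finite A F] [AddCommGroup P] [Module A P] [Module B' P] [IsScalarTower A B' P]
    (ε : M →ₗ[A] P) (hε : IsBaseChange B' ε)
    (i : M →ₗ[A] F) (r : F →ₗ[A] M) (hr : ∀ x, r (i x) = x) (φ : M →ₗ[A] M) (φ' : P →ₗ[B'] P)
    (hφ : ∀ x, φ' (ε x) = ε (φ x)) :
    ∃ (i' : P →ₗ[B'] (B' ⊗[A] F)) (r' : (B' ⊗[A] F) →ₗ[B'] P), (∀ x, r' (i' x) = x) ∧
      pch i' r' φ' = (pch i r φ).map (algebraMap A B') := by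
  refine ⟨(i.baseChange B') ∘ₗ hε.equiv.symm.toLinearMap,
    hε.equiv.toLinearMap ∘ₗ (r.baseChange B'), ?_, ?_⟩
  · intro x
    have hri : r ∘ₗ i = LinearMap.id := LinearMap.ext hr
    have : (r.baseChange B') ∘ₗ (i.baseChange B') = LinearMap.id := by
      rw [← LinearMap.baseChange_comp, hri, LinearMap.baseChange_id]
    have h2 := LinearMap.congr_fun this (hε.equiv.symm x)
    simp only [LinearMap.comp_apply, LinearEquiv.coe_coe, LinearMap.id_apply] at h2 ⊢
    rw [h2, LinearEquiv.apply_symm_apply]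
  · have key : hε.equiv.symm.toLinearMap ∘ₗ φ' ∘ₗ hε.equiv.toLinearMap = φ.baseChange B' := by
      apply TensorProduct.AlgebraTensorModule.curry_injective
      ext x
      change hε.equiv.symm (φ' (hε.equiv (1 ⊗ₜ[A] x))) = φ.baseChange B' (1 ⊗ₜ[A] x)
      rw [LinearMap.baseChange_tmul, LinearEquiv.symm_apply_eq, IsBaseChange.equiv_tmul,
        IsBaseChange.equiv_tmul, one_smul, one_smul, hφ]
    unfold pch
    rw [← LinearMap.charpoly_baseChange]
    congr 1
    rw [LinearMap.baseChange_comp, LinearMap.baseChange_comp, ← key]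
    rfl

open CategoryTheory CategoryTheory.Limits in
/-- A presentation of `B` over `A` induces, along a pushout square, a presentation of `P` over
`B` (acting through `π`) whose presentation-charpoly is the image under `τ`. -/
theorem exists_presentation_of_isPushout {A B P : Type u} [CommRing A] [CommRing B] [CommRing P]
    [Algebra A B] (τ : A →+* B) (ε π : B →+* P)
    (hpush : IsPushout (CommRingCat.ofHom τ) (CommRingCat.ofHom (algebraMap A B))
      (CommRingCat.ofHom π) (CommRingCat.ofHom ε))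
    {F : Type u} [AddCommGroup F] [Module A F] [Module.Free A F] [Module.Finite A F]
    (i : B →ₗ[A] F) (r : F →ₗ[A] B) (hr : ∀ x, r (i x) = x) (β : B) :
    letI : Algebra B P := π.toAlgebra
    ∃ (F' : Type u) (_ : AddCommGroup F') (_ : Module B F') (_ : Module.Free B F')
      (_ : Module.Finite B F') (i' : P →ₗ[B] F') (r' : F' →ₗ[B] P), (∀ x, r' (i' x) = x) ∧
      pch i' r' (LinearMap.mulLeft B (ε β)) = (pch i r (LinearMap.mulLeft A β)).map τ ∧
      (0 : F' →ₗ[B] F').charpoly = ((0 : F →ₗ[A] F).charpoly).map τ := by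
  have hp : ∀ a, ε (algebraMap A B a) = π (τ a) := by
    intro a
    have := congrArg (fun f => f.hom a) hpush.w
    exact this.symm
  letI : Algebra (AlgVia τ) P := RingHom.toAlgebra (show AlgVia τ →+* P from π)
  letI algBP : Algebra B P := ε.toAlgebra
  letI : Algebra A P := (π.comp τ).toAlgebra
  haveI : IsScalarTower A (AlgVia τ) P := IsScalarTower.of_algebraMap_eq (fun a => rfl)
  haveI : IsScalarTower A B P := IsScalarTower.of_algebraMap_eq (fun a => (hp a).symm)
  haveI hpo : Algebra.IsPushout A (AlgVia τ) B P :=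
    (CommRingCat.isPushout_iff_isPushout (R := A) (R' := AlgVia τ) (S := B) (S' := P)).mp hpush
  have ibc : IsBaseChange (AlgVia τ) (IsScalarTower.toAlgHom A B P).toLinearMap := hpo.out
  obtain ⟨i', r', h1, h2⟩ := exists_presentation_baseChange
    (IsScalarTower.toAlgHom A B P).toLinearMap ibc i r hr (LinearMap.mulLeft A β)
    (LinearMap.mulLeft (AlgVia τ) (ε β)) (by intro x; change ε β * ε x = ε (β * x); rw [map_mul])
  refine ⟨AlgVia τ ⊗[A] F, inferInstance, (inferInstance : Module (AlgVia τ) (AlgVia τ ⊗[A] F)),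
    (inferInstance : Module.Free (AlgVia τ) (AlgVia τ ⊗[A] F)),
    (inferInstance : Module.Finite (AlgVia τ) (AlgVia τ ⊗[A] F)), i', r', h1, h2, ?_⟩
  have := LinearMap.charpoly_baseChange (0 : F →ₗ[A] F) (AlgVia τ)
  rw [LinearMap.baseChange_zero] at this
  exact this

open CategoryTheory CategoryTheory.Limits in
/-- Two pushout squares over the same `π : B → P`: the images of the presentation-charpoly of
multiplication by `β` under `τ₁` and `τ₂` agree when `ε₁ β = ε₂ β`. -/
theorem map_pch_eq_of_isPushout {A B P : Type u} [CommRing A] [CommRing B] [CommRing P]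
    [Algebra A B] (τ₁ τ₂ : A →+* B) (ε₁ ε₂ π : B →+* P)
    (h₁ : IsPushout (CommRingCat.ofHom τ₁) (CommRingCat.ofHom (algebraMap A B))
      (CommRingCat.ofHom π) (CommRingCat.ofHom ε₁))
    (h₂ : IsPushout (CommRingCat.ofHom τ₂) (CommRingCat.ofHom (algebraMap A B))
      (CommRingCat.ofHom π) (CommRingCat.ofHom ε₂))
    {F : Type u} [AddCommGroup F] [Module A F] [Module.Free A F] [Module.Finite A F]
    (i : B →ₗ[A] F) (r : F →ₗ[A] B) (hr : ∀ x, r (i x) = x) (β : B) (hβ : ε₁ β = ε₂ β) :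
    (pch i r (LinearMap.mulLeft A β)).map τ₁ = (pch i r (LinearMap.mulLeft A β)).map τ₂ := by
  rcases subsingleton_or_nontrivial B with hB | hB
  · exact Subsingleton.elim _ _
  haveI : Nontrivial A := (algebraMap A B).domain_nontrivial
  letI : Algebra B P := π.toAlgebra
  obtain ⟨F₁, _, _, _, _, i₁, r₁, hr₁, hc₁, hz₁⟩ :=
    exists_presentation_of_isPushout τ₁ ε₁ π h₁ i r hr β
  obtain ⟨F₂, _, _, _, _, i₂, r₂, hr₂, hc₂, hz₂⟩ :=
    exists_presentation_of_isPushout τ₂ ε₂ π h₂ i r hr β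
  have key := pch_mul_charpoly_zero i₁ r₁ hr₁ i₂ r₂ hr₂ (LinearMap.mulLeft B (ε₁ β))
  rw [hc₁, hz₂] at key
  rw [hβ, hc₂, hz₁] at key
  have hz : (0 : F →ₗ[A] F).charpoly = X ^ Module.finrank A F := LinearMap.charpoly_zero
  rw [hz, Polynomial.map_pow, Polynomial.map_pow, Polynomial.map_X, Polynomial.map_X] at key
  exact (monic_X_pow (Module.finrank A F)).isRegular.right key

end baseChange

section integral
open CategoryTheory CategoryTheory.Limits AlgebraicGeometry Grpd

variable {S : Scheme.{u}} (G : GroupoidScheme S)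

/-- For an affine groupoid with `s` finite locally free, `Γ(U)` is integral over the invariants. -/
theorem isIntegral_invariants [IsAffine G.U] [IsAffine G.R] [IsFinite G.s] [Flat G.s]
    [LocallyOfFinitePresentation G.s] : Algebra.IsIntegral G.invariants Γ(G.U, ⊤) := by
  letI : Algebra Γ(G.U, ⊤) Γ(G.R, ⊤) := G.s.appTop.hom.toAlgebra
  have hfin : Module.Finite Γ(G.U, ⊤) Γ(G.R, ⊤) := G.s.finite_appTop
  have hflat : Module.Flat Γ(G.U, ⊤) Γ(G.R, ⊤) :=
    (HasRingHomProperty.iff_of_isAffine (P := @Flat) (f := G.s)).mp inferInstance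
  have hfp : Algebra.FinitePresentation Γ(G.U, ⊤) Γ(G.R, ⊤) :=
    (HasRingHomProperty.iff_of_isAffine (P := @LocallyOfFinitePresentation) (f := G.s)).mp
      inferInstance
  have hmfp : Module.FinitePresentation Γ(G.U, ⊤) Γ(G.R, ⊤) :=
    Module.FinitePresentation.of_finite_of_finitePresentation _ _
  have hproj : Module.Projective Γ(G.U, ⊤) Γ(G.R, ⊤) := Module.Flat.projective_of_finitePresentation
  obtain ⟨n, r, i, -, -, hri⟩ :=
    Module.Finite.exists_comp_eq_id_of_projective Γ(G.U, ⊤) Γ(G.R, ⊤)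
  have hr : ∀ x, r (i x) = x := fun x => LinearMap.congr_fun hri x
  have hes : ∀ a, G.e.appTop.hom (G.s.appTop.hom a) = a := by
    intro a
    rw [← appTop_comp_apply', G.e_s, Scheme.Hom.id_appTop]; rfl
  have het : ∀ a, G.e.appTop.hom (G.t.appTop.hom a) = a := by
    intro a
    rw [← appTop_comp_apply', G.e_t, Scheme.Hom.id_appTop]; rfl
  have hpt := (isPushout_appTop_of_isPullback (IsPullback.of_hasPullback G.s G.t)).flip
  have hps := (isPushout_appTop_of_isPullback (isPullback_c_snd G)).flip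
  refine ⟨fun a => ?_⟩
  have hct : G.c.appTop.hom (G.t.appTop.hom a) =
      (pullback.fst G.s G.t).appTop.hom (G.t.appTop.hom a) := by
    rw [← appTop_comp_apply', c_t, appTop_comp_apply']
  obtain ⟨χ, hχ⟩ : ∃ χ, χ = pch i r (LinearMap.mulLeft Γ(G.U, ⊤) (G.t.appTop.hom a)) := ⟨_, rfl⟩
  have hmap : χ.map G.s.appTop.hom = χ.map G.t.appTop.hom := by
    rw [hχ]
    exact map_pch_eq_of_isPushout G.s.appTop.hom G.t.appTop.hom G.c.appTop.hom
      (pullback.fst G.s G.t).appTop.hom (pullback.snd G.s G.t).appTop.hom hps hpt i r hr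
      (G.t.appTop.hom a) hct
  have hcoeff : (↑χ.coeffs : Set Γ(G.U, ⊤)) ⊆ G.invariants := by
    intro c hc
    obtain ⟨k, -, rfl⟩ : ∃ k, k ∈ χ.support ∧ χ.coeff k = c := by
      simpa [Polynomial.coeffs] using hc
    have := congrArg (fun p => p.coeff k) hmap
    simp only [Polynomial.coeff_map] at this
    exact this
  have hmonic : χ.Monic := hχ ▸ pch_monic i r _
  have heval : χ.eval a = 0 := by
    have h1 := aeval_pch i r hri (LinearMap.mulLeft Γ(G.U, ⊤) (G.t.appTop.hom a))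
    rw [← hχ] at h1
    have h2 : aeval (Algebra.lmul Γ(G.U, ⊤) Γ(G.R, ⊤) (G.t.appTop.hom a)) χ = 0 := h1
    rw [Polynomial.aeval_algHom_apply] at h2
    have h3 : aeval (G.t.appTop.hom a) χ = 0 := Algebra.lmul_injective (by rw [h2, map_zero])
    have h4 := congrArg G.e.appTop.hom h3
    rw [map_zero, Polynomial.aeval_def, Polynomial.hom_eval₂] at h4
    have h5 : G.e.appTop.hom.comp (algebraMap Γ(G.U, ⊤) Γ(G.R, ⊤)) = RingHom.id _ :=
      RingHom.ext hes
    rw [h5, het, Polynomial.eval₂_id] at h4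
    exact h4
  refine ⟨χ.toSubring G.invariants hcoeff, (Polynomial.monic_toSubring χ _ hcoeff).mpr hmonic, ?_⟩
  rw [Polynomial.eval₂_eq_eval_map]
  have : (χ.toSubring G.invariants hcoeff).map (algebraMap G.invariants Γ(G.U, ⊤)) = χ :=
    Polynomial.map_toSubring χ G.invariants hcoeff
  rw [this, heval]

end integral

end Groth.Agent.Lib.Helper37
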