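import Groth.Agent.Lib.Helper37.GroupoidPnm
import Groth.Agent.Lib.Helper37.GroupoidRank
import Groth.Agent.Lib.Helper37.PrimeAvoidOpen
import Mathlib.AlgebraicGeometry.PullbackCarrier
import Mathlib.AlgebraicGeometry.Morphisms.QuasiFinite

set_option autoImplicit false
set_option linter.style.haveILetI false
universe u

namespace Groth.Agent.Lib.Helper37

open CategoryTheory CategoryTheory.Limits AlgebraicGeometry Grpd

variable {S : Scheme.{u}} (G : GroupoidScheme S)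

/-- Composition of arrows on points. -/
lemma exists_comp_point (r₁ r₂ : G.R) (h : G.s r₁ = G.t r₂) :
    ∃ r₃ : G.R, G.s r₃ = G.s r₂ ∧ G.t r₃ = G.t r₁ := by
  obtain ⟨z, hz1, hz2⟩ := Scheme.Pullback.exists_preimage_pullback (f := G.s) (g := G.t) r₁ r₂ h
  refine ⟨G.c z, ?_, ?_⟩
  · rw [← Scheme.Hom.comp_apply, c_s, Scheme.Hom.comp_apply, hz2]
  · rw [← Scheme.Hom.comp_apply, c_t, Scheme.Hom.comp_apply, hz1]

/-- Inverse of an arrow on points. -/
lemma exists_inv_point (r : G.R) : ∃ r' : G.R, G.s r' = G.t r ∧ G.t r' = G.s r := by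
  refine ⟨G.i r, ?_, ?_⟩
  · rw [← Scheme.Hom.comp_apply, G.i_s]
  · rw [← Scheme.Hom.comp_apply, G.i_t]

/-- Identity arrow on points. -/
lemma exists_id_point (w : G.U) : ∃ r : G.R, G.s r = w ∧ G.t r = w := by
  refine ⟨G.e w, ?_, ?_⟩
  · rw [← Scheme.Hom.comp_apply, G.e_s]; rfl
  · rw [← Scheme.Hom.comp_apply, G.e_t]; rfl

/-- The largest invariant subset of an open `O`: points all of whose arrows end in `O`. It is
open when `s` is a closed map. -/
def invOpen [UniversallyClosed G.s] (O : G.U.Opens) : G.U.Opens :=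
  ⟨{w | ∀ r : G.R, G.s r = w → G.t r ∈ O}, by
    rw [← isClosed_compl_iff]
    have : {w | ∀ r : G.R, G.s r = w → G.t r ∈ O}ᶜ = G.s '' (G.t ⁻¹' (O : Set G.U)ᶜ) := by
      ext w
      simp only [Set.mem_compl_iff, Set.mem_ofPred_eq, not_forall, Set.mem_image,
        Set.mem_preimage, SetLike.mem_coe]
      constructor
      · rintro ⟨r, hr, hrO⟩
        exact ⟨r, hrO, hr⟩
      · rintro ⟨r, hrO, hr⟩
        exact ⟨r, hr, hrO⟩
    rw [this]
    exact G.s.isClosedMap _ (O.2.isClosed_compl.preimage G.t.continuous)⟩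

variable [UniversallyClosed G.s]

lemma mem_invOpen {O : G.U.Opens} {w : G.U} :
    w ∈ invOpen G O ↔ ∀ r : G.R, G.s r = w → G.t r ∈ O := Iff.rfl

lemma invOpen_le (O : G.U.Opens) : invOpen G O ≤ O := by
  intro w hw
  obtain ⟨r, hr1, hr2⟩ := exists_id_point G w
  exact hr2 ▸ hw r hr1

lemma s_mem_invOpen_iff (O : G.U.Opens) (ρ : G.R) :
    G.s ρ ∈ invOpen G O ↔ G.t ρ ∈ invOpen G O := by
  have key : ∀ ρ : G.R, G.s ρ ∈ invOpen G O → G.t ρ ∈ invOpen G O := by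
    intro ρ hρ r hr
    obtain ⟨r₃, h1, h2⟩ := exists_comp_point G r ρ hr
    exact h2 ▸ hρ r₃ h1
  refine ⟨key ρ, fun h => ?_⟩
  obtain ⟨ρ', h1, h2⟩ := exists_inv_point G ρ
  have := key ρ' (h1 ▸ h)
  rwa [h2] at this

lemma preimage_invOpen (O : G.U.Opens) : G.s ⁻¹ᵁ invOpen G O = G.t ⁻¹ᵁ invOpen G O := by
  ext ρ
  exact s_mem_invOpen_iff G O ρ

/-- For `Y = D(f) ⊆ V` affine with `s⁻¹ Y ⊆ t⁻¹ V`, the largest invariant subset of `Y` is a
basic open of `Y`, cut out by a projective norm. -/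
theorem exists_invOpen_basicOpen_eq [IsFinite G.s] [Flat G.s] [LocallyOfFinitePresentation G.s]
    {V : G.U.Opens} (hV : IsAffineOpen V) (f : Γ(G.U, V))
    (hY : G.U.basicOpen f ≤ invOpen G V) :
    ∃ g : Γ(G.U, G.U.basicOpen f), invOpen G (G.U.basicOpen f) = G.U.basicOpen g := by
  have hYa : IsAffineOpen (G.U.basicOpen f) := hV.basicOpen f
  have hRY : IsAffineOpen (G.s ⁻¹ᵁ G.U.basicOpen f) := hYa.preimage G.s
  have hle : G.s ⁻¹ᵁ G.U.basicOpen f ≤ G.t ⁻¹ᵁ V := fun r hr => hY hr r rfl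
  letI : Algebra Γ(G.U, G.U.basicOpen f) Γ(G.R, G.s ⁻¹ᵁ G.U.basicOpen f) :=
    (G.s.app (G.U.basicOpen f)).hom.toAlgebra
  have hfin : Module.Finite Γ(G.U, G.U.basicOpen f) Γ(G.R, G.s ⁻¹ᵁ G.U.basicOpen f) :=
    G.s.finite_app _ hYa
  have happ : G.s.appLE (G.U.basicOpen f) (G.s ⁻¹ᵁ G.U.basicOpen f) le_rfl =
      G.s.app (G.U.basicOpen f) := G.s.appLE_eq_app
  have hflat : Module.Flat Γ(G.U, G.U.basicOpen f) Γ(G.R, G.s ⁻¹ᵁ G.U.basicOpen f) := by
    have := HasRingHomProperty.appLE (P := @Flat) (f := G.s) inferInstance ⟨_, hYa⟩ ⟨_, hRY⟩ le_rfl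
    rw [happ] at this
    exact this
  have hfp : Algebra.FinitePresentation Γ(G.U, G.U.basicOpen f)
      Γ(G.R, G.s ⁻¹ᵁ G.U.basicOpen f) := by
    have := HasRingHomProperty.appLE (P := @LocallyOfFinitePresentation) (f := G.s) inferInstance
      ⟨_, hYa⟩ ⟨_, hRY⟩ le_rfl
    rw [happ] at this
    exact this
  have hmfp : Module.FinitePresentation Γ(G.U, G.U.basicOpen f)
      Γ(G.R, G.s ⁻¹ᵁ G.U.basicOpen f) :=
    Module.FinitePresentation.of_finite_of_finitePresentation _ _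
  have hproj : Module.Projective Γ(G.U, G.U.basicOpen f) Γ(G.R, G.s ⁻¹ᵁ G.U.basicOpen f) :=
    Module.Flat.projective_of_finitePresentation
  obtain ⟨n, r, i, -, -, hri⟩ := Module.Finite.exists_comp_eq_id_of_projective
    Γ(G.U, G.U.basicOpen f) Γ(G.R, G.s ⁻¹ᵁ G.U.basicOpen f)
  have hr : ∀ x, r (i x) = x := fun x => LinearMap.congr_fun hri x
  obtain ⟨b, hb⟩ : ∃ b, b = (G.t.appLE V (G.s ⁻¹ᵁ G.U.basicOpen f) hle).hom f := ⟨_, rfl⟩
  have hbo : G.R.basicOpen b = G.s ⁻¹ᵁ G.U.basicOpen f ⊓ G.t ⁻¹ᵁ G.U.basicOpen f := by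
    rw [hb]
    exact Scheme.basicOpen_appLE G.t _ _ hle f
  have hsq : ∀ q : Spec Γ(G.R, G.s ⁻¹ᵁ G.U.basicOpen f),
      G.s (hRY.fromSpec q) = hYa.fromSpec (Spec.map (G.s.app (G.U.basicOpen f)) q) := by
    intro q
    have := IsAffineOpen.SpecMap_appLE_fromSpec G.s hYa hRY le_rfl
    rw [happ] at this
    rw [← Scheme.Hom.comp_apply, ← Scheme.Hom.comp_apply, this]
  refine ⟨pnm i r b, ?_⟩
  ext w
  simp only [SetLike.mem_coe]
  constructor
  · intro hw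
    have hwY : w ∈ G.U.basicOpen f := invOpen_le G _ hw
    by_contra hwg
    have h1 : (hYa.primeIdealOf ⟨w, hwY⟩) ∉ PrimeSpectrum.basicOpen (pnm i r b) := by
      intro hmem
      apply hwg
      have h2 : hYa.primeIdealOf ⟨w, hwY⟩ ∈ hYa.fromSpec ⁻¹ᵁ G.U.basicOpen (pnm i r b) := by
        rw [hYa.fromSpec_preimage_basicOpen]
        exact hmem
      have h3 : hYa.fromSpec (hYa.primeIdealOf ⟨w, hwY⟩) = w :=
        hYa.fromSpec_primeIdealOf ⟨w, hwY⟩
      rw [← h3]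
      exact h2
    have h2 : pnm i r b ∈ (hYa.primeIdealOf ⟨w, hwY⟩).asIdeal := by
      by_contra h
      exact h1 h
    obtain ⟨𝔯, h𝔯, hb𝔯, hcomap⟩ := exists_prime_of_pnm_mem i r hr b _ h2
    let q : Spec Γ(G.R, G.s ⁻¹ᵁ G.U.basicOpen f) := ⟨𝔯, h𝔯⟩
    have hsρ : G.s (hRY.fromSpec q) = w := by
      rw [hsq]
      have : Spec.map (G.s.app (G.U.basicOpen f)) q = hYa.primeIdealOf ⟨w, hwY⟩ :=
        PrimeSpectrum.ext hcomap
      rw [this, hYa.fromSpec_primeIdealOf]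
    have htρ : G.t (hRY.fromSpec q) ∈ G.U.basicOpen f := hw _ hsρ
    have hρRY : hRY.fromSpec q ∈ G.s ⁻¹ᵁ G.U.basicOpen f := by
      change G.s (hRY.fromSpec q) ∈ G.U.basicOpen f
      rw [hsρ]
      exact hwY
    have hρb : hRY.fromSpec q ∈ G.R.basicOpen b := by
      rw [hbo]
      exact ⟨hρRY, htρ⟩
    have : q ∈ hRY.fromSpec ⁻¹ᵁ G.R.basicOpen b := hρb
    rw [hRY.fromSpec_preimage_basicOpen] at this
    exact this hb𝔯
  · intro hw
    have hwY : w ∈ G.U.basicOpen f := G.U.basicOpen_le _ hw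
    intro ρ hρ
    by_contra htρ
    have hρRY : ρ ∈ G.s ⁻¹ᵁ G.U.basicOpen f := by
      change G.s ρ ∈ G.U.basicOpen f
      rw [hρ]
      exact hwY
    have hρb : ρ ∉ G.R.basicOpen b := by
      rw [hbo]
      rintro ⟨-, h⟩
      exact htρ h
    let q : Spec Γ(G.R, G.s ⁻¹ᵁ G.U.basicOpen f) := hRY.primeIdealOf ⟨ρ, hρRY⟩
    have hqρ : hRY.fromSpec q = ρ := hRY.fromSpec_primeIdealOf ⟨ρ, hρRY⟩
    have hbq : b ∈ q.asIdeal := by
      by_contra h
      apply hρb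
      have h2 : q ∈ hRY.fromSpec ⁻¹ᵁ G.R.basicOpen b := by
        rw [hRY.fromSpec_preimage_basicOpen]
        exact h
      rw [← hqρ]
      exact h2
    haveI : q.asIdeal.IsPrime := q.2
    have hg := pnm_mem_comap_of_mem i r hr b q.asIdeal hbq
    have hpt : hYa.fromSpec (Spec.map (G.s.app (G.U.basicOpen f)) q) = w := by
      rw [← hsq, hqρ, hρ]
    have h3 : Spec.map (G.s.app (G.U.basicOpen f)) q ∈
        hYa.fromSpec ⁻¹ᵁ G.U.basicOpen (pnm i r b) := by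
      change hYa.fromSpec (Spec.map (G.s.app (G.U.basicOpen f)) q) ∈ G.U.basicOpen (pnm i r b)
      rw [hpt]
      exact hw
    rw [hYa.fromSpec_preimage_basicOpen] at h3
    exact h3 hg

end Groth.Agent.Lib.Helper37
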