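import Groth.Agent.Lib.Helper37.GroupoidRank
import Mathlib.AlgebraicGeometry.Restrict

set_option autoImplicit false
set_option linter.style.haveILetI false
universe u

namespace Groth.Agent.Lib.Helper37

open CategoryTheory CategoryTheory.Limits AlgebraicGeometry Grpd

/-- Lift a morphism into an open subscheme. -/
noncomputable def liftOpen {X T : Scheme.{u}} (W : X.Opens) (f : T ⟶ X) (h : ∀ x, f x ∈ W) :
    T ⟶ W :=
  IsOpenImmersion.lift W.ι f (by
    rw [Scheme.Opens.range_ι]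
    rintro _ ⟨x, rfl⟩
    exact h x)

@[reassoc (attr := simp)]
lemma liftOpen_ι {X T : Scheme.{u}} (W : X.Opens) (f : T ⟶ X) (h : ∀ x, f x ∈ W) :
    liftOpen W f h ≫ W.ι = f :=
  IsOpenImmersion.lift_fac _ _ _

variable {S : Scheme.{u}} (G : GroupoidScheme S) (W : G.U.Opens)

/-- Lift an arrow whose source lies in `W` to the restricted arrow scheme. -/
noncomputable def liftR {T : Scheme.{u}} (f : T ⟶ G.R) (g : T ⟶ W) (h : f ≫ G.s = g ≫ W.ι) :
    T ⟶ (G.s ⁻¹ᵁ W : G.R.Opens) :=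
  liftOpen (G.s ⁻¹ᵁ W) f (fun x => by
    change (f ≫ G.s) x ∈ W
    rw [h]
    exact (g x).2)

@[reassoc (attr := simp)]
lemma liftR_ι {T : Scheme.{u}} (f : T ⟶ G.R) (g : T ⟶ W) (h : f ≫ G.s = g ≫ W.ι) :
    liftR G W f g h ≫ (G.s ⁻¹ᵁ W).ι = f :=
  liftOpen_ι _ _ _

variable (hW : G.s ⁻¹ᵁ W = G.t ⁻¹ᵁ W)

/-- restricted source -/
noncomputable def resS : ((G.s ⁻¹ᵁ W : G.R.Opens) : Scheme.{u}) ⟶ W := G.s ∣_ W

@[reassoc]
lemma resS_ι : resS G W ≫ W.ι = (G.s ⁻¹ᵁ W).ι ≫ G.s := morphismRestrict_ι _ _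

include hW in
lemma t_mem (x : (G.s ⁻¹ᵁ W : G.R.Opens)) : ((G.s ⁻¹ᵁ W).ι ≫ G.t) x ∈ W := by
  have h1 : ∀ y : G.R, y ∈ G.s ⁻¹ᵁ W → G.t y ∈ W := by
    intro y hy
    rw [hW] at hy
    exact hy
  exact h1 _ x.2

/-- restricted target -/
noncomputable def resT : ((G.s ⁻¹ᵁ W : G.R.Opens) : Scheme.{u}) ⟶ W :=
  liftOpen W ((G.s ⁻¹ᵁ W).ι ≫ G.t) (t_mem G W hW)

@[reassoc]
lemma resT_ι : resT G W hW ≫ W.ι = (G.s ⁻¹ᵁ W).ι ≫ G.t := liftOpen_ι _ _ _

@[reassoc]
lemma liftR_resS {T : Scheme.{u}} (f : T ⟶ G.R) (g : T ⟶ W) (h : f ≫ G.s = g ≫ W.ι) :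
    liftR G W f g h ≫ resS G W = g := by
  rw [← cancel_mono W.ι, Category.assoc, resS_ι, liftR_ι_assoc, h]

/-- restricted identity -/
noncomputable def resE : (W : Scheme.{u}) ⟶ (G.s ⁻¹ᵁ W : G.R.Opens) :=
  liftR G W (W.ι ≫ G.e) (𝟙 _) (by rw [Category.assoc, G.e_s, Category.comp_id, Category.id_comp])

@[reassoc]
lemma resE_ι : resE G W ≫ (G.s ⁻¹ᵁ W).ι = W.ι ≫ G.e := liftR_ι _ _ _ _ _

/-- restricted inverse -/
noncomputable def resI : ((G.s ⁻¹ᵁ W : G.R.Opens) : Scheme.{u}) ⟶ (G.s ⁻¹ᵁ W : G.R.Opens) :=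
  liftR G W ((G.s ⁻¹ᵁ W).ι ≫ G.i) (resT G W hW) (by rw [Category.assoc, G.i_s, resT_ι])

@[reassoc]
lemma resI_ι : resI G W hW ≫ (G.s ⁻¹ᵁ W).ι = (G.s ⁻¹ᵁ W).ι ≫ G.i := liftR_ι _ _ _ _ _

lemma res_comp_cond {T : Scheme.{u}} (α β : T ⟶ (G.s ⁻¹ᵁ W : G.R.Opens))
    (h : α ≫ resS G W = β ≫ resT G W hW) :
    (α ≫ (G.s ⁻¹ᵁ W).ι) ≫ G.s = (β ≫ (G.s ⁻¹ᵁ W).ι) ≫ G.t := by
  rw [Category.assoc, ← resS_ι, ← Category.assoc, h, Category.assoc, resT_ι, Category.assoc]

/-- restricted composition -/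
noncomputable def resC : pullback (resS G W) (resT G W hW) ⟶ (G.s ⁻¹ᵁ W : G.R.Opens) :=
  liftR G W (gcomp G (pullback.fst _ _ ≫ (G.s ⁻¹ᵁ W).ι) (pullback.snd _ _ ≫ (G.s ⁻¹ᵁ W).ι)
    (res_comp_cond G W hW _ _ pullback.condition)) (pullback.snd _ _ ≫ resS G W) (by
      rw [gcomp_s, Category.assoc, Category.assoc, resS_ι])

lemma resC_ι : resC G W hW ≫ (G.s ⁻¹ᵁ W).ι =
    gcomp G (pullback.fst _ _ ≫ (G.s ⁻¹ᵁ W).ι) (pullback.snd _ _ ≫ (G.s ⁻¹ᵁ W).ι)
    (res_comp_cond G W hW _ _ pullback.condition) := liftR_ι _ _ _ _ _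

lemma lift_resC_ι {T : Scheme.{u}} (α β : T ⟶ (G.s ⁻¹ᵁ W : G.R.Opens))
    (h : α ≫ resS G W = β ≫ resT G W hW) :
    (pullback.lift α β h ≫ resC G W hW) ≫ (G.s ⁻¹ᵁ W).ι =
      gcomp G (α ≫ (G.s ⁻¹ᵁ W).ι) (β ≫ (G.s ⁻¹ᵁ W).ι) (res_comp_cond G W hW α β h) := by
  rw [Category.assoc, resC_ι, precomp_gcomp]
  apply gcomp_congr
  · rw [← Category.assoc, pullback.lift_fst]
  · rw [← Category.assoc, pullback.lift_snd]


/-- The restriction of a groupoid scheme to an invariant open subscheme of `U`. -/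
noncomputable def restrict : GroupoidScheme S where
  U := W
  R := (G.s ⁻¹ᵁ W : G.R.Opens)
  pU := W.ι ≫ G.pU
  pR := (G.s ⁻¹ᵁ W).ι ≫ G.pR
  s := resS G W
  t := resT G W hW
  e := resE G W
  i := resI G W hW
  c := resC G W hW
  s_over := by rw [resS_ι_assoc, G.s_over]
  t_over := by rw [resT_ι_assoc, G.t_over]
  comp_s := fun α β h => by
    rw [← cancel_mono W.ι, Category.assoc, resS_ι, ← Category.assoc, lift_resC_ι, gcomp_s,
      Category.assoc, Category.assoc, resS_ι]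
  comp_t := fun α β h => by
    rw [← cancel_mono W.ι, Category.assoc, resT_ι, ← Category.assoc, lift_resC_ι, gcomp_t,
      Category.assoc, Category.assoc, resT_ι]
  assoc := fun α β γ h₁ h₂ => by
    rw [← cancel_mono (G.s ⁻¹ᵁ W).ι]
    refine (lift_resC_ι G W hW _ _ _).trans (Eq.trans ?_ (lift_resC_ι G W hW _ _ _).symm)
    have e1 := lift_resC_ι G W hW α β h₁
    have e2 := lift_resC_ι G W hW β γ h₂
    refine (gcomp_congr G e1 rfl _ (by rw [gcomp_s]; exact res_comp_cond G W hW β γ h₂)).trans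
      (Eq.trans ?_ (gcomp_congr G rfl e2 _
        (by rw [gcomp_t]; exact res_comp_cond G W hW α β h₁)).symm)
    exact gcomp_assoc G _ _ _ _ _ _ _
  e_s := by
    rw [← cancel_mono W.ι, Category.assoc, resS_ι, resE_ι_assoc, G.e_s, Category.comp_id,
      Category.id_comp]
  e_t := by
    rw [← cancel_mono W.ι, Category.assoc, resT_ι, resE_ι_assoc, G.e_t, Category.comp_id,
      Category.id_comp]
  comp_e := fun α => by
    rw [← cancel_mono (G.s ⁻¹ᵁ W).ι, lift_resC_ι]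
    refine gcomp_e G _ _ ?_ _
    rw [Category.assoc, Category.assoc, resE_ι, resS_ι_assoc, Category.assoc]
  e_comp := fun α => by
    rw [← cancel_mono (G.s ⁻¹ᵁ W).ι, lift_resC_ι]
    refine e_gcomp G _ _ ?_ _
    rw [Category.assoc, Category.assoc, resE_ι, resT_ι_assoc, Category.assoc]
  i_s := by
    rw [← cancel_mono W.ι, Category.assoc, resS_ι, resI_ι_assoc, G.i_s, resT_ι]
  i_t := by
    rw [← cancel_mono W.ι, Category.assoc, resT_ι, resI_ι_assoc, G.i_t, resS_ι]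
  comp_i := fun α => by
    rw [← cancel_mono (G.s ⁻¹ᵁ W).ι, lift_resC_ι]
    rw [gcomp_i G _ _ (by rw [Category.assoc, resI_ι, Category.assoc])]
    simp only [Category.assoc, resE_ι, resT_ι_assoc]
  i_comp := fun α => by
    rw [← cancel_mono (G.s ⁻¹ᵁ W).ι, lift_resC_ι]
    rw [i_gcomp G _ _ (by rw [Category.assoc, resI_ι, Category.assoc])]
    simp only [Category.assoc, resE_ι, resS_ι_assoc]


instance restrict_isFinite_s [IsFinite G.s] : IsFinite (restrict G W hW).s :=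
  inferInstanceAs (IsFinite (G.s ∣_ W))

instance restrict_flat_s [Flat G.s] : Flat (restrict G W hW).s :=
  inferInstanceAs (Flat (G.s ∣_ W))

instance restrict_lfp_s [LocallyOfFinitePresentation G.s] :
    LocallyOfFinitePresentation (restrict G W hW).s :=
  inferInstanceAs (LocallyOfFinitePresentation (G.s ∣_ W))

/-- `t = i ≫ s` with `i` an isomorphism. -/
lemma t_eq_i_s : G.t = G.i ≫ G.s := G.i_s.symm

lemma isFinite_t [IsFinite G.s] : IsFinite G.t := by
  rw [t_eq_i_s]; infer_instance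

lemma flat_t [Flat G.s] : Flat G.t := by
  rw [t_eq_i_s]; infer_instance

lemma lfp_t [LocallyOfFinitePresentation G.s] : LocallyOfFinitePresentation G.t := by
  rw [t_eq_i_s]; infer_instance

instance restrict_isFinite_t [IsFinite G.s] : IsFinite (restrict G W hW).t :=
  isFinite_t _

instance restrict_flat_t [Flat G.s] : Flat (restrict G W hW).t :=
  flat_t _

instance restrict_lfp_t [LocallyOfFinitePresentation G.s] :
    LocallyOfFinitePresentation (restrict G W hW).t :=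
  lfp_t _

lemma restrict_isAffine_U (hWa : IsAffineOpen W) : IsAffine (restrict G W hW).U := hWa

lemma restrict_isAffine_R [IsAffineHom G.s] (hWa : IsAffineOpen W) :
    IsAffine (restrict G W hW).R := hWa.preimage G.s

instance restrict_mono_j [Mono G.j] : Mono (restrict G W hW).j := by
  refine ⟨fun {T} a b hab => ?_⟩
  have h1 : a ≫ (restrict G W hW).t = b ≫ (restrict G W hW).t := by
    have := congrArg (· ≫ pullback.fst _ _) hab
    simpa only [Category.assoc, GroupoidScheme.j, pullback.lift_fst] using this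
  have h2 : a ≫ (restrict G W hW).s = b ≫ (restrict G W hW).s := by
    have := congrArg (· ≫ pullback.snd _ _) hab
    simpa only [Category.assoc, GroupoidScheme.j, pullback.lift_snd] using this
  change T ⟶ ((G.s ⁻¹ᵁ W : G.R.Opens) : Scheme.{u}) at a b
  change a ≫ resT G W hW = b ≫ resT G W hW at h1
  change a ≫ resS G W = b ≫ resS G W at h2
  change a = b
  rw [← cancel_mono (G.s ⁻¹ᵁ W).ι, ← cancel_mono G.j]
  apply pullback.hom_ext
  · simp only [Category.assoc, GroupoidScheme.j, pullback.lift_fst]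
    have := congrArg (· ≫ W.ι) h1
    simpa only [Category.assoc, resT_ι] using this
  · simp only [Category.assoc, GroupoidScheme.j, pullback.lift_snd]
    have := congrArg (· ≫ W.ι) h2
    simpa only [Category.assoc, resS_ι] using this

end Groth.Agent.Lib.Helper37
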