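import Groth.Agent.S1877
import Groth.Agent.Lib.Helper37.GrpdRestrict
import Groth.Agent.Lib.Helper37.FppfDesc
import Groth.Agent.Lib.Helper37.GroupoidInvOpen
import Groth.Agent.Lib.Helper37.GroupoidIntegral
import Mathlib.AlgebraicGeometry.Cover.Directed
import Mathlib.AlgebraicGeometry.Gluing

set_option autoImplicit false
set_option linter.style.haveILetI false
universe u

namespace Groth.Agent.Lib.Helper37

open CategoryTheory CategoryTheory.Limits AlgebraicGeometry Grpd

variable {S : Scheme.{u}} (G : GroupoidScheme S)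

section Refine

variable [IsFinite G.s] [Flat G.s] [LocallyOfFinitePresentation G.s]

/-- Refined invariant affine neighbourhoods: inside an invariant open `O` and an affine open `V`
containing the orbit of `u`. -/
theorem exists_invariant_affine_le (u : G.U) (V : G.U.Opens) (hV : IsAffineOpen V)
    (O : G.U.Opens) (hO : G.s ⁻¹ᵁ O = G.t ⁻¹ᵁ O) (huO : u ∈ O)
    (huV : ∀ r : G.R, G.s r = u → G.t r ∈ V) :
    ∃ W : G.U.Opens, IsAffineOpen W ∧ u ∈ W ∧ W ≤ O ∧ W ≤ V ∧ G.s ⁻¹ᵁ W = G.t ⁻¹ᵁ W := by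
  classical
  have hu : u ∈ invOpen G V := huV
  have hfin : (G.t '' (G.s ⁻¹' {u})).Finite := (G.s.finite_preimage_singleton u).image _
  have hEV : G.t '' (G.s ⁻¹' {u}) ⊆ V := by
    rintro _ ⟨r, hr, rfl⟩
    exact huV r hr
  have hEW : G.t '' (G.s ⁻¹' {u}) ⊆ (invOpen G V ⊓ O : G.U.Opens) := by
    rintro _ ⟨r, hr, rfl⟩
    have hr' : G.s r = u := hr
    refine ⟨(s_mem_invOpen_iff G V r).mp (hr' ▸ hu), ?_⟩
    have h1 : r ∈ G.s ⁻¹ᵁ O := by
      change G.s r ∈ O
      rw [hr']; exact huO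
    rw [hO] at h1
    exact h1
  obtain ⟨f, hEf, hfW⟩ := exists_basicOpen_le_of_finite_of_isAffineOpen hV (invOpen G V ⊓ O) _ hfin
    hEV hEW
  obtain ⟨g, hg⟩ := exists_invOpen_basicOpen_eq G hV f (hfW.trans inf_le_left)
  refine ⟨invOpen G (G.U.basicOpen f), ?_, ?_, ?_, ?_, preimage_invOpen G _⟩
  · rw [hg]
    exact (hV.basicOpen f).basicOpen g
  · intro r hr
    exact hEf ⟨r, hr, rfl⟩
  · exact (invOpen_le G _).trans (hfW.trans inf_le_right)
  · exact (invOpen_le G _).trans (G.U.basicOpen_le f)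

end Refine

/-- The index poset: invariant affine opens of `U`. -/
abbrev InvAff : Type u := {W : G.U.Opens // IsAffineOpen W ∧ G.s ⁻¹ᵁ W = G.t ⁻¹ᵁ W}

variable {G}

/-- The restricted groupoid on an invariant affine open. -/
noncomputable abbrev InvAff.res (W : InvAff G) : GroupoidScheme S := restrict G W.1 W.2.2

/-- The restricted arrows. -/
abbrev InvAff.R (W : InvAff G) : G.R.Opens := G.s ⁻¹ᵁ W.1

lemma InvAff.mem_of_t {W : InvAff G} {r : G.R} (h : G.t r ∈ W.1) : G.s r ∈ W.1 := by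
  have h1 : r ∈ G.t ⁻¹ᵁ W.1 := h
  rw [← W.2.2] at h1
  exact h1

lemma InvAff.mem_of_s {W : InvAff G} {r : G.R} (h : G.s r ∈ W.1) : G.t r ∈ W.1 := by
  have h1 : r ∈ G.s ⁻¹ᵁ W.1 := h
  rw [W.2.2] at h1
  exact h1

section Local

variable [IsFinite G.s] [Flat G.s] [LocallyOfFinitePresentation G.s] [Mono G.j]

/-- The local quotient `Spec` of the invariants. -/
noncomputable def InvAff.Y (W : InvAff G) : Scheme.{u} := Spec (CommRingCat.of W.res.invariants)

/-- The local quotient map. -/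
noncomputable def InvAff.q (W : InvAff G) : (W.1 : Scheme.{u}) ⟶ W.Y := W.res.toQuot

theorem InvAff.q_spec (W : InvAff G) :
    (IsFinite W.q ∧ Flat W.q ∧ LocallyOfFinitePresentation W.q) ∧ Surjective W.q ∧
      IsPullback (resT G W.1 W.2.2) (resS G W.1) W.q W.q := by
  haveI : IsAffine W.res.U := restrict_isAffine_U G W.1 W.2.2 W.2.1
  haveI : IsAffine W.res.R := restrict_isAffine_R G W.1 W.2.2 W.2.1
  obtain ⟨⟨hfinite, hflat, hlfp⟩, φ, hφ1, hφ2⟩ := Groth.Agent.S1877.result S W.res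
  have hw : W.res.t ≫ W.res.toQuot = W.res.s ≫ W.res.toQuot := by
    rw [← hφ1, ← hφ2, Category.assoc, Category.assoc, pullback.condition]
  have hpb : IsPullback W.res.t W.res.s W.res.toQuot W.res.toQuot :=
    IsPullback.of_iso_pullback ⟨hw⟩ φ hφ1 hφ2
  refine ⟨⟨hfinite, hflat, hlfp⟩, ?_, hpb⟩
  haveI := isIntegral_invariants W.res
  haveI : FaithfulSMul W.res.invariants Γ(W.res.U, ⊤) :=
    (faithfulSMul_iff_algebraMap_injective _ _).mpr Subtype.val_injective
  have h2 : Surjective (Spec.map (CommRingCat.ofHom W.res.invariants.subtype)) :=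
    ⟨Algebra.IsIntegral.comap_surjective W.res.invariants Γ(W.res.U, ⊤)⟩
  change Surjective W.res.toQuot
  rw [GroupoidScheme.toQuot]
  infer_instance

instance (W : InvAff G) : IsFinite W.q := W.q_spec.1.1
instance (W : InvAff G) : Flat W.q := W.q_spec.1.2.1
instance (W : InvAff G) : LocallyOfFinitePresentation W.q := W.q_spec.1.2.2
instance (W : InvAff G) : Surjective W.q := W.q_spec.2.1

lemma InvAff.isPullback (W : InvAff G) :
    IsPullback (resT G W.1 W.2.2) (resS G W.1) W.q W.q := W.q_spec.2.2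


omit [IsFinite G.s] [Flat G.s] [LocallyOfFinitePresentation G.s] [Mono G.j] in
lemma InvAff.R_le {W' W : InvAff G} (h : W' ≤ W) : G.s ⁻¹ᵁ W'.1 ≤ G.s ⁻¹ᵁ W.1 :=
  G.s.preimage_mono h

omit [IsFinite G.s] [Flat G.s] [LocallyOfFinitePresentation G.s] [Mono G.j] in
/-- compatibility of the restricted targets with inclusions -/
lemma resT_homOfLE {W' W : InvAff G} (h : W' ≤ W) :
    resT G W'.1 W'.2.2 ≫ G.U.homOfLE h =
      G.R.homOfLE (InvAff.R_le h) ≫
        resT G W.1 W.2.2 := by
  rw [← cancel_mono W.1.ι]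
  simp only [Category.assoc, Scheme.homOfLE_ι, resT_ι, Scheme.homOfLE_ι_assoc]

omit [IsFinite G.s] [Flat G.s] [LocallyOfFinitePresentation G.s] [Mono G.j] in
lemma resS_homOfLE {W' W : InvAff G} (h : W' ≤ W) :
    resS G W'.1 ≫ G.U.homOfLE h =
      G.R.homOfLE (InvAff.R_le h) ≫
        resS G W.1 := by
  rw [← cancel_mono W.1.ι]
  simp only [Category.assoc, Scheme.homOfLE_ι, resS_ι, Scheme.homOfLE_ι_assoc]

lemma InvAff.map_cond {W' W : InvAff G} (h : W' ≤ W) :
    resT G W'.1 W'.2.2 ≫ G.U.homOfLE h ≫ W.q = resS G W'.1 ≫ G.U.homOfLE h ≫ W.q := by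
  rw [← Category.assoc, resT_homOfLE, ← Category.assoc (resS G W'.1), resS_homOfLE,
    Category.assoc, Category.assoc, W.isPullback.w]

/-- The transition maps between local quotients. -/
noncomputable def InvAff.map {W' W : InvAff G} (h : W' ≤ W) : W'.Y ⟶ W.Y :=
  fppfDesc W'.q W'.isPullback (G.U.homOfLE h ≫ W.q) (InvAff.map_cond h)

@[reassoc]
lemma InvAff.q_map {W' W : InvAff G} (h : W' ≤ W) :
    W'.q ≫ InvAff.map h = G.U.homOfLE h ≫ W.q :=
  fppfDesc_fac _ _ _ _

lemma InvAff.map_rfl (W : InvAff G) : InvAff.map (le_refl W) = 𝟙 _ := by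
  rw [← cancel_epi W.q, InvAff.q_map, Category.comp_id]
  simp

lemma InvAff.map_trans {W₁ W₂ W₃ : InvAff G} (h₁ : W₁ ≤ W₂) (h₂ : W₂ ≤ W₃) :
    InvAff.map (h₁.trans h₂) = InvAff.map h₁ ≫ InvAff.map h₂ := by
  rw [← cancel_epi W₁.q, InvAff.q_map, InvAff.q_map_assoc, InvAff.q_map, ← Category.assoc,
    Scheme.homOfLE_homOfLE]

lemma InvAff.isPullback_restrict {W' W : InvAff G} (h : W' ≤ W) :
    IsPullback (resT G W'.1 W'.2.2) (resS G W'.1) (G.U.homOfLE h ≫ W.q)
      (G.U.homOfLE h ≫ W.q) := by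
  refine Groth.Agent.Lib.Helper37.isPullback_restrict W.isPullback (G.U.homOfLE h)
    (G.R.homOfLE (InvAff.R_le h)) _ _
    (resT_homOfLE h) (resS_homOfLE h) ?_
  intro T r a b hra hrb
  refine ⟨liftR G W'.1 (r ≫ (G.s ⁻¹ᵁ W.1).ι) b ?_, ?_⟩
  · rw [Category.assoc, ← resS_ι, ← Category.assoc, hrb, Category.assoc, Scheme.homOfLE_ι]
  · rw [← cancel_mono (G.s ⁻¹ᵁ W.1).ι]
    simp only [Category.assoc, Scheme.homOfLE_ι, liftR_ι]

instance InvAff.isOpenImmersion_map {W' W : InvAff G} (h : W' ≤ W) :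
    IsOpenImmersion (InvAff.map h) :=
  isOpenImmersion_of_kernelPair W'.q W'.isPullback (G.U.homOfLE h ≫ W.q)
    (InvAff.isPullback_restrict h) _ (InvAff.q_map h)

variable (G) in
/-- The diagram of local quotients. -/
noncomputable def quotFunctor : InvAff G ⥤ Scheme.{u} where
  obj W := W.Y
  map f := InvAff.map (leOfHom f)
  map_id W := InvAff.map_rfl W
  map_comp f g := InvAff.map_trans (leOfHom f) (leOfHom g)

instance {W' W : InvAff G} (f : W' ⟶ W) : IsOpenImmersion ((quotFunctor G).map f) :=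
  InvAff.isOpenImmersion_map (leOfHom f)


/-- Points with the same image in the local quotient are related by an arrow. -/
lemma InvAff.exists_of_q_eq (W : InvAff G) (x y : (W.1 : Scheme.{u})) (h : W.q x = W.q y) :
    ∃ r : G.R, G.t r = W.1.ι x ∧ G.s r = W.1.ι y := by
  obtain ⟨r', hr1, hr2⟩ := Scheme.exists_preimage_of_isPullback W.isPullback x y h
  refine ⟨(G.s ⁻¹ᵁ W.1).ι r', ?_, ?_⟩
  · rw [← Scheme.Hom.comp_apply, ← resT_ι G W.1 W.2.2, Scheme.Hom.comp_apply]
    exact congrArg _ hr1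
  · rw [← Scheme.Hom.comp_apply, ← resS_ι, Scheme.Hom.comp_apply]
    exact congrArg _ hr2

/-- Points related by an arrow have the same image in the local quotient. -/
lemma InvAff.q_eq_of_arrow (W : InvAff G) (x y : (W.1 : Scheme.{u})) (r : G.R) (ht : G.t r = W.1.ι x)
    (hs : G.s r = W.1.ι y) : W.q x = W.q y := by
  have hr : r ∈ G.s ⁻¹ᵁ W.1 := by
    change G.s r ∈ W.1
    rw [hs]
    exact y.2
  let r' : ((G.s ⁻¹ᵁ W.1 : G.R.Opens) : Scheme.{u}) := ⟨r, hr⟩
  have h1 : resT G W.1 W.2.2 r' = x := by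
    apply W.1.ι.isOpenEmbedding.injective
    rw [← Scheme.Hom.comp_apply, resT_ι, Scheme.Hom.comp_apply]
    exact ht
  have h2 : resS G W.1 r' = y := by
    apply W.1.ι.isOpenEmbedding.injective
    rw [← Scheme.Hom.comp_apply, resS_ι, Scheme.Hom.comp_apply]
    exact hs
  rw [← h1, ← h2, ← Scheme.Hom.comp_apply, ← Scheme.Hom.comp_apply, W.isPullback.w]

lemma InvAff.map_q_apply {W' W : InvAff G} (h : W' ≤ W) (x : (W'.1 : Scheme.{u})) :
    InvAff.map h (W'.q x) = W.q (G.U.homOfLE h x) := by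
  rw [← Scheme.Hom.comp_apply, InvAff.q_map, Scheme.Hom.comp_apply]

omit [Mono G.j] in
lemma exists_invAff_le (W₁ W₂ : InvAff G) (u : G.U) (h1 : u ∈ W₁.1) (h2 : u ∈ W₂.1) :
    ∃ W₃ : InvAff G, u ∈ W₃.1 ∧ W₃ ≤ W₁ ∧ W₃ ≤ W₂ := by
  obtain ⟨W, hWa, huW, hWO, -, hWinv⟩ := exists_invariant_affine_le G u W₁.1 W₁.2.1
    (W₁.1 ⊓ W₂.1) (by
      rw [Scheme.Hom.preimage_inf, Scheme.Hom.preimage_inf, W₁.2.2, W₂.2.2]) ⟨h1, h2⟩
    (fun r hr => InvAff.mem_of_s (hr ▸ h1))
  exact ⟨⟨W, hWa, hWinv⟩, huW, hWO.trans inf_le_left, hWO.trans inf_le_right⟩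

instance : (quotFunctor G ⋙ Scheme.forget).IsLocallyDirected where
  cond {i j k} fi fj xi xj hx := by
    simp only [Functor.comp_obj, Scheme.forget_obj, Functor.comp_map, Scheme.forget_map,
      ConcreteCategory.hom_ofHom, TypeCat.Fun.coe_mk] at hx xi xj ⊢
    change i.Y at xi
    change j.Y at xj
    change InvAff.map (leOfHom fi) xi = InvAff.map (leOfHom fj) xj at hx
    obtain ⟨ui, rfl⟩ := i.q.surjective xi
    obtain ⟨uj, rfl⟩ := j.q.surjective xj
    rw [InvAff.map_q_apply, InvAff.map_q_apply] at hx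
    obtain ⟨r, hr1, hr2⟩ := k.exists_of_q_eq _ _ hx
    rw [← Scheme.Hom.comp_apply, Scheme.homOfLE_ι] at hr1 hr2
    have huj : i.1.ι ui ∈ j.1 := by
      rw [← hr1]
      apply InvAff.mem_of_s
      rw [hr2]
      exact uj.2
    obtain ⟨l, hl, hli, hlj⟩ := exists_invAff_le i j (i.1.ι ui) ui.2 huj
    let ul : (l.1 : Scheme.{u}) := ⟨i.1.ι ui, hl⟩
    refine ⟨l, homOfLE hli, homOfLE hlj, l.q ul, ?_, ?_⟩
    · change InvAff.map hli _ = _
      rw [InvAff.map_q_apply]
      congr 1
      apply i.1.ι.isOpenEmbedding.injective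
      rw [← Scheme.Hom.comp_apply, Scheme.homOfLE_ι]
      rfl
    · change InvAff.map hlj _ = _
      rw [InvAff.map_q_apply]
      refine j.q_eq_of_arrow _ _ r ?_ hr2
      rw [hr1, ← Scheme.Hom.comp_apply, Scheme.homOfLE_ι]
      rfl

end Local

section Global

variable [IsFinite G.s] [Flat G.s] [LocallyOfFinitePresentation G.s] [Mono G.j]
variable (hcov : ∀ u : G.U, ∃ W : InvAff G, u ∈ W.1)

variable (G) in
/-- The cover of `U` by invariant affine opens. -/
noncomputable def invCover : G.U.OpenCover :=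
  G.U.openCoverOfIsOpenCover (fun W : InvAff G => W.1) (by
    apply TopologicalSpace.IsOpenCover.mk
    ext u
    simp only [TopologicalSpace.Opens.coe_iSup, Set.mem_iUnion, SetLike.mem_coe,
      TopologicalSpace.Opens.coe_top, Set.mem_univ, iff_true]
    exact hcov u)

instance : Category (invCover G hcov).I₀ := inferInstanceAs (Category (InvAff G))

noncomputable instance : (invCover G hcov).LocallyDirected where
  trans {i j} hij := G.U.homOfLE (leOfHom hij)
  trans_id i := Scheme.homOfLE_rfl _ _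
  trans_comp hij hjk := (Scheme.homOfLE_homOfLE _ _ _).symm
  w hij := Scheme.homOfLE_ι _ _
  directed {i j} x := by
    change InvAff G at i j
    change ↑(pullback i.1.ι j.1.ι) at x
    have hu1 : (pullback.fst i.1.ι j.1.ι ≫ i.1.ι) x ∈ i.1 :=
      ((pullback.fst i.1.ι j.1.ι) x).2
    have hu2 : (pullback.fst i.1.ι j.1.ι ≫ i.1.ι) x ∈ j.1 := by
      rw [pullback.condition]
      exact ((pullback.snd i.1.ι j.1.ι) x).2
    obtain ⟨l, hl, hli, hlj⟩ := exists_invAff_le i j _ hu1 hu2
    let y : (l.1 : Scheme.{u}) := ⟨_, hl⟩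
    have key : ∀ (a : (l.1 : Scheme.{u}) ⟶ pullback i.1.ι j.1.ι),
        a ≫ pullback.fst _ _ = G.U.homOfLE hli → a y = x := by
      intro a ha
      apply (pullback.fst i.1.ι j.1.ι ≫ i.1.ι).isOpenEmbedding.injective
      rw [← Scheme.Hom.comp_apply, ← Category.assoc, ha, Scheme.homOfLE_ι]
      rfl
    refine ⟨l, (show (l : InvAff G) ⟶ i from homOfLE hli),
      (show (l : InvAff G) ⟶ j from homOfLE hlj), y, ?_⟩
    exact key _ (pullback.lift_fst _ _ _)
  property_trans hij := inferInstanceAs (IsOpenImmersion (G.U.homOfLE _))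


variable (G) in
/-- The global quotient scheme, glued from the local quotients. -/
noncomputable def quotY : Scheme.{u} := colimit (quotFunctor G)

variable (G) in
/-- The inclusion of a local quotient. -/
noncomputable def quotι (W : InvAff G) : W.Y ⟶ quotY G := colimit.ι (quotFunctor G) W

instance (W : InvAff G) : IsOpenImmersion (quotι G W) :=
  inferInstanceAs (IsOpenImmersion (colimit.ι (quotFunctor G) W))

lemma map_quotι {W' W : InvAff G} (h : W' ≤ W) : InvAff.map h ≫ quotι G W = quotι G W' :=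
  colimit.w (quotFunctor G) (homOfLE h)

lemma quotMap_aux {i j : InvAff G} (h : i ≤ j) :
    G.U.homOfLE h ≫ InvAff.q j ≫ quotι G j = InvAff.q i ≫ quotι G i := by
  rw [← InvAff.q_map_assoc, map_quotι]

variable (G) in
/-- The global quotient map. -/
noncomputable def quotMap : G.U ⟶ quotY G :=
  (invCover G hcov).glueMorphismsOfLocallyDirected (fun W => InvAff.q W ≫ quotι G W)
    (fun {_ _} hij => quotMap_aux (leOfHom hij))

@[reassoc]
lemma ι_quotMap (W : InvAff G) : W.1.ι ≫ quotMap G hcov = W.q ≫ quotι G W :=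
  (invCover G hcov).map_glueMorphismsOfLocallyDirected (fun W => InvAff.q W ≫ quotι G W)
    (fun {_ _} hij => quotMap_aux (leOfHom hij)) W

lemma quotMap_apply (W : InvAff G) (x : (W.1 : Scheme.{u})) :
    quotMap G hcov (W.1.ι x) = quotι G W (W.q x) := by
  rw [← Scheme.Hom.comp_apply, ι_quotMap, Scheme.Hom.comp_apply]

lemma quotMap_preimage (W : InvAff G) :
    quotMap G hcov ⁻¹ᵁ (quotι G W).opensRange = W.1 := by
  ext u
  constructor
  · rintro ⟨y, hy⟩
    obtain ⟨W', hu'⟩ := hcov u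
    let u' : (W'.1 : Scheme.{u}) := ⟨u, hu'⟩
    have h1 : quotι G W y = quotι G W' (W'.q u') := by
      rw [← quotMap_apply hcov W' u']
      exact hy
    obtain ⟨k, fi, fj, x, hx1, hx2⟩ :=
      (Scheme.IsLocallyDirected.ι_eq_ι_iff (F := quotFunctor G)).mp h1
    change k.Y at x
    change InvAff.map (leOfHom fi) x = y at hx1
    change InvAff.map (leOfHom fj) x = W'.q u' at hx2
    obtain ⟨v, rfl⟩ := k.q.surjective x
    rw [InvAff.map_q_apply] at hx2
    obtain ⟨r, hr1, hr2⟩ := W'.exists_of_q_eq _ _ hx2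
    rw [← Scheme.Hom.comp_apply, Scheme.homOfLE_ι] at hr1
    have : G.s r ∈ k.1 := InvAff.mem_of_t (hr1 ▸ v.2)
    rw [hr2] at this
    exact leOfHom fi this
  · intro hu
    let u' : (W.1 : Scheme.{u}) := ⟨u, hu⟩
    exact ⟨W.q u', (quotMap_apply hcov W u').symm⟩

lemma isPullback_quotι (W : InvAff G) :
    IsPullback W.q W.1.ι (quotι G W) (quotMap G hcov) :=
  IsOpenImmersion.isPullback _ _ _ _ (ι_quotMap hcov W) (by
    rw [quotMap_preimage, Scheme.Opens.opensRange_ι])


/-- A property local at the target holds for the quotient map if it holds for the local ones. -/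
lemma quotMap_of_local (P : MorphismProperty Scheme.{u}) [IsZariskiLocalAtTarget P]
    (hP : ∀ W : InvAff G, P W.q) : P (quotMap G hcov) := by
  refine IsZariskiLocalAtTarget.of_openCover
    (Scheme.IsLocallyDirected.openCover (quotFunctor G)) (fun W => ?_)
  change InvAff G at W
  change P (pullback.snd (quotMap G hcov) (quotι G W))
  have h := (isPullback_quotι hcov W).flip
  have := hP W
  rw [← h.isoPullback_hom_snd, P.cancel_left_of_respectsIso] at this
  exact this

set_option backward.isDefEq.respectTransparency.types false in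
instance : IsFinite (quotMap G hcov) := quotMap_of_local hcov @IsFinite fun _ => inferInstance
set_option backward.isDefEq.respectTransparency.types false in
instance : Flat (quotMap G hcov) := quotMap_of_local hcov @Flat fun _ => inferInstance
set_option backward.isDefEq.respectTransparency.types false in
instance : LocallyOfFinitePresentation (quotMap G hcov) :=
  quotMap_of_local hcov @LocallyOfFinitePresentation fun _ => inferInstance

instance : Surjective (quotMap G hcov) := by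
  refine ⟨fun y => ?_⟩
  obtain ⟨W, y', rfl⟩ := Scheme.IsLocallyDirected.ι_jointly_surjective (quotFunctor G) y
  change InvAff G at W
  change W.Y at y'
  obtain ⟨x, rfl⟩ := W.q.surjective y'
  exact ⟨W.1.ι x, quotMap_apply hcov W x⟩

/-- The arrows are the kernel pair of the quotient map. -/
theorem isPullback_quotMap : IsPullback G.t G.s (quotMap G hcov) (quotMap G hcov) := by
  refine Scheme.isPullback_of_openCover G.t G.s _ _ (invCover G hcov) (fun W => ?_)
  change InvAff G at W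
  change IsPullback (pullback.snd G.t W.1.ι) (pullback.fst G.t W.1.ι ≫ G.s)
    (W.1.ι ≫ quotMap G hcov) (quotMap G hcov)
  have h1 : IsPullback (resT G W.1 W.2.2) (resS G W.1 ≫ W.1.ι) (W.q ≫ quotι G W)
      (quotMap G hcov) :=
    (W.isPullback.flip.paste_horiz (isPullback_quotι hcov W).flip).flip
  have h2 : IsPullback (G.s ⁻¹ᵁ W.1).ι (resT G W.1 W.2.2) G.t W.1.ι :=
    (IsOpenImmersion.isPullback (resT G W.1 W.2.2) (G.s ⁻¹ᵁ W.1).ι W.1.ι G.t
      (resT_ι G W.1 W.2.2).symm (by
        rw [Scheme.Opens.opensRange_ι, Scheme.Opens.opensRange_ι, W.2.2])).flip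
  refine h1.of_iso h2.isoPullback (Iso.refl _) (Iso.refl _) (Iso.refl _) ?_ ?_ ?_ ?_
  · rw [Iso.refl_hom, Category.comp_id, h2.isoPullback_hom_snd]
  · rw [Iso.refl_hom, Category.comp_id, ← Category.assoc, h2.isoPullback_hom_fst, resS_ι]
  · rw [Iso.refl_hom, Iso.refl_hom, Category.comp_id, Category.id_comp, ι_quotMap]
  · rw [Iso.refl_hom, Iso.refl_hom, Category.comp_id, Category.id_comp]

end Global

/-- **Global quotient by a finite locally free equivalence relation**: if every point of `U` has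
an invariant affine open neighbourhood, then there is a finite locally free surjection
`q : U ⟶ Y` whose kernel pair is `(t, s)`. -/
theorem exists_global_quotient (G : GroupoidScheme S) [IsFinite G.s] [Flat G.s]
    [LocallyOfFinitePresentation G.s] [Mono G.j]
    (hcov : ∀ u : G.U, ∃ W : G.U.Opens, IsAffineOpen W ∧ u ∈ W ∧ G.s ⁻¹ᵁ W = G.t ⁻¹ᵁ W) :
    ∃ (Y : Scheme.{u}) (q : G.U ⟶ Y), IsFinite q ∧ Flat q ∧ LocallyOfFinitePresentation q ∧
      Surjective q ∧ IsPullback G.t G.s q q := by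
  have hcov' : ∀ u : G.U, ∃ W : InvAff G, u ∈ W.1 := by
    intro u
    obtain ⟨W, hWa, huW, hW⟩ := hcov u
    exact ⟨⟨W, hWa, hW⟩, huW⟩
  exact ⟨quotY G, quotMap G hcov', inferInstance, inferInstance, inferInstance, inferInstance,
    isPullback_quotMap hcov'⟩

end Groth.Agent.Lib.Helper37
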