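import Groth.Agent.Lib.Helper37.DDGroupoid
import Groth.Agent.Lib.Helper37.GrpdGlue
import Groth.Agent.S1881
import Mathlib.AlgebraicGeometry.Morphisms.FlatDescent

set_option autoImplicit false
set_option linter.style.haveILetI false
universe u

namespace Groth.Agent.Lib.Helper37.DDG

open CategoryTheory CategoryTheory.Limits AlgebraicGeometry Grpd Desc

variable {X Y : Scheme.{u}} {p : X ⟶ Y}

/-- A morphism of descent data whose underlying morphism of schemes is an isomorphism is an
isomorphism. -/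
lemma isIso_of_isIso_left {D D' : SchDD p} (f : D ⟶ D') [IsIso f.hom.left] : IsIso f := by
  haveI : IsIso ((Over.forget X).map f.hom) := ‹IsIso f.hom.left›
  haveI : IsIso f.hom := isIso_of_reflects_iso f.hom (Over.forget X)
  let g : D' ⟶ D := ⟨inv f.hom, fun T x₀ x₁ h v w hw => by
    have hv : v.1 = w.1 ≫ f.hom.left := by
      rw [hw, Category.assoc, ← Over.comp_left, IsIso.inv_hom_id, Over.id_left, Category.comp_id]
    rw [f.comm x₀ x₁ h w v hv, Category.assoc, ← Over.comp_left, IsIso.hom_inv_id, Over.id_left,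
      Category.comp_id]⟩
  exact ⟨g, SchDD.hom_ext (IsIso.hom_inv_id f.hom), SchDD.hom_ext (IsIso.inv_hom_id f.hom)⟩

variable (D : SchDD p)

lemma canon_φ_val (U : Over Y) {T : Scheme.{u}} (x₀ x₁ : T ⟶ X) (h : x₀ ≫ p = x₁ ≫ p)
    (w : Lifts (canonicalDD p U).obj x₀) :
    ((canonicalDD p U).φ x₀ x₁ h w).1 = (canMap p U x₀ x₁ h w).1 := rfl

variable {D} in
/-- The gluing bijections preserve the image in any invariant quotient. -/
lemma φ_comp_eq {W : Scheme.{u}} (q : D.obj.left ⟶ W) (hq : td D ≫ q = sd D ≫ q)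
    {T : Scheme.{u}} (x₀ x₁ : T ⟶ X) (h : x₀ ≫ p = x₁ ≫ p) (v : Lifts D.obj x₀) :
    (D.φ x₀ x₁ h v).1 ≫ q = v.1 ≫ q := by
  rw [φ_val_eq_act]
  have h1 : (v.1 ≫ D.obj.hom) ≫ p = x₁ ≫ p := by rw [v.2]; exact h
  have h2 : pullback.lift v.1 x₁ (by rw [← Category.assoc]; exact h1) ≫ td D =
      act D v.1 x₁ h1 := by
    rw [comp_td]
    exact act_congr (pullback.lift_fst _ _ _) (pullback.lift_snd _ _ _) _ _
  rw [← h2, Category.assoc, hq, ← Category.assoc, pullback.lift_fst]

set_option backward.isDefEq.respectTransparency false in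
set_option backward.isDefEq.respectTransparency.types false in
/-- A finite locally free quotient of the descent groupoid descends the scheme. -/
theorem effective_of_quotient {W : Scheme.{u}} (q : D.obj.left ⟶ W) [Surjective q] [Flat q]
    [LocallyOfFinitePresentation q] [QuasiCompact q]
    (hpb : IsPullback (td D) (sd D) q q) :
    ∃ Wo : Over Y, Nonempty ((toDD p).obj Wo ≅ D) := by
  have hinv : td D ≫ D.obj.hom ≫ p = sd D ≫ D.obj.hom ≫ p := by
    rw [td_hom_assoc]; exact pullback.condition.symm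
  let w₀ : W ⟶ Y := fppfDesc q hpb (D.obj.hom ≫ p) hinv
  have hw₀ : q ≫ w₀ = D.obj.hom ≫ p := fppfDesc_fac q hpb _ hinv
  let θ : D.obj.left ⟶ pullback p w₀ := pullback.lift D.obj.hom q hw₀.symm
  -- the cover of `X ×_Y W` by `X ×_Y V`
  let m : pullback p (D.obj.hom ≫ p) ⟶ pullback p w₀ :=
    pullback.map p (D.obj.hom ≫ p) p w₀ (𝟙 X) q (𝟙 Y) (by simp) (by simp [hw₀])
  have hright : IsPullback (pullback.snd p (D.obj.hom ≫ p)) m q (pullback.snd p w₀) := by
    refine IsPullback.of_bot ?_ (by simp [m]) (IsPullback.of_hasPullback p w₀).flip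
    have : m ≫ pullback.fst p w₀ = pullback.fst p (D.obj.hom ≫ p) := by simp [m]
    rw [this, hw₀]
    exact (IsPullback.of_hasPullback p (D.obj.hom ≫ p)).flip
  let top : Rd D ⟶ pullback p (D.obj.hom ≫ p) := (pullbackSymmetry _ _).hom
  have hleft : IsPullback top (td D) m θ := by
    refine IsPullback.of_right ?_ ?_ hright
    · have h1 : top ≫ pullback.snd p (D.obj.hom ≫ p) = sd D := by simp [top]
      have h2 : θ ≫ pullback.snd p w₀ = q := by simp [θ]
      rw [h1, h2]
      exact hpb.flip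
    · apply pullback.hom_ext
      · simp [top, m, θ]
      · simp [top, m, θ, hpb.w]
  have hm : (@Surjective ⊓ @Flat ⊓ @QuasiCompact : MorphismProperty Scheme.{u}) m :=
    MorphismProperty.of_isPullback hright ⟨⟨inferInstance, inferInstance⟩, inferInstance⟩
  haveI hθ : IsIso θ :=
    MorphismProperty.of_isPullback_of_descendsAlong
      (P := MorphismProperty.isomorphisms Scheme.{u})
      (Q := (@Surjective ⊓ @Flat ⊓ @QuasiCompact : MorphismProperty Scheme.{u})) hleft hm
      (inferInstanceAs (IsIso (pullbackSymmetry _ _).hom))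
  have hθ1 : θ ≫ pullback.fst p w₀ = D.obj.hom := pullback.lift_fst _ _ _
  have hθ2 : θ ≫ pullback.snd p w₀ = q := pullback.lift_snd _ _ _
  let F : D ⟶ (toDD p).obj (Over.mk w₀) :=
    ⟨Over.homMk θ hθ1, fun T x₀ x₁ h v w hw => by
      change ((canonicalDD p (Over.mk w₀)).φ x₀ x₁ h w).1 = (D.φ x₀ x₁ h v).1 ≫ θ
      have hw' : w.1 = v.1 ≫ θ := hw
      rw [canon_φ_val, canMap_val]
      apply pullback.hom_ext
      · rw [pullback.lift_fst, Category.assoc]
        change x₁ = (D.φ x₀ x₁ h v).1 ≫ θ ≫ pullback.fst p w₀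
        rw [hθ1]
        exact (D.φ x₀ x₁ h v).2.symm
      · rw [pullback.lift_snd, Category.assoc]
        change w.1 ≫ pullback.snd p w₀ = (D.φ x₀ x₁ h v).1 ≫ θ ≫ pullback.snd p w₀
        rw [hθ2, hw', Category.assoc, hθ2, φ_comp_eq q hpb.w]⟩
  haveI : IsIso F.hom.left := hθ
  haveI := isIso_of_isIso_left F
  exact ⟨Over.mk w₀, ⟨(asIso F).symm⟩⟩


/-- **Effectivity of descent data along a finite locally free surjection**, under the hypothesis
that every orbit of the descent groupoid lies in an affine open. -/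
theorem effective [Surjective p] [IsFinite p] [Flat p] [LocallyOfFinitePresentation p]
    (horb : ∀ v : D.obj.left, ∃ U : D.obj.left.Opens, IsAffineOpen U ∧
      ∀ r : (groupoid D).R, (groupoid D).s r = v → (groupoid D).t r ∈ U) :
    ∃ W : Over Y, Nonempty ((toDD p).obj W ≅ D) := by
  haveI : IsFinite (groupoid D).t := isFinite_t _
  haveI : Flat (groupoid D).t := flat_t _
  haveI : LocallyOfFinitePresentation (groupoid D).t := lfp_t _
  have hcov : ∀ u : (groupoid D).U, ∃ W : (groupoid D).U.Opens,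
      IsAffineOpen W ∧ u ∈ W ∧ (groupoid D).s ⁻¹ᵁ W = (groupoid D).t ⁻¹ᵁ W := by
    intro u
    obtain ⟨V, hV, hVu⟩ := horb u
    exact Groth.Agent.S1881.result Y (groupoid D) u V hV hVu
  obtain ⟨W, q, hqfin, hqflat, hqlfp, hqsurj, hpb⟩ := exists_global_quotient (groupoid D) hcov
  have key : ∀ (q' : D.obj.left ⟶ W), Surjective q' → Flat q' → LocallyOfFinitePresentation q' →
      IsFinite q' → IsPullback (td D) (sd D) q' q' →
      ∃ W : Over Y, Nonempty ((toDD p).obj W ≅ D) := by
    intro q' h1 h2 h3 h4 hpb'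
    exact effective_of_quotient D q' hpb'
  exact key q hqsurj hqflat hqlfp hqfin hpb

end Groth.Agent.Lib.Helper37.DDG
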