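import Groth.Prelude.Def_Desc
import Groth.Prelude.Def_Grpd
import Mathlib.AlgebraicGeometry.Morphisms.Finite
import Mathlib.AlgebraicGeometry.Morphisms.Flat
import Mathlib.AlgebraicGeometry.Morphisms.FinitePresentation

set_option autoImplicit false
set_option linter.style.haveILetI false
universe u

namespace Groth.Agent.Lib.Helper37

open CategoryTheory CategoryTheory.Limits AlgebraicGeometry Grpd Desc

variable {X Y : Scheme.{u}} {p : X ⟶ Y} (D : SchDD p)

namespace DDG

/-- Translate a `T`-point `v` of `V` to lie over `x`. -/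
noncomputable def act {T : Scheme.{u}} (v : T ⟶ D.obj.left) (x : T ⟶ X)
    (h : (v ≫ D.obj.hom) ≫ p = x ≫ p) : T ⟶ D.obj.left :=
  (D.φ (v ≫ D.obj.hom) x h ⟨v, rfl⟩).1

variable {D}

lemma φ_val_eq_act {T : Scheme.{u}} (x₀ x₁ : T ⟶ X) (h : x₀ ≫ p = x₁ ≫ p)
    (w : Lifts D.obj x₀) :
    (D.φ x₀ x₁ h w).1 = act D w.1 x₁ (by rw [w.2]; exact h) := by
  obtain ⟨v, rfl⟩ := w
  rfl

@[reassoc (attr := simp)]
lemma act_hom {T : Scheme.{u}} (v : T ⟶ D.obj.left) (x : T ⟶ X)
    (h : (v ≫ D.obj.hom) ≫ p = x ≫ p) : act D v x h ≫ D.obj.hom = x :=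
  (D.φ (v ≫ D.obj.hom) x h ⟨v, rfl⟩).2

lemma act_congr {T : Scheme.{u}} {v v' : T ⟶ D.obj.left} {x x' : T ⟶ X} (hv : v = v')
    (hx : x = x') (h : (v ≫ D.obj.hom) ≫ p = x ≫ p) (h' : (v' ≫ D.obj.hom) ≫ p = x' ≫ p) :
    act D v x h = act D v' x' h' := by
  subst hv hx
  rfl

lemma comp_act {T T' : Scheme.{u}} (g : T' ⟶ T) (v : T ⟶ D.obj.left) (x : T ⟶ X)
    (h : (v ≫ D.obj.hom) ≫ p = x ≫ p) :
    g ≫ act D v x h = act D (g ≫ v) (g ≫ x)
      (by simp only [Category.assoc] at h ⊢; rw [h]) := by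
  have h' : (g ≫ v ≫ D.obj.hom) ≫ p = (g ≫ x) ≫ p := by
    simp only [Category.assoc] at h ⊢; rw [h]
  have := D.φ_natural g (v ≫ D.obj.hom) x h h' ⟨v, rfl⟩ ⟨g ≫ v, Category.assoc _ _ _⟩ rfl
  rw [φ_val_eq_act] at this
  exact this.symm

lemma act_self {T : Scheme.{u}} (v : T ⟶ D.obj.left) (x : T ⟶ X) (hx : x = v ≫ D.obj.hom)
    (h : (v ≫ D.obj.hom) ≫ p = x ≫ p) : act D v x h = v := by
  subst hx
  exact congrArg Subtype.val (D.φ_self (v ≫ D.obj.hom) ⟨v, rfl⟩)

lemma act_act {T : Scheme.{u}} (v : T ⟶ D.obj.left) (x x' : T ⟶ X)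
    (h : (v ≫ D.obj.hom) ≫ p = x ≫ p) (h' : (act D v x h ≫ D.obj.hom) ≫ p = x' ≫ p) :
    act D (act D v x h) x' h' = act D v x' (by rw [h, ← h', act_hom]) := by
  have h1 : x ≫ p = x' ≫ p := by rw [← h', act_hom]
  have := congrArg Subtype.val (D.φ_comp (v ≫ D.obj.hom) x x' h h1 ⟨v, rfl⟩)
  rw [φ_val_eq_act] at this
  exact this

variable (D)

/-- The arrows `V ×_Y X` of the descent groupoid. -/
noncomputable abbrev Rd : Scheme.{u} := pullback (D.obj.hom ≫ p) p

/-- source -/
noncomputable abbrev sd : Rd D ⟶ D.obj.left := pullback.fst _ _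

/-- second component -/
noncomputable abbrev bd : Rd D ⟶ X := pullback.snd _ _

lemma cond : (sd D ≫ D.obj.hom) ≫ p = bd D ≫ p := by
  rw [Category.assoc]; exact pullback.condition

/-- target -/
noncomputable def td : Rd D ⟶ D.obj.left := act D (sd D) (bd D) (cond D)

variable {D}

lemma comp_cond {T : Scheme.{u}} (α : T ⟶ Rd D) :
    ((α ≫ sd D) ≫ D.obj.hom) ≫ p = (α ≫ bd D) ≫ p := by
  have := cond D
  simp only [Category.assoc] at this ⊢
  rw [this]

lemma comp_td {T : Scheme.{u}} (α : T ⟶ Rd D) :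
    α ≫ td D = act D (α ≫ sd D) (α ≫ bd D) (comp_cond α) :=
  comp_act α _ _ _

@[reassoc (attr := simp)]
lemma td_hom : td D ≫ D.obj.hom = bd D := act_hom _ _ _

lemma Rd_ext {T : Scheme.{u}} {α β : T ⟶ Rd D} (h1 : α ≫ sd D = β ≫ sd D)
    (h2 : α ≫ bd D = β ≫ bd D) : α = β := pullback.hom_ext h1 h2

lemma key_cond {T : Scheme.{u}} (α β : T ⟶ Rd D) (h : α ≫ sd D = β ≫ td D) :
    ((β ≫ sd D) ≫ D.obj.hom) ≫ p = (α ≫ bd D) ≫ p := by
  have h1 := comp_cond α
  have h2 := comp_cond β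
  have h3 := congrArg (· ≫ D.obj.hom ≫ p) h
  simp only [Category.assoc, td_hom_assoc] at h1 h2 h3 ⊢
  rw [h2, ← h1, h3]

variable (D)

/-- identity -/
noncomputable def ed : D.obj.left ⟶ Rd D :=
  pullback.lift (𝟙 _) D.obj.hom (by rw [Category.id_comp])

@[reassoc (attr := simp)] lemma ed_sd : ed D ≫ sd D = 𝟙 _ := pullback.lift_fst _ _ _
@[reassoc (attr := simp)] lemma ed_bd : ed D ≫ bd D = D.obj.hom := pullback.lift_snd _ _ _

/-- inverse -/
noncomputable def id' : Rd D ⟶ Rd D :=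
  pullback.lift (td D) (sd D ≫ D.obj.hom) (by
    rw [td_hom_assoc, Category.assoc]
    exact pullback.condition.symm)

@[reassoc (attr := simp)] lemma id'_sd : id' D ≫ sd D = td D := pullback.lift_fst _ _ _
@[reassoc (attr := simp)] lemma id'_bd : id' D ≫ bd D = sd D ≫ D.obj.hom :=
  pullback.lift_snd _ _ _

/-- composition -/
noncomputable def cd : pullback (sd D) (td D) ⟶ Rd D :=
  pullback.lift (pullback.snd _ _ ≫ sd D) (pullback.fst _ _ ≫ bd D) (by
    have := key_cond (pullback.fst (sd D) (td D)) (pullback.snd _ _) pullback.condition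
    simpa only [Category.assoc] using this)

@[reassoc (attr := simp)] lemma cd_sd : cd D ≫ sd D = pullback.snd _ _ ≫ sd D :=
  pullback.lift_fst _ _ _
@[reassoc (attr := simp)] lemma cd_bd : cd D ≫ bd D = pullback.fst _ _ ≫ bd D :=
  pullback.lift_snd _ _ _

variable {D}

lemma lift_cd_sd {T : Scheme.{u}} (α β : T ⟶ Rd D) (h : α ≫ sd D = β ≫ td D) :
    (pullback.lift α β h ≫ cd D) ≫ sd D = β ≫ sd D := by
  rw [Category.assoc, cd_sd, pullback.lift_snd_assoc]

lemma lift_cd_bd {T : Scheme.{u}} (α β : T ⟶ Rd D) (h : α ≫ sd D = β ≫ td D) :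
    (pullback.lift α β h ≫ cd D) ≫ bd D = α ≫ bd D := by
  rw [Category.assoc, cd_bd, pullback.lift_fst_assoc]

variable (D)

/-- The groupoid scheme over `Y` attached to a descent datum. -/
noncomputable def groupoid : GroupoidScheme Y where
  U := D.obj.left
  R := Rd D
  pU := D.obj.hom ≫ p
  pR := sd D ≫ D.obj.hom ≫ p
  s := sd D
  t := td D
  e := ed D
  i := id' D
  c := cd D
  s_over := rfl
  t_over := by
    rw [td_hom_assoc]
    exact pullback.condition.symm
  comp_s := fun α β h => lift_cd_sd α β h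
  comp_t := fun α β h => by
    have hαβ : ((β ≫ sd D) ≫ D.obj.hom) ≫ p = (α ≫ bd D) ≫ p := key_cond α β h
    have e1 : (pullback.lift α β h ≫ cd D) ≫ td D = act D (β ≫ sd D) (α ≫ bd D) hαβ := by
      rw [comp_td]
      exact act_congr (lift_cd_sd α β h) (lift_cd_bd α β h) _ _
    have e2 : α ≫ td D = act D (β ≫ sd D) (α ≫ bd D) hαβ := by
      rw [comp_td]
      have h1 : α ≫ sd D = act D (β ≫ sd D) (β ≫ bd D) (comp_cond β) := by rw [h, comp_td]
      have h2 : (act D (β ≫ sd D) (β ≫ bd D) (comp_cond β) ≫ D.obj.hom) ≫ p =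
          (α ≫ bd D) ≫ p := by
        rw [← h1]; exact comp_cond α
      rw [act_congr h1 rfl (comp_cond α) h2, act_act]
    rw [e1, e2]
  assoc := fun α β γ h₁ h₂ => by
    apply Rd_ext
    · rw [lift_cd_sd, lift_cd_sd, lift_cd_sd]
    · rw [lift_cd_bd, lift_cd_bd, lift_cd_bd]
  e_s := ed_sd D
  e_t := by
    rw [comp_td]
    exact (act_congr (ed_sd D) (ed_bd D) _ (by rw [Category.id_comp])).trans
      (act_self _ _ (Category.id_comp _).symm _)
  comp_e := fun α => by
    apply Rd_ext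
    · rw [lift_cd_sd, Category.assoc, Category.assoc, ed_sd, Category.comp_id]
    · rw [lift_cd_bd]
  e_comp := fun α => by
    apply Rd_ext
    · rw [lift_cd_sd]
    · rw [lift_cd_bd, Category.assoc, Category.assoc, ed_bd, td_hom]
  i_s := id'_sd D
  i_t := by
    rw [comp_td]
    have h' : (td D ≫ D.obj.hom) ≫ p = (sd D ≫ D.obj.hom) ≫ p := by
      rw [td_hom]; exact (cond D).symm
    refine (act_congr (id'_sd D) (id'_bd D) _ h').trans ?_
    unfold td at h' ⊢
    rw [act_act]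
    exact act_self _ _ rfl _
  comp_i := fun α => by
    apply Rd_ext
    · rw [lift_cd_sd, Category.assoc, id'_sd, Category.assoc, Category.assoc, ed_sd,
        Category.comp_id]
    · rw [lift_cd_bd, Category.assoc, Category.assoc, ed_bd, td_hom]
  i_comp := fun α => by
    apply Rd_ext
    · rw [lift_cd_sd, Category.assoc, Category.assoc, ed_sd, Category.comp_id]
    · rw [lift_cd_bd, Category.assoc, id'_bd, Category.assoc, Category.assoc, ed_bd]


@[simp] lemma groupoid_s : (groupoid D).s = sd D := rfl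
@[simp] lemma groupoid_t : (groupoid D).t = td D := rfl

instance [IsFinite p] : IsFinite (groupoid D).s :=
  inferInstanceAs (IsFinite (pullback.fst (D.obj.hom ≫ p) p))

instance [Flat p] : Flat (groupoid D).s :=
  inferInstanceAs (Flat (pullback.fst (D.obj.hom ≫ p) p))

instance [LocallyOfFinitePresentation p] : LocallyOfFinitePresentation (groupoid D).s :=
  inferInstanceAs (LocallyOfFinitePresentation (pullback.fst (D.obj.hom ≫ p) p))

instance : Mono (groupoid D).j := by
  refine ⟨fun {T} α β hαβ => ?_⟩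
  have h1 : α ≫ (groupoid D).t = β ≫ (groupoid D).t := by
    have := congrArg (· ≫ pullback.fst _ _) hαβ
    simpa only [Category.assoc, GroupoidScheme.j, pullback.lift_fst] using this
  have h2 : α ≫ (groupoid D).s = β ≫ (groupoid D).s := by
    have := congrArg (· ≫ pullback.snd _ _) hαβ
    simpa only [Category.assoc, GroupoidScheme.j, pullback.lift_snd] using this
  change T ⟶ Rd D at α β
  change α ≫ td D = β ≫ td D at h1
  change α ≫ sd D = β ≫ sd D at h2
  change α = β
  refine Rd_ext h2 ?_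
  have := congrArg (· ≫ D.obj.hom) h1
  simp only [Category.assoc, td_hom] at this
  exact this

/-- Orbits lie in the fibres over `Y`. -/
lemma orbit_fibre (r : (groupoid D).R) :
    p (D.obj.hom ((groupoid D).t r)) = p (D.obj.hom ((groupoid D).s r)) := by
  change Rd D at r
  change p (D.obj.hom (td D r)) = p (D.obj.hom (sd D r))
  have h1 : td D ≫ D.obj.hom ≫ p = sd D ≫ D.obj.hom ≫ p := by
    rw [td_hom_assoc]; exact pullback.condition.symm
  have := congrArg (fun f : Rd D ⟶ Y => f r) h1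
  simpa only [Scheme.Hom.comp_apply] using this

end DDG

end Groth.Agent.Lib.Helper37
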