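import Mathlib.AlgebraicGeometry.AlgClosed.Basic
import Mathlib.AlgebraicGeometry.Morphisms.QuasiFinite
import Mathlib.AlgebraicGeometry.PullbackCarrier

set_option autoImplicit false
set_option linter.style.haveILetI false
universe u

namespace Groth.Agent.Lib.Helper37

open CategoryTheory CategoryTheory.Limits AlgebraicGeometry

/-- The fibre of a finite morphism over the image of a geometric point has at most as many
points as there are lifts of the geometric point. -/
theorem encard_fibre_le_encard_lifts {A B : Scheme.{u}} (f : A ⟶ B) [IsFinite f]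
    (k : Type u) [Field k] [IsAlgClosed k] (β : Spec (CommRingCat.of k) ⟶ B) (b : B)
    (hb : β (IsLocalRing.closedPoint k) = b) :
    (f ⁻¹' {b}).encard ≤ {σ : Spec (CommRingCat.of k) ⟶ A | σ ≫ f = β}.encard := by
  classical
  let g : pullback f β ⟶ Spec (CommRingCat.of k) := pullback.snd f β
  have hdisc : ∀ z : ↑(pullback f β), IsClosed ({z} : Set ↑(pullback f β)) := by
    intro z
    have h1 := g.isDiscrete_preimage_singleton (IsLocalRing.closedPoint k)
    have h2 : g ⁻¹' {IsLocalRing.closedPoint k} = Set.univ := by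
      ext z
      simp only [Set.mem_preimage, Set.mem_univ, iff_true]
      exact Subsingleton.elim _ _
    have h3 : _root_.IsDiscrete (Set.univ : Set ↑(pullback f β)) := h2 ▸ h1
    haveI : DiscreteTopology ↑(pullback f β) := by
      rwa [← isDiscrete_univ_iff]
    exact isClosed_discrete _
  have hex : ∀ a : A, f a = b → ∃ z : ↑(pullback f β), pullback.fst f β z = a := by
    intro a ha
    obtain ⟨z, hz, -⟩ := Scheme.Pullback.exists_preimage_pullback (f := f) (g := β) a
      (IsLocalRing.closedPoint k) (by rw [ha, hb])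
    exact ⟨z, hz⟩
  let pt : ∀ a : A, f a = b → (Spec (CommRingCat.of k) ⟶ A) := fun a ha =>
    pointOfClosedPoint g (hex a ha).choose (hdisc _) ≫ pullback.fst f β
  have hpt1 : ∀ a ha, pt a ha ≫ f = β := by
    intro a ha
    change (pointOfClosedPoint g _ _ ≫ pullback.fst f β) ≫ f = β
    rw [Category.assoc, pullback.condition, ← Category.assoc, pointOfClosedPoint_comp,
      Category.id_comp]
  have hpt2 : ∀ a ha, pt a ha (IsLocalRing.closedPoint k) = a := by
    intro a ha
    have h1 := pointOfClosedPoint_apply g _ (hdisc (hex a ha).choose) (IsLocalRing.closedPoint k)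
    change pullback.fst f β (pointOfClosedPoint g _ (hdisc (hex a ha).choose) _) = a
    rw [h1]
    exact (hex a ha).choose_spec
  let Ψ : (f ⁻¹' {b} : Set A) → {σ : Spec (CommRingCat.of k) ⟶ A | σ ≫ f = β} := fun a =>
    ⟨pt a.1 a.2, hpt1 a.1 a.2⟩
  refine Function.Embedding.encard_le ⟨Ψ, fun a a' h => ?_⟩
  apply Subtype.ext
  have h' : pt a.1 a.2 = pt a'.1 a'.2 := congrArg Subtype.val h
  rw [← hpt2 a.1 a.2, ← hpt2 a'.1 a'.2, h']

end Groth.Agent.Lib.Helper37
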