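import Groth.Agent.Lib.Helper37.DDEffective
import Groth.Agent.Lib.Helper37.FibreCount
import Mathlib.FieldTheory.IsAlgClosed.AlgebraicClosure

set_option autoImplicit false
set_option linter.style.haveILetI false
universe u

namespace Groth.Agent.Lib.Helper37.DDG

open CategoryTheory CategoryTheory.Limits AlgebraicGeometry Grpd Desc

variable {X Y : Scheme.{u}} {p : X ⟶ Y} (D : SchDD p)

/-- A set with at most `d` elements is enumerated by `Fin d` (with a default value). -/
lemma exists_enum {α : Type*} (O : Set α) (d : ℕ) (hO : O.encard ≤ d) (v : α) :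
    ∃ e : Fin d → α, (∀ i, e i ∈ insert v O) ∧ ∀ x ∈ O, ∃ i, e i = x := by
  classical
  have hfin : O.Finite := Set.finite_of_encard_le_coe hO
  have hn : hfin.toFinset.card ≤ d := by
    rw [hfin.encard_eq_coe_toFinset_card] at hO
    exact_mod_cast hO
  let eq := hfin.toFinset.equivFin
  refine ⟨fun i => if h : i.1 < hfin.toFinset.card then (eq.symm ⟨i.1, h⟩).1 else v, ?_, ?_⟩
  · intro i
    by_cases h : i.1 < hfin.toFinset.card
    · simp only [h, dif_pos]
      exact Set.mem_insert_of_mem _ (hfin.mem_toFinset.mp (eq.symm ⟨i.1, h⟩).2)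
    · simp only [h, dif_neg, not_false_eq_true]
      exact Set.mem_insert _ _
  · intro x hx
    let j := eq ⟨x, hfin.mem_toFinset.mpr hx⟩
    refine ⟨⟨j.1, lt_of_lt_of_le j.2 hn⟩, ?_⟩
    simp only [j.2, dif_pos]
    have : (⟨j.1, j.2⟩ : Fin hfin.toFinset.card) = j := rfl
    rw [this, Equiv.symm_apply_apply]

/-- Orbits have at most `d` points when geometric fibres of `p` have at most `d` points. -/
theorem orbit_encard_le [IsFinite p] (d : ℕ)
    (hfib : ∀ (k : Type u) [Field k] [IsAlgClosed k] (y : Spec (CommRingCat.of k) ⟶ Y),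
      Set.encard {x : Spec (CommRingCat.of k) ⟶ X | x ≫ p = y} ≤ d)
    (v : D.obj.left) :
    ((groupoid D).t '' ((groupoid D).s ⁻¹' {(v : (groupoid D).U)})).encard ≤ d := by
  refine (Set.encard_image_le _ _).trans ?_
  change ((sd D) ⁻¹' {v}).encard ≤ d
  let β : Spec (CommRingCat.of (AlgebraicClosure (D.obj.left.residueField v))) ⟶ D.obj.left :=
    Spec.map (CommRingCat.ofHom (algebraMap (D.obj.left.residueField v)
      (AlgebraicClosure (D.obj.left.residueField v)))) ≫ D.obj.left.fromSpecResidueField v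
  have hβ : β (IsLocalRing.closedPoint (AlgebraicClosure (D.obj.left.residueField v))) = v := by
    exact Scheme.fromSpecResidueField_apply v _
  have h1 := encard_fibre_le_encard_lifts (sd D)
    (AlgebraicClosure (D.obj.left.residueField v)) β v hβ
  refine h1.trans (le_trans ?_ (hfib (AlgebraicClosure (D.obj.left.residueField v))
    (β ≫ D.obj.hom ≫ p)))
  refine Set.encard_le_encard_of_injOn (f := fun σ => σ ≫ bd D) ?_ ?_
  · intro σ hσ
    have hσ' : σ ≫ sd D = β := hσ
    change (σ ≫ bd D) ≫ p = β ≫ D.obj.hom ≫ p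
    rw [← hσ', Category.assoc, Category.assoc]
    congr 1
    exact pullback.condition.symm
  · intro σ hσ σ' hσ' h
    have h1 : σ ≫ sd D = β := hσ
    have h2 : σ' ≫ sd D = β := hσ'
    exact Rd_ext (h1.trans h2.symm) h

end Groth.Agent.Lib.Helper37.DDG
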