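import Mathlib.AlgebraicGeometry.Morphisms.FlatDescent
import Mathlib.AlgebraicGeometry.Morphisms.Proper
import Mathlib.AlgebraicGeometry.Morphisms.Immersion
import Mathlib.AlgebraicGeometry.Morphisms.Finite

set_option autoImplicit false
set_option linter.style.haveILetI false
universe u

namespace Groth.Agent.Lib.Helper37

open CategoryTheory CategoryTheory.Limits AlgebraicGeometry

/-- Quasi-compactness descends along a surjective quasi-compact base change. -/
lemma quasiCompact_of_isPullback {A X Y Z : Scheme.{u}} {fst : A ⟶ X} {snd : A ⟶ Y} {f : X ⟶ Z}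
    {g : Y ⟶ Z} (h : IsPullback fst snd f g) [Surjective f] [QuasiCompact f] [QuasiCompact fst] :
    QuasiCompact g := by
  refine ⟨fun V hV hVc => ?_⟩
  have h1 : IsCompact (f ⁻¹' V) := QuasiCompact.isCompact_preimage V hV hVc
  have h2 : IsCompact (fst ⁻¹' (f ⁻¹' V)) :=
    QuasiCompact.isCompact_preimage _ (hV.preimage f.continuous) h1
  have h3 := Scheme.image_preimage_eq_of_isPullback h (f ⁻¹' V)
  rw [Set.image_preimage_eq V f.surjective] at h3
  rw [← h3]
  exact h2.image snd.continuous

set_option backward.isDefEq.respectTransparency.types false in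
/-- Separation properties of `M ⟶ B` can be checked after composing with a finite flat surjection
`U ⟶ M`. -/
theorem separated_of_finite_flat_cover {U M B : Scheme.{u}} (q : U ⟶ M) [Surjective q] [Flat q]
    [IsFinite q] (g : M ⟶ B) :
    (QuasiSeparated (q ≫ g) → QuasiSeparated g) ∧ (IsSeparated (q ≫ g) → IsSeparated g) := by
  let k : pullback q q ⟶ pullback (q ≫ g) (q ≫ g) :=
    pullback.map q q (q ≫ g) (q ≫ g) (𝟙 U) (𝟙 U) g (Category.id_comp _).symm
      (Category.id_comp _).symm
  let c : pullback (q ≫ g) (q ≫ g) ⟶ pullback g g :=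
    pullback.map (q ≫ g) (q ≫ g) g g q q (𝟙 B) (Category.comp_id _) (Category.comp_id _)
  have hsq : IsPullback (pullback.fst q q ≫ q) k (pullback.diagonal g) c :=
    pullback_map_diagonal_isPullback q q g
  have hk : k ≫ pullback.fst (q ≫ g) (q ≫ g) = pullback.fst q q := by
    simp only [k, pullback.map]
    rw [pullback.lift_fst, Category.comp_id]
  have hcs : Surjective c :=
    MorphismProperty.pullbackMap (P := @Surjective) (inferInstance : Surjective q)
      (inferInstance : Surjective q) rfl rfl
  have hcf : Flat c :=
    MorphismProperty.pullbackMap (P := @Flat) (inferInstance : Flat q)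
      (inferInstance : Flat q) rfl rfl
  have hcq : QuasiCompact c :=
    MorphismProperty.pullbackMap (P := @QuasiCompact) (inferInstance : QuasiCompact q)
      (inferInstance : QuasiCompact q) rfl rfl
  constructor
  · intro hqs
    haveI : QuasiCompact (k ≫ pullback.fst (q ≫ g) (q ≫ g)) := by rw [hk]; infer_instance
    haveI : QuasiCompact k := QuasiCompact.of_comp k (pullback.fst (q ≫ g) (q ≫ g))
    exact ⟨quasiCompact_of_isPullback hsq.flip⟩
  · intro hsep
    haveI : UniversallyClosed (k ≫ pullback.fst (q ≫ g) (q ≫ g)) := by rw [hk]; infer_instance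
    haveI : UniversallyClosed k :=
      UniversallyClosed.of_comp_of_isSeparated k (pullback.fst (q ≫ g) (q ≫ g))
    have huc : UniversallyClosed (pullback.diagonal g) :=
      MorphismProperty.of_isPullback_of_descendsAlong (P := @UniversallyClosed)
        (Q := @Surjective ⊓ @Flat ⊓ @QuasiCompact) hsq.flip ⟨⟨hcs, hcf⟩, hcq⟩ inferInstance
    exact ⟨IsClosedImmersion.of_isPreimmersion _
      (pullback.diagonal g).isClosedMap.isClosed_range⟩

end Groth.Agent.Lib.Helper37
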