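import Groth.Agent.Lib.Helper37.FibreDegBC
import Mathlib.AlgebraicGeometry.Morphisms.Etale
import Mathlib.RingTheory.Etale.Field

/-!
# Étale schemes over a separably closed field (helper37)

A finite étale scheme over a separably closed field `K` is finite over `K` of degree its number
of points.
-/

set_option autoImplicit false

universe u

namespace Groth.Agent.Lib.Helper37

open CategoryTheory CategoryTheory.Limits AlgebraicGeometry

/-- An étale algebra over a separably closed field is finite of rank its number of primes. -/
lemma finite_and_finrank_eq_card_primeSpectrum_of_etale (K A : Type u) [Field K] [IsSepClosed K]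
    [CommRing A] [Algebra K A] [Algebra.Etale K A] :
    Module.Finite K A ∧ Module.finrank K A = Nat.card (PrimeSpectrum A) := by
  have h1 : Module.Finite K A := Algebra.FormallyUnramified.finite_of_free K A
  have : IsArtinianRing A := isArtinian_of_tower K inferInstance
  have hfin : Finite (PrimeSpectrum A) := inferInstance
  have := Fintype.ofFinite (PrimeSpectrum A)
  refine ⟨h1, ?_⟩
  rw [(Algebra.FormallyEtale.equivPiOfIsSepClosed K A).toLinearEquiv.finrank_eq,
    Module.finrank_fintype_fun_eq_card, Nat.card_eq_fintype_card]

/-- A finite étale scheme over a separably closed field `K` is finite over `K` of degree its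
number of points. -/
theorem finiteOfDegLE_card_of_etale (K : Type u) [Field K] [IsSepClosed K] {T : Scheme.{u}}
    (p : T ⟶ Spec (CommRingCat.of K)) [Etale p] [Finite T] :
    BddFib.FiniteOfDegLE (CommRingCat.of K) p (Nat.card T) := by
  have hJ : JacobsonSpace T := LocallyOfFiniteType.jacobsonSpace p
  have hdisc : DiscreteTopology T := inferInstance
  have haff : IsAffine T := inferInstance
  have hfac : p = T.isoSpec.hom ≫
      Spec.map ((Scheme.ΓSpecIso (CommRingCat.of K)).inv ≫ p.appTop) := by
    rw [Spec.map_comp, Scheme.isoSpec_hom, ← Category.assoc, ← Scheme.toSpecΓ_naturality,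
      Category.assoc, toSpecΓ_SpecMap_ΓSpecIso_inv, Category.comp_id]
  have hφet : Etale (Spec.map ((Scheme.ΓSpecIso (CommRingCat.of K)).inv ≫ p.appTop)) := by
    rw [← MorphismProperty.cancel_left_of_respectsIso (P := @Etale) T.isoSpec.hom, ← hfac]
    infer_instance
  have hφet' : ((Scheme.ΓSpecIso (CommRingCat.of K)).inv ≫ p.appTop).hom.Etale :=
    (HasRingHomProperty.Spec_iff (P := @Etale)).mp hφet
  let _ : Algebra K Γ(T, ⊤) := BddFib.secAlgebra (CommRingCat.of K) p
  have hEt : Algebra.Etale K Γ(T, ⊤) := hφet'
  obtain ⟨h1, h2⟩ := finite_and_finrank_eq_card_primeSpectrum_of_etale K Γ(T, ⊤)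
  refine ⟨haff, h1, le_of_eq ?_⟩
  rw [h2]
  exact (Nat.card_congr T.isoSpec.hom.homeomorph.toEquiv).symm

end Groth.Agent.Lib.Helper37
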