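import Groth.Prelude.Def_W4stkschemesremainderFib
import Mathlib.AlgebraicGeometry.Morphisms.Affine
import Mathlib.AlgebraicGeometry.Morphisms.Flat
import Mathlib.AlgebraicGeometry.Limits
import Mathlib.Algebra.Category.Ring.Constructions
import Mathlib.LinearAlgebra.Dimension.Constructions
import Mathlib.RingTheory.Artinian.Module
import Mathlib.RingTheory.Spectrum.Prime.Noetherian

/-!
# Base change of "finite of degree at most `n`" along field extensions (helper37)
-/

set_option autoImplicit false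

universe u

namespace Groth.Agent.Lib.Helper37

open CategoryTheory CategoryTheory.Limits AlgebraicGeometry TensorProduct

section Algebra

variable (K K' A A' : Type u) [Field K] [Field K'] [CommRing A] [CommRing A']
  [Algebra K K'] [Algebra K A] [Algebra K' A'] [Algebra A A'] [Algebra K A']
  [IsScalarTower K K' A'] [IsScalarTower K A A'] [Algebra.IsPushout K K' A A']

include K K' A A' in
lemma finite_finrank_le_of_isPushout (n : ℕ) (h1 : Module.Finite K A)
    (h2 : Module.finrank K A ≤ n) : Module.Finite K' A' ∧ Module.finrank K' A' ≤ n := by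
  let e : K' ⊗[K] A ≃ₐ[K'] A' := Algebra.IsPushout.equiv K K' A A'
  refine ⟨Module.Finite.equiv e.toLinearEquiv, ?_⟩
  rw [← e.toLinearEquiv.finrank_eq, Module.finrank_baseChange]
  exact h2

include K K' A A' in
lemma finite_finrank_le_of_isPushout' (n : ℕ) (h1 : Module.Finite K' A')
    (h2 : Module.finrank K' A' ≤ n) : Module.Finite K A ∧ Module.finrank K A ≤ n := by
  let e : K' ⊗[K] A ≃ₐ[K'] A' := Algebra.IsPushout.equiv K K' A A'
  have hfin : Module.Finite K' (K' ⊗[K] A) := Module.Finite.equiv e.symm.toLinearEquiv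
  have hrank : Module.rank K' (K' ⊗[K] A) < Cardinal.aleph0 := Module.rank_lt_aleph0 _ _
  rw [Module.rank_baseChange, Cardinal.lift_lt_aleph0] at hrank
  refine ⟨Module.rank_lt_aleph0_iff.mp hrank, ?_⟩
  rw [← Module.finrank_baseChange (R := K') (S := K), e.toLinearEquiv.finrank_eq]
  exact h2

end Algebra

section Scheme

variable {K K' : CommRingCat.{u}} (hK : IsField K) (hK' : IsField K') (ρ : K ⟶ K')
  {T T' : Scheme.{u}} (p : T ⟶ Spec K) (p' : T' ⟶ Spec K') (π : T' ⟶ T)

include hK hK' in
/-- For a cartesian square over a field extension with both schemes affine, finiteness and the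
bound on the rank of global sections pass up and down. -/
lemma finite_finrank_le_iff_of_isPullback [IsAffine T] [IsAffine T']
    (h : IsPullback π p' p (Spec.map ρ)) (n : ℕ) :
    (letI := BddFib.secAlgebra K p;
      Module.Finite K Γ(T, ⊤) ∧ Module.finrank K Γ(T, ⊤) ≤ n) ↔
    (letI := BddFib.secAlgebra K' p';
      Module.Finite K' Γ(T', ⊤) ∧ Module.finrank K' Γ(T', ⊤) ≤ n) := by
  let _ := hK.toField
  let _ := hK'.toField
  let _ : Algebra K K' := ρ.hom.toAlgebra
  let a1 : Algebra K Γ(T, ⊤) := BddFib.secAlgebra K p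
  let a2 : Algebra K' Γ(T', ⊤) := BddFib.secAlgebra K' p'
  let a3 : Algebra Γ(T, ⊤) Γ(T', ⊤) := π.appTop.hom.toAlgebra
  let a4 : Algebra K Γ(T', ⊤) := (π.appTop.hom.comp (algebraMap K Γ(T, ⊤))).toAlgebra
  have t1 : IsScalarTower K Γ(T, ⊤) Γ(T', ⊤) := .of_algebraMap_eq' rfl
  have hsq : IsPushout ((Scheme.ΓSpecIso K).inv ≫ p.appTop) ρ π.appTop
      ((Scheme.ΓSpecIso K').inv ≫ p'.appTop) := by
    have h0 := isPushout_appTop_of_isPullback h
    refine h0.of_iso (Scheme.ΓSpecIso K) (Iso.refl _) (Scheme.ΓSpecIso K') (Iso.refl _)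
      ?_ ?_ ?_ ?_
    · simp
    · exact Scheme.ΓSpecIso_naturality ρ
    · simp
    · simp
  have t2 : IsScalarTower K K' Γ(T', ⊤) :=
    .of_algebraMap_eq' (congrArg CommRingCat.Hom.hom hsq.w)
  have hpo : Algebra.IsPushout K K' Γ(T, ⊤) Γ(T', ⊤) :=
    CommRingCat.isPushout_iff_isPushout.mp hsq.flip
  exact ⟨fun ⟨h1, h2⟩ => finite_finrank_le_of_isPushout K K' _ _ n h1 h2,
    fun ⟨h1, h2⟩ => finite_finrank_le_of_isPushout' K K' _ _ n h1 h2⟩

end Scheme

end Groth.Agent.Lib.Helper37
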