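import Groth.Agent.Lib.Helper37.FibreDeg
import Mathlib.AlgebraicGeometry.Fiber

/-!
# `BddFib.FiniteOfDegLE` under base change along a field extension (helper37)
-/

set_option autoImplicit false

universe u

namespace Groth.Agent.Lib.Helper37

open CategoryTheory CategoryTheory.Limits AlgebraicGeometry TensorProduct

variable {K K' : CommRingCat.{u}} (hK : IsField K) (hK' : IsField K') (ρ : K ⟶ K')
  {T T' : Scheme.{u}} (p : T ⟶ Spec K) (p' : T' ⟶ Spec K') (π : T' ⟶ T)

include hK hK' in
/-- Going up: base change along a field extension preserves "finite of degree `≤ n`". -/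
theorem finiteOfDegLE_of_isPullback (h : IsPullback π p' p (Spec.map ρ)) (n : ℕ)
    (hT : BddFib.FiniteOfDegLE K p n) : BddFib.FiniteOfDegLE K' p' n := by
  obtain ⟨haff, hfin⟩ := hT
  have haff' : IsAffine T' := IsAffine.of_isPullback h
  exact ⟨haff', (finite_finrank_le_iff_of_isPullback hK hK' ρ p p' π h n).mp hfin⟩

include hK hK' in
/-- Going down: "finite of degree `≤ n`" descends along a field extension. -/
theorem finiteOfDegLE_of_isPullback' (h : IsPullback π p' p (Spec.map ρ)) (n : ℕ)
    (hT' : BddFib.FiniteOfDegLE K' p' n) : BddFib.FiniteOfDegLE K p n := by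
  obtain ⟨haff', hfin'⟩ := hT'
  -- `T'` is finite and discrete
  have hT'fd : Finite T' ∧ DiscreteTopology T' := by
    let _ := hK'.toField
    let _ : Algebra K' Γ(T', ⊤) := BddFib.secAlgebra K' p'
    have : Module.Finite K' Γ(T', ⊤) := hfin'.1
    have : IsArtinianRing Γ(T', ⊤) := IsArtinianRing.of_finite K' _
    have h1 : Finite (Spec Γ(T', ⊤)) := inferInstanceAs (Finite (PrimeSpectrum _))
    have h2 : DiscreteTopology (Spec Γ(T', ⊤)) :=
      inferInstanceAs (DiscreteTopology (PrimeSpectrum _))
    exact ⟨Finite.of_equiv _ T'.isoSpec.hom.homeomorph.symm.toEquiv,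
      T'.isoSpec.hom.homeomorph.symm.discreteTopology⟩
  obtain ⟨hfinT', hdiscT'⟩ := hT'fd
  -- `π` is a quotient map
  have hflat : Flat (Spec.map ρ) := by
    let _ := hK.toField
    have h1 : Subsingleton (Spec K) := inferInstanceAs (Subsingleton (PrimeSpectrum K))
    have h2 : IsIntegral (Spec K) := inferInstance
    infer_instance
  have hsurj : Surjective (Spec.map ρ) := by
    let _ := hK.toField
    let _ := hK'.toField
    exact ⟨fun x => ⟨(default : PrimeSpectrum K'), Subsingleton.elim (α := PrimeSpectrum K) _ _⟩⟩
  have hπflat : Flat π := MorphismProperty.of_isPullback (P := @Flat) h.flip hflat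
  have hπsurj : Surjective π := MorphismProperty.of_isPullback (P := @Surjective) h.flip hsurj
  have hπqc : QuasiCompact π :=
    MorphismProperty.of_isPullback (P := @QuasiCompact) h.flip inferInstance
  have hq : Topology.IsQuotientMap π := Flat.isQuotientMap_of_surjective π
  have hfinT : Finite T := Finite.of_surjective π π.surjective
  have hdiscT : DiscreteTopology T := by
    rw [discreteTopology_iff_forall_isOpen]
    intro s
    rw [← hq.isOpen_preimage]
    exact isOpen_discrete _
  have haff : IsAffine T := inferInstance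
  exact ⟨haff, (finite_finrank_le_iff_of_isPullback hK hK' ρ p p' π h n).mpr hfin'⟩

end Groth.Agent.Lib.Helper37
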