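import Groth.Agent.Lib.Helper37.FibreDegBC
import Groth.Agent.Lib.Helper37.ArtinFibreRank
import Groth.Agent.S7433

/-!
# Fibre degrees over an artinian base (helper37)

Tools for the multiplicativity of the bound on fibre degrees under composition.
-/

set_option autoImplicit false

universe u

namespace Groth.Agent.Lib.Helper37

open CategoryTheory CategoryTheory.Limits AlgebraicGeometry TensorProduct

/-- A scheme finite of bounded degree over a field is finite and discrete. -/
theorem finite_discrete_of_finiteOfDegLE {K : CommRingCat.{u}} (hK : IsField K)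
    {T : Scheme.{u}} (p : T ⟶ Spec K) (n : ℕ) (h : BddFib.FiniteOfDegLE K p n) :
    Finite T ∧ DiscreteTopology T := by
  obtain ⟨haff, hfin, -⟩ := h
  let _ := hK.toField
  let _ : Algebra K Γ(T, ⊤) := BddFib.secAlgebra K p
  have : Module.Finite K Γ(T, ⊤) := hfin
  have : IsArtinianRing Γ(T, ⊤) := IsArtinianRing.of_finite K _
  have h1 : Finite (Spec Γ(T, ⊤)) := inferInstanceAs (Finite (PrimeSpectrum _))
  have h2 : DiscreteTopology (Spec Γ(T, ⊤)) :=
    inferInstanceAs (DiscreteTopology (PrimeSpectrum _))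
  exact ⟨Finite.of_equiv _ T.isoSpec.hom.homeomorph.symm.toEquiv,
    T.isoSpec.hom.homeomorph.symm.discreteTopology⟩

/-- A continuous map to a finite discrete space with finite discrete fibres has finite discrete
source. -/
theorem finite_discrete_of_fibres {A B : Type*} [TopologicalSpace A] [TopologicalSpace B]
    [Finite B] [DiscreteTopology B] (φ : A → B) (hφ : Continuous φ)
    (h : ∀ b : B, Finite (φ ⁻¹' {b}) ∧ DiscreteTopology (φ ⁻¹' {b})) :
    Finite A ∧ DiscreteTopology A := by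
  constructor
  · have : Finite (Σ b : B, φ ⁻¹' {b}) := by
      have := fun b => (h b).1
      infer_instance
    exact Finite.of_surjective (fun x : Σ b : B, φ ⁻¹' {b} => (x.2 : A))
      (fun a => ⟨⟨φ a, ⟨a, rfl⟩⟩, rfl⟩)
  · rw [discreteTopology_iff_isOpen_singleton]
    intro a
    have hopen : IsOpen (φ ⁻¹' {φ a}) := (isOpen_discrete _).preimage hφ
    have hd := (h (φ a)).2
    have h1 : IsOpen ({⟨a, rfl⟩} : Set (φ ⁻¹' {φ a})) := isOpen_discrete _
    have h2 := hopen.isOpenMap_subtype_val _ h1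
    simpa using h2

section Pushout

variable {K K' : CommRingCat.{u}} (ρ : K ⟶ K')
  {T T' : Scheme.{u}} (p : T ⟶ Spec K) (p' : T' ⟶ Spec K') (π : T' ⟶ T)

/-- The pushout square of rings of global sections attached to a cartesian square of affine
schemes over `Spec K' ⟶ Spec K`. -/
theorem isPushout_of_isPullback_specMap [IsAffine T] [IsAffine T']
    (h : IsPullback π p' p (Spec.map ρ)) :
    IsPushout ((Scheme.ΓSpecIso K).inv ≫ p.appTop) ρ π.appTop
      ((Scheme.ΓSpecIso K').inv ≫ p'.appTop) := by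
  have h0 := isPushout_appTop_of_isPullback h
  refine h0.of_iso (Scheme.ΓSpecIso K) (Iso.refl _) (Scheme.ΓSpecIso K') (Iso.refl _)
    ?_ ?_ ?_ ?_
  · simp
  · exact Scheme.ΓSpecIso_naturality ρ
  · simp
  · simp

end Pushout

section Geometric

variable {X Y : Scheme.{u}} (f : X ⟶ Y) (n : ℕ)

/-- If `n` bounds the fibre degrees of `f` and `T = X ×_Y Spec B` is affine, then for every
maximal ideal `q` of `B` the `B`-module `Γ(T) / q Γ(T)` is generated by at most `n` elements. -/
theorem exists_generators_of_fibreDegLE (hf : BddFib.FibreDegLE f n)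
    (B : CommRingCat.{u}) (w : Spec B ⟶ Y) {T : Scheme.{u}} [IsAffine T] (πT : T ⟶ X)
    (pT : T ⟶ Spec B) (h : IsPullback πT pT f w) (q : Ideal B) (hq : q.IsMaximal) :
    letI : Algebra B Γ(T, ⊤) := BddFib.secAlgebra B pT
    ∃ s : Fin n → Γ(T, ⊤),
      Submodule.span B (Set.range s) ⊔ q • (⊤ : Submodule B Γ(T, ⊤)) = ⊤ := by
  letI := Ideal.Quotient.field q
  let K' : CommRingCat.{u} := CommRingCat.of (B ⧸ q)
  let ρ : B ⟶ K' := CommRingCat.ofHom (Ideal.Quotient.mk q)
  let T' := pullback f (Spec.map ρ ≫ w)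
  let p' : T' ⟶ Spec K' := pullback.snd f (Spec.map ρ ≫ w)
  have hT' : BddFib.FiniteOfDegLE K' p' n :=
    (Groth.Agent.S7433.result f n).mp hf (B ⧸ q) (Spec.map ρ ≫ w)
  obtain ⟨haff', hfin', hrank'⟩ := hT'
  let π : T' ⟶ T := h.lift (pullback.fst f _) (p' ≫ Spec.map ρ)
    (by rw [Category.assoc]; exact pullback.condition)
  have hπ1 : π ≫ πT = pullback.fst f _ := h.lift_fst _ _ _
  have hπ2 : π ≫ pT = p' ≫ Spec.map ρ := h.lift_snd _ _ _
  have hleft : IsPullback π p' pT (Spec.map ρ) := by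
    refine IsPullback.of_right ?_ hπ2 h
    rw [hπ1]
    exact IsPullback.of_hasPullback f (Spec.map ρ ≫ w)
  have hsq := isPushout_of_isPullback_specMap ρ pT p' π hleft
  -- instances
  letI a1 : Algebra B Γ(T, ⊤) := BddFib.secAlgebra B pT
  letI a2 : Algebra (B ⧸ q) Γ(T', ⊤) := BddFib.secAlgebra K' p'
  letI a3 : Algebra Γ(T, ⊤) Γ(T', ⊤) := π.appTop.hom.toAlgebra
  letI a4 : Algebra B Γ(T', ⊤) := (π.appTop.hom.comp (algebraMap B Γ(T, ⊤))).toAlgebra
  have t1 : IsScalarTower B Γ(T, ⊤) Γ(T', ⊤) := .of_algebraMap_eq' rfl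
  have t2 : IsScalarTower B (B ⧸ q) Γ(T', ⊤) :=
    .of_algebraMap_eq' (congrArg CommRingCat.Hom.hom hsq.w)
  have hpo : Algebra.IsPushout B (B ⧸ q) Γ(T, ⊤) Γ(T', ⊤) :=
    CommRingCat.isPushout_iff_isPushout.mp hsq.flip
  exact exists_generators_of_isPushout_quotient q n hfin' hrank'

/-- If `n` bounds the fibre degrees of `f`, every base change of `f` has finite discrete
fibres. -/
theorem finite_discrete_preimage_singleton_of_fibreDegLE (hf : BddFib.FibreDegLE f n)
    {T W : Scheme.{u}} (πT : T ⟶ X) (φ : T ⟶ W) (πW : W ⟶ Y) (h : IsPullback πT φ f πW)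
    (y : W) : Finite (φ ⁻¹' {y}) ∧ DiscreteTopology (φ ⁻¹' {y}) := by
  have h1 : IsPullback (φ.fiberι y) (φ.fiberToSpecResidueField y) φ
      (W.fromSpecResidueField y) := IsPullback.of_hasPullback _ _
  have h2 : IsPullback (φ.fiberι y ≫ πT) (φ.fiberToSpecResidueField y) f
      (W.fromSpecResidueField y ≫ πW) := h1.paste_horiz h
  have h3 := (Groth.Agent.S7433.result f n).mp hf (W.residueField y)
    (W.fromSpecResidueField y ≫ πW)
  obtain ⟨hfin, hdisc⟩ := finite_discrete_of_finiteOfDegLE (Field.toIsField _) _ n h3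
  let e : φ.fiber y ≅ pullback f (W.fromSpecResidueField y ≫ πW) := h2.isoPullback
  let e' : φ.fiber y ≃ₜ ↥(pullback f (W.fromSpecResidueField y ≫ πW)) := e.hom.homeomorph
  let e'' := (φ.fiberHomeo y).symm.trans e'
  exact ⟨Finite.of_equiv _ e''.symm.toEquiv, e''.symm.discreteTopology⟩

end Geometric

end Groth.Agent.Lib.Helper37
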