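import Groth.Agent.Lib.Helper37.FibreDegComp
import Mathlib.AlgebraicGeometry.Cover.Open

/-!
# Fibre degrees: finite open covers of the source, and finite morphisms (helper37)
-/

set_option autoImplicit false

universe u

namespace Groth.Agent.Lib.Helper37

open CategoryTheory CategoryTheory.Limits AlgebraicGeometry TensorProduct

/-- If the source of `f` has a finite open cover such that `n_i` bounds the fibre degrees of the
restriction of `f` to the `i`-th member, then `∑ n_i` bounds the fibre degrees of `f`. -/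
theorem fibreDegLE_of_openCover {X Y : Scheme.{u}} (f : X ⟶ Y) (𝒰 : X.OpenCover)
    [Fintype 𝒰.I₀] (N : 𝒰.I₀ → ℕ) (h : ∀ i, BddFib.FibreDegLE (𝒰.f i ≫ f) (N i)) :
    BddFib.FibreDegLE f (∑ i, N i) := by
  rw [Groth.Agent.S7433.result]
  intro k _ ζ
  let 𝒱 := Scheme.Pullback.openCoverOfLeft 𝒰 f ζ
  have hT : ∀ i, BddFib.FiniteOfDegLE (CommRingCat.of k) (pullback.snd (𝒰.f i ≫ f) ζ) (N i) :=
    fun i => (Groth.Agent.S7433.result _ _).mp (h i) k ζ
  have hfd : ∀ i, Finite ↥(pullback (𝒰.f i ≫ f) ζ) ∧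
      DiscreteTopology ↥(pullback (𝒰.f i ≫ f) ζ) := fun i =>
    finite_discrete_of_finiteOfDegLE (Field.toIsField k) _ _ (hT i)
  have hfin : Finite ↥(pullback f ζ) := by
    have : ∀ i, Finite ↥(pullback (𝒰.f i ≫ f) ζ) := fun i => (hfd i).1
    have : Finite (Σ i : 𝒰.I₀, ↥(pullback (𝒰.f i ≫ f) ζ)) := inferInstance
    refine Finite.of_surjective
      (fun x : Σ i : 𝒰.I₀, ↥(pullback (𝒰.f i ≫ f) ζ) => 𝒱.f x.1 x.2) (fun x => ?_)
    obtain ⟨i, y, rfl⟩ := 𝒱.exists_eq x
    exact ⟨⟨i, y⟩, rfl⟩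
  have hdisc : DiscreteTopology ↥(pullback f ζ) := by
    rw [discreteTopology_iff_isOpen_singleton]
    intro x
    obtain ⟨i, y, rfl⟩ := 𝒱.exists_eq x
    have := (hfd i).2
    have h1 : IsOpen ({y} : Set ↥(pullback (𝒰.f i ≫ f) ζ)) := isOpen_discrete _
    have h2 := (𝒱.f i).isOpenEmbedding.isOpenMap _ h1
    have h3 : ({(𝒱.f i) y} : Set ↥(pullback f ζ)) = ⇑(𝒱.f i) '' {y} :=
      Set.image_singleton.symm
    rw [h3]
    exact h2
  have haff : IsAffine (pullback f ζ) := inferInstance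
  letI a0 : Algebra k Γ(pullback f ζ, ⊤) :=
    BddFib.secAlgebra (CommRingCat.of k) (pullback.snd f ζ)
  letI ai : ∀ i, Algebra k Γ(pullback (𝒰.f i ≫ f) ζ, ⊤) := fun i =>
    BddFib.secAlgebra (CommRingCat.of k) (pullback.snd (𝒰.f i ≫ f) ζ)
  have hfinI : ∀ i, Module.Finite k Γ(pullback (𝒰.f i ≫ f) ζ, ⊤) := fun i => (hT i).2.1
  let ψmap : ∀ i : 𝒰.I₀, pullback (𝒰.f i ≫ f) ζ ⟶ pullback f ζ := fun i =>
    pullback.map (𝒰.f i ≫ f) ζ f ζ (𝒰.f i) (𝟙 _) (𝟙 _) (by simp) (by simp)
  have hcomm : ∀ i : 𝒰.I₀, ψmap i ≫ pullback.snd f ζ = pullback.snd (𝒰.f i ≫ f) ζ := by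
    intro i
    exact (pullback.lift_snd _ _ _).trans (Category.comp_id _)
  let ψ : Γ(pullback f ζ, ⊤) →ₗ[k] (∀ i : 𝒰.I₀, Γ(pullback (𝒰.f i ≫ f) ζ, ⊤)) :=
    LinearMap.pi (fun i =>
      { toFun := (ψmap i).appTop.hom
        map_add' := map_add _
        map_smul' := by
          intro c x
          simp only [Algebra.smul_def, map_mul, RingHom.id_apply]
          congr 1
          have := congrArg (fun g => (Scheme.ΓSpecIso (CommRingCat.of k)).inv ≫ g.appTop)
            (hcomm i)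
          simp only [Scheme.Hom.comp_appTop] at this
          exact congrArg (fun g => g.hom c) this })
  have hψ : Function.Injective ψ := by
    rw [injective_iff_map_eq_zero]
    intro s hs
    refine Scheme.zero_of_zero_cover s 𝒱 (fun i => ?_)
    let i' : 𝒰.I₀ := i
    exact congrFun hs i'
  refine ⟨haff, Module.Finite.of_injective ψ hψ, ?_⟩
  calc Module.finrank k Γ(pullback f ζ, ⊤)
      ≤ Module.finrank k (∀ i, Γ(pullback (𝒰.f i ≫ f) ζ, ⊤)) :=
        LinearMap.finrank_le_finrank_of_injective hψ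
    _ = ∑ i, Module.finrank k Γ(pullback (𝒰.f i ≫ f) ζ, ⊤) := Module.finrank_pi_fintype k
    _ ≤ ∑ i, N i := Finset.sum_le_sum (fun i _ => (hT i).2.2)

section FiniteMorphism

/-- Base change of a module spanned by `N` elements to a field has dimension at most `N`. -/
theorem finite_finrank_le_of_isPushout_of_span {R K A D : Type*} [CommRing R] [Field K]
    [CommRing A] [CommRing D] [Algebra R K] [Algebra R A] [Algebra K D] [Algebra A D]
    [Algebra R D] [IsScalarTower R K D] [IsScalarTower R A D] [Algebra.IsPushout R K A D]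
    {N : ℕ} (a : Fin N → A) (ha : Submodule.span R (Set.range a) = ⊤) :
    Module.Finite K D ∧ Module.finrank K D ≤ N := by
  let e : K ⊗[R] A ≃ₐ[K] D := Algebra.IsPushout.equiv R K A D
  have h1 : Submodule.span K (Set.range fun i => (1 : K) ⊗ₜ[R] a i) = ⊤ := by
    have := Submodule.baseChange_span (R := R) (A := K) (Set.range a)
    rw [ha, Submodule.baseChange_top, ← Set.range_comp] at this
    exact this.symm
  have h2 : Submodule.span K (Set.range fun i => e ((1 : K) ⊗ₜ[R] a i)) = ⊤ := by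
    have := congrArg (Submodule.map e.toLinearMap) h1
    rw [Submodule.map_span, ← Set.range_comp, Submodule.map_top] at this
    have hr : LinearMap.range e.toLinearMap = ⊤ := LinearMap.range_eq_top.mpr e.surjective
    rw [hr] at this
    exact this
  have hfin : Module.Finite K D :=
    Module.finite_def.mpr (h2 ▸ Submodule.fg_span (Set.finite_range _))
  refine ⟨hfin, ?_⟩
  have := finrank_le_of_span_eq_top h2
  simpa using this

/-- If `S` is spanned by `N` elements as a module over `R`, then `N` bounds the fibre degrees of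
`Spec S ⟶ Spec R`. -/
theorem fibreDegLE_specMap_of_span {R S : CommRingCat.{u}} (φ : R ⟶ S) (N : ℕ) (a : Fin N → S)
    (ha : letI := φ.hom.toAlgebra; Submodule.span R (Set.range a) = ⊤) :
    BddFib.FibreDegLE (Spec.map φ) N := by
  rw [Groth.Agent.S7433.result]
  intro k _ ζ
  obtain ⟨ρ, rfl⟩ := Spec.map_surjective ζ
  have h : IsPullback (pullback.fst (Spec.map φ) (Spec.map ρ))
      (pullback.snd (Spec.map φ) (Spec.map ρ)) (Spec.map φ) (Spec.map ρ) :=
    IsPullback.of_hasPullback _ _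
  have haff : IsAffine (pullback (Spec.map φ) (Spec.map ρ)) := inferInstance
  have hsq := isPushout_of_isPullback_specMap ρ (Spec.map φ)
    (pullback.snd (Spec.map φ) (Spec.map ρ)) (pullback.fst (Spec.map φ) (Spec.map ρ)) h
  letI a0 : Algebra R S := φ.hom.toAlgebra
  letI a1 : Algebra R Γ(Spec S, ⊤) := BddFib.secAlgebra R (Spec.map φ)
  letI a5 : Algebra R k := ρ.hom.toAlgebra
  letI a2 : Algebra k Γ(pullback (Spec.map φ) (Spec.map ρ), ⊤) :=
    BddFib.secAlgebra (CommRingCat.of k) (pullback.snd (Spec.map φ) (Spec.map ρ))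
  letI a3 : Algebra Γ(Spec S, ⊤) Γ(pullback (Spec.map φ) (Spec.map ρ), ⊤) :=
    (pullback.fst (Spec.map φ) (Spec.map ρ)).appTop.hom.toAlgebra
  letI a4 : Algebra R Γ(pullback (Spec.map φ) (Spec.map ρ), ⊤) :=
    ((pullback.fst (Spec.map φ) (Spec.map ρ)).appTop.hom.comp
      (algebraMap R Γ(Spec S, ⊤))).toAlgebra
  have t1 : IsScalarTower R Γ(Spec S, ⊤) Γ(pullback (Spec.map φ) (Spec.map ρ), ⊤) :=
    .of_algebraMap_eq' rfl
  have t2 : IsScalarTower R k Γ(pullback (Spec.map φ) (Spec.map ρ), ⊤) :=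
    .of_algebraMap_eq' (congrArg CommRingCat.Hom.hom hsq.w)
  have hpo : Algebra.IsPushout R k Γ(Spec S, ⊤) Γ(pullback (Spec.map φ) (Spec.map ρ), ⊤) :=
    CommRingCat.isPushout_iff_isPushout.mp hsq.flip
  -- the generators of `Γ(Spec S, ⊤)`
  let ℓ : S ≃ₗ[R] Γ(Spec S, ⊤) :=
    { (Scheme.ΓSpecIso S).symm.commRingCatIsoToRingEquiv with
      map_smul' := by
        intro r x
        simp only [Algebra.smul_def, RingHom.id_apply]
        change (Scheme.ΓSpecIso S).inv.hom (φ.hom r * x) = _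
        rw [map_mul]
        congr 1
        exact congrArg (fun g => g.hom r) (Scheme.ΓSpecIso_inv_naturality φ) }
  have ha' : Submodule.span R (Set.range (fun i => ℓ (a i))) = ⊤ := by
    have := congrArg (Submodule.map ℓ.toLinearMap) ha
    rw [Submodule.map_span, ← Set.range_comp, Submodule.map_top] at this
    have hr : LinearMap.range ℓ.toLinearMap = ⊤ := LinearMap.range_eq_top.mpr ℓ.surjective
    rw [hr] at this
    exact this
  obtain ⟨h1, h2⟩ := finite_finrank_le_of_isPushout_of_span (R := R) (K := k)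
    (A := Γ(Spec S, ⊤)) (D := Γ(pullback (Spec.map φ) (Spec.map ρ), ⊤)) _ ha'
  exact ⟨haff, h1, h2⟩

end FiniteMorphism

end Groth.Agent.Lib.Helper37
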