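import Groth.Agent.Lib.Helper37.Groupoid

/-!
# The groupoid induced on `U'` by a morphism `u : U' ⟶ U` (helper37)

`R' = (R ×_{t,U,u} U') ×_{s,U,u} U'`: arrows of `G` with source and target in `U'`.
-/

set_option autoImplicit false
set_option linter.style.haveILetI false
set_option linter.unusedSimpArgs false
universe u

namespace Groth.Agent.Lib.Helper37.Pull

open CategoryTheory CategoryTheory.Limits AlgebraicGeometry Grpd

variable {S : Scheme.{u}} (G : GroupoidScheme S) {U' : Scheme.{u}} (u : U' ⟶ G.U)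

/-- arrows with target in `U'`, mapped to `U` by the source -/
noncomputable abbrev π : pullback G.t u ⟶ G.U := pullback.fst G.t u ≫ G.s

/-- arrows with source and target in `U'` -/
noncomputable abbrev R' : Scheme.{u} := pullback (π G u) u

/-- the underlying arrow -/
noncomputable def ρ : R' G u ⟶ G.R := pullback.fst (π G u) u ≫ pullback.fst G.t u

/-- the target -/
noncomputable def a' : R' G u ⟶ U' := pullback.fst (π G u) u ≫ pullback.snd G.t u

/-- the source -/
noncomputable def b' : R' G u ⟶ U' := pullback.snd (π G u) u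

@[reassoc]
lemma ρ_t : ρ G u ≫ G.t = a' G u ≫ u := by
  simp only [ρ, a', Category.assoc, pullback.condition]

@[reassoc]
lemma ρ_s : ρ G u ≫ G.s = b' G u ≫ u := by
  have := pullback.condition (f := π G u) (g := u)
  simpa only [ρ, b', Category.assoc] using this

variable {G u}

/-- constructor for `T`-points of `R'` -/
noncomputable def mk {T : Scheme.{u}} (r : T ⟶ G.R) (a b : T ⟶ U') (h1 : r ≫ G.t = a ≫ u)
    (h2 : r ≫ G.s = b ≫ u) : T ⟶ R' G u :=
  pullback.lift (pullback.lift r a h1) b (by rw [← Category.assoc, pullback.lift_fst, h2])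

@[reassoc (attr := simp)]
lemma mk_ρ {T : Scheme.{u}} (r : T ⟶ G.R) (a b : T ⟶ U') (h1 : r ≫ G.t = a ≫ u)
    (h2 : r ≫ G.s = b ≫ u) : mk r a b h1 h2 ≫ ρ G u = r := by
  simp only [mk, ρ, pullback.lift_fst_assoc, pullback.lift_fst]

@[reassoc (attr := simp)]
lemma mk_a' {T : Scheme.{u}} (r : T ⟶ G.R) (a b : T ⟶ U') (h1 : r ≫ G.t = a ≫ u)
    (h2 : r ≫ G.s = b ≫ u) : mk r a b h1 h2 ≫ a' G u = a := by
  simp only [mk, a', pullback.lift_fst_assoc, pullback.lift_snd]

@[reassoc (attr := simp)]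
lemma mk_b' {T : Scheme.{u}} (r : T ⟶ G.R) (a b : T ⟶ U') (h1 : r ≫ G.t = a ≫ u)
    (h2 : r ≫ G.s = b ≫ u) : mk r a b h1 h2 ≫ b' G u = b := by
  simp only [mk, b', pullback.lift_snd]

lemma ext {T : Scheme.{u}} {α β : T ⟶ R' G u} (h1 : α ≫ ρ G u = β ≫ ρ G u)
    (h2 : α ≫ a' G u = β ≫ a' G u) (h3 : α ≫ b' G u = β ≫ b' G u) : α = β := by
  apply pullback.hom_ext
  · apply pullback.hom_ext
    · simpa only [ρ, Category.assoc] using h1
    · simpa only [a', Category.assoc] using h2
  · exact h3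

variable (G u)

lemma comp_cond {T : Scheme.{u}} (α β : T ⟶ R' G u) (h : α ≫ b' G u = β ≫ a' G u) :
    (α ≫ ρ G u) ≫ G.s = (β ≫ ρ G u) ≫ G.t := by
  rw [Category.assoc, ρ_s, ← Category.assoc, h, Category.assoc, Category.assoc, ρ_t]

/-- composition -/
noncomputable def c' : pullback (b' G u) (a' G u) ⟶ R' G u :=
  mk (gcomp G (pullback.fst _ _ ≫ ρ G u) (pullback.snd _ _ ≫ ρ G u)
      (comp_cond G u _ _ pullback.condition))
    (pullback.fst _ _ ≫ a' G u) (pullback.snd _ _ ≫ b' G u)
    (by rw [gcomp_t, Category.assoc, ρ_t, Category.assoc])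
    (by rw [gcomp_s, Category.assoc, ρ_s, Category.assoc])

lemma lift_c'_ρ {T : Scheme.{u}} (α β : T ⟶ R' G u) (h : α ≫ b' G u = β ≫ a' G u) :
    (pullback.lift α β h ≫ c' G u) ≫ ρ G u =
      gcomp G (α ≫ ρ G u) (β ≫ ρ G u) (comp_cond G u α β h) := by
  rw [Category.assoc, c', mk_ρ, precomp_gcomp]
  apply gcomp_congr
  · rw [← Category.assoc, pullback.lift_fst]
  · rw [← Category.assoc, pullback.lift_snd]

lemma lift_c'_a' {T : Scheme.{u}} (α β : T ⟶ R' G u) (h : α ≫ b' G u = β ≫ a' G u) :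
    (pullback.lift α β h ≫ c' G u) ≫ a' G u = α ≫ a' G u := by
  rw [Category.assoc, c', mk_a', ← Category.assoc, pullback.lift_fst]

lemma lift_c'_b' {T : Scheme.{u}} (α β : T ⟶ R' G u) (h : α ≫ b' G u = β ≫ a' G u) :
    (pullback.lift α β h ≫ c' G u) ≫ b' G u = β ≫ b' G u := by
  rw [Category.assoc, c', mk_b', ← Category.assoc, pullback.lift_snd]

/-- identity -/
noncomputable def e' : U' ⟶ R' G u :=
  mk (u ≫ G.e) (𝟙 _) (𝟙 _) (by rw [Category.assoc, G.e_t, Category.comp_id, Category.id_comp])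
    (by rw [Category.assoc, G.e_s, Category.comp_id, Category.id_comp])

/-- inverse -/
noncomputable def i' : R' G u ⟶ R' G u :=
  mk (ρ G u ≫ G.i) (b' G u) (a' G u) (by rw [Category.assoc, G.i_t, ρ_s])
    (by rw [Category.assoc, G.i_s, ρ_t])

/-- The groupoid induced on `U'`. -/
noncomputable def pullGrpd : GroupoidScheme S where
  U := U'
  R := R' G u
  pU := u ≫ G.pU
  pR := ρ G u ≫ G.pR
  s := b' G u
  t := a' G u
  e := e' G u
  i := i' G u
  c := c' G u
  s_over := by rw [← ρ_s_assoc, G.s_over]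
  t_over := by rw [← ρ_t_assoc, G.t_over]
  comp_s := fun α β h => lift_c'_b' G u α β h
  comp_t := fun α β h => lift_c'_a' G u α β h
  assoc := fun α β γ h₁ h₂ => by
    apply ext
    · refine (lift_c'_ρ G u _ _ _).trans (Eq.trans ?_ (lift_c'_ρ G u _ _ _).symm)
      have e1 := lift_c'_ρ G u α β h₁
      have e2 := lift_c'_ρ G u β γ h₂
      refine (gcomp_congr G e1 rfl _ (by rw [gcomp_s]; exact comp_cond G u β γ h₂)).trans
        (Eq.trans ?_ (gcomp_congr G rfl e2 _
          (by rw [gcomp_t]; exact comp_cond G u α β h₁)).symm)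
      exact gcomp_assoc G _ _ _ _ _ _ _
    · rw [lift_c'_a', lift_c'_a', lift_c'_a']
    · rw [lift_c'_b', lift_c'_b', lift_c'_b']
  e_s := by rw [e', mk_b']
  e_t := by rw [e', mk_a']
  comp_e := fun α => by
    apply ext
    · rw [lift_c'_ρ]
      refine gcomp_e G _ _ ?_ _
      rw [Category.assoc, Category.assoc, e', mk_ρ, ← ρ_s_assoc, Category.assoc]
    · rw [lift_c'_a']
    · rw [lift_c'_b', Category.assoc, Category.assoc, e', mk_b', Category.comp_id]
  e_comp := fun α => by
    apply ext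
    · rw [lift_c'_ρ]
      refine e_gcomp G _ _ ?_ _
      rw [Category.assoc, Category.assoc, e', mk_ρ, ← ρ_t_assoc, Category.assoc]
    · rw [lift_c'_a', Category.assoc, Category.assoc, e', mk_a', Category.comp_id]
    · rw [lift_c'_b']
  i_s := by rw [i', mk_b']
  i_t := by rw [i', mk_a']
  comp_i := fun α => by
    apply ext
    · rw [lift_c'_ρ]
      rw [gcomp_i G _ _ (by rw [Category.assoc, i', mk_ρ, Category.assoc])]
      simp only [Category.assoc, e', mk_ρ, ρ_t_assoc]
    · rw [lift_c'_a', Category.assoc, Category.assoc, e', mk_a', Category.comp_id]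
    · rw [lift_c'_b']
      simp only [Category.assoc, i', e', mk_b', mk_a', Category.comp_id]
  i_comp := fun α => by
    apply ext
    · rw [lift_c'_ρ]
      rw [i_gcomp G _ _ (by rw [Category.assoc, i', mk_ρ, Category.assoc])]
      simp only [Category.assoc, e', mk_ρ, ρ_s_assoc]
    · rw [lift_c'_a']
      simp only [Category.assoc, i', e', mk_b', mk_a', Category.comp_id]
    · rw [lift_c'_b', Category.assoc, Category.assoc, e', mk_b', Category.comp_id]

end Groth.Agent.Lib.Helper37.Pull
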