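import Groth.Agent.Lib.Helper37.FinGrpdStratFP
import Groth.Agent.Lib.Helper37.GrpdPull
import Mathlib.AlgebraicGeometry.Limits

/-!
# Finite groupoids: invariant affine opens around generic orbits (helper37)

* `FGA.exists_iso_of_comap_eq`, `FGA.V'`, ...: restriction of the thickening `W' ⊆ W` to an
  invariant open `V ≤ W`.
* `FGA.isoS`, `FGA.isoT`: for an invariant monomorphism `u : U' ⟶ U`, the restricted groupoid has
  source/target the base changes of `s`, `t`.
* `FGA.exists_isAffineOpen_of_generic`: finitely many generic points of a quasi-separated scheme lie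
  in a common affine open.
-/

set_option autoImplicit false
set_option linter.style.haveILetI false
set_option linter.unusedSectionVars false
universe u

namespace Groth.Agent.Lib.Helper37.FGA

open CategoryTheory CategoryTheory.Limits AlgebraicGeometry Grpd

section Generic

variable {X : Scheme.{u}}

/-- Around a generic point `x` of `X` lying in an affine open `A`, finitely many functions
vanishing at `x` vanish identically on a basic open neighbourhood of `x`. -/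
theorem exists_basicOpen_disjoint_of_generic {A : X.Opens} (hA : IsAffineOpen A) {x : X}
    (hxA : x ∈ A) (hgen : ∀ y : X, y ⤳ x → y = x) (s : Finset Γ(X, A))
    (hs : ∀ f ∈ s, x ∉ X.basicOpen f) :
    ∃ g : Γ(X, A), x ∈ X.basicOpen g ∧ ∀ f ∈ s, X.basicOpen g ⊓ X.basicOpen f = ⊥ := by
  classical
  set p := hA.primeIdealOf ⟨x, hxA⟩ with hp
  have hpx : hA.fromSpec p = x := hA.fromSpec_primeIdealOf ⟨x, hxA⟩
  have hbo : ∀ (f : Γ(X, A)) (q : Spec Γ(X, A)), hA.fromSpec q ∈ X.basicOpen f ↔ f ∉ q.asIdeal := by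
    intro f q
    exact SetLike.ext_iff.mp (hA.fromSpec_preimage_basicOpen f) q
  have hmin : p.asIdeal ∈ minimalPrimes Γ(X, A) := by
    refine ⟨⟨p.2, bot_le⟩, ?_⟩
    rintro q ⟨hq, -⟩ hqp
    have hsp : (⟨q, hq⟩ : PrimeSpectrum Γ(X, A)) ⤳ p :=
      (PrimeSpectrum.le_iff_specializes _ _).mp hqp
    have h2 : hA.fromSpec ⟨q, hq⟩ ⤳ hA.fromSpec p := hsp.map hA.fromSpec.continuous
    rw [hpx] at h2
    have h3 := hgen _ h2
    rw [← hpx] at h3
    have h4 := hA.fromSpec.isOpenEmbedding.injective h3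
    rw [← h4]
  have hsp : ∀ f ∈ s, f ∈ p.asIdeal := by
    intro f hf
    have := hs f hf
    rw [← hpx] at this
    by_contra hfp
    exact this ((hbo f p).mpr hfp)
  choose! g hg N hN using fun f (hf : f ∈ s) => FS.exists_mul_pow_eq_zero p.asIdeal hmin (hsp f hf)
  refine ⟨∏ f ∈ s, g f, ?_, ?_⟩
  · rw [← hpx]
    refine (hbo _ p).mpr ?_
    rw [Ideal.IsPrime.prod_mem_iff]
    rintro ⟨f, hf, hgf⟩
    exact hg f hf hgf
  · intro f hf
    rw [eq_bot_iff]
    rintro y ⟨hy, hyf⟩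
    have hyA : y ∈ A := X.basicOpen_le _ hy
    have h1 : y ∈ X.basicOpen (g f) := by
      have hy' : y ∈ X.basicOpen (∏ f ∈ s, g f) := hy
      rw [← Finset.mul_prod_erase s g hf, Scheme.basicOpen_mul] at hy'
      exact hy'.1
    have h2 : y ∈ X.basicOpen (f ^ N f) := by
      have hyf' : y ∈ X.basicOpen f := hyf
      rw [Scheme.mem_basicOpen _ _ _ hyA] at hyf' ⊢
      rw [map_pow]
      exact hyf'.pow _
    have h3 : y ∈ X.basicOpen (g f * f ^ N f) := by
      rw [Scheme.basicOpen_mul]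
      exact ⟨h1, h2⟩
    rw [hN f hf, Scheme.basicOpen_zero] at h3
    exact h3

/-- A quasi-compact open of `X` not containing the generic point `x ∈ A` is disjoint from a basic
open neighbourhood of `x` in the affine open `A`. -/
theorem exists_basicOpen_disjoint_of_isCompact {A : X.Opens} (hA : IsAffineOpen A) {x : X}
    (hxA : x ∈ A) (hgen : ∀ y : X, y ⤳ x → y = x) (Q : X.Opens) (hQ : IsCompact (Q : Set X))
    (hQA : Q ≤ A) (hxQ : x ∉ Q) :
    ∃ g : Γ(X, A), x ∈ X.basicOpen g ∧ X.basicOpen g ⊓ Q = ⊥ := by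
  classical
  have hcov : ∀ q : Q, ∃ f : Γ(X, A), X.basicOpen f ≤ Q ∧ q.1 ∈ X.basicOpen f :=
    fun q => hA.exists_basicOpen_le q (hQA q.2)
  choose F hF1 hF2 using hcov
  obtain ⟨t, ht⟩ := hQ.elim_finite_subcover (fun q : Q => (X.basicOpen (F q) : Set X))
    (fun q => (X.basicOpen (F q)).2) (fun y hy => Set.mem_iUnion.mpr ⟨⟨y, hy⟩, hF2 ⟨y, hy⟩⟩)
  obtain ⟨g, hxg, hg⟩ := exists_basicOpen_disjoint_of_generic hA hxA hgen (t.image F) (by
    intro f hf hxf
    obtain ⟨q, -, rfl⟩ := Finset.mem_image.mp hf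
    exact hxQ (hF1 q hxf))
  refine ⟨g, hxg, ?_⟩
  rw [eq_bot_iff]
  rintro y ⟨hyg, hyQ⟩
  obtain ⟨q, hq⟩ := Set.mem_iUnion.mp (ht hyQ)
  obtain ⟨hqt, hyq⟩ := Set.mem_iUnion.mp hq
  have := hg (F q) (Finset.mem_image_of_mem F hqt)
  have h2 : y ∈ X.basicOpen g ⊓ X.basicOpen (F q) := ⟨hyg, hyq⟩
  rw [this] at h2
  exact h2

/-- **Finitely many generic points of a quasi-separated scheme lie in a common affine open**,
which can be chosen inside a given open neighbourhood. -/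
theorem exists_isAffineOpen_of_generic [QuasiSeparatedSpace X] (E : Set X) (hE : E.Finite)
    (hgen : ∀ x ∈ E, ∀ y : X, y ⤳ x → y = x) (Ω : X.Opens) (hEΩ : E ⊆ Ω) :
    ∃ V₀ : X.Opens, IsAffineOpen V₀ ∧ E ⊆ V₀ ∧ V₀ ≤ Ω := by
  classical
  -- affine neighbourhoods avoiding the other points
  have h1 : ∀ x ∈ E, ∃ A : X.Opens, IsAffineOpen A ∧ x ∈ A ∧ A ≤ Ω ∧ ∀ y ∈ E, y ≠ x → y ∉ A := by
    intro x hx
    let N : Set X := (Ω : Set X) ∩ ⋂ y ∈ E \ {x}, (closure {y})ᶜ
    have hNo : IsOpen N := Ω.2.inter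
      ((hE.subset Set.sdiff_subset).isOpen_biInter (fun y _ => isClosed_closure.isOpen_compl))
    have hxN : x ∈ N := by
      refine ⟨hEΩ hx, Set.mem_iInter₂.mpr (fun y hy hxy => ?_)⟩
      have : y ⤳ x := specializes_iff_mem_closure.mpr hxy
      exact hy.2 (hgen x hx y this)
    obtain ⟨A, hA, hxA, hAN⟩ := exists_isAffineOpen_mem_and_subset (U := ⟨N, hNo⟩) hxN
    refine ⟨A, hA, hxA, fun z hz => (hAN hz).1, fun y hy hyx hyA => ?_⟩
    have := Set.mem_iInter₂.mp (hAN hyA).2 y ⟨hy, hyx⟩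
    exact this (subset_closure rfl)
  choose! A hA hxA hAΩ hAavoid using h1
  -- shrink to make them disjoint
  have h2 : ∀ x ∈ E, ∃ g : Γ(X, A x), x ∈ X.basicOpen g ∧
      ∀ y ∈ E, y ≠ x → X.basicOpen g ⊓ A y = ⊥ := by
    intro x hx
    let Q : X.Opens := A x ⊓ ⨆ y ∈ E \ {x}, A y
    have hQc : IsCompact (Q : Set X) := by
      have : (Q : Set X) = ⋃ y ∈ E \ {x}, ((A x : Set X) ∩ (A y : Set X)) := by
        ext z
        simp only [Q, TopologicalSpace.Opens.coe_inf, TopologicalSpace.Opens.coe_iSup,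
          Set.mem_inter_iff, Set.mem_iUnion, SetLike.mem_coe, exists_prop]
        tauto
      rw [this]
      refine (hE.subset Set.sdiff_subset).isCompact_biUnion (fun y hy => ?_)
      exact QuasiSeparatedSpace.inter_isCompact _ _ (A x).2 (hA x hx).isCompact (A y).2
        (hA y hy.1).isCompact
    have hxQ : x ∉ Q := by
      rintro ⟨-, hx2⟩
      simp only [TopologicalSpace.Opens.coe_iSup, Set.mem_iUnion, SetLike.mem_coe] at hx2
      obtain ⟨y, hy, hxy⟩ := hx2
      exact hAavoid y hy.1 x hx (fun e => hy.2 e.symm) hxy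
    obtain ⟨g, hxg, hg⟩ := exists_basicOpen_disjoint_of_isCompact (hA x hx) (hxA x hx)
      (hgen x hx) Q hQc inf_le_left hxQ
    refine ⟨g, hxg, fun y hy hyx => ?_⟩
    rw [eq_bot_iff]
    rintro z ⟨hzg, hzy⟩
    have hzQ : z ∈ Q := by
      refine ⟨X.basicOpen_le g hzg, ?_⟩
      simp only [TopologicalSpace.Opens.coe_iSup, Set.mem_iUnion, SetLike.mem_coe]
      exact ⟨y, ⟨hy, hyx⟩, hzy⟩
    have : z ∈ X.basicOpen g ⊓ Q := ⟨hzg, hzQ⟩
    rw [hg] at this
    exact this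
  choose! g hxg hgdisj using h2
  refine ⟨⨆ x ∈ E, X.basicOpen (g x), ?_, ?_, ?_⟩
  · refine IsAffineOpen.biSup_of_disjoint hE (fun x hx => (hA x hx).basicOpen (g x)) ?_
    intro x hx y hy hxy
    change Disjoint (X.basicOpen (g x)) (X.basicOpen (g y))
    rw [disjoint_iff, eq_bot_iff]
    refine le_trans (inf_le_inf_left _ (X.basicOpen_le (g y))) ?_
    rw [hgdisj x hx y hy (fun e => hxy e.symm)]
  · intro x hx
    simp only [TopologicalSpace.Opens.coe_iSup, Set.mem_iUnion, SetLike.mem_coe]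
    exact ⟨x, hx, hxg x hx⟩
  · refine iSup₂_le (fun x hx => ?_)
    exact (X.basicOpen_le (g x)).trans (hAΩ x hx)

end Generic

section General

variable {X Y Y' Z : Scheme.{u}}

/-- Finite locally free base changes stay finite locally free after a further base change. -/
theorem isFinLocFree_snd_comp (f : X ⟶ Z) (g : Y ⟶ Z) (q : Y' ⟶ Y)
    (h : Mor2.IsFinLocFree (pullback.snd f g)) : Mor2.IsFinLocFree (pullback.snd f (q ≫ g)) := by
  obtain ⟨h1, h2, h3⟩ := h
  have e : pullback.snd f (q ≫ g) =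
      (pullbackLeftPullbackSndIso f g q).inv ≫ pullback.snd (pullback.snd f g) q := by
    rw [Iso.eq_inv_comp, pullbackLeftPullbackSndIso_hom_snd]
  rw [e]
  exact ⟨inferInstance, inferInstance, inferInstance⟩

end General

variable {S : Scheme.{u}} (G : GroupoidScheme S)

section Invariant

variable (V : G.U.Opens) (hV : G.s ⁻¹ᵁ V = G.t ⁻¹ᵁ V)

/-- The restricted target map `s⁻¹ V ⟶ V` for an invariant open `V`. -/
noncomputable def tV : (↑(G.s ⁻¹ᵁ V) : Scheme.{u}) ⟶ ↑V :=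
  IsOpenImmersion.lift V.ι ((G.s ⁻¹ᵁ V).ι ≫ G.t) (by
    rw [Scheme.Opens.range_ι]
    rintro _ ⟨x, rfl⟩
    have hx : x.1 ∈ G.t ⁻¹ᵁ V := hV ▸ x.2
    exact hx)

lemma tV_ι : tV G V hV ≫ V.ι = (G.s ⁻¹ᵁ V).ι ≫ G.t := IsOpenImmersion.lift_fac _ _ _

lemma isPullback_sV : IsPullback (G.s ⁻¹ᵁ V).ι (G.s ∣_ V) G.s V.ι :=
  (isPullback_morphismRestrict G.s V).flip

lemma isPullback_tV : IsPullback (G.s ⁻¹ᵁ V).ι (tV G V hV) G.t V.ι := by
  refine (IsOpenImmersion.isPullback (tV G V hV) (G.s ⁻¹ᵁ V).ι V.ι G.t (tV_ι G V hV).symm ?_).flip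
  rw [Scheme.Opens.opensRange_ι, Scheme.Opens.opensRange_ι]
  exact hV.symm

theorem exists_iso_of_comap_eq (K : (↑V : Scheme.{u}).IdealSheafData)
    (hK : K.comap (G.s ∣_ V) = K.comap (tV G V hV)) :
    ∃ φ : pullback G.s (K.subschemeι ≫ V.ι) ≅ pullback G.t (K.subschemeι ≫ V.ι),
      φ.hom ≫ pullback.fst G.t (K.subschemeι ≫ V.ι) = pullback.fst G.s (K.subschemeι ≫ V.ι) := by
  obtain ⟨φ0, hφ0⟩ := FS.exists_iso_of_comap_eq K (G.s ∣_ V) (tV G V hV) hK
  have hPS := (IsPullback.of_hasPullback (G.s ∣_ V) K.subschemeι).paste_horiz (isPullback_sV G V)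
  have hPT := (IsPullback.of_hasPullback (tV G V hV) K.subschemeι).paste_horiz
    (isPullback_tV G V hV)
  refine ⟨hPS.isoPullback.symm ≪≫ φ0 ≪≫ hPT.isoPullback, ?_⟩
  simp only [Iso.trans_hom, Iso.symm_hom, Category.assoc, IsPullback.isoPullback_hom_fst]
  rw [← Category.assoc φ0.hom, hφ0, IsPullback.isoPullback_inv_fst]

end Invariant

section Restrict

variable [IsFinite G.s] [IsFinite G.t] (V : G.U.Opens) (hV : G.s ⁻¹ᵁ V = G.t ⁻¹ᵁ V)
  (hVW : V ≤ FGS.W G)

/-- The restriction of `W'` to an open `V ≤ W`. -/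
noncomputable def V' : (↑V : Scheme.{u}).IdealSheafData := (FGS.W' G).comap (G.U.homOfLE hVW)

theorem V'_support : (V' G V hVW).support = ⊤ := by
  unfold V'
  rw [Scheme.IdealSheafData.support_comap, FGS.W'_support]
  rfl

theorem lfp_V' [LocallyOfFinitePresentation G.s] :
    LocallyOfFinitePresentation (V' G V hVW).subschemeι := by
  haveI := FGS.lfp_W'_subschemeι G
  exact FS.lfp_comap_subschemeι _ _

/-- the open immersion `V' ⟶ W'` -/
noncomputable def q : (V' G V hVW).subscheme ⟶ (FGS.W' G).subscheme :=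
  ((FGS.W' G).comapIso (G.U.homOfLE hVW)).hom ≫ pullback.snd _ _

lemma q_fac : (V' G V hVW).subschemeι ≫ V.ι =
    q G V hVW ≫ (FGS.W' G).subschemeι ≫ (FGS.W G).ι := by
  unfold q V'
  rw [← Scheme.homOfLE_ι G.U hVW, ← Category.assoc, ← Scheme.IdealSheafData.comapIso_hom_fst,
    Category.assoc, Category.assoc, Category.assoc, pullback.condition_assoc]

theorem isFinLocFree_V'_s :
    Mor2.IsFinLocFree (pullback.snd G.s ((V' G V hVW).subschemeι ≫ V.ι)) := by
  rw [q_fac]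
  exact isFinLocFree_snd_comp _ _ _ (FGS.isFinLocFree_s G)

theorem isFinLocFree_V'_t :
    Mor2.IsFinLocFree (pullback.snd G.t ((V' G V hVW).subschemeι ≫ V.ι)) := by
  rw [q_fac]
  exact isFinLocFree_snd_comp _ _ _ (FGS.isFinLocFree_t G)

theorem V'_comap_eq : (V' G V hVW).comap (G.s ∣_ V) = (V' G V hVW).comap (tV G V hV) := by
  have hle : G.s ⁻¹ᵁ V ≤ G.s ⁻¹ᵁ FGS.W G := fun x hx => hVW hx
  have e1 : (G.s ∣_ V) ≫ G.U.homOfLE hVW = G.R.homOfLE hle ≫ (G.s ∣_ FGS.W G) := by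
    rw [← cancel_mono (FGS.W G).ι, Category.assoc, Category.assoc, Scheme.homOfLE_ι,
      morphismRestrict_ι, morphismRestrict_ι, Scheme.homOfLE_ι_assoc]
  have e2 : tV G V hV ≫ G.U.homOfLE hVW = G.R.homOfLE hle ≫ FGS.tW G := by
    rw [← cancel_mono (FGS.W G).ι, Category.assoc, Category.assoc, Scheme.homOfLE_ι,
      tV_ι, FGS.tW_ι, Scheme.homOfLE_ι_assoc]
  unfold V'
  rw [← Scheme.IdealSheafData.comap_comp, ← Scheme.IdealSheafData.comap_comp, e1, e2,
    Scheme.IdealSheafData.comap_comp, Scheme.IdealSheafData.comap_comp, FGS.W'_comap_sW_eq]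

include hV in
theorem exists_iso_V' :
    ∃ φ : pullback G.s ((V' G V hVW).subschemeι ≫ V.ι) ≅
        pullback G.t ((V' G V hVW).subschemeι ≫ V.ι),
      φ.hom ≫ pullback.fst G.t ((V' G V hVW).subschemeι ≫ V.ι) =
        pullback.fst G.s ((V' G V hVW).subschemeι ≫ V.ι) :=
  exists_iso_of_comap_eq G V hV _ (V'_comap_eq G V hV hVW)

end Restrict

section PullIso

variable {U' : Scheme.{u}} (u : U' ⟶ G.U) [Mono u] (φ : pullback G.s u ≅ pullback G.t u)
  (hφ : φ.hom ≫ pullback.fst G.t u = pullback.fst G.s u)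

include hφ in
lemma φ_inv_fst : φ.inv ≫ pullback.fst G.s u = pullback.fst G.t u := by
  rw [← hφ, Iso.inv_hom_id_assoc]

/-- For an invariant monomorphism `u`, the arrows of the restricted groupoid are the base change
of `s` along `u`. -/
noncomputable def isoS : Pull.R' G u ≅ pullback G.s u where
  hom := pullback.lift (Pull.ρ G u) (Pull.b' G u) (Pull.ρ_s G u)
  inv := Pull.mk (pullback.fst G.s u) (φ.hom ≫ pullback.snd G.t u) (pullback.snd G.s u)
    (by rw [← hφ, Category.assoc, Category.assoc, pullback.condition]) pullback.condition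
  hom_inv_id := by
    apply Pull.ext
    · rw [Category.assoc, Pull.mk_ρ, pullback.lift_fst, Category.id_comp]
    · rw [Category.assoc, Pull.mk_a', Category.id_comp, ← cancel_mono u, Category.assoc,
        Category.assoc, ← pullback.condition, ← Category.assoc φ.hom, hφ, pullback.lift_fst_assoc,
        Pull.ρ_t]
    · rw [Category.assoc, Pull.mk_b', pullback.lift_snd, Category.id_comp]
  inv_hom_id := by
    apply pullback.hom_ext
    · rw [Category.assoc, pullback.lift_fst, Pull.mk_ρ, Category.id_comp]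
    · rw [Category.assoc, pullback.lift_snd, Pull.mk_b', Category.id_comp]

lemma isoS_hom_snd : (isoS G u φ hφ).hom ≫ pullback.snd G.s u = Pull.b' G u :=
  pullback.lift_snd _ _ _

/-- For an invariant monomorphism `u`, the arrows of the restricted groupoid are the base change
of `t` along `u`. -/
noncomputable def isoT : Pull.R' G u ≅ pullback G.t u where
  hom := pullback.lift (Pull.ρ G u) (Pull.a' G u) (Pull.ρ_t G u)
  inv := Pull.mk (pullback.fst G.t u) (pullback.snd G.t u) (φ.inv ≫ pullback.snd G.s u)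
    pullback.condition
    (by rw [← φ_inv_fst G u φ hφ, Category.assoc, Category.assoc, pullback.condition])
  hom_inv_id := by
    apply Pull.ext
    · rw [Category.assoc, Pull.mk_ρ, pullback.lift_fst, Category.id_comp]
    · rw [Category.assoc, Pull.mk_a', pullback.lift_snd, Category.id_comp]
    · rw [Category.assoc, Pull.mk_b', Category.id_comp, ← cancel_mono u, Category.assoc,
        Category.assoc, ← pullback.condition, ← Category.assoc φ.inv, φ_inv_fst G u φ hφ,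
        pullback.lift_fst_assoc, Pull.ρ_s]
  inv_hom_id := by
    apply pullback.hom_ext
    · rw [Category.assoc, pullback.lift_fst, Pull.mk_ρ, Category.id_comp]
    · rw [Category.assoc, pullback.lift_snd, Pull.mk_a', Category.id_comp]

lemma isoT_hom_snd : (isoT G u φ hφ).hom ≫ pullback.snd G.t u = Pull.a' G u :=
  pullback.lift_snd _ _ _

include hφ in
theorem isFinLocFree_pull_s (h : Mor2.IsFinLocFree (pullback.snd G.s u)) :
    Mor2.IsFinLocFree (Pull.pullGrpd G u).s := by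
  obtain ⟨h1, h2, h3⟩ := h
  change Mor2.IsFinLocFree (Pull.b' G u)
  rw [← isoS_hom_snd G u φ hφ]
  exact ⟨inferInstance, inferInstance, inferInstance⟩

include hφ in
theorem isFinLocFree_pull_t (h : Mor2.IsFinLocFree (pullback.snd G.t u)) :
    Mor2.IsFinLocFree (Pull.pullGrpd G u).t := by
  obtain ⟨h1, h2, h3⟩ := h
  change Mor2.IsFinLocFree (Pull.a' G u)
  rw [← isoT_hom_snd G u φ hφ]
  exact ⟨inferInstance, inferInstance, inferInstance⟩

end PullIso

section Points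

variable {U' : Scheme.{u}} (u : U' ⟶ G.U)

/-- Points of the restricted groupoid over an arrow with source and target in `U'`. -/
lemma exists_point_pull (r : G.R) (a b : U') (ha : G.t r = u a) (hb : G.s r = u b) :
    ∃ r' : (Pull.pullGrpd G u).R, (Pull.pullGrpd G u).t r' = a ∧ (Pull.pullGrpd G u).s r' = b := by
  obtain ⟨p, hp1, hp2⟩ := Scheme.Pullback.exists_preimage_pullback (f := G.t) (g := u) r a ha
  have hπ : (Pull.π G u) p = u b := by
    change (pullback.fst G.t u ≫ G.s) p = u b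
    rw [Scheme.Hom.comp_apply, hp1, hb]
  obtain ⟨r', hr1, hr2⟩ := Scheme.Pullback.exists_preimage_pullback (f := Pull.π G u) (g := u)
    p b hπ
  refine ⟨r', ?_, hr2⟩
  change (Pull.a' G u) r' = a
  unfold Pull.a'
  rw [Scheme.Hom.comp_apply, hr1, hp2]

lemma a'_apply (r' : Pull.R' G u) : u ((Pull.a' G u) r') = G.t ((Pull.ρ G u) r') := by
  rw [← Scheme.Hom.comp_apply, ← Scheme.Hom.comp_apply, Pull.ρ_t]

lemma b'_apply (r' : Pull.R' G u) : u ((Pull.b' G u) r') = G.s ((Pull.ρ G u) r') := by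
  rw [← Scheme.Hom.comp_apply, ← Scheme.Hom.comp_apply, Pull.ρ_s]

lemma pull_t_apply (r' : (Pull.pullGrpd G u).R) :
    u ((Pull.pullGrpd G u).t r') = G.t ((Pull.ρ G u) r') := a'_apply G u r'

lemma pull_s_apply (r' : (Pull.pullGrpd G u).R) :
    u ((Pull.pullGrpd G u).s r') = G.s ((Pull.ρ G u) r') := b'_apply G u r'

end Points

section Main

variable [IsFinite G.s] [IsFinite G.t]

/-- the inclusion `W' ⟶ U` -/
noncomputable abbrev ι' : (FGS.W' G).subscheme ⟶ G.U := (FGS.W' G).subschemeι ≫ (FGS.W G).ι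

lemma range_ι' : Set.range (ι' G) = (FGS.W G : Set G.U) := by
  rw [Scheme.Hom.comp_base, TopCat.coe_comp, Set.range_comp,
    Scheme.IdealSheafData.range_subschemeι, FGS.W'_support, TopologicalSpace.Closeds.coe_top,
    Set.image_univ]
  exact Scheme.Opens.range_ι _

lemma ι'_injective : Function.Injective (ι' G) := (ι' G).isEmbedding.injective

lemma exists_ι'_eq {x : G.U} (hx : x ∈ FGS.W G) : ∃ w, ι' G w = x := by
  have : x ∈ Set.range (ι' G) := by rw [range_ι']; exact hx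
  exact this

lemma opens_eq_of_preimage_eq {O₁ O₂ : G.U.Opens} (h1 : O₁ ≤ FGS.W G) (h2 : O₂ ≤ FGS.W G)
    (h : (ι' G) ⁻¹ᵁ O₁ = (ι' G) ⁻¹ᵁ O₂) : O₁ = O₂ := by
  ext x
  constructor
  · intro hx
    obtain ⟨w, rfl⟩ := exists_ι'_eq G (h1 hx)
    have : w ∈ (ι' G) ⁻¹ᵁ O₁ := hx
    rw [h] at this
    exact this
  · intro hx
    obtain ⟨w, rfl⟩ := exists_ι'_eq G (h2 hx)
    have : w ∈ (ι' G) ⁻¹ᵁ O₂ := hx
    rw [← h] at this
    exact this

lemma isAffineOpen_preimage_ι' {O : G.U.Opens} (hO : IsAffineOpen O) (hOW : O ≤ FGS.W G) :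
    IsAffineOpen ((ι' G) ⁻¹ᵁ O) := by
  have h1 : IsAffineOpen ((FGS.W G).ι ⁻¹ᵁ O) :=
    hO.preimage_of_isOpenImmersion _ (by rw [Scheme.Opens.opensRange_ι]; exact hOW)
  exact h1.preimage (FGS.W' G).subschemeι

lemma ι'_app_surjective {O : G.U.Opens} (hO : IsAffineOpen O) (hOW : O ≤ FGS.W G) :
    Function.Surjective ((ι' G).app O).hom := by
  have h1 : IsAffineOpen ((FGS.W G).ι ⁻¹ᵁ O) :=
    hO.preimage_of_isOpenImmersion _ (by rw [Scheme.Opens.opensRange_ι]; exact hOW)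
  haveI : IsIso ((FGS.W G).ι.app O) :=
    Scheme.Hom.isIso_app _ O (by rw [Scheme.Opens.opensRange_ι]; exact hOW)
  have h2 : Function.Surjective ((FGS.W G).ι.app O).hom :=
    (ConcreteCategory.bijective_of_isIso ((FGS.W G).ι.app O)).surjective
  have h3 : Function.Surjective ((FGS.W' G).subschemeι.app ((FGS.W G).ι ⁻¹ᵁ O)).hom :=
    (FGS.W' G).subschemeι_app_surjective ⟨_, h1⟩
  have e : (ι' G).app O = (FGS.W G).ι.app O ≫ (FGS.W' G).subschemeι.app ((FGS.W G).ι ⁻¹ᵁ O) :=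
    Scheme.Hom.comp_app _ _ _
  have key := fun x => congrArg (fun φ => (CommRingCat.Hom.hom φ) x) e
  intro y
  obtain ⟨z, hz⟩ := h3 y
  obtain ⟨x, hx⟩ := h2 z
  refine ⟨x, (key x).trans ?_⟩
  change ((FGS.W' G).subschemeι.app ((FGS.W G).ι ⁻¹ᵁ O)).hom (((FGS.W G).ι.app O).hom x) = y
  rw [hx, hz]

/-- Transfer of invariance from the restricted groupoid on `W'` to `G`. -/
lemma preimage_eq_of_pull (O : G.U.Opens) (hOW : O ≤ FGS.W G)
    (O' : (Pull.pullGrpd G (ι' G)).U.Opens) (hO' : ∀ w, w ∈ O' ↔ ι' G w ∈ O)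
    (h : (Pull.pullGrpd G (ι' G)).s ⁻¹ᵁ O' = (Pull.pullGrpd G (ι' G)).t ⁻¹ᵁ O') :
    G.s ⁻¹ᵁ O = G.t ⁻¹ᵁ O := by
  ext r
  change G.s r ∈ O ↔ G.t r ∈ O
  have hW := SetLike.ext_iff.mp (FGS.preimage_W G) r
  constructor
  · intro hs
    have hsW : G.s r ∈ FGS.W G := hOW hs
    have htW : G.t r ∈ FGS.W G := hW.mp hsW
    obtain ⟨b, hb⟩ := exists_ι'_eq G hsW
    obtain ⟨a, ha⟩ := exists_ι'_eq G htW
    obtain ⟨r', hr1, hr2⟩ := exists_point_pull G (ι' G) r a b ha.symm hb.symm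
    have e1 : ι' G ((Pull.pullGrpd G (ι' G)).s r') = G.s r := (congrArg (ι' G) hr2).trans hb
    have e2 : ι' G ((Pull.pullGrpd G (ι' G)).t r') = G.t r := (congrArg (ι' G) hr1).trans ha
    have h1 : r' ∈ (Pull.pullGrpd G (ι' G)).s ⁻¹ᵁ O' := (hO' _).mpr (by rw [e1]; exact hs)
    rw [h] at h1
    have h2 : (Pull.pullGrpd G (ι' G)).t r' ∈ O' := h1
    have h3 := (hO' _).mp h2
    rw [e2] at h3
    exact h3
  · intro ht
    have htW : G.t r ∈ FGS.W G := hOW ht
    have hsW : G.s r ∈ FGS.W G := hW.mpr htW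
    obtain ⟨b, hb⟩ := exists_ι'_eq G hsW
    obtain ⟨a, ha⟩ := exists_ι'_eq G htW
    obtain ⟨r', hr1, hr2⟩ := exists_point_pull G (ι' G) r a b ha.symm hb.symm
    have e1 : ι' G ((Pull.pullGrpd G (ι' G)).s r') = G.s r := (congrArg (ι' G) hr2).trans hb
    have e2 : ι' G ((Pull.pullGrpd G (ι' G)).t r') = G.t r := (congrArg (ι' G) hr1).trans ha
    have h1 : r' ∈ (Pull.pullGrpd G (ι' G)).t ⁻¹ᵁ O' := (hO' _).mpr (by rw [e2]; exact ht)
    rw [← h] at h1
    have h2 : (Pull.pullGrpd G (ι' G)).s r' ∈ O' := h1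
    have h3 := (hO' _).mp h2
    rw [e1] at h3
    exact h3

variable [LocallyOfFinitePresentation G.s] [QuasiSeparatedSpace G.U]

/-- **Invariant affine open around finitely many generic orbits.** -/
theorem exists_invariant_affine (m : ℕ) (u : Fin m → G.U)
    (hu : ∀ i (r : G.R), G.s r = u i → ∀ x : G.U, x ⤳ G.t r → x = G.t r) :
    ∃ V : G.U.Opens, IsAffineOpen V ∧ (∀ i, u i ∈ V) ∧ G.s ⁻¹ᵁ V = G.t ⁻¹ᵁ V ∧ V ≤ FGS.W G := by
  classical
  -- the orbit set
  let E : Set G.U := ⋃ i, G.t '' (G.s ⁻¹' {u i})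
  have hEfin : E.Finite :=
    Set.finite_iUnion (fun i => (G.s.finite_preimage_singleton (u i)).image _)
  have hEgen : ∀ x ∈ E, ∀ y : G.U, y ⤳ x → y = x := by
    intro x hx
    obtain ⟨i, r, hr, rfl⟩ := Set.mem_iUnion.mp hx
    exact hu i r hr
  have hEorb : ∀ x ∈ E, ∀ r : G.R, G.s r = x → G.t r ∈ E := by
    intro x hx r hr
    obtain ⟨i, r0, hr0, rfl⟩ := Set.mem_iUnion.mp hx
    obtain ⟨r₃, h1, h2⟩ := exists_comp_point G r r0 hr
    exact Set.mem_iUnion.mpr ⟨i, r₃, h1.trans hr0, h2⟩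
  have huE : ∀ i, u i ∈ E := by
    intro i
    obtain ⟨r, hr1, hr2⟩ := exists_id_point G (u i)
    exact Set.mem_iUnion.mpr ⟨i, r, hr1, hr2⟩
  have hEW : E ⊆ FGS.W G := fun x hx =>
    FGS.mem_W_of_generic_orbit G x (fun r hr => hEgen _ (hEorb x hx r hr))
  obtain ⟨V₀, hV₀, hEV₀, hV₀W⟩ := exists_isAffineOpen_of_generic E hEfin hEgen (FGS.W G) hEW
  -- the restricted groupoid
  obtain ⟨φ, hφ⟩ := FGS.exists_iso_W' G
  have hs' := isFinLocFree_pull_s G (ι' G) φ hφ (FGS.isFinLocFree_s G)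
  have ht' := isFinLocFree_pull_t G (ι' G) φ hφ (FGS.isFinLocFree_t G)
  haveI := hs'.1
  haveI := hs'.2.1
  haveI := hs'.2.2
  haveI := ht'.1
  haveI := ht'.2.1
  haveI := ht'.2.2
  have hV'₀ : IsAffineOpen ((ι' G) ⁻¹ᵁ V₀) := isAffineOpen_preimage_ι' G hV₀ hV₀W
  have hE'fin : ((ι' G) ⁻¹' E).Finite := hEfin.preimage (ι'_injective G).injOn
  have hE'V : (ι' G) ⁻¹' E ⊆ (ι' G) ⁻¹ᵁ V₀ := fun w hw => hEV₀ hw
  have hE'orb : ∀ w ∈ (ι' G) ⁻¹' E, ∀ r' : (Pull.pullGrpd G (ι' G)).R,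
      (Pull.pullGrpd G (ι' G)).s r' = w → (Pull.pullGrpd G (ι' G)).t r' ∈ (ι' G) ⁻¹' E := by
    intro w hw r' hr'
    change ι' G ((Pull.pullGrpd G (ι' G)).t r') ∈ E
    rw [pull_t_apply]
    refine hEorb _ hw _ ?_
    rw [← pull_s_apply, hr']
  have hE'inv : ∀ w ∈ (ι' G) ⁻¹' E, w ∈ invOpen (Pull.pullGrpd G (ι' G)) ((ι' G) ⁻¹ᵁ V₀) :=
    fun w hw r' hr' => hE'V (hE'orb w hw r' hr')
  obtain ⟨f', hE'f, hf'inv⟩ := exists_basicOpen_le_of_finite_of_isAffineOpen hV'₀
    (invOpen (Pull.pullGrpd G (ι' G)) ((ι' G) ⁻¹ᵁ V₀)) _ hE'fin hE'V hE'inv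
  obtain ⟨g', hg'⟩ : ∃ g' : Γ((FGS.W' G).subscheme, (FGS.W' G).subscheme.basicOpen f'),
      invOpen (Pull.pullGrpd G (ι' G)) ((FGS.W' G).subscheme.basicOpen f') =
        (FGS.W' G).subscheme.basicOpen g' :=
    exists_invOpen_basicOpen_eq (Pull.pullGrpd G (ι' G)) hV'₀ f' hf'inv
  -- lifting the functions
  obtain ⟨f, hf⟩ := ι'_app_surjective G hV₀ hV₀W f'
  have hDfW : G.U.basicOpen f ≤ FGS.W G := (G.U.basicOpen_le f).trans hV₀W
  have hDf : (ι' G) ⁻¹ᵁ (G.U.basicOpen f) = (FGS.W' G).subscheme.basicOpen f' := by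
    rw [Scheme.preimage_basicOpen, ← hf]
  obtain ⟨g, hg⟩ := ι'_app_surjective G (hV₀.basicOpen f) hDfW
    ((FGS.W' G).subscheme.presheaf.map (eqToHom hDf).op g')
  have hDg : (ι' G) ⁻¹ᵁ (G.U.basicOpen g) =
      invOpen (Pull.pullGrpd G (ι' G)) ((FGS.W' G).subscheme.basicOpen f') := by
    rw [Scheme.preimage_basicOpen]
    have : (ι' G).app (G.U.basicOpen f) g =
        (FGS.W' G).subscheme.presheaf.map (eqToHom hDf).op g' := hg
    rw [this, hg']
    exact Scheme.basicOpen_res_eq (FGS.W' G).subscheme g' (eqToHom hDf).op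
  have hVW : G.U.basicOpen g ≤ FGS.W G := (G.U.basicOpen_le g).trans hDfW
  refine ⟨G.U.basicOpen g, (hV₀.basicOpen f).basicOpen g, fun i => ?_, ?_, hVW⟩
  · obtain ⟨w, hw⟩ := exists_ι'_eq G (hEW (huE i))
    have hwE : w ∈ (ι' G) ⁻¹' E := by
      change ι' G w ∈ E
      rw [hw]
      exact huE i
    have : w ∈ (ι' G) ⁻¹ᵁ (G.U.basicOpen g) := by
      rw [hDg]
      intro r' hr'
      exact hE'f (hE'orb w hwE r' hr')
    rw [← hw]
    exact this
  · exact preimage_eq_of_pull G _ hVW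
      (invOpen (Pull.pullGrpd G (ι' G)) ((FGS.W' G).subscheme.basicOpen f'))
      (fun w => (SetLike.ext_iff.mp hDg w).symm) (preimage_invOpen _ _)

end Main


section Noeth

/-- A morphism locally of finite type to a locally Noetherian scheme is locally of finite
presentation (cf. `Groth.Agent.Lib.Helper66.LfpNoeth`). -/
theorem lfp_of_isLocallyNoetherian {X Y : Scheme.{u}} (f : X ⟶ Y)
    [LocallyOfFiniteType f] [IsLocallyNoetherian Y] : LocallyOfFinitePresentation f := by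
  rw [HasRingHomProperty.iff_appLE (P := @LocallyOfFinitePresentation)]
  intro U V e
  have : IsNoetherianRing Γ(Y, U.1) := IsLocallyNoetherian.component_noetherian U
  exact RingHom.FinitePresentation.of_finiteType.1
    (HasRingHomProperty.appLE (P := @LocallyOfFiniteType) f inferInstance U V e)

end Noeth

end Groth.Agent.Lib.Helper37.FGA
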