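import Groth.Agent.Lib.Helper37.FinGrpdAffine
import Mathlib.AlgebraicGeometry.Morphisms.Immersion

/-!
# Finite groupoids on quasi-affine schemes: invariant affine basic opens (helper37)

`FGA.exists_invariant_basicOpen`: Stacks-style lemma producing `h ∈ I` with `j⁻¹ D(h)` an `R`-invariant
affine open containing finitely many points with generic orbits.
-/

set_option autoImplicit false
set_option linter.style.haveILetI false
set_option linter.unusedSectionVars false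
universe u

namespace Groth.Agent.Lib.Helper37.FGA

open CategoryTheory CategoryTheory.Limits AlgebraicGeometry Grpd

section Aux

/-- Prime avoidance inside a given ideal, relative to a closed set containing its zero locus. -/
theorem exists_mem_ideal_basicOpen {A : Type u} [CommRing A] (I : Ideal A)
    (C : Set (PrimeSpectrum A)) (hC : IsClosed C)
    (hIC : PrimeSpectrum.zeroLocus (I : Set A) ⊆ C) (F : Set (PrimeSpectrum A)) (hF : F.Finite)
    (hFC : ∀ p ∈ F, p ∉ C) :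
    ∃ h ∈ I, (∀ p ∈ F, p ∈ PrimeSpectrum.basicOpen h) ∧
      ∀ q ∈ C, q ∉ PrimeSpectrum.basicOpen h := by
  classical
  set J : Ideal A := I ⊓ PrimeSpectrum.vanishingIdeal C with hJ
  have hJp : ∀ p ∈ F, ¬ (J ≤ p.asIdeal) := by
    intro p hp hle
    rcases (Ideal.IsPrime.inf_le p.2).mp hle with h1 | h1
    · exact hFC p hp (hIC h1)
    · have : p ∈ PrimeSpectrum.zeroLocus (PrimeSpectrum.vanishingIdeal C : Set A) := h1
      rw [PrimeSpectrum.zeroLocus_vanishingIdeal_eq_closure, hC.closure_eq] at this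
      exact hFC p hp this
  have hkey : ∃ h ∈ J, ∀ p ∈ F, h ∉ p.asIdeal := by
    by_cases hne : F.Nonempty
    · obtain ⟨p₀, hp₀⟩ := hne
      have hnot : ¬ ((J : Set A) ⊆ ⋃ p ∈ (↑hF.toFinset : Set (PrimeSpectrum A)), p.asIdeal) := by
        rw [Ideal.subset_union_prime (f := fun p : PrimeSpectrum A => p.asIdeal) p₀ p₀
          (fun p _ _ _ => p.2)]
        rintro ⟨p, hp, hJle⟩
        exact hJp p (hF.mem_toFinset.mp hp) hJle
      obtain ⟨h, hhJ, hh⟩ := Set.not_subset.mp hnot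
      refine ⟨h, hhJ, fun p hp hhp => hh ?_⟩
      exact Set.mem_biUnion (show p ∈ (↑hF.toFinset : Set _) from hF.mem_toFinset.mpr hp) hhp
    · rw [Set.not_nonempty_iff_eq_empty] at hne
      exact ⟨0, J.zero_mem, fun p hp => by rw [hne] at hp; exact absurd hp (Set.notMem_empty p)⟩
  obtain ⟨h, hhJ, hh⟩ := hkey
  refine ⟨h, hhJ.1, fun p hp => hh p hp, fun q hq hqh => ?_⟩
  have : h ∈ q.asIdeal := (PrimeSpectrum.mem_vanishingIdeal _ _).mp hhJ.2 q hq
  exact hqh this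

variable {X Y : Scheme.{u}}

/-- If the restriction of `f` over an affine open `D` is a closed immersion, then `f` is surjective
on sections over `D`. -/
theorem app_surjective_of_isClosedImmersion_restrict (f : X ⟶ Y) (D : Y.Opens)
    (hD : IsAffineOpen D) [IsClosedImmersion (f ∣_ D)] : Function.Surjective (f.app D).hom := by
  haveI : IsAffine (↑D : Scheme.{u}) := hD
  have h := Scheme.Hom.app_surjective (f ∣_ D) ⊤ (isAffineOpen_top _)
  have e := morphismRestrict_appTop f D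
  have h2 : Function.Surjective (f.app (D.ι ''ᵁ ⊤)).hom := by
    intro y
    obtain ⟨x, hx⟩ := h ((X.presheaf.map
      (eqToHom (image_morphismRestrict_preimage f D ⊤)).op).hom y)
    refine ⟨x, ?_⟩
    have := (congrArg (fun φ => (CommRingCat.Hom.hom φ) x) e).symm.trans hx
    exact (ConcreteCategory.bijective_of_isIso (X.presheaf.map
      (eqToHom (image_morphismRestrict_preimage f D ⊤)).op)).injective this
  have h3 : D.ι ''ᵁ ⊤ = D := D.ι_image_top
  rw [h3] at h2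
  exact h2

/-- An immersion restricted to an open in which its range is closed is a closed immersion. -/
theorem isClosedImmersion_restrict (f : X ⟶ Y) [IsImmersion f] (D : Y.Opens) (T : Set Y)
    (hT : IsClosed T) (h : ∀ y ∈ D, y ∈ Set.range f ↔ y ∈ T) : IsClosedImmersion (f ∣_ D) := by
  refine IsClosedImmersion.of_isPreimmersion _ ?_
  have hr : Set.range (f ∣_ D) = Subtype.val ⁻¹' T := by
    ext x
    constructor
    · rintro ⟨y, rfl⟩
      have h1 : ((f ∣_ D) y).1 = f y.1 := morphismRestrict_base_coe f D y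
      exact (h _ ((f ∣_ D) y).2).mp ⟨y.1, h1.symm⟩
    · intro hxT
      obtain ⟨z, hz⟩ := (h x.1 x.2).mpr hxT
      have hzD : z ∈ f ⁻¹ᵁ D := by
        change f z ∈ D
        rw [hz]
        exact x.2
      refine ⟨⟨z, hzD⟩, Subtype.ext ?_⟩
      exact (morphismRestrict_base_coe f D ⟨z, hzD⟩).trans hz
  rw [hr]
  exact hT.preimage continuous_subtype_val

end Aux


section Basic

variable {S : Scheme.{u}} (G : GroupoidScheme S) [IsFinite G.s] [IsFinite G.t]
  [LocallyOfFinitePresentation G.s]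

set_option maxHeartbeats 800000 in
/-- **Invariant affine basic open around finitely many generic orbits**, for `U` immersed in an
affine scheme. -/
theorem exists_invariant_basicOpen (m : ℕ) (u : Fin m → G.U)
    (hu : ∀ i (r : G.R), G.s r = u i → ∀ x : G.U, x ⤳ G.t r → x = G.t r)
    (A : Type u) [CommRing A] (j : G.U ⟶ Spec (CommRingCat.of A)) [IsImmersion j] (I : Ideal A)
    (hI : ∀ x : G.U, j x ∉ PrimeSpectrum.zeroLocus (I : Set A))
    (hcl : IsClosed (PrimeSpectrum.zeroLocus (I : Set A) ∪ Set.range j)) :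
    ∃ h ∈ I, IsAffineOpen (j ⁻¹ᵁ PrimeSpectrum.basicOpen h) ∧
      (∀ i, u i ∈ j ⁻¹ᵁ PrimeSpectrum.basicOpen h) ∧
      G.s ⁻¹ᵁ (j ⁻¹ᵁ PrimeSpectrum.basicOpen h) = G.t ⁻¹ᵁ (j ⁻¹ᵁ PrimeSpectrum.basicOpen h) := by
  classical
  haveI : QuasiSeparatedSpace G.U := quasiSeparatedSpace_of_quasiSeparated j
  -- the orbit set
  let E : Set G.U := ⋃ i, G.t '' (G.s ⁻¹' {u i})
  have hEfin : E.Finite :=
    Set.finite_iUnion (fun i => (G.s.finite_preimage_singleton (u i)).image _)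
  have hEgen : ∀ x ∈ E, ∀ y : G.U, y ⤳ x → y = x := by
    intro x hx
    obtain ⟨i, r, hr, rfl⟩ := Set.mem_iUnion.mp hx
    exact hu i r hr
  have hEorb : ∀ x ∈ E, ∀ r : G.R, G.s r = x → G.t r ∈ E := by
    intro x hx r hr
    obtain ⟨i, r0, hr0, rfl⟩ := Set.mem_iUnion.mp hx
    obtain ⟨r₃, h1, h2⟩ := exists_comp_point G r r0 hr
    exact Set.mem_iUnion.mpr ⟨i, r₃, h1.trans hr0, h2⟩
  have huE : ∀ i, u i ∈ E := by
    intro i
    obtain ⟨r, hr1, hr2⟩ := exists_id_point G (u i)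
    exact Set.mem_iUnion.mpr ⟨i, r, hr1, hr2⟩
  have hEW : E ⊆ FGS.W G := fun x hx =>
    FGS.mem_W_of_generic_orbit G x (fun r hr => hEgen _ (hEorb x hx r hr))
  obtain ⟨V₀, hV₀, hEV₀, hV₀W⟩ := exists_isAffineOpen_of_generic E hEfin hEgen (FGS.W G) hEW
  have hEO₀ : ∀ x ∈ E, x ∈ invOpen G V₀ := fun x hx r hr => hEV₀ (hEorb x hx r hr)
  -- Step A: the function `h₀`
  obtain ⟨Ω, hΩ, hΩeq⟩ := j.isEmbedding.isInducing.isOpen_iff.mp (invOpen G V₀).2
  have hCcl : IsClosed ((PrimeSpectrum.zeroLocus (I : Set A) ∪ Set.range j) ∩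
      (Ωᶜ ∪ PrimeSpectrum.zeroLocus (I : Set A))) :=
    hcl.inter (hΩ.isClosed_compl.union (PrimeSpectrum.isClosed_zeroLocus _))
  obtain ⟨h₀, hh₀I, hh₀E, hh₀C⟩ := exists_mem_ideal_basicOpen I _ hCcl
    (fun p hp => ⟨Or.inl hp, Or.inr hp⟩) (j '' E) (hEfin.image _) (by
      rintro _ ⟨x, hx, rfl⟩ ⟨-, h2⟩
      rcases h2 with h2 | h2
      · refine h2 ?_
        have : x ∈ j ⁻¹' Ω := by rw [hΩeq]; exact hEO₀ x hx
        exact this
      · exact hI x h2)
  have hYO₀ : ∀ x : G.U, j x ∈ PrimeSpectrum.basicOpen h₀ → x ∈ invOpen G V₀ := by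
    intro x hx
    by_contra hxO
    refine hh₀C (j x) ⟨Or.inr ⟨x, rfl⟩, Or.inl ?_⟩ hx
    intro hjΩ
    have : x ∈ j ⁻¹' Ω := hjΩ
    rw [hΩeq] at this
    exact hxO this
  -- the affine open `D = D(h₀)` of `Spec A`
  set r₀ : Γ(Spec (CommRingCat.of A), ⊤) := (Scheme.ΓSpecIso (CommRingCat.of A)).inv h₀ with hr₀
  have hD : (Spec (CommRingCat.of A)).basicOpen r₀ = PrimeSpectrum.basicOpen h₀ :=
    basicOpen_eq_of_affine (R := CommRingCat.of A) h₀
  have hDaff : IsAffineOpen ((Spec (CommRingCat.of A)).basicOpen r₀) :=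
    (isAffineOpen_top _).basicOpen r₀
  have hmemD : ∀ p : Spec (CommRingCat.of A),
      p ∈ (Spec (CommRingCat.of A)).basicOpen r₀ ↔ p ∈ PrimeSpectrum.basicOpen h₀ := by
    intro p
    rw [hD]
    exact Iff.rfl
  have hrange : ∀ p ∈ (Spec (CommRingCat.of A)).basicOpen r₀, p ∈ Set.range (ι' G ≫ j) ↔
      p ∈ PrimeSpectrum.zeroLocus (I : Set A) ∪ Set.range j := by
    intro p hp
    constructor
    · rintro ⟨w, rfl⟩
      exact Or.inr ⟨ι' G w, rfl⟩
    · intro hpT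
      have hp' : p ∈ PrimeSpectrum.basicOpen h₀ := (hmemD p).mp hp
      rcases hpT with hpI | ⟨y, rfl⟩
      · exact absurd (hpI hh₀I) hp'
      · obtain ⟨w, hw⟩ := exists_ι'_eq G (hV₀W (invOpen_le G V₀ (hYO₀ y hp')))
        exact ⟨w, by rw [Scheme.Hom.comp_apply, hw]⟩
  haveI := isClosedImmersion_restrict (ι' G ≫ j) ((Spec (CommRingCat.of A)).basicOpen r₀) _ hcl
    hrange
  have hsurj := app_surjective_of_isClosedImmersion_restrict (ι' G ≫ j)
    ((Spec (CommRingCat.of A)).basicOpen r₀) hDaff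
  -- the restricted groupoid
  obtain ⟨φ, hφ⟩ := FGS.exists_iso_W' G
  have hs' := isFinLocFree_pull_s G (ι' G) φ hφ (FGS.isFinLocFree_s G)
  have ht' := isFinLocFree_pull_t G (ι' G) φ hφ (FGS.isFinLocFree_t G)
  haveI := hs'.1
  haveI := hs'.2.1
  haveI := hs'.2.2
  haveI := ht'.1
  haveI := ht'.2.1
  haveI := ht'.2.2
  have hV'₀ : IsAffineOpen ((ι' G) ⁻¹ᵁ V₀) := isAffineOpen_preimage_ι' G hV₀ hV₀W
  have hE'orb : ∀ w ∈ (ι' G) ⁻¹' E, ∀ r' : (Pull.pullGrpd G (ι' G)).R,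
      (Pull.pullGrpd G (ι' G)).s r' = w → (Pull.pullGrpd G (ι' G)).t r' ∈ (ι' G) ⁻¹' E := by
    intro w hw r' hr'
    change ι' G ((Pull.pullGrpd G (ι' G)).t r') ∈ E
    rw [pull_t_apply]
    refine hEorb _ hw _ ?_
    rw [← pull_s_apply, hr']
  -- Step B: the function `f'`
  have hle : (ι' G) ⁻¹ᵁ V₀ ≤ (ι' G ≫ j) ⁻¹ᵁ ⊤ := fun _ _ => trivial
  set f' : Γ((FGS.W' G).subscheme, (ι' G) ⁻¹ᵁ V₀) :=
    ((FGS.W' G).subscheme.presheaf.map (homOfLE hle).op).hom (((ι' G ≫ j).app ⊤).hom r₀) with hf'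
  have hY'le : (ι' G ≫ j) ⁻¹ᵁ (Spec (CommRingCat.of A)).basicOpen r₀ ≤ (ι' G) ⁻¹ᵁ V₀ := by
    intro w hw
    have h1 : j (ι' G w) ∈ PrimeSpectrum.basicOpen h₀ := (hmemD _).mp hw
    exact invOpen_le G V₀ (hYO₀ _ h1)
  have hf'Y : (FGS.W' G).subscheme.basicOpen f' =
      (ι' G ≫ j) ⁻¹ᵁ (Spec (CommRingCat.of A)).basicOpen r₀ := by
    rw [hf', Scheme.basicOpen_res, Scheme.preimage_basicOpen]
    exact inf_eq_right.mpr (by rw [← Scheme.preimage_basicOpen]; exact hY'le)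
  have hY : (FGS.W' G).subscheme.basicOpen f' ≤
      invOpen (Pull.pullGrpd G (ι' G)) ((ι' G) ⁻¹ᵁ V₀) := by
    rw [hf'Y]
    intro w hw r' hr'
    have h1 : j (ι' G w) ∈ PrimeSpectrum.basicOpen h₀ := (hmemD _).mp hw
    have h2 := hYO₀ _ h1
    change ι' G ((Pull.pullGrpd G (ι' G)).t r') ∈ V₀
    rw [pull_t_apply]
    refine h2 _ ?_
    rw [← pull_s_apply, hr']
  -- Step C
  obtain ⟨g', hg'⟩ : ∃ g' : Γ((FGS.W' G).subscheme, (FGS.W' G).subscheme.basicOpen f'),
      invOpen (Pull.pullGrpd G (ι' G)) ((FGS.W' G).subscheme.basicOpen f') =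
        (FGS.W' G).subscheme.basicOpen g' :=
    exists_invOpen_basicOpen_eq (Pull.pullGrpd G (ι' G)) hV'₀ f' hY
  obtain ⟨z, hz⟩ := hsurj (((FGS.W' G).subscheme.presheaf.map (eqToHom hf'Y.symm).op).hom g')
  have hz' : (ι' G ≫ j) ⁻¹ᵁ (Spec (CommRingCat.of A)).basicOpen z =
      invOpen (Pull.pullGrpd G (ι' G)) ((FGS.W' G).subscheme.basicOpen f') := by
    rw [Scheme.preimage_basicOpen]
    have : ((ι' G ≫ j).app ((Spec (CommRingCat.of A)).basicOpen r₀)) z =
        ((FGS.W' G).subscheme.presheaf.map (eqToHom hf'Y.symm).op) g' := hz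
    rw [this, hg']
    exact Scheme.basicOpen_res_eq (FGS.W' G).subscheme g' (eqToHom hf'Y.symm).op
  obtain ⟨f'', hf''⟩ := (isAffineOpen_top (Spec (CommRingCat.of A))).basicOpen_basicOpen_is_basicOpen
    r₀ z
  set a₁ : A := (Scheme.ΓSpecIso (CommRingCat.of A)).hom f'' with ha₁
  have hbo : (PrimeSpectrum.basicOpen (h₀ * a₁) : (Spec (CommRingCat.of A)).Opens) =
      (Spec (CommRingCat.of A)).basicOpen z := by
    rw [PrimeSpectrum.basicOpen_mul, ← hf'']
    have e1 : (Spec (CommRingCat.of A)).basicOpen f'' = PrimeSpectrum.basicOpen a₁ :=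
      basicOpen_eq_of_affine' (R := CommRingCat.of A) f''
    rw [e1, ← hD]
    refine inf_eq_right.mpr ?_
    rw [← e1, hf'']
    exact (Spec (CommRingCat.of A)).basicOpen_le z
  -- Step D
  have hOle : ∀ x : G.U, j x ∈ PrimeSpectrum.basicOpen (h₀ * a₁) → x ∈ invOpen G V₀ := by
    intro x hx
    refine hYO₀ x ?_
    rw [PrimeSpectrum.basicOpen_mul] at hx
    exact hx.1
  have hOW : j ⁻¹ᵁ PrimeSpectrum.basicOpen (h₀ * a₁) ≤ FGS.W G :=
    fun x hx => hV₀W (invOpen_le G V₀ (hOle x hx))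
  have hO1 : ∀ w, w ∈ invOpen (Pull.pullGrpd G (ι' G)) ((FGS.W' G).subscheme.basicOpen f') ↔
      ι' G w ∈ j ⁻¹ᵁ PrimeSpectrum.basicOpen (h₀ * a₁) := by
    intro w
    rw [← hz']
    change _ ↔ j (ι' G w) ∈ (PrimeSpectrum.basicOpen (h₀ * a₁) : (Spec (CommRingCat.of A)).Opens)
    rw [hbo]
    rfl
  refine ⟨h₀ * a₁, I.mul_mem_right _ hh₀I, ?_, fun i => ?_, ?_⟩
  · -- affine
    have e1 : j ⁻¹ᵁ PrimeSpectrum.basicOpen (h₀ * a₁) =
        G.U.basicOpen ((j.app ⊤).hom ((Scheme.ΓSpecIso (CommRingCat.of A)).inv (h₀ * a₁))) := by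
      rw [← Scheme.preimage_basicOpen]
      congr 1
      exact (basicOpen_eq_of_affine (R := CommRingCat.of A) (h₀ * a₁)).symm
    have hle2 : V₀ ≤ j ⁻¹ᵁ ⊤ := fun _ _ => trivial
    have e2 : G.U.basicOpen ((G.U.presheaf.map (homOfLE hle2).op).hom
        ((j.app ⊤).hom ((Scheme.ΓSpecIso (CommRingCat.of A)).inv (h₀ * a₁)))) =
        j ⁻¹ᵁ PrimeSpectrum.basicOpen (h₀ * a₁) := by
      rw [Scheme.basicOpen_res, ← e1]
      exact inf_eq_right.mpr (fun x hx => invOpen_le G V₀ (hOle x hx))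
    rw [← e2]
    exact hV₀.basicOpen _
  · obtain ⟨w, hw⟩ := exists_ι'_eq G (hEW (huE i))
    have hwE : w ∈ (ι' G) ⁻¹' E := by
      change ι' G w ∈ E
      rw [hw]
      exact huE i
    have h1 : w ∈ invOpen (Pull.pullGrpd G (ι' G)) ((FGS.W' G).subscheme.basicOpen f') := by
      intro r' hr'
      have h2 := hE'orb w hwE r' hr'
      rw [hf'Y]
      change j (ι' G ((Pull.pullGrpd G (ι' G)).t r')) ∈ (Spec (CommRingCat.of A)).basicOpen r₀
      rw [hmemD]
      exact hh₀E _ ⟨_, h2, rfl⟩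
    have h3 := (hO1 w).mp h1
    rw [hw] at h3
    exact h3
  · exact preimage_eq_of_pull G _ hOW
      (invOpen (Pull.pullGrpd G (ι' G)) ((FGS.W' G).subscheme.basicOpen f')) hO1
      (preimage_invOpen _ _)

end Basic

end Groth.Agent.Lib.Helper37.FGA
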