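import Groth.Agent.Lib.Helper18.IdealComap

/-!
# Gluing ideal sheaves along a clopen partition; comparing ideal sheaves on an open cover (helper37)

* `IG.glue V J`: for a family of opens `V n` and ideal sheaves `J n`, the ideal sheaf
  `⨆ n, J n * ker((⋃_{k ≠ n} V k) ↪ X)`.
* `IG.glue_comap`: if the `V n` are pairwise disjoint and cover `X`, then for `h : T ⟶ X` landing in
  `V n`, `(glue V J).comap h = (J n).comap h`.
* `IG.ext_of_comap_ι`: two ideal sheaves agreeing after restriction to the members of an open cover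
  are equal.
-/

set_option autoImplicit false
set_option linter.style.haveILetI false
set_option linter.unusedSectionVars false
universe u

namespace Groth.Agent.Lib.Helper37.IG

open CategoryTheory CategoryTheory.Limits AlgebraicGeometry

section Glue

variable {X : Scheme.{u}}

lemma quasiCompact_ι_of_isClosed (C : X.Opens) (hC : IsClosed (C : Set X)) : QuasiCompact C.ι := by
  refine ⟨fun U _ hc => ?_⟩
  have hce : Topology.IsClosedEmbedding C.ι := by
    refine ⟨C.ι.isOpenEmbedding.isEmbedding, ?_⟩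
    rw [Scheme.Opens.range_ι]
    exact hC
  exact hce.isCompact_preimage hc

/-- The kernel of an open inclusion pulls back to zero along maps landing in the open. -/
lemma ker_ι_comap_eq_bot (C : X.Opens) {T : Scheme.{u}} (h : T ⟶ X) (hh : ∀ x, h x ∈ C) :
    (C.ι.ker).comap h = ⊥ := by
  have hr : Set.range h ⊆ Set.range C.ι := by
    rw [Scheme.Opens.range_ι]
    rintro _ ⟨x, rfl⟩
    exact hh x
  have h1 : (C.ι.ker).comap C.ι = ⊥ := by
    rw [eq_bot_iff, ← Scheme.IdealSheafData.map_bot]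
    exact Scheme.IdealSheafData.comap_map_le _ _
  rw [← IsOpenImmersion.lift_fac C.ι h hr, Scheme.IdealSheafData.comap_comp, h1,
    Scheme.IdealSheafData.comap_bot]

/-- The kernel of a clopen inclusion pulls back to the unit ideal along maps avoiding it. -/
lemma ker_ι_comap_eq_top (C : X.Opens) (hC : IsClosed (C : Set X)) {T : Scheme.{u}} (h : T ⟶ X)
    (hh : ∀ x, h x ∉ C) : (C.ι.ker).comap h = ⊤ := by
  haveI := quasiCompact_ι_of_isClosed C hC
  rw [← Scheme.IdealSheafData.support_eq_bot_iff, Scheme.IdealSheafData.support_comap]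
  ext x
  simp only [TopologicalSpace.Closeds.coe_preimage, Set.mem_preimage, SetLike.mem_coe,
    TopologicalSpace.Closeds.coe_bot, Set.mem_empty_iff_false, iff_false]
  intro hx
  have h2 : h x ∈ ((C.ι.ker).support : Set X) := hx
  rw [Scheme.Hom.support_ker, Scheme.Opens.range_ι, hC.closure_eq] at h2
  exact hh x h2

variable {ι : Type*} (V : ι → X.Opens) (J : ι → X.IdealSheafData)

/-- The complement of `V n` in a partition. -/
def Cn (n : ι) : X.Opens := ⨆ (k : ι) (_ : k ≠ n), V k

lemma mem_Cn {n : ι} {x : X} : x ∈ Cn V n ↔ ∃ k, k ≠ n ∧ x ∈ V k := by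
  unfold Cn
  simp only [TopologicalSpace.Opens.mem_iSup, exists_prop]

/-- Gluing ideal sheaves along a clopen partition. -/
noncomputable def glue : X.IdealSheafData := ⨆ n, J n * (Cn V n).ι.ker

variable (hdisj : ∀ m n, m ≠ n → Disjoint (V m) (V n)) (hcov : ⨆ n, V n = ⊤)
include hdisj hcov

lemma coe_Cn_eq_compl (n : ι) : (Cn V n : Set X) = (V n : Set X)ᶜ := by
  ext x
  simp only [SetLike.mem_coe, mem_Cn, Set.mem_compl_iff]
  constructor
  · rintro ⟨k, hk, hxk⟩ hxn
    exact (Set.disjoint_left.mp (TopologicalSpace.Opens.coe_disjoint.mpr (hdisj k n hk))) hxk hxn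
  · intro hxn
    have : x ∈ (⨆ n, V n : X.Opens) := by rw [hcov]; trivial
    obtain ⟨k, hk⟩ := TopologicalSpace.Opens.mem_iSup.mp this
    exact ⟨k, fun e => hxn (e ▸ hk), hk⟩

lemma isClosed_Cn (n : ι) : IsClosed (Cn V n : Set X) := by
  rw [coe_Cn_eq_compl V hdisj hcov]
  exact (V n).2.isClosed_compl

theorem glue_comap [DecidableEq ι] {T : Scheme.{u}} (h : T ⟶ X) (n : ι) (hh : ∀ x, h x ∈ V n) :
    (glue V J).comap h = (J n).comap h := by
  have htop : ((Cn V n).ι.ker).comap h = ⊤ := by
    refine ker_ι_comap_eq_top _ (isClosed_Cn V hdisj hcov n) h (fun x hx => ?_)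
    have : x ∈ h ⁻¹' (Cn V n : Set X) := hx
    rw [coe_Cn_eq_compl V hdisj hcov] at this
    exact this (hh x)
  have hbot : ∀ m, m ≠ n → ((Cn V m).ι.ker).comap h = ⊥ := by
    intro m hm
    refine ker_ι_comap_eq_bot _ h (fun x => ?_)
    exact (mem_Cn V).mpr ⟨n, fun e => hm e.symm, hh x⟩
  unfold glue
  have hsup := (Scheme.IdealSheafData.map_gc h).l_iSup (f := fun n => J n * (Cn V n).ι.ker)
  rw [hsup]
  apply le_antisymm
  · refine iSup_le (fun m => ?_)
    rw [Groth.Agent.Lib.Helper18.comap_mul]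
    by_cases hm : m = n
    · subst hm
      rw [htop, Scheme.IdealSheafData.mul_top]
    · rw [hbot m hm, Scheme.IdealSheafData.mul_bot]
      exact bot_le
  · refine le_trans ?_ (le_iSup _ n)
    rw [Groth.Agent.Lib.Helper18.comap_mul, htop, Scheme.IdealSheafData.mul_top]

end Glue

section Local

variable {X : Scheme.{u}}

/-- Ideal sheaves can be compared on an open cover. -/
theorem ext_of_comap_ι {I J : X.IdealSheafData} {κ : Type*} (O : κ → X.Opens)
    (hO : ⨆ i, O i = ⊤) (H : ∀ i, I.comap (O i).ι = J.comap (O i).ι) : I = J := by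
  refine Scheme.IdealSheafData.ext_of_iSup_eq_top
    (ι := Σ i, (↑(O i) : Scheme.{u}).affineOpens)
    (fun p => ⟨(O p.1).ι ''ᵁ p.2.1, p.2.2.image_of_isOpenImmersion (O p.1).ι⟩) ?_ ?_
  · rw [eq_top_iff]
    intro x _
    have hx : x ∈ (⨆ i, O i : X.Opens) := by rw [hO]; trivial
    obtain ⟨i, hi⟩ := TopologicalSpace.Opens.mem_iSup.mp hx
    obtain ⟨B, hB, hxB, -⟩ := TopologicalSpace.Opens.isBasis_iff_nbhd.mp
      (↑(O i) : Scheme.{u}).isBasis_affineOpens
      (show (⟨x, hi⟩ : ↑(O i)) ∈ (⊤ : (↑(O i) : Scheme.{u}).Opens) from trivial)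
    refine TopologicalSpace.Opens.mem_iSup.mpr ⟨⟨i, ⟨B, hB⟩⟩, ?_⟩
    exact ⟨⟨x, hi⟩, hxB, rfl⟩
  · rintro ⟨i, B⟩
    have h1 := congrArg (fun K => K.ideal B) (H i)
    simp only [Scheme.IdealSheafData.ideal_comap_of_isOpenImmersion] at h1
    exact Ideal.comap_injective_of_surjective _
      (ConcreteCategory.bijective_of_isIso ((O i).ι.appIso B.1).inv).surjective h1

end Local

end Groth.Agent.Lib.Helper37.IG
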