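import Groth.Agent.Lib.Helper37.FittStrat
import Groth.Agent.Lib.Helper37.GroupoidInvOpen
import Groth.Agent.S7457
import Groth.Agent.Lib.Helper37.IdealGlue

/-!
# Finite groupoids: the invariant open `W` and its thickening (helper37)
-/

set_option autoImplicit false
set_option linter.style.haveILetI false
set_option linter.unusedSectionVars false
universe u

namespace Groth.Agent.Lib.Helper37.FGS

open CategoryTheory CategoryTheory.Limits AlgebraicGeometry Grpd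

variable {S : Scheme.{u}} (G : GroupoidScheme S)

/-- The `R`-saturation of a subset of `U`. -/
def sat (C : Set G.U) : Set G.U := G.t '' (G.s ⁻¹' C)

lemma subset_sat (C : Set G.U) : C ⊆ sat G C := by
  intro x hx
  obtain ⟨r, hr1, hr2⟩ := exists_id_point G x
  exact ⟨r, by rw [Set.mem_preimage, hr1]; exact hx, hr2⟩

lemma sat_mono {C D : Set G.U} (h : C ⊆ D) : sat G C ⊆ sat G D :=
  Set.image_mono (Set.preimage_mono h)

lemma s_mem_sat_iff (C : Set G.U) (ρ : G.R) : G.s ρ ∈ sat G C ↔ G.t ρ ∈ sat G C := by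
  have key : ∀ ρ : G.R, G.s ρ ∈ sat G C → G.t ρ ∈ sat G C := by
    rintro ρ ⟨r, hr, hrt⟩
    obtain ⟨r₃, h1, h2⟩ := exists_comp_point G ρ r hrt.symm
    exact ⟨r₃, by rw [Set.mem_preimage, h1]; exact hr, h2⟩
  refine ⟨key ρ, fun h => ?_⟩
  obtain ⟨ρ', h1, h2⟩ := exists_inv_point G ρ
  have := key ρ' (h1 ▸ h)
  rwa [h2] at this

lemma isClosed_sat [IsFinite G.t] {C : Set G.U} (hC : IsClosed C) : IsClosed (sat G C) :=
  G.t.isClosedMap _ (hC.preimage G.s.continuous)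

variable [IsFinite G.s]

/-- The Fitting ideal sheaves of `s`. -/
noncomputable abbrev Z (r : ℕ) : G.U.IdealSheafData := FS.fittSheaf G.s r

/-- Their supports. -/
noncomputable def Zs (r : ℕ) : Set G.U := ((Z G r).support : Set G.U)

lemma isClosed_Zs (r : ℕ) : IsClosed (Zs G r) := (Z G r).support.isClosed

lemma comap_s_eq_comap_t (r : ℕ) : (Z G r).comap G.s = (Z G r).comap G.t := by
  have hpb : IsPullback G.c (pullback.snd G.s G.t) G.s G.s := (Groth.Agent.S7457.result S G).2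
  rw [FS.fittSheaf_comap hpb r, FS.fittSheaf_comap (IsPullback.of_hasPullback G.s G.t) r]

lemma s_mem_Zs_iff (r : ℕ) (ρ : G.R) : G.s ρ ∈ Zs G r ↔ G.t ρ ∈ Zs G r := by
  have := congrArg (fun I => (I.support : Set G.R)) (comap_s_eq_comap_t G r)
  simp only [Scheme.IdealSheafData.support_comap] at this
  exact Set.ext_iff.mp this ρ

lemma Zs_zero : Zs G 0 = Set.univ := by
  unfold Zs Z
  rw [FS.fittSheaf_zero G.s G.e G.e_s, Scheme.IdealSheafData.support_bot]
  rfl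

lemma Zs_antitone : Antitone (Zs G) := by
  intro k l h
  exact Scheme.IdealSheafData.support_antitone (FS.fittSheaf_mono G.s h)

lemma exists_notMem_Zs (y : G.U) : ∃ n, y ∉ Zs G n := FS.exists_notMem_support G.s y

/-- The cumulative union of the first `n` pieces. -/
noncomputable def A : ℕ → Set G.U
  | 0 => ∅
  | n + 1 => A n ∪ ((Zs G (n + 1))ᶜ ∩ (sat G (closure (A n)))ᶜ)

/-- The `n`-th piece. -/
noncomputable def Wn (n : ℕ) : Set G.U := (Zs G (n + 1))ᶜ ∩ (sat G (closure (A G n)))ᶜ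

lemma A_zero : A G 0 = ∅ := rfl

lemma A_succ (n : ℕ) : A G (n + 1) = A G n ∪ Wn G n := rfl

lemma A_mono : Monotone (A G) := by
  refine monotone_nat_of_le_succ (fun n => ?_)
  rw [A_succ]
  exact Set.subset_union_left

lemma Wn_subset_A {k n : ℕ} (h : k < n) : Wn G k ⊆ A G n := by
  refine subset_trans ?_ (A_mono G (Nat.succ_le_of_lt h))
  rw [A_succ]
  exact Set.subset_union_right

variable [IsFinite G.t]

lemma isOpen_Wn (n : ℕ) : IsOpen (Wn G n) :=
  (isClosed_Zs G (n + 1)).isOpen_compl.inter (isClosed_sat G isClosed_closure).isOpen_compl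

omit [IsFinite G.t] in
lemma s_mem_Wn_iff (n : ℕ) (ρ : G.R) : G.s ρ ∈ Wn G n ↔ G.t ρ ∈ Wn G n := by
  unfold Wn
  simp only [Set.mem_inter_iff, Set.mem_compl_iff]
  rw [s_mem_Zs_iff, s_mem_sat_iff]

omit [IsFinite G.t] in
lemma A_subset_sat (n : ℕ) : A G n ⊆ sat G (closure (A G n)) :=
  subset_closure.trans (subset_sat G _)

omit [IsFinite G.t] in
lemma disjoint_Wn_A (n : ℕ) : Disjoint (Wn G n) (A G n) := by
  rw [Set.disjoint_left]
  intro x hx hA
  exact hx.2 (A_subset_sat G n hA)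

omit [IsFinite G.t] in
lemma disjoint_Wn {m n : ℕ} (h : m ≠ n) : Disjoint (Wn G m) (Wn G n) := by
  rcases lt_or_gt_of_ne h with h | h
  · exact ((disjoint_Wn_A G n).mono_right (Wn_subset_A G h)).symm
  · exact (disjoint_Wn_A G m).mono_right (Wn_subset_A G h)

omit [IsFinite G.t] in
lemma mem_sat_of_notMem_Zs (n : ℕ) {x : G.U} (hx : x ∉ Zs G n) :
    x ∈ sat G (closure (A G n)) := by
  cases n with
  | zero => rw [Zs_zero] at hx; exact absurd (Set.mem_univ x) hx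
  | succ n =>
    by_cases h : x ∈ sat G (closure (A G n))
    · exact sat_mono G (closure_mono (A_mono G (Nat.le_succ n))) h
    · have : x ∈ Wn G n := ⟨hx, h⟩
      exact A_subset_sat G (n + 1) (Wn_subset_A G (Nat.lt_succ_self n) this)

omit [IsFinite G.t] in
lemma Wn_subset_Zs (n : ℕ) : Wn G n ⊆ Zs G n := by
  intro x hx
  by_contra h
  exact hx.2 (mem_sat_of_notMem_Zs G n h)

omit [IsFinite G.t] in
lemma Wn_subset_compl_Zs (n : ℕ) : Wn G n ⊆ (Zs G (n + 1))ᶜ := fun _ hx => hx.1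

omit [IsFinite G.t] in
lemma A_subset_compl_Zs (n : ℕ) : A G n ⊆ (Zs G n)ᶜ := by
  induction n with
  | zero => rw [A_zero]; exact Set.empty_subset _
  | succ n ih =>
    rw [A_succ]
    refine Set.union_subset (ih.trans ?_) (Wn_subset_compl_Zs G n)
    exact Set.compl_subset_compl.mpr (Zs_antitone G (Nat.le_succ n))

/-- The invariant open `W`. -/
noncomputable def W : G.U.Opens := ⟨⋃ n, Wn G n, isOpen_iUnion (isOpen_Wn G)⟩

lemma mem_W {x : G.U} : x ∈ W G ↔ ∃ n, x ∈ Wn G n := Set.mem_iUnion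

lemma Wn_subset_W (n : ℕ) : Wn G n ⊆ (W G : Set G.U) := Set.subset_iUnion (Wn G) n

lemma A_subset_W (n : ℕ) : A G n ⊆ (W G : Set G.U) := by
  induction n with
  | zero => rw [A_zero]; exact Set.empty_subset _
  | succ n ih => rw [A_succ]; exact Set.union_subset ih (Wn_subset_W G n)

lemma preimage_W : G.s ⁻¹ᵁ W G = G.t ⁻¹ᵁ W G := by
  ext ρ
  change G.s ρ ∈ W G ↔ G.t ρ ∈ W G
  rw [mem_W, mem_W]
  exact exists_congr (fun n => s_mem_Wn_iff G n ρ)

lemma exists_mem_closure_W (u : G.U) : ∃ r : G.R, G.t r = u ∧ G.s r ∈ closure (W G : Set G.U) := by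
  obtain ⟨n, hn⟩ := exists_notMem_Zs G u
  obtain ⟨r, hr, hru⟩ := mem_sat_of_notMem_Zs G n hn
  exact ⟨r, hru, closure_mono (A_subset_W G n) hr⟩

end Groth.Agent.Lib.Helper37.FGS

namespace Groth.Agent.Lib.Helper37.FS

open CategoryTheory CategoryTheory.Limits AlgebraicGeometry

variable {X Y : Scheme.{u}}

set_option backward.isDefEq.respectTransparency.types false in
/-- Local criterion for a finite morphism to be flat and locally of finite presentation in terms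
of Fitting ideals. -/
theorem flat_lfp_of_cover (f : X ⟶ Y) [IsFinite f] {κ : Type*} (O : κ → Y.Opens)
    (hO : ⨆ i, O i = ⊤) (r : κ → ℕ) (h0 : ∀ i, (fittSheaf f (r i)).comap (O i).ι = ⊥)
    (h1 : ∀ i, (fittSheaf f (r i + 1)).comap (O i).ι = ⊤) :
    Flat f ∧ LocallyOfFinitePresentation f := by
  have key : ∀ i, Flat (f ∣_ O i) ∧ LocallyOfFinitePresentation (f ∣_ O i) := by
    intro i
    have H : IsPullback (f ⁻¹ᵁ O i).ι (f ∣_ O i) f (O i).ι := (isPullback_morphismRestrict f (O i)).flip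
    refine flat_lfp_of_fittSheaf (f ∣_ O i) (r i) ?_ ?_
    · rw [← fittSheaf_comap H (r i), h0 i]
    · rw [← fittSheaf_comap H (r i + 1), h1 i]
  exact ⟨IsZariskiLocalAtTarget.of_iSup_eq_top (P := @Flat) O hO (fun i => (key i).1),
    IsZariskiLocalAtTarget.of_iSup_eq_top (P := @LocallyOfFinitePresentation) O hO
      (fun i => (key i).2)⟩

end Groth.Agent.Lib.Helper37.FS

namespace Groth.Agent.Lib.Helper37.FGS

open CategoryTheory CategoryTheory.Limits AlgebraicGeometry Grpd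

variable {S : Scheme.{u}} (G : GroupoidScheme S) [IsFinite G.s] [IsFinite G.t]

/-- The pieces as opens of the scheme `W`. -/
noncomputable def V (n : ℕ) : (↑(W G) : Scheme.{u}).Opens :=
  (W G).ι ⁻¹ᵁ ⟨Wn G n, isOpen_Wn G n⟩

lemma mem_V {n : ℕ} {x : ↑(W G)} : x ∈ V G n ↔ (W G).ι x ∈ Wn G n := Iff.rfl

lemma V_disj (m n : ℕ) (h : m ≠ n) : Disjoint (V G m) (V G n) := by
  rw [← TopologicalSpace.Opens.coe_disjoint, Set.disjoint_left]
  intro x hm hn
  exact Set.disjoint_left.mp (disjoint_Wn G h) hm hn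

lemma V_cov : ⨆ n, V G n = ⊤ := by
  rw [eq_top_iff]
  intro x _
  obtain ⟨n, hn⟩ := (mem_W G).mp x.2
  exact TopologicalSpace.Opens.mem_iSup.mpr ⟨n, hn⟩

/-- The closed subscheme `W'` of `W`, as an ideal sheaf. -/
noncomputable def W' : (↑(W G) : Scheme.{u}).IdealSheafData :=
  IG.glue (V G) (fun n => (Z G n).comap (W G).ι)

theorem W'_comap {T : Scheme.{u}} (h : T ⟶ ↑(W G)) (n : ℕ)
    (hh : ∀ x, (h ≫ (W G).ι) x ∈ Wn G n) :
    (W' G).comap h = (Z G n).comap (h ≫ (W G).ι) := by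
  unfold W'
  rw [IG.glue_comap (V G) _ (V_disj G) (V_cov G) h n (fun x => hh x),
    Scheme.IdealSheafData.comap_comp]

theorem W'_support : (W' G).support = ⊤ := by
  rw [eq_top_iff]
  intro x _
  obtain ⟨n, hn⟩ := (mem_W G).mp x.2
  have hxV : x ∈ V G n := hn
  have h1 := W'_comap G (V G n).ι n (fun y => y.2)
  have h2 := congrArg (fun I => (I.support : Set ↑(V G n))) h1
  simp only [Scheme.IdealSheafData.support_comap] at h2
  have h3 : (⟨x, hxV⟩ : ↑(V G n)) ∈ ((V G n).ι ≫ (W G).ι) ⁻¹' (Zs G n) :=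
    Wn_subset_Zs G n hn
  have h4 := (Set.ext_iff.mp h2 ⟨x, hxV⟩).mpr h3
  exact h4


/-- The opens `W'.subschemeι ⁻¹ (V n)` cover `W'`. -/
lemma iSup_preimage_V : ⨆ n, (W' G).subschemeι ⁻¹ᵁ V G n = ⊤ := by
  rw [eq_top_iff]
  intro x _
  have hx : (W' G).subschemeι x ∈ (⨆ n, V G n : (↑(W G) : Scheme.{u}).Opens) := by
    rw [V_cov]; trivial
  obtain ⟨n, hn⟩ := TopologicalSpace.Opens.mem_iSup.mp hx
  exact TopologicalSpace.Opens.mem_iSup.mpr ⟨n, hn⟩

theorem isFinLocFree_of_fittSheaf_eq {X : Scheme.{u}} (f : X ⟶ G.U) [IsFinite f]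
    (hf : ∀ k, FS.fittSheaf f k = Z G k) :
    Mor2.IsFinLocFree (pullback.snd f ((W' G).subschemeι ≫ (W G).ι)) := by
  have H := IsPullback.of_hasPullback f ((W' G).subschemeι ≫ (W G).ι)
  have hrange : ∀ (n : ℕ) (x : ↑((W' G).subschemeι ⁻¹ᵁ V G n)),
      ((((W' G).subschemeι ⁻¹ᵁ V G n).ι ≫ (W' G).subschemeι) ≫ (W G).ι) x ∈ Wn G n :=
    fun n x => x.2
  have key := FS.flat_lfp_of_cover (pullback.snd f ((W' G).subschemeι ≫ (W G).ι))
    (fun n => (W' G).subschemeι ⁻¹ᵁ V G n) (iSup_preimage_V G) (fun n => n) ?_ ?_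
  · exact ⟨inferInstance, key.1, key.2⟩
  · intro n
    rw [← FS.fittSheaf_comap H n, hf n, ← Scheme.IdealSheafData.comap_comp, ← Category.assoc,
      ← W'_comap G _ n (hrange n), Scheme.IdealSheafData.comap_comp, FS.comap_subschemeι_self,
      Scheme.IdealSheafData.comap_bot]
  · intro n
    rw [← FS.fittSheaf_comap H (n + 1), hf (n + 1), ← Scheme.IdealSheafData.comap_comp,
      ← Scheme.IdealSheafData.support_eq_bot_iff, Scheme.IdealSheafData.support_comap]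
    ext x
    simp only [TopologicalSpace.Closeds.coe_preimage, Set.mem_preimage, SetLike.mem_coe,
      TopologicalSpace.Closeds.coe_bot, Set.mem_empty_iff_false, iff_false]
    intro hx
    exact Wn_subset_compl_Zs G n (hrange n x) hx

theorem fittSheaf_t (k : ℕ) : FS.fittSheaf G.t k = Z G k :=
  FS.fittSheaf_eq_of_iso G.t G.s G.i G.i_s k

theorem isFinLocFree_s :
    Mor2.IsFinLocFree (pullback.snd G.s ((W' G).subschemeι ≫ (W G).ι)) :=
  isFinLocFree_of_fittSheaf_eq G G.s (fun _ => rfl)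

theorem isFinLocFree_t :
    Mor2.IsFinLocFree (pullback.snd G.t ((W' G).subschemeι ≫ (W G).ι)) :=
  isFinLocFree_of_fittSheaf_eq G G.t (fittSheaf_t G)


section Invariance

/-- The restricted target map `s⁻¹ W ⟶ W`. -/
noncomputable def tW : (↑(G.s ⁻¹ᵁ W G) : Scheme.{u}) ⟶ ↑(W G) :=
  IsOpenImmersion.lift (W G).ι ((G.s ⁻¹ᵁ W G).ι ≫ G.t) (by
    rw [Scheme.Opens.range_ι]
    rintro _ ⟨x, rfl⟩
    have hx : x.1 ∈ G.t ⁻¹ᵁ W G := (preimage_W G) ▸ x.2
    exact hx)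

lemma tW_ι : tW G ≫ (W G).ι = (G.s ⁻¹ᵁ W G).ι ≫ G.t := IsOpenImmersion.lift_fac _ _ _

lemma isPullback_sW :
    IsPullback (G.s ⁻¹ᵁ W G).ι (G.s ∣_ W G) G.s (W G).ι :=
  (isPullback_morphismRestrict G.s (W G)).flip

lemma isPullback_tW : IsPullback (G.s ⁻¹ᵁ W G).ι (tW G) G.t (W G).ι := by
  refine (IsOpenImmersion.isPullback (tW G) (G.s ⁻¹ᵁ W G).ι (W G).ι G.t (tW_ι G).symm ?_).flip
  rw [Scheme.Opens.opensRange_ι, Scheme.Opens.opensRange_ι]
  exact (preimage_W G).symm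

theorem W'_comap_sW_eq : (W' G).comap (G.s ∣_ W G) = (W' G).comap (tW G) := by
  refine IG.ext_of_comap_ι (fun n => (G.s ∣_ W G) ⁻¹ᵁ V G n) ?_ (fun n => ?_)
  · rw [eq_top_iff]
    intro x _
    have hx : (G.s ∣_ W G) x ∈ (⨆ n, V G n : (↑(W G) : Scheme.{u}).Opens) := by
      rw [V_cov]; trivial
    obtain ⟨n, hn⟩ := TopologicalSpace.Opens.mem_iSup.mp hx
    exact TopologicalSpace.Opens.mem_iSup.mpr ⟨n, hn⟩
  · have hs : ∀ x : ↑((G.s ∣_ W G) ⁻¹ᵁ V G n),
        ((((G.s ∣_ W G) ⁻¹ᵁ V G n).ι ≫ (G.s ∣_ W G)) ≫ (W G).ι) x ∈ Wn G n := fun x => x.2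
    have e1 : (((G.s ∣_ W G) ⁻¹ᵁ V G n).ι ≫ (G.s ∣_ W G)) ≫ (W G).ι =
        (((G.s ∣_ W G) ⁻¹ᵁ V G n).ι ≫ (G.s ⁻¹ᵁ W G).ι) ≫ G.s := by
      rw [Category.assoc, morphismRestrict_ι, Category.assoc]
    have e2 : (((G.s ∣_ W G) ⁻¹ᵁ V G n).ι ≫ tW G) ≫ (W G).ι =
        (((G.s ∣_ W G) ⁻¹ᵁ V G n).ι ≫ (G.s ⁻¹ᵁ W G).ι) ≫ G.t := by
      rw [Category.assoc, tW_ι, Category.assoc]
    have ht : ∀ x : ↑((G.s ∣_ W G) ⁻¹ᵁ V G n),
        ((((G.s ∣_ W G) ⁻¹ᵁ V G n).ι ≫ tW G) ≫ (W G).ι) x ∈ Wn G n := by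
      intro x
      have h1 := hs x
      rw [e1] at h1
      rw [e2]
      rw [Scheme.Hom.comp_apply] at h1 ⊢
      exact (s_mem_Wn_iff G n _).mp h1
    rw [← Scheme.IdealSheafData.comap_comp, ← Scheme.IdealSheafData.comap_comp,
      W'_comap G _ n hs, W'_comap G _ n ht, e1, e2, Scheme.IdealSheafData.comap_comp,
      Scheme.IdealSheafData.comap_comp (Z G n) _ G.t, comap_s_eq_comap_t]

theorem exists_iso_W' :
    ∃ φ : pullback G.s ((W' G).subschemeι ≫ (W G).ι) ≅ pullback G.t ((W' G).subschemeι ≫ (W G).ι),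
      φ.hom ≫ pullback.fst G.t ((W' G).subschemeι ≫ (W G).ι) =
        pullback.fst G.s ((W' G).subschemeι ≫ (W G).ι) := by
  obtain ⟨φ0, hφ0⟩ := FS.exists_iso_of_comap_eq (W' G) (G.s ∣_ W G) (tW G) (W'_comap_sW_eq G)
  have hPS := (IsPullback.of_hasPullback (G.s ∣_ W G) (W' G).subschemeι).paste_horiz
    (isPullback_sW G)
  have hPT := (IsPullback.of_hasPullback (tW G) (W' G).subschemeι).paste_horiz
    (isPullback_tW G)
  refine ⟨hPS.isoPullback.symm ≪≫ φ0 ≪≫ hPT.isoPullback, ?_⟩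
  simp only [Iso.trans_hom, Iso.symm_hom, Category.assoc, IsPullback.isoPullback_hom_fst]
  rw [← Category.assoc φ0.hom, hφ0, IsPullback.isoPullback_inv_fst]

end Invariance

end Groth.Agent.Lib.Helper37.FGS
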