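import Groth.Agent.Lib.Helper10.FittingSplit
import Mathlib.RingTheory.Spectrum.Prime.FreeLocus
import Groth.Agent.Lib.Helper18.IdealComap
import Mathlib.AlgebraicGeometry.Morphisms.FlatRank
import Groth.Prelude.Def_Mor2

/-!
# Fitting strata of a finite morphism (helper37)
-/

set_option autoImplicit false
set_option linter.style.haveILetI false
set_option linter.unusedSectionVars false
universe u

namespace Groth.Agent.Lib.Helper37.FS

open CategoryTheory CategoryTheory.Limits AlgebraicGeometry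
open Groth.Agent.Lib.Helper10.Fitting

/-- Fitting ideals commute with base change (categorical pushout form). -/
theorem fitt_map_of_isPushout {A A' B B' : CommRingCat.{u}} {φ : A ⟶ B} {α : A ⟶ A'}
    {β : B ⟶ B'} {ψ : A' ⟶ B'} (h : IsPushout φ α β ψ) (hfin : φ.hom.Finite) (r : ℕ) :
    @Fitt.ideal A' _ B' _ ψ.hom.toAlgebra.toModule r =
      (@Fitt.ideal A _ B _ φ.hom.toAlgebra.toModule r).map α.hom := by
  letI : Algebra A B := φ.hom.toAlgebra
  letI : Algebra A A' := α.hom.toAlgebra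
  letI : Algebra A' B' := ψ.hom.toAlgebra
  letI : Algebra B B' := β.hom.toAlgebra
  letI : Algebra A B' := (α ≫ ψ).hom.toAlgebra
  haveI : IsScalarTower A A' B' := .of_algebraMap_eq' rfl
  haveI : IsScalarTower A B B' := .of_algebraMap_eq' (by
    change (α ≫ ψ).hom = (φ ≫ β).hom
    rw [h.w])
  haveI : Module.Finite A B := hfin
  have h' : IsPushout (CommRingCat.ofHom (algebraMap A A')) (CommRingCat.ofHom (algebraMap A B))
      (CommRingCat.ofHom (algebraMap A' B')) (CommRingCat.ofHom (algebraMap B B')) := h.flip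
  have hp : Algebra.IsPushout A A' B B' := CommRingCat.isPushout_iff_isPushout.mp h'
  exact fitt_isBaseChange hp.out r


section RingLevel

open TensorProduct

variable {A : Type*} [CommRing A] {M : Type*} [AddCommGroup M] [Module A M] [Module.Finite A M]

/-- `Fitt_r = 0` and `Fitt_{r+1} = A` imply projectivity. -/
theorem projective_of_fitt (r : ℕ) (h0 : Fitt.ideal A M r = ⊥) (h1 : Fitt.ideal A M (r + 1) = ⊤) :
    Module.Projective A M := by
  classical
  obtain ⟨n, x, hx⟩ := Module.Finite.exists_fin (R := A) (M := M)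
  refine projective_of_G_eq_top x hx (r + 1) (fun B hB => ?_) ?_
  · have : B.det ∈ G A x r := det_mem_G x r B (by omega)
    rw [← fitt_eq_G x hx r, h0] at this
    exact this
  · rw [← fitt_eq_G x hx (r + 1), h1]

/-- `Fitt_r = 0` and `Fitt_{r+1} = A` imply that all fibres have dimension `r + 1`. -/
theorem finrank_fiber_of_fitt (r : ℕ) (h0 : Fitt.ideal A M r = ⊥)
    (h1 : Fitt.ideal A M (r + 1) = ⊤) (K : Type*) [Field K] [Algebra A K] :
    Module.finrank K (K ⊗[A] M) = r + 1 := by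
  have e0 : Fitt.ideal K (K ⊗[A] M) r = ⊥ := by
    rw [fitt_baseChange K r, h0, Ideal.map_bot]
  have e1 : Fitt.ideal K (K ⊗[A] M) (r + 1) = ⊤ := by
    rw [fitt_baseChange K (r + 1), h1, Ideal.map_top]
  have hle : Module.finrank K (K ⊗[A] M) ≤ r + 1 := (fitt_eq_top_iff_finrank_le (r + 1)).mp e1
  have hnle : ¬ Module.finrank K (K ⊗[A] M) ≤ r := by
    intro h
    have := (fitt_eq_top_iff_finrank_le r).mpr h
    rw [e0] at this
    exact bot_ne_top this
  omega

theorem rankAtStalk_of_fitt (r : ℕ) (h0 : Fitt.ideal A M r = ⊥)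
    (h1 : Fitt.ideal A M (r + 1) = ⊤) (p : PrimeSpectrum A) :
    Module.rankAtStalk M p = r + 1 := by
  haveI := projective_of_fitt r h0 h1
  rw [Module.rankAtStalk_eq]
  exact finrank_fiber_of_fitt r h0 h1 p.asIdeal.ResidueField

end RingLevel

variable {X Y : Scheme.{u}}

/-- The `r`-th Fitting ideal of `Γ(X, f⁻¹V)` as a `Γ(Y, V)`-module. -/
noncomputable def fittSec (f : X ⟶ Y) (V : Y.Opens) (r : ℕ) : Ideal Γ(Y, V) :=
  @Fitt.ideal Γ(Y, V) _ Γ(X, f ⁻¹ᵁ V) _ (f.app V).hom.toAlgebra.toModule r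

/-- Base change of the Fitting ideals of sections. -/
theorem fittSec_baseChange {X' Y' : Scheme.{u}} {f : X ⟶ Y} {g : Y' ⟶ Y} {g' : X' ⟶ X}
    {f' : X' ⟶ Y'} (H : IsPullback g' f' f g) [IsFinite f] {V : Y.Opens} (hV : IsAffineOpen V)
    {V' : Y'.Opens} (hV' : IsAffineOpen V') (e : V' ≤ g ⁻¹ᵁ V) (r : ℕ) :
    fittSec f' V' r = (fittSec f V r).map (g.appLE V V' e).hom := by
  have hUY : f' ⁻¹ᵁ V' = g' ⁻¹ᵁ (f ⁻¹ᵁ V) ⊓ f' ⁻¹ᵁ V' := by
    refine (inf_eq_right.mpr ?_).symm
    intro x hx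
    change f (g' x) ∈ V
    rw [← Scheme.Hom.comp_apply, H.w, Scheme.Hom.comp_apply]
    exact e hx
  have hiso := isIso_pushoutSection_of_isAffineOpen H e (le_refl (f ⁻¹ᵁ V)) hUY hV hV'
    (hV.preimage f)
  have hpo := (isIso_pushoutSection_iff H e (le_refl (f ⁻¹ᵁ V)) hUY).mp hiso
  have h1 : f.appLE V (f ⁻¹ᵁ V) (le_refl _) = f.app V := Scheme.Hom.appLE_eq_app f
  have h2 : f'.appLE V' (f' ⁻¹ᵁ V') (le_refl _) = f'.app V' := Scheme.Hom.appLE_eq_app f'
  rw [h1, h2] at hpo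
  have hfin : (f.app V).hom.Finite := IsFinite.finite_app f V hV
  exact fitt_map_of_isPushout hpo hfin r


lemma id_appLE (V W : Y.Opens) (e : W ≤ (𝟙 Y) ⁻¹ᵁ V) :
    (𝟙 Y : Y ⟶ Y).appLE V W e = Y.presheaf.map (homOfLE e).op := by
  simp only [Scheme.Hom.appLE, Scheme.Hom.id_app]
  exact Category.id_comp _

/-- The `r`-th Fitting ideal sheaf of `f_* O_X` for a finite morphism `f`. -/
noncomputable def fittSheaf (f : X ⟶ Y) [IsFinite f] (r : ℕ) : Y.IdealSheafData where
  ideal V := fittSec f V.1 r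
  map_ideal_basicOpen V a := by
    have H : IsPullback (𝟙 X) f f (𝟙 Y) := IsPullback.id_horiz f
    have := fittSec_baseChange H V.2 (V.2.basicOpen a) (Y.basicOpen_le a) r
    have e2 := id_appLE (Y := Y) V.1 (Y.basicOpen a) (Y.basicOpen_le a)
    rw [e2] at this
    exact this.symm

@[simp]
lemma fittSheaf_ideal (f : X ⟶ Y) [IsFinite f] (r : ℕ) (V : Y.affineOpens) :
    (fittSheaf f r).ideal V = fittSec f V.1 r := rfl

/-- **Base change** of the Fitting ideal sheaves. -/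
theorem fittSheaf_comap {X' Y' : Scheme.{u}} {f : X ⟶ Y} {g : Y' ⟶ Y} {g' : X' ⟶ X}
    {f' : X' ⟶ Y'} (H : IsPullback g' f' f g) [IsFinite f] [IsFinite f'] (r : ℕ) :
    (fittSheaf f r).comap g = fittSheaf f' r := by
  refine Groth.Agent.Lib.Helper18.ext_of_le_preimage g (fun U V e => ?_)
  rw [Groth.Agent.Lib.Helper18.ideal_comap_of_le g _ U V e, fittSheaf_ideal, fittSheaf_ideal,
    fittSec_baseChange H V.2 U.2 e r]


/-- invariance under isomorphisms of the source -/
theorem fittSheaf_eq_of_iso {X₁ X₂ : Scheme.{u}} (f₁ : X₁ ⟶ Y) (f₂ : X₂ ⟶ Y) [IsFinite f₁]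
    [IsFinite f₂] (e : X₁ ⟶ X₂) [IsIso e] (he : e ≫ f₂ = f₁) (r : ℕ) :
    fittSheaf f₁ r = fittSheaf f₂ r := by
  have H : IsPullback e f₁ f₂ (𝟙 Y) := IsPullback.of_horiz_isIso ⟨by rw [he, Category.comp_id]⟩
  rw [← fittSheaf_comap H r, Scheme.IdealSheafData.comap_id]

theorem fittSheaf_mono (f : X ⟶ Y) [IsFinite f] : Monotone (fittSheaf f) := by
  intro k l h V
  exact @fitt_mono Γ(Y, V.1) _ Γ(X, f ⁻¹ᵁ V.1) _ (f.app V.1).hom.toAlgebra.toModule k l h

/-- If `f` has a section, the zeroth Fitting ideal vanishes. -/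
theorem fittSheaf_zero (f : X ⟶ Y) [IsFinite f] (σ : Y ⟶ X) (hσ : σ ≫ f = 𝟙 Y) :
    fittSheaf f 0 = ⊥ := by
  apply Scheme.IdealSheafData.ext
  funext V
  rw [fittSheaf_ideal, Scheme.IdealSheafData.ideal_bot, Pi.bot_apply, eq_bot_iff]
  letI : Algebra Γ(Y, V.1) Γ(X, f ⁻¹ᵁ V.1) := (f.app V.1).hom.toAlgebra
  have hinj : Function.Injective (f.app V.1).hom := by
    have h1 : f.app V.1 ≫ σ.app (f ⁻¹ᵁ V.1) =
        (𝟙 Y : Y ⟶ Y).app V.1 ≫ Y.presheaf.map (eqToHom (by
          change (σ ≫ f) ⁻¹ᵁ V.1 = _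
          rw [hσ])).op := by
      rw [← Scheme.Hom.comp_app]
      exact Scheme.Hom.congr_app hσ V.1
    haveI : IsIso (f.app V.1 ≫ σ.app (f ⁻¹ᵁ V.1)) := by rw [h1]; infer_instance
    have h2 : Function.Injective (f.app V.1 ≫ σ.app (f ⁻¹ᵁ V.1)).hom :=
      (ConcreteCategory.bijective_of_isIso (f.app V.1 ≫ σ.app (f ⁻¹ᵁ V.1))).injective
    rw [CommRingCat.hom_comp, RingHom.coe_comp] at h2
    exact Function.Injective.of_comp h2
  intro a ha
  have h0 := fitt_zero_le_annihilator (R := Γ(Y, V.1)) (M := Γ(X, f ⁻¹ᵁ V.1)) ha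
  have h1 : a • (1 : Γ(X, f ⁻¹ᵁ V.1)) = 0 := Module.mem_annihilator.mp h0 1
  rw [Algebra.smul_def, mul_one] at h1
  have : a = 0 := hinj (h1.trans (map_zero _).symm)
  rw [this]
  exact Submodule.zero_mem _

/-- Every point lies outside the support of some Fitting ideal. -/
theorem exists_notMem_support (f : X ⟶ Y) [IsFinite f] (y : Y) :
    ∃ n : ℕ, y ∉ (fittSheaf f n).support := by
  obtain ⟨V, hV, hy, -⟩ := exists_isAffineOpen_mem_and_subset (x := y) (U := ⊤) trivial
  letI : Algebra Γ(Y, V) Γ(X, f ⁻¹ᵁ V) := (f.app V).hom.toAlgebra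
  haveI : Module.Finite Γ(Y, V) Γ(X, f ⁻¹ᵁ V) := IsFinite.finite_app f V hV
  obtain ⟨n, x, hx⟩ := Module.Finite.exists_fin (R := Γ(Y, V)) (M := Γ(X, f ⁻¹ᵁ V))
  refine ⟨n, fun hmem => ?_⟩
  rw [Scheme.IdealSheafData.mem_support_iff_of_mem (U := ⟨V, hV⟩) hy, fittSheaf_ideal] at hmem
  have htop : fittSec f V n = ⊤ := fitt_eq_top_of_span x hx le_rfl
  rw [htop] at hmem
  simp at hmem
  exact hmem hy


section Props

lemma flat_of_app (f : X ⟶ Y) [IsAffineHom f] (h : ∀ U : Y.affineOpens, (f.app U.1).hom.Flat) :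
    Flat f := by
  rw [HasRingHomProperty.iff_appLE (P := @Flat)]
  intro U V e
  have h2 : (X.presheaf.map (homOfLE e).op).hom.Flat := by
    have := (HasRingHomProperty.iff_appLE (P := @Flat) (f := 𝟙 X)).mp inferInstance
      ⟨f ⁻¹ᵁ U.1, U.2.preimage f⟩ V e
    have e2 := id_appLE (Y := X) (f ⁻¹ᵁ U.1) V.1 e
    rwa [e2] at this
  change (f.app U.1 ≫ X.presheaf.map (homOfLE e).op).hom.Flat
  rw [CommRingCat.hom_comp]
  exact RingHom.Flat.comp (h U) h2

lemma lfp_of_app (f : X ⟶ Y) [IsAffineHom f]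
    (h : ∀ U : Y.affineOpens, (f.app U.1).hom.FinitePresentation) :
    LocallyOfFinitePresentation f := by
  rw [HasRingHomProperty.iff_appLE (P := @LocallyOfFinitePresentation)]
  intro U V e
  have h2 : (X.presheaf.map (homOfLE e).op).hom.FinitePresentation := by
    have := (HasRingHomProperty.iff_appLE (P := @LocallyOfFinitePresentation) (f := 𝟙 X)).mp
      inferInstance ⟨f ⁻¹ᵁ U.1, U.2.preimage f⟩ V e
    have e2 := id_appLE (Y := X) (f ⁻¹ᵁ U.1) V.1 e
    rwa [e2] at this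
  change (f.app U.1 ≫ X.presheaf.map (homOfLE e).op).hom.FinitePresentation
  rw [CommRingCat.hom_comp]
  exact RingHom.FinitePresentation.comp h2 (h U)

/-- A finite morphism with `Fitt_r = 0` and `Fitt_{r+1} = 1` is flat and locally of finite
presentation. -/
theorem flat_lfp_of_fittSheaf (f : X ⟶ Y) [IsFinite f] (r : ℕ) (h0 : fittSheaf f r = ⊥)
    (h1 : fittSheaf f (r + 1) = ⊤) : Flat f ∧ LocallyOfFinitePresentation f := by
  have key : ∀ U : Y.affineOpens,
      @Module.Projective Γ(Y, U.1) _ Γ(X, f ⁻¹ᵁ U.1) _ (f.app U.1).hom.toAlgebra.toModule := by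
    intro U
    letI : Algebra Γ(Y, U.1) Γ(X, f ⁻¹ᵁ U.1) := (f.app U.1).hom.toAlgebra
    haveI : Module.Finite Γ(Y, U.1) Γ(X, f ⁻¹ᵁ U.1) := IsFinite.finite_app f U.1 U.2
    have e0 : Fitt.ideal Γ(Y, U.1) Γ(X, f ⁻¹ᵁ U.1) r = ⊥ := by
      have := congrArg (fun I => I.ideal U) h0
      exact this
    have e1 : Fitt.ideal Γ(Y, U.1) Γ(X, f ⁻¹ᵁ U.1) (r + 1) = ⊤ := by
      have := congrArg (fun I => I.ideal U) h1
      exact this
    exact projective_of_fitt r e0 e1
  constructor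
  · refine flat_of_app f (fun U => ?_)
    letI : Algebra Γ(Y, U.1) Γ(X, f ⁻¹ᵁ U.1) := (f.app U.1).hom.toAlgebra
    haveI := key U
    change Module.Flat Γ(Y, U.1) Γ(X, f ⁻¹ᵁ U.1)
    infer_instance
  · refine lfp_of_app f (fun U => ?_)
    letI : Algebra Γ(Y, U.1) Γ(X, f ⁻¹ᵁ U.1) := (f.app U.1).hom.toAlgebra
    haveI := key U
    haveI : Module.Finite Γ(Y, U.1) Γ(X, f ⁻¹ᵁ U.1) := IsFinite.finite_app f U.1 U.2
    haveI : Module.FinitePresentation Γ(Y, U.1) Γ(X, f ⁻¹ᵁ U.1) :=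
      Module.finitePresentation_of_projective _ _
    change Algebra.FinitePresentation Γ(Y, U.1) Γ(X, f ⁻¹ᵁ U.1)
    infer_instance

end Props

section Rank

/-- affine case: Fitting ideal of sections on `⊤` vs ring-level Fitting ideal -/
theorem fittSec_SpecMap_top {R S : CommRingCat.{u}} (φ : R ⟶ S) (hfin : φ.hom.Finite) (r : ℕ) :
    fittSec (Spec.map φ) ⊤ r =
      (@Fitt.ideal R _ S _ φ.hom.toAlgebra.toModule r).map (Scheme.ΓSpecIso R).inv.hom := by
  have sq : IsPushout φ (Scheme.ΓSpecIso R).inv (Scheme.ΓSpecIso S).inv (Spec.map φ).appTop :=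
    IsPushout.of_vert_isIso ⟨Scheme.ΓSpecIso_inv_naturality φ⟩
  exact fitt_map_of_isPushout sq hfin r

theorem finrank_SpecMap_of_fitt {R S : CommRingCat.{u}} (φ : R ⟶ S) [IsFinite (Spec.map φ)]
    (r : ℕ) (h0 : fittSheaf (Spec.map φ) r = ⊥) (h1 : fittSheaf (Spec.map φ) (r + 1) = ⊤)
    (y : Spec R) : (Spec.map φ).finrank y = r + 1 := by
  have hfin : φ.hom.Finite := (IsFinite.SpecMap_iff φ).mp inferInstance
  letI : Algebra R S := φ.hom.toAlgebra
  haveI : Module.Finite R S := hfin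
  have hinj : Function.Injective (Scheme.ΓSpecIso R).inv.hom :=
    (ConcreteCategory.bijective_of_isIso (Scheme.ΓSpecIso R).inv).injective
  have hsurj : Function.Surjective (Scheme.ΓSpecIso R).inv.hom :=
    (ConcreteCategory.bijective_of_isIso (Scheme.ΓSpecIso R).inv).surjective
  have e0 : Fitt.ideal R S r = ⊥ := by
    have := congrArg (fun I => I.ideal ⟨⊤, isAffineOpen_top (Spec R)⟩) h0
    simp only [fittSheaf_ideal, Scheme.IdealSheafData.ideal_bot, Pi.bot_apply] at this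
    rw [fittSec_SpecMap_top φ hfin r] at this
    exact (Ideal.map_eq_bot_iff_of_injective hinj).mp this
  have e1 : Fitt.ideal R S (r + 1) = ⊤ := by
    have := congrArg (fun I => I.ideal ⟨⊤, isAffineOpen_top (Spec R)⟩) h1
    simp only [fittSheaf_ideal, Scheme.IdealSheafData.ideal_top, Pi.top_apply] at this
    rw [fittSec_SpecMap_top φ hfin (r + 1)] at this
    have h2 := congrArg (Ideal.comap (Scheme.ΓSpecIso R).inv.hom) this
    rw [Ideal.comap_map_of_bijective _ ⟨hinj, hsurj⟩, Ideal.comap_top] at h2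
    exact h2
  haveI := projective_of_fitt r e0 e1
  have hflat : φ.hom.Flat := by
    change Module.Flat R S
    infer_instance
  rw [Scheme.Hom.finrank_SpecMap_eq_finrank hfin hflat]
  exact rankAtStalk_of_fitt r e0 e1 y

theorem finrank_Spec_of_fitt {R S : CommRingCat.{u}} (f : Spec S ⟶ Spec R) [IsFinite f]
    (r : ℕ) (h0 : fittSheaf f r = ⊥) (h1 : fittSheaf f (r + 1) = ⊤)
    (y : Spec R) : f.finrank y = r + 1 := by
  obtain ⟨φ, rfl⟩ := Spec.map_surjective f
  exact finrank_SpecMap_of_fitt φ r h0 h1 y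

theorem finrank_of_fittSheaf (f : X ⟶ Y) [IsFinite f] (r : ℕ) (h0 : fittSheaf f r = ⊥)
    (h1 : fittSheaf f (r + 1) = ⊤) (y : Y) : f.finrank y = r + 1 := by
  haveI : Flat f := (flat_lfp_of_fittSheaf f r h0 h1).1
  obtain ⟨R, g, hg, y', rfl⟩ := Y.exists_Spec_apply_eq y
  rw [← Scheme.Hom.finrank_pullback_snd f g]
  have H : IsPullback (pullback.fst f g) (pullback.snd f g) f g := IsPullback.of_hasPullback f g
  have h0' : fittSheaf (pullback.snd f g) r = ⊥ := by
    rw [← fittSheaf_comap H r, h0, Scheme.IdealSheafData.comap_bot]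
  have h1' : fittSheaf (pullback.snd f g) (r + 1) = ⊤ := by
    rw [← fittSheaf_comap H (r + 1), h1, Scheme.IdealSheafData.comap_top]
  haveI : IsAffine (pullback f g) := isAffine_of_isAffineHom (pullback.snd f g)
  haveI : Flat (pullback.snd f g) := inferInstance
  rw [← Scheme.Hom.finrank_comp_left_of_isIso (pullback f g).isoSpec.inv (pullback.snd f g)]
  have h0'' : fittSheaf ((pullback f g).isoSpec.inv ≫ pullback.snd f g) r = ⊥ := by
    rw [fittSheaf_eq_of_iso _ (pullback.snd f g) (pullback f g).isoSpec.inv rfl r, h0']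
  have h1'' : fittSheaf ((pullback f g).isoSpec.inv ≫ pullback.snd f g) (r + 1) = ⊤ := by
    rw [fittSheaf_eq_of_iso _ (pullback.snd f g) (pullback f g).isoSpec.inv rfl (r + 1), h1']
  exact finrank_Spec_of_fitt _ r h0'' h1'' y'

theorem comap_subschemeι_self (I : Y.IdealSheafData) : I.comap I.subschemeι = ⊥ := by
  rw [eq_bot_iff, ← Scheme.IdealSheafData.le_map_iff_comap_le, Scheme.IdealSheafData.map_bot,
    Scheme.IdealSheafData.ker_subschemeι]

theorem isFinLocFreeOfDeg_of_fittSheaf (f : X ⟶ Y) [IsFinite f] (r : ℕ) (h0 : fittSheaf f r = ⊥)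
    (h1 : fittSheaf f (r + 1) = ⊤) : Mor2.IsFinLocFreeOfDeg (r + 1) f :=
  ⟨⟨inferInstance, (flat_lfp_of_fittSheaf f r h0 h1).1, (flat_lfp_of_fittSheaf f r h0 h1).2⟩,
    finrank_of_fittSheaf f r h0 h1⟩

/-- The restriction of a finite morphism to the `r`-th Fitting stratum is finite locally free
of degree `r + 1`. -/
theorem isFinLocFreeOfDeg_stratum (f : X ⟶ Y) [IsFinite f] (r : ℕ) :
    Mor2.IsFinLocFreeOfDeg (r + 1) (pullback.snd f
      (((fittSheaf f r).subschemeι ⁻¹ᵁ (fittSheaf f (r + 1)).support.compl).ι ≫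
        (fittSheaf f r).subschemeι)) := by
  set ι := ((fittSheaf f r).subschemeι ⁻¹ᵁ (fittSheaf f (r + 1)).support.compl).ι ≫
        (fittSheaf f r).subschemeι with hι
  have H : IsPullback (pullback.fst f ι) (pullback.snd f ι) f ι := IsPullback.of_hasPullback f ι
  refine isFinLocFreeOfDeg_of_fittSheaf _ r ?_ ?_
  · rw [← fittSheaf_comap H r, hι, Scheme.IdealSheafData.comap_comp, comap_subschemeι_self,
      Scheme.IdealSheafData.comap_bot]
  · rw [← fittSheaf_comap H (r + 1), ← Scheme.IdealSheafData.support_eq_bot_iff,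
      Scheme.IdealSheafData.support_comap]
    ext x
    simp only [TopologicalSpace.Closeds.coe_preimage, Set.mem_preimage, SetLike.mem_coe,
      TopologicalSpace.Closeds.coe_bot, Set.mem_empty_iff_false, iff_false]
    intro hx
    have hx2 : (fittSheaf f r).subschemeι (x.1) ∈ (fittSheaf f (r + 1)).support.compl := x.2
    exact hx2 hx

theorem eqToHom_subschemeι {I J : Y.IdealSheafData} (h : I = J) :
    eqToHom (congrArg Scheme.IdealSheafData.subscheme h) ≫ J.subschemeι = I.subschemeι := by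
  subst h
  simp

theorem exists_iso_of_comap_eq (I : Y.IdealSheafData) (f g : X ⟶ Y) (h : I.comap f = I.comap g) :
    ∃ φ : pullback f I.subschemeι ≅ pullback g I.subschemeι,
      φ.hom ≫ pullback.fst g I.subschemeι = pullback.fst f I.subschemeι := by
  refine ⟨(I.comapIso f).symm ≪≫ eqToIso (congrArg Scheme.IdealSheafData.subscheme h) ≪≫
    I.comapIso g, ?_⟩
  simp only [Iso.trans_hom, Iso.symm_hom, eqToIso.hom, Category.assoc,
    Scheme.IdealSheafData.comapIso_hom_fst]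
  rw [eqToHom_subschemeι h, Scheme.IdealSheafData.comapIso_inv_subschemeι]

end Rank

end Groth.Agent.Lib.Helper37.FS
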