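import Mathlib
import Groth.Agent.Lib.Helper91.GenericFreeness

set_option linter.style.haveILetI false

/-!
# Generic flatness stratification: the algebra (helper37)

`FlatOn C J J'`: each `A`-module `C i` becomes flat after every base change `A → R` with `J R = 0` and `J' R = R`.
`Step C J J'`: `J ≤ J'`, `J'` finitely generated and `FlatOn C J J'`.

* `exists_chain_noeth`: `A` Noetherian, `C i` finitely many finite type `A`-algebras: every ideal `I` is joined to `⊤` by a
  finite chain of `Step`s (Noetherian induction + generic freeness (helper91)).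
* `exists_chain_alg`: the same over any ring for finitely presented algebras and a finitely generated ideal `I`
  (descent to a finitely generated `ℤ`-subalgebra via `Algebra.Presentation.ModelOfHasCoeffs`).
* `exists_chain_mod`: the same for finitely presented modules over finitely presented algebras
  (helper12's trivial square zero extension trick).
-/

namespace Groth.Agent.Lib.Helper37.GFStrat

open TensorProduct

universe u

section Defs

variable {A : Type u} [CommRing A] {ι : Type*} (C : ι → Type u) [∀ i, AddCommGroup (C i)]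
  [∀ i, Module A (C i)]

/-- every `C i` becomes flat after any base change `A → R` killing `J` and making `J'` the unit ideal, i.e. over
the locally closed subscheme `V(J) ∖ V(J')` of `Spec A`. -/
def FlatOn (J J' : Ideal A) : Prop :=
  ∀ (R : Type u) [CommRing R] [Algebra A R], J.map (algebraMap A R) = ⊥ →
    J'.map (algebraMap A R) = ⊤ → ∀ i, Module.Flat R (R ⊗[A] C i)

/-- one step of a flattening stratification -/
def Step (J J' : Ideal A) : Prop := J ≤ J' ∧ J'.FG ∧ FlatOn C J J'

variable {C}

theorem flatOn_of_le_radical {J J' : Ideal A} (h : J' ≤ J.radical) : FlatOn C J J' := by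
  intro R _ _ h0 h1 i
  have h2 : (⊤ : Ideal R) ≤ (⊥ : Ideal R).radical := by
    rw [← h1, ← h0]
    exact (Ideal.map_mono h).trans (Ideal.map_radical_le _)
  have h3 : (1 : R) ∈ (⊥ : Ideal R).radical := h2 trivial
  obtain ⟨n, hn⟩ := h3
  rw [one_pow, Ideal.mem_bot] at hn
  haveI : Subsingleton R := subsingleton_of_zero_eq_one hn.symm
  haveI : Subsingleton (R ⊗[A] C i) := Module.subsingleton R _
  infer_instance

end Defs

section Noeth

variable {A : Type u} [CommRing A] [IsNoetherianRing A] {ι : Type*} [Finite ι]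
  (C : ι → Type u) [∀ i, CommRing (C i)] [∀ i, Algebra A (C i)] [∀ i, Algebra.FiniteType A (C i)]

omit [IsNoetherianRing A] in
theorem flatOn_generic (I p : Ideal A) [p.IsPrime] (h : A) :
    ∃ g : A, g ∉ p ∧ FlatOn C (I ⊔ Ideal.span {g * h} * p) (I ⊔ Ideal.span {g * h}) := by
  classical
  cases nonempty_fintype ι
  have key : ∀ i, ∃ g : A, g ∉ p ∧ Module.Free (Localization.Away (Ideal.Quotient.mk p g))
      (Localization.Away (Ideal.Quotient.mk p g) ⊗[A ⧸ p] ((A ⧸ p) ⊗[A] C i)) := by
    intro i
    obtain ⟨f, hf0, -, hfree, -, -⟩ := Groth.Agent.Lib.Helper91.generic_freeness (R := A ⧸ p)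
      (S := (A ⧸ p) ⊗[A] C i) (M := (A ⧸ p) ⊗[A] C i)
    obtain ⟨g, rfl⟩ := Ideal.Quotient.mk_surjective f
    refine ⟨g, fun hg => hf0 (Ideal.Quotient.eq_zero_iff_mem.mpr hg), hfree⟩
  choose g hg hfree using key
  refine ⟨∏ i, g i, ?_, ?_⟩
  · intro hmem
    obtain ⟨i, -, hi⟩ := (Ideal.IsPrime.prod_mem_iff).mp hmem
    exact hg i hi
  · intro R _ _ h0 h1 i
    set a : A := (∏ i, g i) * h with ha
    set φ := algebraMap A R with hφ
    have hI0 : I.map φ = ⊥ := by
      rw [eq_bot_iff, ← h0]
      exact Ideal.map_mono le_sup_left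
    have hunit : IsUnit (φ a) := by
      rw [Ideal.map_sup, hI0, bot_sup_eq, Ideal.map_span, Set.image_singleton] at h1
      exact Ideal.span_singleton_eq_top.mp h1
    have hp0 : ∀ x ∈ p, φ x = 0 := by
      intro x hx
      have h2 : a * x ∈ I ⊔ Ideal.span {a} * p :=
        Ideal.mem_sup_right (Ideal.mul_mem_mul (Ideal.mem_span_singleton_self a) hx)
      have h3 : φ (a * x) ∈ (I ⊔ Ideal.span {a} * p).map φ := Ideal.mem_map_of_mem φ h2
      rw [h0, Ideal.mem_bot, map_mul] at h3
      exact (hunit.mul_right_eq_zero).mp h3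
    letI algQ : Algebra (A ⧸ p) R := (Ideal.Quotient.lift p φ hp0).toAlgebra
    haveI towQ : IsScalarTower A (A ⧸ p) R := IsScalarTower.of_algebraMap_eq fun x => rfl
    have hgu : IsUnit (algebraMap (A ⧸ p) R (Ideal.Quotient.mk p (g i))) := by
      change IsUnit (φ (g i))
      refine isUnit_of_dvd_unit (map_dvd φ ?_) hunit
      exact Dvd.dvd.mul_right (Finset.dvd_prod_of_mem g (Finset.mem_univ i)) h
    set L := Localization.Away (Ideal.Quotient.mk p (g i)) with hL
    letI algL : Algebra L R := (IsLocalization.Away.lift (Ideal.Quotient.mk p (g i)) hgu).toAlgebra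
    haveI towL : IsScalarTower (A ⧸ p) L R := IsScalarTower.of_algebraMap_eq fun x => by
      change _ = (IsLocalization.Away.lift (Ideal.Quotient.mk p (g i)) hgu) (algebraMap _ L x)
      rw [IsLocalization.Away.lift_eq]
    haveI := hfree i
    let e1 : R ⊗[A ⧸ p] ((A ⧸ p) ⊗[A] C i) ≃ₗ[R] R ⊗[A] C i :=
      AlgebraTensorModule.cancelBaseChange A (A ⧸ p) R R (C i)
    let e2 : R ⊗[L] (L ⊗[A ⧸ p] ((A ⧸ p) ⊗[A] C i)) ≃ₗ[R] R ⊗[A ⧸ p] ((A ⧸ p) ⊗[A] C i) :=
      AlgebraTensorModule.cancelBaseChange (A ⧸ p) L R R _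
    haveI hFr : Module.Free R (R ⊗[L] (L ⊗[A ⧸ p] ((A ⧸ p) ⊗[A] C i))) := inferInstance
    haveI hFl : Module.Flat R (R ⊗[L] (L ⊗[A ⧸ p] ((A ⧸ p) ⊗[A] C i))) := Module.Flat.of_free
    exact Module.Flat.of_linearEquiv (e2.trans e1).symm

theorem exists_chain_noeth (I : Ideal A) : Relation.ReflTransGen (Step C) I ⊤ := by
  classical
  refine IsNoetherian.induction (P := fun I : Ideal A => Relation.ReflTransGen (Step C) I ⊤)
    (fun (I : Ideal A) IH => ?_) I
  · by_cases hI : I = ⊤
    · rw [hI]
    obtain ⟨⟨p, hp⟩⟩ := Ideal.nonempty_minimalPrimes hI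
    haveI : p.IsPrime := hp.1.1
    have hIp : I ≤ p := hp.1.2
    have hfin : I.minimalPrimes.Finite := Ideal.finite_minimalPrimes_of_isNoetherianRing A I
    set T := hfin.toFinset.erase p with hT
    obtain ⟨h, hhT, hhp⟩ : ∃ h ∈ T.inf id, h ∉ p := by
      by_contra hcon
      push Not at hcon
      have h1 : T.inf id ≤ p := fun x hx => hcon x hx
      obtain ⟨q, hqT, hqp⟩ := (Ideal.IsPrime.inf_le' inferInstance).mp h1
      rw [hT, Finset.mem_erase, Set.Finite.mem_toFinset] at hqT
      exact hqT.1 (le_antisymm hqp (hp.2 hqT.2.1 hqp))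
    obtain ⟨g, hg, hflat⟩ := flatOn_generic C I p h
    set a := g * h with ha
    have hap : a ∉ p := fun hmem => (Ideal.IsPrime.mem_or_mem inferInstance hmem).elim hg hhp
    have hlt : I < I ⊔ Ideal.span {a} := by
      refine lt_of_le_of_ne le_sup_left fun heq => hap (hIp ?_)
      rw [heq]
      exact Ideal.mem_sup_right (Ideal.mem_span_singleton_self a)
    have hrad : I ⊔ Ideal.span {a} * p ≤ I.radical := by
      refine sup_le Ideal.le_radical ?_
      rw [← Ideal.sInf_minimalPrimes]
      refine le_sInf fun q hq => ?_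
      by_cases hqp : q = p
      · rw [hqp]; exact Ideal.mul_le_right
      · have hqT : q ∈ T := by
          rw [hT, Finset.mem_erase, Set.Finite.mem_toFinset]
          exact ⟨hqp, hq⟩
        have hhq : h ∈ q := (Finset.inf_le hqT : T.inf id ≤ q) hhT
        refine Ideal.mul_le_left.trans ?_
        rw [Ideal.span_singleton_le_iff_mem]
        exact Ideal.mul_mem_left q g hhq
    refine Relation.ReflTransGen.head ⟨le_sup_left, IsNoetherian.noetherian _,
      flatOn_of_le_radical hrad⟩ (Relation.ReflTransGen.head ⟨?_, IsNoetherian.noetherian _, hflat⟩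
        (IH _ hlt))
    exact sup_le_sup_left Ideal.mul_le_left _

end Noeth

section Alg

variable {A : Type u} [CommRing A] {ι : Type*} [Finite ι]
  (C : ι → Type u) [∀ i, CommRing (C i)] [∀ i, Algebra A (C i)]
  [∀ i, Algebra.FinitePresentation A (C i)]

theorem exists_chain_alg (I : Ideal A) (hI : I.FG) : Relation.ReflTransGen (Step C) I ⊤ := by
  classical
  obtain ⟨G, hG⟩ := hI
  let P := fun i => Algebra.Presentation.ofFinitePresentation A (C i)
  let S : Set A := (⋃ i, (P i).coeffs) ∪ (G : Set A)
  have hSfin : S.Finite :=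
    (Set.finite_iUnion fun i => (P i).finite_coeffs).union G.finite_toSet
  let A₁ : Subalgebra ℤ A := Algebra.adjoin ℤ S
  haveI : Algebra.FiniteType ℤ A₁ := Algebra.FiniteType.adjoin_of_finite hSfin
  haveI : IsNoetherianRing A₁ := Algebra.FiniteType.isNoetherianRing ℤ A₁
  have hrange : (A₁ : Set A) ⊆ Set.range (algebraMap A₁ A) := by
    intro x hx
    exact ⟨⟨x, hx⟩, rfl⟩
  haveI hcoef : ∀ i, (P i).HasCoeffs A₁ := fun i =>
    ⟨fun x hx => hrange (Algebra.subset_adjoin (Or.inl (Set.mem_iUnion.mpr ⟨i, hx⟩)))⟩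
  let C₀ := fun i => (P i).ModelOfHasCoeffs A₁
  haveI : ∀ i, Algebra.FinitePresentation A₁ (C₀ i) := fun i => inferInstance
  haveI : ∀ i, Algebra.FiniteType A₁ (C₀ i) := fun i => inferInstance
  let G₀ : Set A₁ := {x | (x : A) ∈ G}
  let I₀ : Ideal A₁ := Ideal.span G₀
  have hI₀ : I₀.map (algebraMap A₁ A) = I := by
    rw [Ideal.map_span, ← hG]
    congr 1
    ext x
    constructor
    · rintro ⟨y, hy, rfl⟩
      exact hy
    · intro hx
      exact ⟨⟨x, Algebra.subset_adjoin (Or.inr hx)⟩, hx, rfl⟩
  have chain₀ := exists_chain_noeth C₀ I₀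
  have key : Relation.ReflTransGen (Step C) (I₀.map (algebraMap A₁ A))
      ((⊤ : Ideal A₁).map (algebraMap A₁ A)) :=
    Relation.ReflTransGen.lift (p := Step C) (Ideal.map (algebraMap A₁ A)) ?_ _ _ chain₀
  · rwa [hI₀, Ideal.map_top] at key
  · rintro J J' ⟨hle, hfg, hflat⟩
    refine ⟨Ideal.map_mono hle, hfg.map _, ?_⟩
    intro R _ _ h0 h1 i
    rw [Ideal.map_map, ← IsScalarTower.algebraMap_eq] at h0 h1
    have h2 := hflat R h0 h1 i
    let e1 : R ⊗[A] (A ⊗[A₁] C₀ i) ≃ₗ[R] R ⊗[A] C i :=
      AlgebraTensorModule.congr (LinearEquiv.refl R R)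
        ((P i).tensorModelOfHasCoeffsEquiv A₁).toLinearEquiv
    let e2 : R ⊗[A] (A ⊗[A₁] C₀ i) ≃ₗ[R] R ⊗[A₁] C₀ i :=
      AlgebraTensorModule.cancelBaseChange A₁ A R R (C₀ i)
    exact Module.Flat.of_linearEquiv (e2.symm.trans e1).symm

end Alg

section Mod

set_option maxHeartbeats 1600000 in
/-- a finitely presented module over a finitely presented algebra is an `A`-linear retract of a finitely
presented `A`-algebra (helper12's trivial square-zero extension trick) -/
theorem exists_retract_fp_algebra {A : Type u} [CommRing A]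
    (B : Type u) [CommRing B] [Algebra A B] [Algebra.FinitePresentation A B]
    (M : Type u) [AddCommGroup M] [Module A M] [Module B M] [IsScalarTower A B M]
    [Module.FinitePresentation B M] :
    ∃ (T : Type u) (_ : CommRing T) (_ : Algebra A T) (_ : Algebra.FinitePresentation A T)
      (s : M →ₗ[A] T) (r : T →ₗ[A] M), r ∘ₗ s = LinearMap.id := by
  classical
  obtain ⟨n, f, hfsurj, hfker⟩ := Algebra.FinitePresentation.out (R := A) (A := B)
  let P := MvPolynomial (Fin n) A
  letI algPB : Algebra P B := f.toRingHom.toAlgebra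
  haveI : IsScalarTower A P B := IsScalarTower.of_algebraMap_eq (fun a => (f.commutes a).symm)
  letI modPM : Module P M := Module.compHom M f.toRingHom
  haveI : IsScalarTower P B M := ⟨fun p b m => by
    change (f p * b) • m = f p • (b • m)
    rw [mul_smul]⟩
  haveI : IsScalarTower A P M := ⟨fun a p m => by
    change f (a • p) • m = a • (f p • m)
    rw [map_smul, smul_assoc]⟩
  haveI : Module.FinitePresentation P B := by
    refine Module.finitePresentation_of_surjective (Algebra.linearMap P B) hfsurj ?_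
    exact hfker
  haveI : Module.FinitePresentation P M := Module.FinitePresentation.trans P M B
  letI : Module Pᵐᵒᵖ M := Module.compHom M ((RingEquiv.toOpposite P).symm : Pᵐᵒᵖ →+* P)
  haveI : IsCentralScalar P M := ⟨fun a m => rfl⟩
  let T := TrivSqZeroExt P M
  haveI : Module.FinitePresentation P T :=
    (inferInstance : Module.FinitePresentation P (P × M))
  haveI : Algebra.FinitePresentation P T := inferInstance
  haveI : Algebra.FinitePresentation A T := Algebra.FinitePresentation.trans A P T
  refine ⟨T, inferInstance, inferInstance, inferInstance,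
    (TrivSqZeroExt.inrHom P M).restrictScalars A, (TrivSqZeroExt.sndHom P M).restrictScalars A, ?_⟩
  ext m
  exact TrivSqZeroExt.snd_inr P m

variable {A : Type u} [CommRing A] {ι : Type*} [Finite ι]
  (B : ι → Type u) [∀ i, CommRing (B i)] [∀ i, Algebra A (B i)]
  [∀ i, Algebra.FinitePresentation A (B i)]
  (M : ι → Type u) [∀ i, AddCommGroup (M i)] [∀ i, Module A (M i)] [∀ i, Module (B i) (M i)]
  [∀ i, IsScalarTower A (B i) (M i)] [∀ i, Module.FinitePresentation (B i) (M i)]

include B in
theorem exists_chain_mod (I : Ideal A) (hI : I.FG) : Relation.ReflTransGen (Step M) I ⊤ := by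
  choose T instCR instAlg instFP s r hrs using fun i => exists_retract_fp_algebra (A := A) (B i) (M i)
  letI := instCR
  letI := instAlg
  haveI := instFP
  refine Relation.ReflTransGen.mono ?_ _ _ (exists_chain_alg T I hI)
  rintro J J' ⟨hle, hfg, hflat⟩
  refine ⟨hle, hfg, fun R _ _ h0 h1 i => ?_⟩
  haveI := hflat R h0 h1 i
  refine Module.Flat.of_retract ((s i).baseChange R) ((r i).baseChange R) ?_
  rw [← LinearMap.baseChange_comp, hrs i, LinearMap.baseChange_id]

end Mod

end Groth.Agent.Lib.Helper37.GFStrat
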