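import Mathlib
import Groth.Agent.Lib.Helper49.StalkNbhd
import Groth.Agent.Lib.Helper49.FinitePresentation2
import Groth.Agent.Lib.Helper16.FlatPull.Main
import Groth.Agent.Lib.Helper16.FlatPull.BaseChange

/-!
# Flatness over the base: invariance under isomorphisms and flat base change (helper37)

Light-weight copies (small import closure) of helper23's `isFlatOverAt_of_iso` and `isFlatOverAt_baseChange_iff`,
and finite presentation of the pullback along an open immersion.
-/

set_option autoImplicit false
set_option linter.style.haveILetI false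
universe u
open CategoryTheory Limits AlgebraicGeometry

namespace Groth.Agent.Lib.Helper37.GFStrat

open Groth.Agent.Lib

section Iso

variable {X Y : Scheme.{u}}

theorem stalkMap_hom_inv {G G' : X.Modules} (e : G ≅ G') (x : X) (a : ↑(G.presheaf.stalk x)) :
    (Helper49.stalkMap e.inv x).hom ((Helper49.stalkMap e.hom x).hom a) = a := by
  have h0 : Helper49.stalkMap (e.hom ≫ e.inv) x =
      Helper49.stalkMap e.hom x ≫ Helper49.stalkMap e.inv x := by
    unfold Helper49.stalkMap
    exact (TopCat.Presheaf.stalkFunctor Ab x).map_comp e.hom.mapPresheaf e.inv.mapPresheaf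
  have h00 : Helper49.stalkMap (𝟙 G) x = 𝟙 _ := by
    unfold Helper49.stalkMap
    exact (TopCat.Presheaf.stalkFunctor _ x).map_id _
  have h1 : Helper49.stalkMap e.hom x ≫ Helper49.stalkMap e.inv x = 𝟙 _ := by
    rw [← h0, e.hom_inv_id, h00]
  have h2 := congrArg (fun f => f.hom a) h1
  simpa using h2

/-- The stalk of an isomorphism of modules, as a linear equivalence. -/
noncomputable def stalkLinearEquivOfIso {G G' : X.Modules} (e : G ≅ G') (x : X) :
    ↑(G.presheaf.stalk x) ≃ₗ[X.presheaf.stalk x] ↑(G'.presheaf.stalk x) :=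
  LinearEquiv.ofBijective (Helper49.stalkMapLinear e.hom x)
    ⟨fun a b hab => by
        have := congrArg (Helper49.stalkMap e.inv x).hom hab
        change (Helper49.stalkMap e.inv x).hom ((Helper49.stalkMap e.hom x).hom a) =
          (Helper49.stalkMap e.inv x).hom ((Helper49.stalkMap e.hom x).hom b) at this
        rwa [stalkMap_hom_inv, stalkMap_hom_inv] at this,
      fun b => ⟨(Helper49.stalkMap e.inv x).hom b, stalkMap_hom_inv e.symm x b⟩⟩

theorem isFlatOverAt_of_iso (f : X ⟶ Y) {G G' : X.Modules} (e : G ≅ G') (x : X)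
    (h : FlatMod.IsFlatOverAt f G x) : FlatMod.IsFlatOverAt f G' x := by
  letI := (f.stalkMap x).hom.toAlgebra
  letI : Module (Y.presheaf.stalk (f.base x)) (G.presheaf.stalk x) := FlatMod.moduleStalkOver f G x
  letI : Module (Y.presheaf.stalk (f.base x)) (G'.presheaf.stalk x) :=
    FlatMod.moduleStalkOver f G' x
  haveI : IsScalarTower (Y.presheaf.stalk (f.base x)) (X.presheaf.stalk x)
      (G.presheaf.stalk x) := IsScalarTower.of_compHom _ _ _
  haveI : IsScalarTower (Y.presheaf.stalk (f.base x)) (X.presheaf.stalk x)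
      (G'.presheaf.stalk x) := IsScalarTower.of_compHom _ _ _
  haveI : Module.Flat (Y.presheaf.stalk (f.base x)) (G.presheaf.stalk x) := h
  exact Module.Flat.of_linearEquiv
    ((stalkLinearEquivOfIso e x).restrictScalars (Y.presheaf.stalk (f.base x))).symm

theorem isFlatOver_iff_of_iso (f : X ⟶ Y) {G G' : X.Modules} (e : G ≅ G') :
    FlatMod.IsFlatOver f G ↔ FlatMod.IsFlatOver f G' :=
  ⟨fun h x => isFlatOverAt_of_iso f e x (h x), fun h x => isFlatOverAt_of_iso f e.symm x (h x)⟩

end Iso

variable {X Y X' Y' : Scheme.{u}}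

/-- Flatness at a point is invariant under flat base change. -/
theorem isFlatOverAt_baseChange_iff {f : X ⟶ Y} {f' : X' ⟶ Y'} {eX : X' ⟶ X} {eY : Y' ⟶ Y}
    (hX : IsPullback eX f' f eY) [Flat eY] (F : X.Modules) [F.IsQuasicoherent] (x' : X') :
    FlatMod.IsFlatOverAt f' ((Scheme.Modules.pullback eX).obj F) x' ↔
      FlatMod.IsFlatOverAt f F (eX x') := by
  haveI : Flat eX := MorphismProperty.of_isPullback hX.flip inferInstance
  constructor
  · intro h1
    have h2 := Helper16.FlatPull.isFlatOverAt_comp_of_flat f' eY _ x'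
      (Flat.stalkMap eY (f' x')) h1
    have h3 : FlatMod.IsFlatOverAt (eX ≫ f) ((Scheme.Modules.pullback eX).obj F) x' := by
      rw [hX.w]; exact h2
    exact (Helper16.FlatPull.isFlatOverAt_pullback_iff eX f F x' (Flat.stalkMap eX x')).mpr h3
  · intro h
    exact Helper16.FlatPull.isFlatOverAt_baseChange f f' eX eY hX F x' h

/-- Finite presentation is stable under pullback along an open immersion. -/
theorem isFinitePresentation_pullback_of_isOpenImmersion (M : X.Modules) (j : Y ⟶ X)
    [IsOpenImmersion j] (hM : SheafOfModules.IsFinitePresentation (R := X.ringCatSheaf) M) :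
    SheafOfModules.IsFinitePresentation (R := Y.ringCatSheaf)
      ((Scheme.Modules.pullback j).obj M) :=
  Helper49.isFinitePresentation_of_iso ((Scheme.Modules.restrictFunctorIsoPullback j).app M)
    (Helper49.isFinitePresentation_restrict M j hM)

end Groth.Agent.Lib.Helper37.GFStrat
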