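import Mathlib
import Groth.Agent.Lib.Helper18.FTIdeal

set_option autoImplicit false
set_option linter.style.haveILetI false
universe u
open CategoryTheory Limits AlgebraicGeometry TopologicalSpace

namespace Groth.Agent.Lib.Helper37.GFStrat

open Scheme IdealSheafData

variable {S : Scheme.{u}} (V : S.Opens) [IsAffine V]

/-- the ideal of global sections of the affine open subscheme `V` cut out by the restriction of `K` -/
noncomputable def topIdeal (K : S.IdealSheafData) : Ideal Γ(V, ⊤) :=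
  (K.comap V.ι).ideal ⟨⊤, isAffineOpen_top _⟩

/-- the affine open `V`, as the image of `⊤` under `V.ι` -/
noncomputable abbrev imgTop : S.affineOpens :=
  ⟨V.ι ''ᵁ ⊤, (isAffineOpen_top (V : Scheme)).image_of_isOpenImmersion V.ι⟩

theorem imgTop_coe : ((imgTop V).1 : S.Opens) = V := by
  simp

theorem topIdeal_mono {K K' : S.IdealSheafData} (h : K ≤ K') : topIdeal V K ≤ topIdeal V K' :=
  comap_mono V.ι h _

theorem mem_topIdeal_iff (K : S.IdealSheafData) (a : Γ(V, ⊤)) :
    a ∈ topIdeal V K ↔ (V.ι.appIso ⊤).inv.hom a ∈ K.ideal (imgTop V) := by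
  unfold topIdeal
  rw [ideal_comap_of_isOpenImmersion]
  rfl

theorem topIdeal_fg {K : S.IdealSheafData} (hK : ∀ U : S.affineOpens, (K.ideal U).FG) :
    (topIdeal V K).FG := by
  unfold topIdeal
  rw [ideal_comap_of_isOpenImmersion]
  have h1 := hK (imgTop V)
  let e : Γ(S, V.ι ''ᵁ ⊤) ≃+* Γ(V, ⊤) := (V.ι.appIso ⊤).commRingCatIsoToRingEquiv
  have h2 : Ideal.comap (V.ι.appIso ⊤).inv.hom (K.ideal (imgTop V)) =
      Ideal.map e (K.ideal (imgTop V)) := Ideal.comap_symm e
  change (Ideal.comap (V.ι.appIso ⊤).inv.hom (K.ideal (imgTop V))).FG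
  rw [h2]
  exact h1.map _

theorem topIdeal_le_iff [QuasiSeparatedSpace S] (K : S.IdealSheafData) (J : Ideal Γ(V, ⊤)) :
    topIdeal V K ≤ J ↔ K ≤ (ofIdealTop J).map V.ι := by
  rw [le_map_iff_comap_le]
  constructor
  · intro h
    refine le_of_isAffine ?_
    have : (ofIdealTop J).ideal ⟨⊤, isAffineOpen_top _⟩ = J :=
      (equivOfIsAffine (X := (V : Scheme))).right_inv J
    rw [this]
    exact h
  · intro h
    have : (ofIdealTop J).ideal ⟨⊤, isAffineOpen_top _⟩ = J :=
      (equivOfIsAffine (X := (V : Scheme))).right_inv J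
    rw [← this]
    exact h _

theorem appIso_inv_mem_map [QuasiSeparatedSpace S] (J : Ideal Γ(V, ⊤)) (a : Γ(V, ⊤)) (ha : a ∈ J) :
    (V.ι.appIso ⊤).inv.hom a ∈ ((ofIdealTop J).map V.ι).ideal (imgTop V) := by
  have H : IsAffineOpen (V.ι ⁻¹ᵁ (imgTop V).1) := by
    have : V.ι ⁻¹ᵁ (imgTop V).1 = ⊤ := V.ι.preimage_image_eq ⊤
    rw [this]
    exact isAffineOpen_top _
  rw [ideal_map _ V.ι (imgTop V) H, Ideal.mem_comap, ofIdealTop_ideal]
  have h1 : (V.ι.app (imgTop V).1).hom ((V.ι.appIso ⊤).inv.hom a) =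
      ((V : Scheme).presheaf.map (homOfLE le_top).op).hom a := by
    have h2 := V.ι.appIso_inv_app ⊤
    have h3 := congrArg (fun k => k.hom a) h2
    simp only [CommRingCat.hom_comp, RingHom.coe_comp, Function.comp_apply] at h3
    exact h3
  rw [h1]
  exact Ideal.mem_map_of_mem _ ha


omit [IsAffine V] in
theorem vanishingIdeal_ideal_eq_top (Z' : Closeds S) (U : S.affineOpens)
    (h : Disjoint (Z' : Set S) (U.1 : Set S)) : (vanishingIdeal Z').ideal U = ⊤ := by
  rw [vanishingIdeal_ideal]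
  have : (U.2 : IsAffineOpen U.1).fromSpec ⁻¹' (Z' : Set S) = ∅ := by
    ext x
    simp only [Set.mem_preimage, Set.mem_empty_iff_false, iff_false]
    intro hx
    have h1 : (U.2 : IsAffineOpen U.1).fromSpec x ∈ (U.1 : Set S) := by
      rw [← (U.2 : IsAffineOpen U.1).range_fromSpec]; exact Set.mem_range_self x
    exact Set.disjoint_left.mp h hx h1
  exact (congrArg PrimeSpectrum.vanishingIdeal this).trans PrimeSpectrum.vanishingIdeal_empty

theorem vanishingIdeal_ideal_imgTop (Z' : Closeds S) (hZ' : Disjoint (Z' : Set S) (V : Set S)) :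
    (vanishingIdeal Z').ideal (imgTop V) = ⊤ := by
  refine vanishingIdeal_ideal_eq_top Z' (imgTop V) ?_
  rw [imgTop_coe]
  exact hZ'

open Groth.Agent.Lib.Helper18.FTApprox in
/-- extending a finitely generated ideal of `Γ(V, ⊤)` to a finite type ideal sheaf on the whole of `S`, above a given
finite type ideal sheaf `Q` and inside the vanishing ideal of a closed set `Z'` disjoint from `V`. -/
theorem exists_ft_extension [CompactSpace S] [QuasiSeparatedSpace S] (Z' : Closeds S)
    (hZ' : Disjoint (Z' : Set S) (V : Set S))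
    (Q : S.IdealSheafData) (hQft : ∀ U : S.affineOpens, (Q.ideal U).FG)
    (hQZ : Q ≤ vanishingIdeal Z') (J : Ideal Γ(V, ⊤)) (hJ : J.FG) (hQJ : topIdeal V Q ≤ J) :
    ∃ Q' : S.IdealSheafData, Q ≤ Q' ∧ (∀ U : S.affineOpens, (Q'.ideal U).FG) ∧
      Q' ≤ vanishingIdeal Z' ∧ topIdeal V Q' = J := by
  classical
  obtain ⟨G, hG⟩ := hJ
  set P : S.IdealSheafData := (ofIdealTop J).map V.ι ⊓ vanishingIdeal Z' with hP
  have hs : ∀ a : G, (V.ι.appIso ⊤).inv.hom a.1 ∈ P.ideal (imgTop V) := by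
    intro a
    rw [hP, ideal_inf]
    refine ⟨appIso_inv_mem_map V J a.1 ?_, ?_⟩
    · rw [← hG]; exact Ideal.subset_span a.2
    · rw [vanishingIdeal_ideal_imgTop V Z' hZ']; trivial
  obtain ⟨K', hK'P, hK'mem, hK'ft⟩ := exists_le_ft_mem_family P (fun _ : G => imgTop V)
    (fun a => (V.ι.appIso ⊤).inv.hom a.1) hs
  refine ⟨Q ⊔ K', le_sup_left, fun U => ?_, sup_le hQZ (hK'P.trans inf_le_right), ?_⟩
  · rw [ideal_sup]
    exact Submodule.FG.sup (hQft U) (hK'ft U)
  · apply le_antisymm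
    · rw [topIdeal_le_iff]
      exact sup_le ((topIdeal_le_iff V Q J).mp hQJ) (hK'P.trans inf_le_left)
    · rw [← hG, Ideal.span_le]
      intro a ha
      exact topIdeal_mono V le_sup_right ((mem_topIdeal_iff V K' a).mpr (hK'mem ⟨a, ha⟩))

end Groth.Agent.Lib.Helper37.GFStrat
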