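import Mathlib
import Groth.Agent.Lib.Helper37.GFStratFlatIso

/-!
# Flatness after base change (helper37)

`FlatAfter f F g`: the pullback of `F` to `X ×_S T` is flat over `T`.
* `flatAfter_iff_of_isPullback`: may be tested on any pullback square.
* `flatAfter_of_forall_exists_open`: local on `T`.
* `flatAfter_restrict_iff`: compatible with restricting the base to an open subscheme.
-/
set_option autoImplicit false
set_option linter.style.haveILetI false
universe u
open CategoryTheory Limits AlgebraicGeometry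

namespace Groth.Agent.Lib.Helper37.GFStrat


variable {X S : Scheme.{u}} (f : X ⟶ S) (F : X.Modules)

/-- `F` becomes flat over `T` after the base change `g : T ⟶ S`. -/
def FlatAfter {T : Scheme.{u}} (g : T ⟶ S) : Prop :=
  FlatMod.IsFlatOver (pullback.snd f g) ((Scheme.Modules.pullback (pullback.fst f g)).obj F)

variable [F.IsQuasicoherent]

theorem flatAfter_iff_of_isPullback {X' T : Scheme.{u}} {g : T ⟶ S} {g' : X' ⟶ X} {f' : X' ⟶ T}
    (h : IsPullback g' f' f g) :
    FlatAfter f F g ↔ FlatMod.IsFlatOver f' ((Scheme.Modules.pullback g').obj F) := by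
  haveI : ((Scheme.Modules.pullback (pullback.fst f g)).obj F).IsQuasicoherent :=
    Groth.Agent.Lib.Helper16.FlatPull.isQuasicoherent_pullback _ F
  let e := h.isoPullback
  have he1 : e.hom ≫ pullback.fst f g = g' := h.isoPullback_hom_fst
  have he2 : e.hom ≫ pullback.snd f g = f' := h.isoPullback_hom_snd
  have hsq : IsPullback e.hom f' (pullback.snd f g) (𝟙 T) :=
    IsPullback.of_horiz_isIso ⟨by rw [he2, Category.comp_id]⟩
  let α : (Scheme.Modules.pullback e.hom).obj ((Scheme.Modules.pullback (pullback.fst f g)).obj F) ≅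
      (Scheme.Modules.pullback g').obj F :=
    (Scheme.Modules.pullbackComp e.hom (pullback.fst f g)).app F ≪≫
      (Scheme.Modules.pullbackCongr he1).app F
  have key : ∀ x' : X', FlatMod.IsFlatOverAt f' ((Scheme.Modules.pullback g').obj F) x' ↔
      FlatMod.IsFlatOverAt (pullback.snd f g)
        ((Scheme.Modules.pullback (pullback.fst f g)).obj F) (e.hom x') := by
    intro x'
    rw [← isFlatOverAt_baseChange_iff hsq]
    exact ⟨fun h => isFlatOverAt_of_iso f' α.symm x' h, fun h => isFlatOverAt_of_iso f' α x' h⟩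
  constructor
  · intro H x'
    exact (key x').mpr (H _)
  · intro H x
    have := (key (e.inv x)).mp (H _)
    rwa [← Scheme.Hom.comp_apply, e.inv_hom_id] at this

/-- flatness after base change is local on the new base -/
theorem flatAfter_of_forall_exists_open {T : Scheme.{u}} (g : T ⟶ S)
    (H : ∀ z : T, ∃ N : T.Opens, z ∈ N ∧ FlatAfter f F (N.ι ≫ g)) : FlatAfter f F g := by
  haveI : ((Scheme.Modules.pullback (pullback.fst f g)).obj F).IsQuasicoherent :=
    Groth.Agent.Lib.Helper16.FlatPull.isQuasicoherent_pullback _ F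
  intro x
  obtain ⟨N, hzN, hN⟩ := H ((pullback.snd f g) x)
  let k : pullback f (N.ι ≫ g) ⟶ pullback f g :=
    pullback.lift (pullback.fst f (N.ι ≫ g)) (pullback.snd f (N.ι ≫ g) ≫ N.ι)
      (by rw [pullback.condition, Category.assoc])
  have hk1 : k ≫ pullback.fst f g = pullback.fst f (N.ι ≫ g) := pullback.lift_fst _ _ _
  have hk2 : k ≫ pullback.snd f g = pullback.snd f (N.ι ≫ g) ≫ N.ι := pullback.lift_snd _ _ _
  have hsq : IsPullback k (pullback.snd f (N.ι ≫ g)) (pullback.snd f g) N.ι := by
    refine IsPullback.of_right ?_ hk2 (IsPullback.of_hasPullback f g)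
    rw [hk1]
    exact IsPullback.of_hasPullback f (N.ι ≫ g)
  let α : (Scheme.Modules.pullback k).obj ((Scheme.Modules.pullback (pullback.fst f g)).obj F) ≅
      (Scheme.Modules.pullback (pullback.fst f (N.ι ≫ g))).obj F :=
    (Scheme.Modules.pullbackComp k (pullback.fst f g)).app F ≪≫
      (Scheme.Modules.pullbackCongr hk1).app F
  -- a point above x
  obtain ⟨x', hx'⟩ : ∃ x' : ↥(pullback f (N.ι ≫ g)), k x' = x := by
    obtain ⟨w, hw1, hw2⟩ := Scheme.Pullback.exists_preimage_pullback
      (f := pullback.snd f g) (g := N.ι) x ⟨_, hzN⟩ rfl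
    exact ⟨hsq.isoPullback.inv w, by
      rw [← Scheme.Hom.comp_apply, hsq.isoPullback_inv_fst]; exact hw1⟩
  rw [← hx', ← isFlatOverAt_baseChange_iff hsq]
  exact isFlatOverAt_of_iso _ α.symm x' (hN x')

/-- restricting the base to an open subscheme -/
theorem flatAfter_restrict_iff (V : S.Opens) {T : Scheme.{u}} (h : T ⟶ V) :
    FlatAfter (f ∣_ V) ((Scheme.Modules.pullback (f ⁻¹ᵁ V).ι).obj F) h ↔
      FlatAfter f F (h ≫ V.ι) := by
  have hsq : IsPullback (pullback.fst (f ∣_ V) h ≫ (f ⁻¹ᵁ V).ι) (pullback.snd (f ∣_ V) h) f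
      (h ≫ V.ι) :=
    (IsPullback.of_hasPullback (f ∣_ V) h).paste_horiz (isPullback_morphismRestrict f V).flip
  rw [flatAfter_iff_of_isPullback f F hsq]
  exact isFlatOver_iff_of_iso _
    ((Scheme.Modules.pullbackComp (pullback.fst (f ∣_ V) h) (f ⁻¹ᵁ V).ι).app F)

end Groth.Agent.Lib.Helper37.GFStrat
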