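import Mathlib
import Groth.Agent.Lib.Helper37.GFStratAlg
import Groth.Agent.Lib.Helper37.GFStratPhi
import Groth.Agent.Lib.Helper37.GFStratIdeal
import Groth.Agent.Lib.Helper12.GenFlatSchA
import Groth.Agent.Lib.Helper49.FinitePresentation2

/-!
# Generic flatness stratification (helper37)

For `f : X ⟶ S` of finite presentation with `S` quasi-compact and quasi-separated and `F` a finitely presented
quasi-coherent module on `X`, there is a chain of finite type ideal sheaves `⊥ = I_0 ≤ … ≤ I_t = ⊤` on `S` such that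
`F` is flat over each stratum `V(I_i) ∖ V(I_{i+1})` (`exists_stratification_fin`, Stacks 0ASY).

The proof is by induction over a finite affine open cover of `S` (`claim_sup`); on an affine open `V` the algebra of
`GFStratAlg` produces a chain of finitely generated ideals of `Γ(V, ⊤)`, extended to finite type ideal sheaves on `S`
by `exists_ft_extension` (`exists_chain_extend`); `flatAfter_stratum` translates the algebraic flatness into flatness
over the strata.
-/

set_option autoImplicit false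
set_option linter.style.haveILetI false
universe u
open CategoryTheory Limits AlgebraicGeometry TopologicalSpace TensorProduct

namespace Groth.Agent.Lib.Helper37.GFStrat

open Scheme IdealSheafData Groth.Agent.Lib.Helper12.GenFlatSch

variable {X S : Scheme.{u}} (f : X ⟶ S) (F : X.Modules)

/-- the locally closed immersion of the stratum `V(K) ∖ V(K')` with the scheme structure of `K` -/
noncomputable abbrev stratumι (K K' : S.IdealSheafData) :
    ((K.subschemeι ⁻¹ᵁ K'.support.compl : K.subscheme.Opens) : Scheme) ⟶ S :=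
  (K.subschemeι ⁻¹ᵁ K'.support.compl).ι ≫ K.subschemeι

theorem stratumι_mem_support (K K' : S.IdealSheafData)
    (z : ((K.subschemeι ⁻¹ᵁ K'.support.compl : K.subscheme.Opens) : Scheme)) :
    stratumι K K' z ∈ K.support := by
  rw [← SetLike.mem_coe, ← range_subschemeι]
  exact ⟨_, rfl⟩

theorem stratumι_notMem_support (K K' : S.IdealSheafData)
    (z : ((K.subschemeι ⁻¹ᵁ K'.support.compl : K.subscheme.Opens) : Scheme)) :
    stratumι K K' z ∉ K'.support := by
  have h1 : (K.subschemeι ⁻¹ᵁ K'.support.compl).ι z ∈ K.subschemeι ⁻¹ᵁ K'.support.compl := z.2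
  exact h1

variable [F.IsQuasicoherent] (V : S.Opens) [IsAffine V]

set_option maxHeartbeats 800000 in
theorem flatAfter_stratum [QuasiSeparatedSpace S]
    (𝒲 : Set (↑(f ⁻¹ᵁ V) : Scheme).Opens) (h𝒲 : ∀ W ∈ 𝒲, IsAffineOpen W)
    (hcov : ∀ x : ↑(f ⁻¹ᵁ V), ∃ W ∈ 𝒲, x ∈ W)
    (K K' : S.IdealSheafData)
    (hsupp : ∀ x ∈ K.support, x ∉ K'.support → x ∈ V)
    (hflat : ∀ (R : Type u) [CommRing R] [Algebra Γ(V, ⊤) R],
      (topIdeal V K).map (algebraMap Γ(V, ⊤) R) = ⊥ →
      (topIdeal V K').map (algebraMap Γ(V, ⊤) R) = ⊤ → ∀ W ∈ 𝒲,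
        letI := sectionsModule (f ∣_ V) ((Scheme.Modules.pullback (f ⁻¹ᵁ V).ι).obj F) W
        Module.Flat R (R ⊗[Γ(V, ⊤)] Γ((Scheme.Modules.pullback (f ⁻¹ᵁ V).ι).obj F, W))) :
    FlatAfter f F (stratumι K K') := by
  haveI : ((Scheme.Modules.pullback (f ⁻¹ᵁ V).ι).obj F).IsQuasicoherent :=
    Groth.Agent.Lib.Helper16.FlatPull.isQuasicoherent_pullback _ F
  have hrange : Set.range (stratumι K K') ⊆ Set.range V.ι := by
    rintro _ ⟨z, rfl⟩
    rw [Scheme.Opens.range_ι]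
    exact hsupp _ (stratumι_mem_support K K' z) (stratumι_notMem_support K K' z)
  let h := IsOpenImmersion.lift V.ι (stratumι K K') hrange
  have hfac : h ≫ V.ι = stratumι K K' := IsOpenImmersion.lift_fac _ _ _
  rw [← hfac, ← flatAfter_restrict_iff]
  refine flatAfter_of_forall_exists_open _ _ h fun z => ?_
  -- a function of `K'` invertible at `h z`
  have hz' : h z ∉ (K'.comap V.ι).support := by
    rw [support_comap]
    intro hmem
    have : V.ι (h z) ∈ K'.support := hmem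
    rw [← Scheme.Hom.comp_apply, hfac] at this
    exact stratumι_notMem_support K K' z this
  rw [mem_support_iff_of_mem (U := ⟨⊤, isAffineOpen_top _⟩) trivial, Scheme.mem_zeroLocus_iff] at hz'
  push Not at hz'
  obtain ⟨g, hgK', hzg⟩ := hz'
  obtain ⟨N, hN, hzN, hNg⟩ := exists_isAffineOpen_mem_and_subset
    (x := z) (U := h ⁻¹ᵁ (V : Scheme).basicOpen g) hzg
  refine ⟨N, hzN, ?_⟩
  haveI : IsAffine N := hN
  set q := N.ι ≫ h with hq
  unfold FlatAfter
  rw [isFlatOver_pullback_iff (f ∣_ V) q _ 𝒲 h𝒲 hcov]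
  intro W hW
  letI algR : Algebra Γ(V, ⊤) Γ(N, ⊤) := baseAlgebra q
  have happ : q.appLE ⊤ ⊤ le_top = q.appTop := q.appLE_eq_app
  refine hflat Γ(N, ⊤) ?_ ?_ W hW
  · rw [Ideal.map_eq_bot_iff_le_ker]
    have h1 : K ≤ (q ≫ V.ι).ker := by
      have h2 : q ≫ V.ι = (N.ι ≫ (K.subschemeι ⁻¹ᵁ K'.support.compl).ι) ≫ K.subschemeι := by
        rw [hq, Category.assoc, hfac, Category.assoc]
      rw [h2]
      exact (ker_subschemeι K).symm.le.trans (Hom.le_ker_comp _ _)
    rw [Hom.ker_comp, le_map_iff_comap_le] at h1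
    intro a ha
    have h3 : a ∈ q.ker.ideal ⟨⊤, isAffineOpen_top _⟩ := h1 _ ha
    have h4 := Hom.ideal_ker_le q _ h3
    change (q.appLE ⊤ ⊤ le_top).hom a = 0
    rw [happ]
    exact h4
  · have hunit : IsUnit (algebraMap Γ(V, ⊤) Γ(N, ⊤) g) := by
      change IsUnit ((q.appLE ⊤ ⊤ le_top).hom g)
      rw [happ]
      apply RingedSpace.isUnit_of_isUnit_germ
      intro x hx
      rw [← Scheme.mem_basicOpen, ← Scheme.preimage_basicOpen_top]
      exact hNg x.2
    exact Ideal.eq_top_of_isUnit_mem _ (Ideal.mem_map_of_mem _ hgK') hunit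

theorem exists_fin_chain {α : Type*} {r : α → α → Prop} {a b : α} (h : Relation.ReflTransGen r a b) :
    ∃ (t : ℕ) (I : Fin (t + 1) → α), I 0 = a ∧ I (Fin.last t) = b ∧
      ∀ i : Fin t, r (I i.castSucc) (I i.succ) := by
  induction h with
  | refl => exact ⟨0, fun _ => a, rfl, rfl, fun i => i.elim0⟩
  | @tail b c _ hbc ih =>
    obtain ⟨t, I, h0, hl, hs⟩ := ih
    refine ⟨t + 1, Fin.snoc I c, ?_, Fin.snoc_last _ _, fun i => ?_⟩
    · rw [← Fin.castSucc_zero, Fin.snoc_castSucc]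
      exact h0
    · induction i using Fin.lastCases with
      | last =>
        rw [Fin.snoc_castSucc, Fin.succ_last, Fin.snoc_last, hl]
        exact hbc
      | cast j =>
        rw [Fin.snoc_castSucc, ← Fin.castSucc_succ, Fin.snoc_castSucc]
        exact hs j

variable {X S : Scheme.{u}} (f : X ⟶ S) (F : X.Modules)

/-- one step of a flattening stratification of the base by finite type ideal sheaves -/
def SStep (K K' : S.IdealSheafData) : Prop :=
  K ≤ K' ∧ (∀ U : S.affineOpens, (K'.ideal U).FG) ∧ FlatAfter f F (stratumι K K')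

variable [F.IsQuasicoherent] (V : S.Opens) [IsAffine V]

theorem exists_chain_extend [CompactSpace S] [QuasiSeparatedSpace S]
    (𝒲 : Set (↑(f ⁻¹ᵁ V) : Scheme).Opens) (h𝒲 : ∀ W ∈ 𝒲, IsAffineOpen W)
    (hcov : ∀ x : ↑(f ⁻¹ᵁ V), ∃ W ∈ 𝒲, x ∈ W)
    (R : Ideal Γ(V, ⊤) → Ideal Γ(V, ⊤) → Prop)
    (hR : ∀ J J', R J J' → J ≤ J' ∧ J'.FG ∧
      ∀ (A' : Type u) [CommRing A'] [Algebra Γ(V, ⊤) A'],
        J.map (algebraMap Γ(V, ⊤) A') = ⊥ → J'.map (algebraMap Γ(V, ⊤) A') = ⊤ → ∀ W ∈ 𝒲,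
          letI := sectionsModule (f ∣_ V) ((Scheme.Modules.pullback (f ⁻¹ᵁ V).ι).obj F) W
          Module.Flat A' (A' ⊗[Γ(V, ⊤)] Γ((Scheme.Modules.pullback (f ⁻¹ᵁ V).ι).obj F, W)))
    (I₀ : S.IdealSheafData) (Z' : Closeds S) (hZ'V : Disjoint (Z' : Set S) (V : Set S))
    (hZ' : ∀ x ∈ I₀.support, x ∉ V → x ∈ Z')
    (J : Ideal Γ(V, ⊤)) (hchain : Relation.ReflTransGen R J ⊤)
    (Q : S.IdealSheafData) (hQ1 : I₀ ≤ Q) (hQ2 : Q ≤ vanishingIdeal Z')
    (hQft : ∀ U : S.affineOpens, (Q.ideal U).FG) (hQJ : topIdeal V Q = J) :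
    ∃ K : S.IdealSheafData, Relation.ReflTransGen (SStep f F) Q K ∧ Q ≤ K ∧
      K ≤ vanishingIdeal Z' ∧ (∀ U : S.affineOpens, (K.ideal U).FG) ∧ topIdeal V K = ⊤ := by
  induction hchain using Relation.ReflTransGen.head_induction_on generalizing Q with
  | refl => exact ⟨Q, Relation.ReflTransGen.refl, le_rfl, hQ2, hQft, hQJ⟩
  | @head J J' hJJ' _ ih =>
    obtain ⟨hle, hfg, hflat⟩ := hR J J' hJJ'
    obtain ⟨Q', hQQ', hQ'ft, hQ'Z, hQ'J⟩ := exists_ft_extension V Z' hZ'V Q hQft hQ2 J' hfg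
      (hQJ.le.trans hle)
    have hstep : SStep f F Q Q' := by
      refine ⟨hQQ', hQ'ft, flatAfter_stratum f F V 𝒲 h𝒲 hcov Q Q' ?_ ?_⟩
      · intro x hxQ hxQ'
        by_contra hxV
        have h1 : x ∈ I₀.support := support_antitone hQ1 hxQ
        have h2 : x ∈ Z' := hZ' x h1 hxV
        exact hxQ' (le_support_iff_le_vanishingIdeal.mpr hQ'Z h2)
      · rw [hQJ, hQ'J]
        exact hflat
    obtain ⟨K, hK1, hK2, hK3, hK4, hK5⟩ := ih Q' (hQ1.trans hQQ') hQ'Z hQ'ft hQ'J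
    exact ⟨K, Relation.ReflTransGen.head hstep hK1, hQQ'.trans hK2, hK3, hK4, hK5⟩

section Final

variable {X S : Scheme.{u}} (f : X ⟶ S) (F : X.Modules)

/-- there is a flattening stratification of the open `U`, extended by a finite type ideal cutting out the complement -/
def Claim (U : S.Opens) : Prop :=
  ∃ K : S.IdealSheafData, Relation.ReflTransGen (SStep f F) ⊥ K ∧
    (∀ W : S.affineOpens, (K.ideal W).FG) ∧ (K.support : Set S) = (U : Set S)ᶜ

variable [F.IsQuasicoherent]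

set_option maxHeartbeats 1600000 in
theorem claim_sup [LocallyOfFinitePresentation f] [QuasiCompact f] [CompactSpace S]
    [QuasiSeparatedSpace S] (hfp : SheafOfModules.IsFinitePresentation (R := X.ringCatSheaf) F)
    (U : S.Opens) (V : S.affineOpens) (hU : Claim f F U) : Claim f F (U ⊔ V.1) := by
  classical
  obtain ⟨I₀, hI₀chain, hI₀ft, hI₀supp⟩ := hU
  haveI : IsAffine V.1 := V.2
  let FV := (Scheme.Modules.pullback (f ⁻¹ᵁ V.1).ι).obj F
  haveI hFVqc : FV.IsQuasicoherent :=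
    Groth.Agent.Lib.Helper16.FlatPull.isQuasicoherent_pullback _ F
  have hFVfp : SheafOfModules.IsFinitePresentation (R := (↑(f ⁻¹ᵁ V.1) : Scheme).ringCatSheaf) FV :=
    isFinitePresentation_pullback_of_isOpenImmersion F _ hfp
  let fV := f ∣_ V.1
  haveI : QuasiCompact fV := inferInstance
  haveI : LocallyOfFinitePresentation fV := inferInstance
  haveI : CompactSpace ↑(f ⁻¹ᵁ V.1) := QuasiCompact.compactSpace_of_compactSpace fV
  obtain ⟨s, hsfin, hs⟩ := (isCompact_iff_finite_and_eq_biUnion_affineOpens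
    (U := (⊤ : (↑(f ⁻¹ᵁ V.1) : Scheme).Opens))).mp (by simpa using CompactSpace.isCompact_univ)
  haveI : Finite s := hsfin.to_subtype
  let A₁ : Type u := Γ(V.1, ⊤)
  letI algB : ∀ W : s, Algebra A₁ Γ(↑(f ⁻¹ᵁ V.1), W.1.1) := fun W => sectionsAlgebra fV W.1.1
  letI modM : ∀ W : s, Module A₁ Γ(FV, W.1.1) := fun W => sectionsModule fV FV W.1.1
  haveI tow : ∀ W : s, IsScalarTower A₁ Γ(↑(f ⁻¹ᵁ V.1), W.1.1) Γ(FV, W.1.1) := fun W =>
    IsScalarTower.of_compHom _ _ _
  haveI fpB : ∀ W : s, Algebra.FinitePresentation A₁ Γ(↑(f ⁻¹ᵁ V.1), W.1.1) := fun W =>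
    LocallyOfFinitePresentation.finitePresentation_appLE fV (isAffineOpen_top _) W.1.2 le_top
  haveI fpM : ∀ W : s, Module.FinitePresentation Γ(↑(f ⁻¹ᵁ V.1), W.1.1) Γ(FV, W.1.1) := fun W =>
    Groth.Agent.Lib.Helper49.finitePresentation_sections_of_isFinitePresentation FV hFVfp W.1.2
  have hchain := exists_chain_mod (A := A₁) (fun W : s => Γ(↑(f ⁻¹ᵁ V.1), W.1.1))
    (fun W : s => Γ(FV, W.1.1)) (topIdeal V.1 I₀) (topIdeal_fg V.1 hI₀ft)
  -- the cover
  let 𝒲 : Set (↑(f ⁻¹ᵁ V.1) : Scheme).Opens := {W | ∃ V' ∈ s, (V' : (↑(f ⁻¹ᵁ V.1) : Scheme).affineOpens).1 = W}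
  have h𝒲 : ∀ W ∈ 𝒲, IsAffineOpen W := by
    rintro _ ⟨V', -, rfl⟩
    exact V'.2
  have hcov : ∀ x : ↑(f ⁻¹ᵁ V.1), ∃ W ∈ 𝒲, x ∈ W := by
    intro x
    have hx : x ∈ (⊤ : (↑(f ⁻¹ᵁ V.1) : Scheme).Opens) := trivial
    rw [hs] at hx
    simp only [TopologicalSpace.Opens.mem_iSup] at hx
    obtain ⟨V', hV', hxV'⟩ := hx
    exact ⟨V'.1, ⟨V', hV', rfl⟩, hxV'⟩
  -- the closed complement
  let Z' : Closeds S := (U ⊔ V.1).compl
  have hZ'V : Disjoint (Z' : Set S) (V.1 : Set S) := by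
    rw [Set.disjoint_left]
    intro x hx hxV
    exact hx (Or.inr hxV)
  have hZ' : ∀ x ∈ I₀.support, x ∉ V.1 → x ∈ Z' := by
    intro x hx hxV
    have h1 : x ∈ (U : Set S)ᶜ := by rw [← hI₀supp]; exact hx
    rintro (h2 | h2)
    · exact h1 h2
    · exact hxV h2
  have hI₀Z : I₀ ≤ vanishingIdeal Z' := by
    rw [← le_support_iff_le_vanishingIdeal]
    intro x hx
    change x ∈ (I₀.support : Set S)
    rw [hI₀supp]
    exact fun h => hx (Or.inl h)
  have hR : ∀ J J' : Ideal Γ(V.1, ⊤), Step (fun W : s => Γ(FV, W.1.1)) J J' → J ≤ J' ∧ J'.FG ∧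
      ∀ (A' : Type u) [CommRing A'] [Algebra Γ(V.1, ⊤) A'],
        J.map (algebraMap Γ(V.1, ⊤) A') = ⊥ → J'.map (algebraMap Γ(V.1, ⊤) A') = ⊤ → ∀ W ∈ 𝒲,
          letI := sectionsModule (f ∣_ V.1) ((Scheme.Modules.pullback (f ⁻¹ᵁ V.1).ι).obj F) W
          Module.Flat A' (A' ⊗[Γ(V.1, ⊤)] Γ((Scheme.Modules.pullback (f ⁻¹ᵁ V.1).ι).obj F, W)) := by
    rintro J J' ⟨hle, hfg, hflat⟩
    refine ⟨hle, hfg, ?_⟩
    rintro A' _ _ h0 h1 _ ⟨V', hV', rfl⟩
    exact hflat A' h0 h1 ⟨V', hV'⟩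
  obtain ⟨K, hK1, hK2, hK3, hK4, hK5⟩ := exists_chain_extend f F V.1 𝒲 h𝒲 hcov
    (Step (fun W : s => Γ(FV, W.1.1))) hR I₀ Z' hZ'V hZ' _ hchain I₀ le_rfl hI₀Z hI₀ft rfl
  · refine ⟨K, hI₀chain.trans hK1, hK4, ?_⟩
    apply Set.Subset.antisymm
    · intro x hx
      rintro (h2 | h2)
      · have h3 : x ∈ (I₀.support : Set S) := support_antitone hK2 hx
        rw [hI₀supp] at h3
        exact h3 h2
      · have h4 : K.comap V.1.ι = ⊤ := by
          refine ext_of_isAffine ?_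
          exact hK5
        have h5 : (⟨x, h2⟩ : V.1) ∈ (K.comap V.1.ι).support := by
          rw [support_comap]
          exact hx
        rw [h4, support_top] at h5
        exact h5
    · exact le_support_iff_le_vanishingIdeal.mpr hK3

theorem exists_stratification [LocallyOfFinitePresentation f] [QuasiCompact f] [CompactSpace S]
    [QuasiSeparatedSpace S] (hfp : SheafOfModules.IsFinitePresentation (R := X.ringCatSheaf) F) :
    Relation.ReflTransGen (SStep f F) ⊥ ⊤ := by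
  have h : Claim f F ⊤ := by
    refine compact_open_induction_on (P := Claim f F) ⊤
      (by simpa using CompactSpace.isCompact_univ) ?_ ?_
    · refine ⟨⊥, Relation.ReflTransGen.refl, fun W => ?_, ?_⟩
      · rw [ideal_bot]; exact Submodule.fg_bot
      · simp
    · intro U _ V hU
      exact claim_sup f F hfp U V hU
  obtain ⟨K, hK1, -, hK3⟩ := h
  have hK : K = ⊤ := by
    rw [← support_eq_bot_iff]
    apply SetLike.coe_injective
    rw [hK3]
    simp
  rwa [hK] at hK1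

theorem exists_stratification_fin [LocallyOfFinitePresentation f] [QuasiCompact f] [CompactSpace S]
    [QuasiSeparatedSpace S] (hfp : SheafOfModules.IsFinitePresentation (R := X.ringCatSheaf) F) :
    ∃ (t : ℕ) (I : Fin (t + 1) → S.IdealSheafData), Monotone I ∧ I (Fin.last t) = ⊤ ∧
      ((I 0).support : Set ↑S) = Set.univ ∧ (∀ i, ∀ U : S.affineOpens, ((I i).ideal U).FG) ∧
      ∀ i : Fin t, FlatAfter f F (stratumι (I i.castSucc) (I i.succ)) := by
  obtain ⟨t, I, h0, hl, hs⟩ := exists_fin_chain (exists_stratification f F hfp)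
  refine ⟨t, I, ?_, hl, ?_, ?_, fun i => (hs i).2.2⟩
  · rw [Fin.monotone_iff_le_succ]
    exact fun i => (hs i).1
  · rw [h0]; simp
  · intro i
    induction i using Fin.cases with
    | zero =>
      intro U
      rw [h0, ideal_bot]; exact Submodule.fg_bot
    | succ j => exact (hs j).2.1

end Final

end Groth.Agent.Lib.Helper37.GFStrat
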