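import Groth.Agent.Lib.Helper37.PrimeAvoidOpen
import Mathlib.RingTheory.Ideal.MinimalPrime.Basic
import Mathlib.Topology.QuasiSeparated
import Mathlib.AlgebraicGeometry.Properties

/-!
# Small affine neighbourhoods of generic points of irreducible components (helper37)
-/

set_option autoImplicit false

universe u

namespace Groth.Agent.Lib.Helper37

open CategoryTheory AlgebraicGeometry

/-- For `g` in a minimal prime `p`, some `s ∉ p` has `s * g` nilpotent. -/
theorem exists_notMem_isNilpotent_mul {A : Type u} [CommRing A] {p : Ideal A} [hp : p.IsPrime]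
    (hmin : ∀ q : Ideal A, q.IsPrime → q ≤ p → q = p) {g : A} (hg : g ∈ p) :
    ∃ s : A, s ∉ p ∧ IsNilpotent (s * g) := by
  by_contra hcon
  push Not at hcon
  have hdisj : Disjoint ((⊥ : Ideal A) : Set A) (p.primeCompl ⊔ Submonoid.powers g : Submonoid A) := by
    rw [Set.disjoint_left]
    intro x hx hxM
    have hx0 : x = 0 := hx
    obtain ⟨s, hs, z, ⟨n, rfl⟩, hsz⟩ := Submonoid.mem_sup.mp hxM
    apply hcon s hs
    refine ⟨n + 1, ?_⟩
    calc (s * g) ^ (n + 1) = s ^ n * g * (s * g ^ n) := by ring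
      _ = 0 := by rw [hsz, hx0, mul_zero]
  obtain ⟨q, hq, -, hqM⟩ := Ideal.exists_le_prime_disjoint (⊥ : Ideal A) _ hdisj
  have hqp : q ≤ p := by
    intro x hx
    by_contra hxp
    exact Set.disjoint_left.mp hqM hx (Submonoid.mem_sup_left hxp)
  have := hmin q hq hqp
  subst this
  exact Set.disjoint_left.mp hqM hg (Submonoid.mem_sup_right (Submonoid.mem_powers g))

/-- A point whose closure is an irreducible component has no proper generalization. -/
theorem eq_of_specializes_of_mem_irreducibleComponents {X : Type u} [TopologicalSpace X] [T0Space X]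
    {η y : X} (hη : closure ({η} : Set X) ∈ irreducibleComponents X) (h : y ⤳ η) : y = η := by
  have h1 : closure ({η} : Set X) ≤ closure ({y} : Set X) :=
    (specializes_iff_closure_subset.mp h)
  have h2 : IsIrreducible (closure ({y} : Set X)) := isIrreducible_singleton.closure
  have h3 : closure ({y} : Set X) ≤ closure ({η} : Set X) := hη.2 h2 h1
  have h4 : η ⤳ y := specializes_iff_closure_subset.mpr h3
  exact (h.antisymm h4).eq

/-- Let `η` be the generic point of an irreducible component of a scheme `X`, lying in an affine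
open `V` but not in an open `W` such that `V ∩ W` is quasi-compact. Then some basic open
`D(f) ⊆ V` contains `η` and is disjoint from `W`. -/
theorem exists_basicOpen_disjoint {X : Scheme.{u}} {V : X.Opens} (hV : IsAffineOpen V)
    (W : X.Opens) (hVW : IsCompact ((V : Set X) ∩ W)) (η : X)
    (hη : closure ({η} : Set X) ∈ irreducibleComponents (X : Type u)) (hηV : η ∈ V) (hηW : η ∉ W) :
    ∃ f : Γ(X, V), η ∈ X.basicOpen f ∧ Disjoint (X.basicOpen f) W := by
  classical
  -- the prime of `η`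
  have hp : hV.fromSpec (hV.primeIdealOf ⟨η, hηV⟩) = η := hV.fromSpec_primeIdealOf ⟨η, hηV⟩
  have hmem : ∀ f : Γ(X, V), η ∈ X.basicOpen f ↔ f ∉ (hV.primeIdealOf ⟨η, hηV⟩).asIdeal := by
    intro f
    have h1 : hV.primeIdealOf ⟨η, hηV⟩ ∈ hV.fromSpec ⁻¹ᵁ X.basicOpen f ↔
        hV.primeIdealOf ⟨η, hηV⟩ ∈ PrimeSpectrum.basicOpen f := by
      rw [hV.fromSpec_preimage_basicOpen]
      exact Iff.rfl
    constructor
    · intro h
      have : hV.primeIdealOf ⟨η, hηV⟩ ∈ hV.fromSpec ⁻¹ᵁ X.basicOpen f := by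
        show hV.fromSpec _ ∈ X.basicOpen f
        rw [hp]
        exact h
      exact h1.mp this
    · intro h
      have : hV.fromSpec (hV.primeIdealOf ⟨η, hηV⟩) ∈ X.basicOpen f := h1.mpr h
      rwa [hp] at this
  -- minimality
  have hmin : ∀ q : Ideal Γ(X, V), q.IsPrime → q ≤ (hV.primeIdealOf ⟨η, hηV⟩).asIdeal →
      q = (hV.primeIdealOf ⟨η, hηV⟩).asIdeal := by
    intro q hq hqp
    have hspec : (⟨q, hq⟩ : PrimeSpectrum Γ(X, V)) ⤳ hV.primeIdealOf ⟨η, hηV⟩ :=
      (PrimeSpectrum.le_iff_specializes _ _).mp hqp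
    have h2 : hV.fromSpec (⟨q, hq⟩ : PrimeSpectrum Γ(X, V)) ⤳ η := by
      rw [← hp]
      exact hspec.map hV.fromSpec.continuous
    have h3 := eq_of_specializes_of_mem_irreducibleComponents hη h2
    have h4 : (⟨q, hq⟩ : PrimeSpectrum Γ(X, V)) = hV.primeIdealOf ⟨η, hηV⟩ :=
      hV.fromSpec.isOpenEmbedding.injective (h3.trans hp.symm)
    exact congrArg PrimeSpectrum.asIdeal h4
  -- cover `V ∩ W` by basic opens inside `W`
  have hcov : ∀ y : ((V : Set X) ∩ W : Set X), ∃ g : Γ(X, V), X.basicOpen g ≤ W ∧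
      y.1 ∈ X.basicOpen g := fun y => hV.exists_basicOpen_le ⟨y.1, y.2.2⟩ y.2.1
  choose g hgW hyg using hcov
  obtain ⟨t, ht⟩ := hVW.elim_finite_subcover (fun y => (X.basicOpen (g y) : Set X))
    (fun y => (X.basicOpen (g y)).2) (fun y hy => Set.mem_iUnion.mpr ⟨⟨y, hy⟩, hyg ⟨y, hy⟩⟩)
  -- the elements `s y`
  have hs : ∀ y : ((V : Set X) ∩ W : Set X), ∃ s : Γ(X, V),
      s ∉ (hV.primeIdealOf ⟨η, hηV⟩).asIdeal ∧ IsNilpotent (s * g y) := by
    intro y
    apply exists_notMem_isNilpotent_mul hmin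
    by_contra hgy
    exact hηW (hgW y ((hmem _).mpr hgy))
  choose s hsp hsn using hs
  refine ⟨∏ y ∈ t, s y, (hmem _).mpr ?_, ?_⟩
  · intro hprod
    obtain ⟨y, -, hy⟩ := (Ideal.IsPrime.prod_mem_iff).mp hprod
    exact hsp y hy
  · rw [disjoint_iff, eq_bot_iff]
    intro x hx
    have hxV : x ∈ V := X.basicOpen_le _ hx.1
    obtain ⟨y, hyt, hxy⟩ : ∃ y ∈ t, x ∈ X.basicOpen (g y) := by
      have := ht ⟨hxV, hx.2⟩
      simpa using this
    -- `x ∈ D(s y) ∩ D(g y) = D(s y * g y) = ∅`
    have hxs : x ∈ X.basicOpen (s y) := by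
      have hdvd : X.basicOpen (∏ y ∈ t, s y) ≤ X.basicOpen (s y) := by
        rw [← Finset.mul_prod_erase t s hyt, Scheme.basicOpen_mul]
        exact inf_le_left
      exact hdvd hx.1
    have hxsg : x ∈ X.basicOpen (s y * g y) := by
      rw [Scheme.basicOpen_mul]
      exact ⟨hxs, hxy⟩
    obtain ⟨n, hn⟩ := hsn y
    have hn0 : 0 < n + 1 := Nat.succ_pos n
    have : x ∈ X.basicOpen ((s y * g y) ^ (n + 1)) := by
      rw [Scheme.basicOpen_pow X _ hn0]
      exact hxsg
    rw [pow_succ, hn, zero_mul, Scheme.basicOpen_zero] at this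
    exact this

end Groth.Agent.Lib.Helper37
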