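import Groth.Agent.Lib.Helper37.GroupoidDif

/-!
# The two cartesian squares over `(U' ×_{g,U,t} R) ×_{U'} (U' ×_{g,U,t} R)` (helper37)

For a groupoid scheme `(U, R, s, t, c)`, a morphism `g : U' ⟶ U`, `X = U' ×_{g,U,t} R` and
`h = s ∘ pr₁ : X ⟶ U`, the fibre product `X ×_{U'} X` is the base change of `h` along `t`
(through the first projection) and along `s` (through the second projection), with the same
map `(u', r₁, r₂) ↦ r₁⁻¹ ∘ r₂` to `R`.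
-/

set_option autoImplicit false

universe u

namespace Groth.Agent.Lib.Helper37

open CategoryTheory CategoryTheory.Limits AlgebraicGeometry Grpd

variable {S : Scheme.{u}} (G : GroupoidScheme S)

theorem exists_isPullback_dif {U' X X₂ : Scheme.{u}} {g : U' ⟶ G.U} {p : X ⟶ U'} {q : X ⟶ G.R}
    (hX : IsPullback p q g G.t) {π₁ π₂ : X₂ ⟶ X} (hX₂ : IsPullback π₁ π₂ p p) :
    ∃ m : X₂ ⟶ G.R, IsPullback π₁ m (q ≫ G.s) G.t ∧ IsPullback π₂ m (q ≫ G.s) G.s := by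
  have hπ : (π₁ ≫ q) ≫ G.t = (π₂ ≫ q) ≫ G.t := by
    rw [Category.assoc, ← hX.w, ← Category.assoc, hX₂.w, Category.assoc, hX.w, Category.assoc]
  have hπT : ∀ {T : Scheme.{u}} (l : T ⟶ X₂), (l ≫ π₁ ≫ q) ≫ G.t = (l ≫ π₂ ≫ q) ≫ G.t := by
    intro T l
    simp only [Category.assoc] at hπ ⊢
    rw [hπ]
  have hm : ∀ {T : Scheme.{u}} (l : T ⟶ X₂),
      l ≫ dif G (π₁ ≫ q) (π₂ ≫ q) hπ = dif G (l ≫ π₁ ≫ q) (l ≫ π₂ ≫ q) (hπT l) := by
    intro T l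
    rw [precomp_dif]
  refine ⟨dif G (π₁ ≫ q) (π₂ ≫ q) hπ, ?_, ?_⟩
  · -- the square with `t`
    have hw : π₁ ≫ q ≫ G.s = dif G (π₁ ≫ q) (π₂ ≫ q) hπ ≫ G.t := by
      rw [dif_t, Category.assoc]
    have hmono : ∀ {T : Scheme.{u}} (l l' : T ⟶ X₂), l ≫ π₁ = l' ≫ π₁ →
        l ≫ dif G (π₁ ≫ q) (π₂ ≫ q) hπ = l' ≫ dif G (π₁ ≫ q) (π₂ ≫ q) hπ → l = l' := by
      intro T l l' h1 h2
      have hq₂ : ∀ l : T ⟶ X₂, l ≫ π₂ ≫ q = gcomp G (l ≫ π₁ ≫ q)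
          (l ≫ dif G (π₁ ≫ q) (π₂ ≫ q) hπ) (by rw [hm, dif_t]) := fun l =>
        (gcomp_dif G (l ≫ π₁ ≫ q) (l ≫ π₂ ≫ q) (hπT l) _ (hm l) _).symm
      apply hX₂.hom_ext h1
      apply hX.hom_ext
      · rw [Category.assoc, Category.assoc, ← hX₂.w, ← Category.assoc, h1, Category.assoc]
      · rw [Category.assoc, Category.assoc, hq₂ l, hq₂ l']
        exact gcomp_congr G (by rw [← Category.assoc, h1, Category.assoc]) h2 _ _
    have hex : ∀ c : PullbackCone (q ≫ G.s) G.t, ∃ l : c.pt ⟶ X₂, l ≫ π₁ = c.fst ∧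
        l ≫ dif G (π₁ ≫ q) (π₂ ≫ q) hπ = c.snd := by
      intro c
      have hab : (c.fst ≫ q) ≫ G.s = c.snd ≫ G.t := by rw [Category.assoc, c.condition]
      have hx₂ : (c.fst ≫ p) ≫ g = gcomp G (c.fst ≫ q) c.snd hab ≫ G.t := by
        rw [gcomp_t, Category.assoc, hX.w, Category.assoc]
      have hl : c.fst ≫ p = hX.lift (c.fst ≫ p) (gcomp G (c.fst ≫ q) c.snd hab) hx₂ ≫ p := by
        rw [hX.lift_fst]
      refine ⟨hX₂.lift c.fst (hX.lift _ _ hx₂) hl, hX₂.lift_fst _ _ _, ?_⟩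
      rw [hm]
      have e1 : hX₂.lift c.fst (hX.lift _ _ hx₂) hl ≫ π₁ ≫ q = c.fst ≫ q := by
        rw [← Category.assoc, hX₂.lift_fst]
      have e2 : hX₂.lift c.fst (hX.lift _ _ hx₂) hl ≫ π₂ ≫ q =
          gcomp G (c.fst ≫ q) c.snd hab := by
        rw [← Category.assoc, hX₂.lift_snd, hX.lift_snd]
      exact (dif_congr G e1 e2 _ (by rw [gcomp_t])).trans
        (dif_gcomp G (c.fst ≫ q) c.snd hab _ rfl _)
    choose l hl₁ hl₂ using hex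
    exact ⟨⟨hw⟩, ⟨PullbackCone.IsLimit.mk _ l hl₁ hl₂ (fun c m' hm1 hm2 =>
      hmono _ _ (hm1.trans (hl₁ c).symm) (hm2.trans (hl₂ c).symm))⟩⟩
  · -- the square with `s`
    have hw : π₂ ≫ q ≫ G.s = dif G (π₁ ≫ q) (π₂ ≫ q) hπ ≫ G.s := by
      rw [dif_s, Category.assoc]
    have hmono : ∀ {T : Scheme.{u}} (l l' : T ⟶ X₂), l ≫ π₂ = l' ≫ π₂ →
        l ≫ dif G (π₁ ≫ q) (π₂ ≫ q) hπ = l' ≫ dif G (π₁ ≫ q) (π₂ ≫ q) hπ → l = l' := by
      intro T l l' h1 h2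
      have hq₁ : ∀ l : T ⟶ X₂, l ≫ π₁ ≫ q = gcomp G (l ≫ π₂ ≫ q)
          ((l ≫ dif G (π₁ ≫ q) (π₂ ≫ q) hπ) ≫ G.i)
          (by rw [Category.assoc (l ≫ _), G.i_t, hm, dif_s]) := fun l =>
        (gcomp_dif_i G (l ≫ π₁ ≫ q) (l ≫ π₂ ≫ q) (hπT l) _ (hm l) _).symm
      refine hX₂.hom_ext ?_ h1
      apply hX.hom_ext
      · rw [Category.assoc, Category.assoc, hX₂.w, ← Category.assoc, h1, Category.assoc]
      · rw [Category.assoc, Category.assoc, hq₁ l, hq₁ l']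
        exact gcomp_congr G (by rw [← Category.assoc, h1, Category.assoc]) (by rw [h2]) _ _
    have hex : ∀ c : PullbackCone (q ≫ G.s) G.s, ∃ l : c.pt ⟶ X₂, l ≫ π₂ = c.fst ∧
        l ≫ dif G (π₁ ≫ q) (π₂ ≫ q) hπ = c.snd := by
      intro c
      have hab : (c.fst ≫ q) ≫ G.s = c.snd ≫ G.s := by rw [Category.assoc, c.condition]
      have hab' : (c.fst ≫ q) ≫ G.s = (c.snd ≫ G.i) ≫ G.t := by
        rw [hab, Category.assoc, G.i_t]
      have hx₁ : (c.fst ≫ p) ≫ g = gcomp G (c.fst ≫ q) (c.snd ≫ G.i) hab' ≫ G.t := by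
        rw [gcomp_t, Category.assoc, hX.w, Category.assoc]
      have hl : hX.lift (c.fst ≫ p) (gcomp G (c.fst ≫ q) (c.snd ≫ G.i) hab') hx₁ ≫ p =
          c.fst ≫ p := by
        rw [hX.lift_fst]
      refine ⟨hX₂.lift (hX.lift _ _ hx₁) c.fst hl, hX₂.lift_snd _ _ _, ?_⟩
      rw [hm]
      have e1 : hX₂.lift (hX.lift _ _ hx₁) c.fst hl ≫ π₁ ≫ q =
          gcomp G (c.fst ≫ q) (c.snd ≫ G.i) hab' := by
        rw [← Category.assoc, hX₂.lift_fst, hX.lift_snd]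
      have e2 : hX₂.lift (hX.lift _ _ hx₁) c.fst hl ≫ π₂ ≫ q = c.fst ≫ q := by
        rw [← Category.assoc, hX₂.lift_snd]
      exact (dif_congr G e1 e2 _ (by rw [gcomp_t])).trans
        (dif_gcomp_i G (c.fst ≫ q) c.snd hab _ hab' rfl _)
    choose l hl₁ hl₂ using hex
    exact ⟨⟨hw⟩, ⟨PullbackCone.IsLimit.mk _ l hl₁ hl₂ (fun c m' hm1 hm2 =>
      hmono _ _ (hm1.trans (hl₁ c).symm) (hm2.trans (hl₂ c).symm))⟩⟩

end Groth.Agent.Lib.Helper37
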