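import Groth.Agent.Lib.Helper37.GroupoidStab

/-!
# Conjugation in a groupoid scheme, on `T`-points (helper37)
-/

set_option autoImplicit false

universe u

namespace Groth.Agent.Lib.Helper37

open CategoryTheory CategoryTheory.Limits AlgebraicGeometry Grpd

variable {S : Scheme.{u}} (G : GroupoidScheme S) {T : Scheme.{u}}

/-- `r⁻¹ ∘ ((r ∘ δ) ∘ r⁻¹) ∘ r = δ`. -/
lemma conj_conj' (r δ : T ⟶ G.R) (k₁ : r ≫ G.s = δ ≫ G.t) (k₀ : δ ≫ G.s = r ≫ G.s)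
    (k₂ : gcomp G r δ k₁ ≫ G.s = (r ≫ G.i) ≫ G.t)
    (k₃ : (r ≫ G.i) ≫ G.s = gcomp G (gcomp G r δ k₁) (r ≫ G.i) k₂ ≫ G.t)
    (k₄ : gcomp G (r ≫ G.i) (gcomp G (gcomp G r δ k₁) (r ≫ G.i) k₂) k₃ ≫ G.s = r ≫ G.t) :
    gcomp G (gcomp G (r ≫ G.i) (gcomp G (gcomp G r δ k₁) (r ≫ G.i) k₂) k₃) r k₄ = δ := by
  have hi : (r ≫ G.i) ≫ G.s = r ≫ G.t := by rw [Category.assoc, G.i_s]
  have hi' : (r ≫ G.i) ≫ G.t = r ≫ G.s := by rw [Category.assoc, G.i_t]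
  have e0 : (r ≫ G.i) ≫ G.s = gcomp G r δ k₁ ≫ G.t := by rw [gcomp_t, hi]
  have step1 : gcomp G (r ≫ G.i) (gcomp G (gcomp G r δ k₁) (r ≫ G.i) k₂) k₃ =
      gcomp G δ (r ≫ G.i) (by rw [k₀, hi']) := by
    rw [← gcomp_assoc G (r ≫ G.i) (gcomp G r δ k₁) (r ≫ G.i) e0 k₂
      (by rw [gcomp_s, gcomp_s, k₀, hi'])]
    exact gcomp_congr G (i_gcomp_gcomp G r δ k₁ e0) rfl _ _
  rw [gcomp_congr G step1 rfl k₄ (by rw [gcomp_s, hi])]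
  exact gcomp_i_gcomp' G δ r k₀ _ _

/-- `r ∘ ((r⁻¹ ∘ γ) ∘ r) ∘ r⁻¹ = γ`. -/
lemma conj'_conj (r γ : T ⟶ G.R) (h₁ : (r ≫ G.i) ≫ G.s = γ ≫ G.t) (h₀ : γ ≫ G.s = r ≫ G.t)
    (h₂ : gcomp G (r ≫ G.i) γ h₁ ≫ G.s = r ≫ G.t)
    (h₃ : r ≫ G.s = gcomp G (gcomp G (r ≫ G.i) γ h₁) r h₂ ≫ G.t)
    (h₄ : gcomp G r (gcomp G (gcomp G (r ≫ G.i) γ h₁) r h₂) h₃ ≫ G.s = (r ≫ G.i) ≫ G.t) :
    gcomp G (gcomp G r (gcomp G (gcomp G (r ≫ G.i) γ h₁) r h₂) h₃) (r ≫ G.i) h₄ = γ := by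
  have hi : (r ≫ G.i) ≫ G.s = r ≫ G.t := by rw [Category.assoc, G.i_s]
  have hi' : (r ≫ G.i) ≫ G.t = r ≫ G.s := by rw [Category.assoc, G.i_t]
  have hrγ : r ≫ G.t = γ ≫ G.t := by rw [← hi, h₁]
  have e0 : r ≫ G.s = gcomp G (r ≫ G.i) γ h₁ ≫ G.t := by rw [gcomp_t, hi']
  have step1 : gcomp G r (gcomp G (gcomp G (r ≫ G.i) γ h₁) r h₂) h₃ =
      gcomp G γ r h₀ := by
    rw [← gcomp_assoc G r (gcomp G (r ≫ G.i) γ h₁) r e0 h₂ (by rw [gcomp_s, gcomp_s, h₀])]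
    exact gcomp_congr G (gcomp_i_gcomp G r γ hrγ h₁ e0) rfl _ _
  rw [gcomp_congr G step1 rfl h₄ (by rw [gcomp_s, hi'])]
  exact gcomp_gcomp_i G γ r h₀ _

/-- `r⁻¹ ∘ γ ∘ r`, for `γ` an automorphism of `t r`. -/
noncomputable def conjR (r γ : T ⟶ G.R) (ht : γ ≫ G.t = r ≫ G.t) (hs : γ ≫ G.s = r ≫ G.t) :
    T ⟶ G.R :=
  gcomp G (gcomp G (r ≫ G.i) γ (by rw [Category.assoc, G.i_s, ht])) r (by rw [gcomp_s, hs])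

/-- `r ∘ δ ∘ r⁻¹`, for `δ` an automorphism of `s r`. -/
noncomputable def conjL (r δ : T ⟶ G.R) (ht : δ ≫ G.t = r ≫ G.s) (hs : δ ≫ G.s = r ≫ G.s) :
    T ⟶ G.R :=
  gcomp G (gcomp G r δ ht.symm) (r ≫ G.i) (by rw [gcomp_s, hs, Category.assoc, G.i_t])

lemma conjR_t (r γ : T ⟶ G.R) (ht : γ ≫ G.t = r ≫ G.t) (hs : γ ≫ G.s = r ≫ G.t) :
    conjR G r γ ht hs ≫ G.t = r ≫ G.s := by
  unfold conjR
  rw [gcomp_t, gcomp_t, Category.assoc, G.i_t]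

lemma conjR_s (r γ : T ⟶ G.R) (ht : γ ≫ G.t = r ≫ G.t) (hs : γ ≫ G.s = r ≫ G.t) :
    conjR G r γ ht hs ≫ G.s = r ≫ G.s := by
  unfold conjR
  rw [gcomp_s]

lemma conjL_t (r δ : T ⟶ G.R) (ht : δ ≫ G.t = r ≫ G.s) (hs : δ ≫ G.s = r ≫ G.s) :
    conjL G r δ ht hs ≫ G.t = r ≫ G.t := by
  unfold conjL
  rw [gcomp_t, gcomp_t]

lemma conjL_s (r δ : T ⟶ G.R) (ht : δ ≫ G.t = r ≫ G.s) (hs : δ ≫ G.s = r ≫ G.s) :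
    conjL G r δ ht hs ≫ G.s = r ≫ G.t := by
  unfold conjL
  rw [gcomp_s, Category.assoc, G.i_s]

lemma conjR_congr {r r' γ γ' : T ⟶ G.R} (hr : r = r') (hγ : γ = γ')
    (ht : γ ≫ G.t = r ≫ G.t) (hs : γ ≫ G.s = r ≫ G.t)
    (ht' : γ' ≫ G.t = r' ≫ G.t) (hs' : γ' ≫ G.s = r' ≫ G.t) :
    conjR G r γ ht hs = conjR G r' γ' ht' hs' := by
  subst hr hγ
  rfl

lemma conjL_congr {r r' δ δ' : T ⟶ G.R} (hr : r = r') (hδ : δ = δ')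
    (ht : δ ≫ G.t = r ≫ G.s) (hs : δ ≫ G.s = r ≫ G.s)
    (ht' : δ' ≫ G.t = r' ≫ G.s) (hs' : δ' ≫ G.s = r' ≫ G.s) :
    conjL G r δ ht hs = conjL G r' δ' ht' hs' := by
  subst hr hδ
  rfl

lemma conjL_conjR (r γ : T ⟶ G.R) (ht : γ ≫ G.t = r ≫ G.t) (hs : γ ≫ G.s = r ≫ G.t)
    (δ : T ⟶ G.R) (hδ : δ = conjR G r γ ht hs)
    (ht' : δ ≫ G.t = r ≫ G.s) (hs' : δ ≫ G.s = r ≫ G.s) :
    conjL G r δ ht' hs' = γ := by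
  subst hδ
  unfold conjL conjR
  exact conj'_conj G r γ _ hs _ _ _

lemma conjR_conjL (r δ : T ⟶ G.R) (ht : δ ≫ G.t = r ≫ G.s) (hs : δ ≫ G.s = r ≫ G.s)
    (γ : T ⟶ G.R) (hγ : γ = conjL G r δ ht hs)
    (ht' : γ ≫ G.t = r ≫ G.t) (hs' : γ ≫ G.s = r ≫ G.t) :
    conjR G r γ ht' hs' = δ := by
  subst hγ
  unfold conjL conjR
  exact conj_conj' G r δ _ hs _ _ _

lemma precomp_conjR {T' : Scheme.{u}} (m : T' ⟶ T) (r γ : T ⟶ G.R)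
    (ht : γ ≫ G.t = r ≫ G.t) (hs : γ ≫ G.s = r ≫ G.t) :
    m ≫ conjR G r γ ht hs = conjR G (m ≫ r) (m ≫ γ)
      (by rw [Category.assoc, Category.assoc, ht]) (by rw [Category.assoc, Category.assoc, hs]) := by
  unfold conjR
  rw [precomp_gcomp]
  refine gcomp_congr G ?_ rfl _ _
  rw [precomp_gcomp]
  exact gcomp_congr G (Category.assoc _ _ _).symm rfl _ _

end Groth.Agent.Lib.Helper37
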