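import Groth.Agent.Lib.Helper37.GroupoidOrbitAlg
import Mathlib.LinearAlgebra.Matrix.Polynomial
import Mathlib.RingTheory.Polynomial.Tower
import Mathlib.RingTheory.Flat.Basic
import Mathlib.FieldTheory.IsAlgClosed.AlgebraicClosure
import Mathlib.RingTheory.LocalRing.ResidueField.Ideal
import Mathlib.RingTheory.Nilpotent.Lemmas

/-!
# Base change of the ring of invariants of a finite locally free groupoid (helper37)

Ring-level ingredients: rank idempotents of an idempotent matrix (`rankPoly`), invariance of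
the rank idempotents of the presentation matrix, and the three parts of the base-change lemma
(`exists_poly_pow_of_invariant`, `isNilpotent_of_includeRight_eq_zero`, `flat_invariants`).
-/

set_option autoImplicit false
set_option linter.style.haveILetI false
universe u
open Polynomial TensorProduct CategoryTheory CategoryTheory.Limits

namespace Groth.Agent.Lib.Helper37

section rankIdem
variable {A : Type u} [CommRing A] {n : ℕ} (e : Matrix (Fin n) (Fin n) A)

/-- The rank polynomial `det (u e + (1 - e))` of a square matrix (of interest for idempotents). -/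
noncomputable def rankPoly : A[X] := ((X : A[X]) • e.map C + (1 - e).map C).det

lemma rankPoly_natDegree_le : (rankPoly e).natDegree ≤ n := by
  unfold rankPoly
  exact (Polynomial.natDegree_det_X_add_C_le e (1 - e)).trans (by simp)

lemma aeval_rankPoly {Λ : Type u} [CommRing Λ] [Algebra A Λ] (c : Λ) :
    aeval c (rankPoly e) =
      (c • e.map (algebraMap A Λ) + (1 - e).map (algebraMap A Λ)).det := by
  unfold rankPoly
  rw [← AlgHom.coe_toRingHom, RingHom.map_det]
  congr 1
  ext a b
  simp [Matrix.map_apply, Matrix.add_apply]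
  exact mul_comm _ _

lemma rankPoly_mul (he : e * e = e) {Λ : Type u} [CommRing Λ] [Algebra A Λ] (c d : Λ) :
    aeval c (rankPoly e) * aeval d (rankPoly e) = aeval (c * d) (rankPoly e) := by
  rw [aeval_rankPoly, aeval_rankPoly, aeval_rankPoly, ← Matrix.det_mul]
  congr 1
  set E := e.map (algebraMap A Λ) with hE
  have hEE : E * E = E := by rw [hE, ← Matrix.map_mul, he]
  have h1 : (1 - e).map (algebraMap A Λ) = 1 - E := by
    ext a b
    simp only [hE, Matrix.map_apply, Matrix.sub_apply, Matrix.one_apply, map_sub]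
    split_ifs <;> simp
  rw [h1]
  have hE1 : E * (1 - E) = 0 := by rw [Matrix.mul_sub, Matrix.mul_one, hEE, sub_self]
  have h1E : (1 - E) * E = 0 := by rw [Matrix.sub_mul, Matrix.one_mul, hEE, sub_self]
  have h11 : (1 - E) * (1 - E) = 1 - E := by
    rw [Matrix.mul_sub, Matrix.mul_one, h1E, sub_zero]
  rw [Matrix.add_mul, Matrix.mul_add, Matrix.mul_add, Matrix.smul_mul, Matrix.mul_smul,
    Matrix.smul_mul, Matrix.mul_smul, hEE, hE1, h1E, h11, smul_zero, smul_zero, add_zero, zero_add,
    smul_smul]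

lemma coeff_mul_aeval_rankPoly (he : e * e = e) {Λ : Type u} [CommRing Λ] [Algebra A Λ] (c : Λ)
    (m : ℕ) :
    algebraMap A Λ ((rankPoly e).coeff m) * aeval c (rankPoly e) =
      algebraMap A Λ ((rankPoly e).coeff m) * c ^ m := by
  have key := rankPoly_mul e he (Λ := Λ[X]) (C c) X
  have h1 : aeval (C c : Λ[X]) (rankPoly e) = C (aeval c (rankPoly e)) :=
    aeval_algebraMap_apply Λ[X] c (rankPoly e)
  have halg : algebraMap A Λ[X] = (C : Λ →+* Λ[X]).comp (algebraMap A Λ) := rfl
  have h2 : aeval (X : Λ[X]) (rankPoly e) = (rankPoly e).map (algebraMap A Λ) := by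
    rw [aeval_def, halg, ← Polynomial.eval₂_map, eval₂_C_X]
  have h3 : aeval (C c * X : Λ[X]) (rankPoly e) =
      ((rankPoly e).map (algebraMap A Λ)).comp (C c * X) := by
    rw [aeval_def, halg, ← Polynomial.eval₂_map]
    rfl
  rw [h1, h2, h3] at key
  have := congrArg (fun p => p.coeff m) key
  simp only [coeff_C_mul, coeff_map, comp_C_mul_X_coeff] at this
  rw [mul_comm, this]

lemma rankPoly_coeff_mul_coeff (he : e * e = e) (m m' : ℕ) :
    (rankPoly e).coeff m * (rankPoly e).coeff m' =
      if m' = m then (rankPoly e).coeff m else 0 := by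
  have key := coeff_mul_aeval_rankPoly e he (Λ := A[X]) X m
  have h2 : aeval (X : A[X]) (rankPoly e) = rankPoly e := by
    rw [aeval_X_left_apply]
  rw [h2] at key
  have := congrArg (fun p => p.coeff m') key
  simp only [Polynomial.algebraMap_eq, coeff_C_mul, coeff_X_pow] at this
  rw [this]
  split_ifs <;> simp

lemma rankPoly_coeff_isIdempotent (he : e * e = e) (m : ℕ) :
    (rankPoly e).coeff m * (rankPoly e).coeff m = (rankPoly e).coeff m := by
  rw [rankPoly_coeff_mul_coeff e he, if_pos rfl]

lemma sum_rankPoly_coeff : ∑ m ∈ Finset.range (n + 1), (rankPoly e).coeff m = 1 := by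
  have h := Polynomial.eval_eq_sum_range' (Nat.lt_succ_of_le (rankPoly_natDegree_le e)) 1
  simp only [one_pow, mul_one] at h
  rw [← h]
  have := aeval_rankPoly e (Λ := A) 1
  rw [Polynomial.coe_aeval_eq_eval] at this
  rw [this]
  simp

lemma map_rankPoly {B : Type u} [CommRing B] (g : A →+* B) :
    (rankPoly e).map g = rankPoly (e.map g) := by
  unfold rankPoly
  rw [← Polynomial.coe_mapRingHom, RingHom.map_det]
  congr 1
  refine Matrix.ext fun a b => ?_
  simp only [RingHom.mapMatrix_apply, Matrix.map_apply, Matrix.add_apply, Matrix.smul_apply,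
    Matrix.sub_apply, Matrix.one_apply, coe_mapRingHom, Polynomial.map_add,
    smul_eq_mul, Polynomial.map_mul, Polynomial.map_X, Polynomial.map_C, map_sub]
  split_ifs <;> simp

lemma rankPoly_eq_det_one_add : rankPoly e = (1 + ((X : A[X]) - 1) • e.map C).det := by
  unfold rankPoly
  congr 1
  refine Matrix.ext fun a b => ?_
  simp only [Matrix.map_apply, Matrix.add_apply, Matrix.smul_apply, Matrix.sub_apply,
    Matrix.one_apply, smul_eq_mul]
  split_ifs <;> simp <;> ring

lemma det_eq_zero_of_vecMul_eq_zero (M : Matrix (Fin n) (Fin n) A) (w c : Fin n → A)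
    (hc : ∑ j, c j * w j = 1) (hw : Matrix.vecMul w M = 0) : M.det = 0 := by
  have h1 : Matrix.vecMul w (M * M.adjugate) = 0 := by
    rw [← Matrix.vecMul_vecMul, hw, Matrix.zero_vecMul]
  rw [Matrix.mul_adjugate, Matrix.vecMul_smul, Matrix.vecMul_one] at h1
  have h2 : ∀ j, M.det * w j = 0 := fun j => by
    have := congrFun h1 j
    simpa using this
  calc M.det = M.det * ∑ j, c j * w j := by rw [hc, mul_one]
    _ = ∑ j, c j * (M.det * w j) := by
        rw [Finset.mul_sum]
        refine Finset.sum_congr rfl fun j _ => by ring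
    _ = 0 := by simp [h2]

end rankIdem

section orbitAlg2

variable {A B P : Type u} [CommRing A] [CommRing B] [CommRing P] [Algebra A B]
  {n : ℕ} (i : B →ₗ[A] (Fin n → A)) (r : (Fin n → A) →ₗ[A] B)

lemma presMat_algebraMap_mul (a : A) (β : B) :
    presMat i r (algebraMap A B a * β) = a • presMat i r β := by
  have := (presMatLin i r).map_smul a β
  rw [Algebra.smul_def] at this
  exact this

lemma presMat_one_mul_self (hr : ∀ x, r (i x) = x) :
    presMat i r 1 * presMat i r 1 = presMat i r 1 := by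
  unfold presMat
  rw [← LinearMap.toMatrix'_comp]
  congr 1
  ext v j
  simp [hr]

lemma rankPoly_presMat_coeff_zero (hr : ∀ x, r (i x) = x) (e : B →+* A)
    (hes : ∀ a, e (algebraMap A B a) = a) : (rankPoly (presMat i r 1)).coeff 0 = 0 := by
  rw [Polynomial.coeff_zero_eq_eval_zero]
  have h := aeval_rankPoly (presMat i r 1) (Λ := A) 0
  rw [Polynomial.coe_aeval_eq_eval] at h
  rw [h, zero_smul, zero_add]
  have hρ : e.comp (algebraMap A B) = RingHom.id A := RingHom.ext hes
  have hv := presVec_vecMul i r hr e 1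
  rw [hρ, map_one, one_smul] at hv
  refine det_eq_zero_of_vecMul_eq_zero _ (presVec r e) (i 1) ?_ ?_
  · have h1 := r_eq_sum r (i 1)
    rw [hr] at h1
    have h2 := congrArg e h1
    rw [map_one, map_sum] at h2
    rw [h2]
    refine Finset.sum_congr rfl fun j _ => ?_
    rw [Algebra.smul_def, map_mul e, hes]
    rfl
  · have : (1 - presMat i r 1).map (algebraMap A A) = 1 - (presMat i r 1).map (RingHom.id A) := by
      ext a b
      simp [Matrix.map_apply, Matrix.sub_apply]
    rw [this, Matrix.vecMul_sub, Matrix.vecMul_one, hv, sub_self]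

theorem map_rankPoly_presMat_eq (τ : A →+* B) (c p₁ p₂ : B →+* P)
    (hps : IsPushout (CommRingCat.ofHom (algebraMap A B)) (CommRingCat.ofHom (algebraMap A B))
      (CommRingCat.ofHom p₂) (CommRingCat.ofHom c))
    (hpt : IsPushout (CommRingCat.ofHom τ) (CommRingCat.ofHom (algebraMap A B))
      (CommRingCat.ofHom p₂) (CommRingCat.ofHom p₁))
    (hct : ∀ a, c (τ a) = p₁ (τ a)) (hr : ∀ x, r (i x) = x) :
    (rankPoly (presMat i r 1)).map (algebraMap A B) = (rankPoly (presMat i r 1)).map τ := by
  have hp := map_normForm_eq_of_isPushout τ c p₁ p₂ hps hpt hct i r hr (fun _ : Unit => (1 : A))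
  have key := eval₂Hom_eq_of_map_eq (algebraMap A B) τ _ hp
    ((C : B →+* B[X]).comp (algebraMap A B)) ((C : B →+* B[X]).comp τ)
    (fun a ha => by simp only [RingHom.comp_apply, ha]) (fun _ : Unit => (X : B[X]) - 1)
  rw [eval₂Hom_normForm, eval₂Hom_normForm] at key
  simp only [map_one, Finset.univ_unique, Finset.sum_singleton] at key
  rw [map_rankPoly, map_rankPoly, rankPoly_eq_det_one_add, rankPoly_eq_det_one_add]
  rw [Matrix.map_map] 
  exact key

theorem exists_poly_pow_of_invariant (τ : A →+* B) (e : B →+* A)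
    (hes : ∀ a, e (algebraMap A B a) = a) (c p₁ p₂ : B →+* P)
    (hps : IsPushout (CommRingCat.ofHom (algebraMap A B)) (CommRingCat.ofHom (algebraMap A B))
      (CommRingCat.ofHom p₂) (CommRingCat.ofHom c))
    (hpt : IsPushout (CommRingCat.ofHom τ) (CommRingCat.ofHom (algebraMap A B))
      (CommRingCat.ofHom p₂) (CommRingCat.ofHom p₁))
    (hct : ∀ a, c (τ a) = p₁ (τ a)) (hr : ∀ x, r (i x) = x)
    (Cs : Subring A) (hCs : ∀ a, a ∈ Cs ↔ algebraMap A B a = τ a)
    [Algebra Cs B] [IsScalarTower Cs A B]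
    (C' : Type u) [CommRing C'] [Algebra Cs C']
    (sT tT : A ⊗[Cs] C' →ₗ[Cs] B ⊗[Cs] C')
    (hs : ∀ a c, sT (a ⊗ₜ c) = algebraMap A B a ⊗ₜ c) (ht : ∀ a c, tT (a ⊗ₜ c) = τ a ⊗ₜ c)
    (f : A ⊗[Cs] C') (hf : sT f = tT f) :
    ∃ (N : ℕ) (Q : C'[X]), 0 < N ∧
      Q.map (Algebra.TensorProduct.includeRight : C' →ₐ[Cs] A ⊗[Cs] C').toRingHom =
        (X - C f) ^ N := by
  classical
  obtain ⟨S, hS⟩ := TensorProduct.exists_finset f
  rw [← Finset.sum_coe_sort S (fun p => p.1 ⊗ₜ[Cs] p.2)] at hS
  let incL : A →+* A ⊗[Cs] C' := Algebra.TensorProduct.includeLeftRingHom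
  let incR : C' →+* A ⊗[Cs] C' :=
    (Algebra.TensorProduct.includeRight : C' →ₐ[Cs] A ⊗[Cs] C').toRingHom
  have hincL : ∀ z, incL z = z ⊗ₜ[Cs] (1 : C') := fun z => rfl
  have hincR : ∀ z, incR z = (1 : A) ⊗ₜ[Cs] z := fun z => rfl
  have hincLR : ∀ (z : A) (hz : z ∈ Cs), incR (algebraMap Cs C' ⟨z, hz⟩) = incL z := by
    intro z hz
    rw [hincL, hincR, Algebra.algebraMap_eq_smul_one, ← TensorProduct.smul_tmul]
    congr 1
    change z * 1 = z
    rw [mul_one]
  set E := presMat i r (1 : B) with hE
  let a : S → A := fun p => p.1.1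
  let c' : S → C' := fun p => p.1.2
  have hS' : f = ∑ l : S, a l ⊗ₜ[Cs] c' l := hS
  -- Claim (M)
  have hM : ∀ j k, ∑ l : S, incR (c' l) * incL (presMat i r (τ (a l)) j k) = f * incL (E j k) := by
    intro j k
    let lam : B →ₗ[Cs] A :=
      ((Matrix.entryLinearMap A A j k) ∘ₗ presMatLin i r).restrictScalars Cs
    have hlam : ∀ β, lam β = presMat i r β j k := fun β => rfl
    have h1 := congrArg (TensorProduct.map lam (LinearMap.id : C' →ₗ[Cs] C')) hf
    rw [hS', map_sum, map_sum, map_sum, map_sum] at h1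
    simp only [hs, ht, TensorProduct.map_tmul, LinearMap.id_apply, hlam] at h1
    have h2 : ∀ l : S, incR (c' l) * incL (presMat i r (τ (a l)) j k) =
        presMat i r (τ (a l)) j k ⊗ₜ[Cs] c' l := by
      intro l
      rw [hincL, hincR, Algebra.TensorProduct.tmul_mul_tmul, one_mul, mul_one]
    rw [Finset.sum_congr rfl (fun l _ => h2 l), ← h1, hS', Finset.sum_mul]
    refine Finset.sum_congr rfl fun l _ => ?_
    rw [hincL, Algebra.TensorProduct.tmul_mul_tmul, mul_one]
    congr 1
    have := presMat_algebraMap_mul i r (a l) 1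
    rw [mul_one] at this
    rw [this]
    rfl
  -- Step 3: the universal norm form, evaluated
  let a' : Option S → A := fun o => o.elim 1 a
  have hp := map_normForm_eq_of_isPushout τ c p₁ p₂ hps hpt hct i r hr a'
  obtain ⟨p, hpdef⟩ : ∃ p, p = normForm (fun o => presMat i r (τ (a' o))) := ⟨_, rfl⟩
  rw [← hpdef] at hp
  let x : A →+* (A ⊗[Cs] C')[X] := (C : A ⊗[Cs] C' →+* (A ⊗[Cs] C')[X]).comp incL
  let lam : Option S → (A ⊗[Cs] C')[X] := fun o => o.elim (X - 1) (fun l => - C (incR (c' l)))
  have hx : ∀ z, algebraMap A (A ⊗[Cs] C')[X] z = C (incL z) := fun z => rfl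
  have hD1 : MvPolynomial.eval₂Hom x lam p = aeval (X - C f : (A ⊗[Cs] C')[X]) (rankPoly E) := by
    rw [aeval_rankPoly, hpdef, eval₂Hom_normForm]
    congr 1
    refine Matrix.ext fun j k => ?_
    rw [Fintype.sum_option]
    simp only [lam, a', x, Option.elim, map_one, Matrix.add_apply, Matrix.smul_apply,
      Matrix.map_apply, Matrix.sum_apply, smul_eq_mul, Matrix.sub_apply, hx, RingHom.comp_apply]
    have hMC := congrArg (C : A ⊗[Cs] C' →+* (A ⊗[Cs] C')[X]) (hM j k)
    rw [map_sum, map_mul] at hMC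
    simp only [map_mul] at hMC
    have hsum : ∑ l : S, -C (incR (c' l)) * C (incL (presMat i r (τ (a l)) j k)) =
        - (C f * C (incL (E j k))) := by
      rw [← hMC, ← Finset.sum_neg_distrib]
      refine Finset.sum_congr rfl fun l _ => by ring
    rw [hsum, map_sub, map_sub, ← hE]
    simp only [Matrix.one_apply]
    split_ifs
    · rw [map_one, map_one]; ring
    · rw [map_zero, map_zero]; ring
  -- Step 4: the value lies in the range of `C'[X]`
  have hlamr : ∀ o, lam o ∈ (Polynomial.mapRingHom incR).range := by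
    intro o
    cases o with
    | none => exact ⟨X - 1, by simp [lam]⟩
    | some l => exact ⟨- C (c' l), by simp [lam]⟩
  have hDr : MvPolynomial.eval₂Hom x lam p ∈ (Polynomial.mapRingHom incR).range := by
    rw [MvPolynomial.coe_eval₂Hom, MvPolynomial.eval₂_eq]
    refine Subring.sum_mem _ fun d _ => Subring.mul_mem _ ?_
      (Subring.prod_mem _ fun o _ => Subring.pow_mem _ (hlamr o) _)
    have hc : p.coeff d ∈ Cs := by
      rw [hCs]
      have := congrArg (MvPolynomial.coeff d) hp
      simpa [MvPolynomial.coeff_map] using this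
    refine ⟨C (algebraMap Cs C' ⟨p.coeff d, hc⟩), ?_⟩
    simp only [coe_mapRingHom, map_C, hincLR]
    rfl
  -- Step 5: the rank idempotents are invariant
  have hεC : ∀ m, (rankPoly E).coeff m ∈ Cs := by
    intro m
    rw [hCs]
    have := congrArg (fun q => q.coeff m) (map_rankPoly_presMat_eq i r τ c p₁ p₂ hps hpt hct hr)
    simpa [Polynomial.coeff_map] using this
  -- Step 6: the pieces
  have hPm : ∀ m, ∃ Pm : C'[X], Pm.map incR =
      C (incL ((rankPoly E).coeff m)) * (X - C f) ^ m := by
    intro m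
    have hmul := coeff_mul_aeval_rankPoly E (presMat_one_mul_self i r hr)
      (Λ := (A ⊗[Cs] C')[X]) (X - C f) m
    rw [← hD1, hx] at hmul
    have hmem : C (incL ((rankPoly E).coeff m)) * MvPolynomial.eval₂Hom x lam p ∈
        (Polynomial.mapRingHom incR).range := by
      refine Subring.mul_mem _ ⟨C (algebraMap Cs C' ⟨_, hεC m⟩), ?_⟩ hDr
      simp only [coe_mapRingHom, map_C, hincLR]
    obtain ⟨Pm, hPm⟩ := hmem
    exact ⟨Pm, by rw [← coe_mapRingHom, hPm, hmul]⟩
  choose Pm hPm using hPm
  -- Step 7: assemble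
  refine ⟨n.factorial, ∑ m ∈ Finset.Icc 1 n, Pm m ^ (n.factorial / m), Nat.factorial_pos n, ?_⟩
  change Polynomial.map incR _ = _
  rw [Polynomial.map_sum]
  have hterm : ∀ m ∈ Finset.Icc 1 n, (Pm m ^ (n.factorial / m)).map incR =
      C (incL ((rankPoly E).coeff m)) * (X - C f) ^ n.factorial := by
    intro m hm
    rw [Finset.mem_Icc] at hm
    have hdvd : m ∣ n.factorial := Nat.dvd_factorial hm.1 hm.2
    rw [Polynomial.map_pow, hPm, mul_pow, ← pow_mul, Nat.mul_div_cancel' hdvd]
    congr 1
    have hidem : IsIdempotentElem (C (incL ((rankPoly E).coeff m)) : (A ⊗[Cs] C')[X]) := by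
      unfold IsIdempotentElem
      rw [← map_mul, ← map_mul, rankPoly_coeff_isIdempotent E (presMat_one_mul_self i r hr)]
    have hpos : 0 < n.factorial / m :=
      Nat.div_pos (Nat.le_of_dvd (Nat.factorial_pos n) hdvd) hm.1
    obtain ⟨k, hk⟩ := Nat.exists_eq_succ_of_ne_zero hpos.ne'
    rw [hk]
    exact hidem.pow_succ_eq k
  rw [Finset.sum_congr rfl hterm, ← Finset.sum_mul, ← map_sum, ← map_sum]
  have hsum : ∑ m ∈ Finset.Icc 1 n, (rankPoly E).coeff m = 1 := by
    have := sum_rankPoly_coeff E
    rw [Finset.range_eq_Ico, Finset.sum_eq_sum_Ico_succ_bot (Nat.succ_pos n),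
      rankPoly_presMat_coeff_zero i r hr e hes, zero_add] at this
    exact this
  rw [hsum, map_one, map_one, one_mul]

end orbitAlg2

section partB

theorem isNilpotent_of_includeRight_eq_zero {Cs A : Type u} [CommRing Cs] [CommRing A]
    [Algebra Cs A] [Algebra.IsIntegral Cs A] (hinj : Function.Injective (algebraMap Cs A))
    (C' : Type u) [CommRing C'] [Algebra Cs C'] (c : C')
    (hc : (Algebra.TensorProduct.includeRight : C' →ₐ[Cs] A ⊗[Cs] C') c = 0) :
    IsNilpotent c := by
  rw [nilpotent_iff_mem_prime]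
  intro q hq
  by_contra hcq
  let g : C' →+* AlgebraicClosure q.ResidueField :=
    (algebraMap q.ResidueField (AlgebraicClosure q.ResidueField)).comp
      (algebraMap C' q.ResidueField)
  obtain ⟨ξ, hξ⟩ := exists_ringHom_extension_of_isIntegral hinj (g.comp (algebraMap Cs C'))
  letI : Algebra Cs (AlgebraicClosure q.ResidueField) := (g.comp (algebraMap Cs C')).toAlgebra
  let ξa : A →ₐ[Cs] AlgebraicClosure q.ResidueField :=
    { ξ with commutes' := fun z => RingHom.congr_fun hξ z }
  let ga : C' →ₐ[Cs] AlgebraicClosure q.ResidueField := { g with commutes' := fun z => rfl }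
  let Ψ := Algebra.TensorProduct.lift ξa ga (fun _ _ => Commute.all _ _)
  have h1 : Ψ ((1 : A) ⊗ₜ[Cs] c) = g c := by
    simp only [Ψ, Algebra.TensorProduct.lift_tmul, map_one, one_mul]
    rfl
  have h0 : g c = 0 := by
    rw [← h1]
    have : (1 : A) ⊗ₜ[Cs] c = 0 := hc
    rw [this, map_zero]
  have h2 : algebraMap C' q.ResidueField c = 0 :=
    (algebraMap q.ResidueField (AlgebraicClosure q.ResidueField)).injective
      (by rw [map_zero]; exact h0)
  exact hcq (Ideal.algebraMap_residueField_eq_zero.mp h2)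

end partB

section partC

variable {A B : Type u} [CommRing A] [CommRing B] [Algebra A B]

theorem flat_invariants (τ : A →+* B) (Cs : Subring A)
    (hCs : ∀ a, a ∈ Cs ↔ algebraMap A B a = τ a) [Algebra Cs B] [IsScalarTower Cs A B]
    (C' : Type u) [CommRing C'] [Algebra Cs C'] [Module.Flat Cs C']
    (sT tT : A ⊗[Cs] C' →ₗ[Cs] B ⊗[Cs] C')
    (hs : ∀ a c, sT (a ⊗ₜ c) = algebraMap A B a ⊗ₜ c) (ht : ∀ a c, tT (a ⊗ₜ c) = τ a ⊗ₜ c) :
    Function.Injective (Algebra.TensorProduct.includeRight : C' →ₐ[Cs] A ⊗[Cs] C') ∧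
      ∀ f : A ⊗[Cs] C', sT f = tT f →
        f ∈ Set.range (Algebra.TensorProduct.includeRight : C' →ₐ[Cs] A ⊗[Cs] C') := by
  let τlin : A →ₗ[Cs] B :=
    { toFun := τ
      map_add' := map_add τ
      map_smul' := fun z a => by
        simp only [RingHom.id_apply]
        have h1 : z • a = (z : A) * a := rfl
        have h2 : z • τ a = algebraMap A B (z : A) * τ a := by
          rw [← Algebra.smul_def, ← algebraMap_smul A z (τ a)]
          rfl
        rw [h1, map_mul, h2, (hCs z).mp z.2] }
  let δ : A →ₗ[Cs] B := (Algebra.linearMap A B).restrictScalars Cs - τlin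
  let ι : Cs →ₗ[Cs] A := Algebra.linearMap Cs A
  have hδ : ∀ a, δ a = algebraMap A B a - τ a := fun a => rfl
  have hex : Function.Exact ι δ := by
    intro a
    rw [hδ, sub_eq_zero, ← hCs]
    constructor
    · intro ha
      exact ⟨⟨a, ha⟩, rfl⟩
    · rintro ⟨z, rfl⟩
      exact z.2
  have hex' := Module.Flat.rTensor_exact C' hex
  have hinjι : Function.Injective ι := Subtype.val_injective
  have hinj' := Module.Flat.rTensor_preserves_injective_linearMap (M := C') ι hinjι
  have hincl : ∀ c : C', (Algebra.TensorProduct.includeRight : C' →ₐ[Cs] A ⊗[Cs] C') c =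
      ι.rTensor C' ((TensorProduct.lid Cs C').symm c) := by
    intro c
    rw [TensorProduct.lid_symm_apply, LinearMap.rTensor_tmul]
    rfl
  have hδT : ∀ f, δ.rTensor C' f = sT f - tT f := by
    intro f
    induction f using TensorProduct.induction_on with
    | zero => simp
    | tmul a c => rw [LinearMap.rTensor_tmul, hs, ht, hδ, TensorProduct.sub_tmul]
    | add x y hx hy => rw [map_add, hx, hy, map_add, map_add]; abel
  refine ⟨?_, ?_⟩
  · intro c₁ c₂ h
    rw [hincl, hincl] at h
    exact (TensorProduct.lid Cs C').symm.injective (hinj' h)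
  · intro f hf
    have h0 : δ.rTensor C' f = 0 := by rw [hδT, hf, sub_self]
    obtain ⟨z, hz⟩ := (hex' f).mp h0
    refine ⟨TensorProduct.lid Cs C' z, ?_⟩
    rw [hincl, LinearEquiv.symm_apply_apply, hz]

end partC

end Groth.Agent.Lib.Helper37
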