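import Groth.Agent.S7457
import Mathlib.AlgebraicGeometry.Sites.MorphismProperty
import Mathlib.CategoryTheory.MorphismProperty.Local

/-!
# The largest open over which `s` has a target-local property is `R`-invariant (helper37)
-/

set_option autoImplicit false

universe u

namespace Groth.Agent.Lib.Helper37

open CategoryTheory CategoryTheory.Limits AlgebraicGeometry MorphismProperty Grpd

/-- Let `Q` be a class of open morphisms containing open immersions, stable under base change and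
composition, and let `P` be local at the target for the `Q`-topology. For a groupoid scheme with
`s`, `t` in `Q`, the largest open `W` of `U` over which `s` has `P` satisfies
`t⁻¹ W ≤ s⁻¹ W`. -/
theorem preimage_t_le_preimage_s (Q P : MorphismProperty Scheme.{u}) [Q.IsStableUnderBaseChange]
    [Q.IsStableUnderComposition] [P.IsLocalAtTarget (Scheme.precoverage Q)]
    (hQ : ∀ {X Y : Scheme.{u}} (g : X ⟶ Y) [IsOpenImmersion g], Q g)
    (hopen : ∀ {X Y : Scheme.{u}} (g : X ⟶ Y), Q g → IsOpenMap g)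
    {S : Scheme.{u}} (G : GroupoidScheme S) (hs : Q G.s) (ht : Q G.t)
    (W : G.U.Opens) (hW : P (G.s ∣_ W)) (hmax : ∀ W' : G.U.Opens, P (G.s ∣_ W') → W' ≤ W) :
    G.t ⁻¹ᵁ W ≤ G.s ⁻¹ᵁ W := by
  have htsurj : Surjective G.t := ⟨fun u => ⟨G.e u, by
    rw [← Scheme.Hom.comp_apply, G.e_t]; rfl⟩⟩
  -- the open `V = t⁻¹ W` of `R` and the base change of `snd` to it
  obtain ⟨a, b, h1⟩ : ∃ (a : pullback (pullback.snd G.s G.t) (G.t ⁻¹ᵁ W).ι ⟶ pullback G.s G.t)
      (b : pullback (pullback.snd G.s G.t) (G.t ⁻¹ᵁ W).ι ⟶ (G.t ⁻¹ᵁ W : Scheme.{u})),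
      IsPullback a b (pullback.snd G.s G.t) (G.t ⁻¹ᵁ W).ι :=
    ⟨_, _, IsPullback.of_hasPullback _ _⟩
  -- (A) `b` has `P`
  have hbP : P b := by
    have h3 := h1.paste_horiz (IsPullback.of_hasPullback G.s G.t)
    rw [← morphismRestrict_ι] at h3
    have h5 := IsPullback.of_right' h3 (isPullback_morphismRestrict G.s W).flip
    have hcov : Presieve.singleton (G.t ∣_ W) ∈ Scheme.precoverage Q W := by
      rw [Scheme.singleton_mem_precoverage_iff]
      refine ⟨(MorphismProperty.of_isPullback (P := @Surjective)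
        (isPullback_morphismRestrict G.t W).flip htsurj).surj, ?_⟩
      exact Q.of_isPullback (isPullback_morphismRestrict G.t W).flip ht
    have : HasPullback (G.s ∣_ W) (G.t ∣_ W) := h5.hasPullback
    rw [← P.cancel_left_of_respectsIso h5.isoPullback.inv, h5.isoPullback_inv_snd]
    exact IsLocalAtTarget.pullbackSnd hcov (Presieve.singleton.mk) hW
  -- (B) the image `W''` of `V` under `s`
  let W'' : G.U.Opens := ⟨G.s '' (G.t ⁻¹ᵁ W : Set G.R), hopen G.s hs _ (G.t ⁻¹ᵁ W).2⟩
  have hrange : Set.range ((G.t ⁻¹ᵁ W).ι ≫ G.s) ⊆ Set.range W''.ι := by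
    rw [Scheme.Opens.range_ι]
    rintro _ ⟨v, rfl⟩
    exact ⟨v.1, v.2, rfl⟩
  obtain ⟨s', hfac⟩ : ∃ s' : (G.t ⁻¹ᵁ W : Scheme.{u}) ⟶ (W'' : Scheme.{u}),
      s' ≫ W''.ι = (G.t ⁻¹ᵁ W).ι ≫ G.s :=
    ⟨IsOpenImmersion.lift W''.ι ((G.t ⁻¹ᵁ W).ι ≫ G.s) hrange, IsOpenImmersion.lift_fac _ _ _⟩
  have hQs' : Q s' := by
    refine HasOfPostcompProperty.of_postcomp (W' := @IsOpenImmersion) s' W''.ι inferInstance ?_
    rw [hfac]
    exact Q.comp_mem _ _ (hQ _) hs
  have hs'surj : Function.Surjective s'.base := by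
    intro y
    obtain ⟨v, hv, hvy⟩ := y.2
    refine ⟨⟨v, hv⟩, ?_⟩
    apply W''.ι.isOpenEmbedding.injective
    show (s' ≫ W''.ι) _ = _
    rw [hfac]
    exact hvy
  have hPW'' : P (G.s ∣_ W'') := by
    have h7 := h1.paste_horiz (Groth.Agent.S7457.result S G).2
    rw [← hfac] at h7
    have h9 := IsPullback.of_right' h7 (isPullback_morphismRestrict G.s W'').flip
    have hcov : Presieve.singleton s' ∈ Scheme.precoverage Q W'' := by
      rw [Scheme.singleton_mem_precoverage_iff]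
      exact ⟨hs'surj, hQs'⟩
    refine IsLocalAtTarget.of_forall_pullbackSnd (P := P) hcov ?_
    rintro _ _ _ ⟨⟩
    rw [← P.cancel_left_of_respectsIso h9.isoPullback.hom, h9.isoPullback_hom_snd]
    exact hbP
  have hle : W'' ≤ W := hmax W'' hPW''
  intro x hx
  exact hle ⟨x, hx, rfl⟩

end Groth.Agent.Lib.Helper37
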