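import Groth.Agent.Lib.Helper37.GroupoidPnm
import Mathlib.LinearAlgebra.Matrix.ToLin
import Mathlib.RingTheory.TensorProduct.Free

set_option autoImplicit false
set_option linter.style.haveILetI false
universe u
open Polynomial TensorProduct

namespace Groth.Agent.Lib.Helper37

section matrixPresentation
open CategoryTheory CategoryTheory.Limits

theorem exists_matrix_presentation_baseChange {A B' P M : Type u} [CommRing A] [CommRing B']
    [Algebra A B'] [AddCommGroup M] [Module A M] [AddCommGroup P] [Module A P] [Module B' P]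
    [IsScalarTower A B' P] (ε : M →ₗ[A] P) (hε : IsBaseChange B' ε) {n : ℕ}
    (i : M →ₗ[A] (Fin n → A)) (r : (Fin n → A) →ₗ[A] M) (hr : ∀ x, r (i x) = x) :
    ∃ (i' : P →ₗ[B'] (B' ⊗[A] (Fin n → A))) (r' : (B' ⊗[A] (Fin n → A)) →ₗ[B'] P),
      (∀ x, r' (i' x) = x) ∧
      ∀ (φ : M →ₗ[A] M) (φ' : P →ₗ[B'] P), (∀ x, φ' (ε x) = ε (φ x)) →
        LinearMap.toMatrix (Algebra.TensorProduct.basis B' (Pi.basisFun A (Fin n)))
          (Algebra.TensorProduct.basis B' (Pi.basisFun A (Fin n))) (i' ∘ₗ φ' ∘ₗ r') =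
        (LinearMap.toMatrix' (i ∘ₗ φ ∘ₗ r)).map (algebraMap A B') := by
  refine ⟨(i.baseChange B') ∘ₗ hε.equiv.symm.toLinearMap,
    hε.equiv.toLinearMap ∘ₗ (r.baseChange B'), ?_, ?_⟩
  · intro x
    have hri : r ∘ₗ i = LinearMap.id := LinearMap.ext hr
    have : (r.baseChange B') ∘ₗ (i.baseChange B') = LinearMap.id := by
      rw [← LinearMap.baseChange_comp, hri, LinearMap.baseChange_id]
    have h2 := LinearMap.congr_fun this (hε.equiv.symm x)
    simp only [LinearMap.comp_apply, LinearEquiv.coe_coe, LinearMap.id_apply] at h2 ⊢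
    rw [h2, LinearEquiv.apply_symm_apply]
  · intro φ φ' hφ
    have key : hε.equiv.symm.toLinearMap ∘ₗ φ' ∘ₗ hε.equiv.toLinearMap = φ.baseChange B' := by
      apply TensorProduct.AlgebraTensorModule.curry_injective
      ext x
      change hε.equiv.symm (φ' (hε.equiv (1 ⊗ₜ[A] x))) = φ.baseChange B' (1 ⊗ₜ[A] x)
      rw [LinearMap.baseChange_tmul, LinearEquiv.symm_apply_eq, IsBaseChange.equiv_tmul,
        IsBaseChange.equiv_tmul, one_smul, one_smul, hφ]
    have h3 : ((i.baseChange B') ∘ₗ hε.equiv.symm.toLinearMap) ∘ₗ φ' ∘ₗ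
        (hε.equiv.toLinearMap ∘ₗ (r.baseChange B')) = (i ∘ₗ φ ∘ₗ r).baseChange B' := by
      rw [LinearMap.baseChange_comp, LinearMap.baseChange_comp, ← key]
      rfl
    have h4 := LinearMap.toMatrix_baseChange B' (i ∘ₗ φ ∘ₗ r)
      (Pi.basisFun A (Fin n)) (Pi.basisFun A (Fin n))
    rw [← h3, LinearMap.toMatrix_eq_toMatrix'] at h4
    exact h4

/-- Matrix form of the base-changed presentation along a pushout square. -/
theorem exists_matrix_presentation_of_isPushout {A B P : Type u} [CommRing A] [CommRing B]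
    [CommRing P] [Algebra A B] (τ : A →+* B) (ε π : B →+* P)
    (hpush : IsPushout (CommRingCat.ofHom τ) (CommRingCat.ofHom (algebraMap A B))
      (CommRingCat.ofHom π) (CommRingCat.ofHom ε))
    {n : ℕ} (i : B →ₗ[A] (Fin n → A)) (r : (Fin n → A) →ₗ[A] B) (hr : ∀ x, r (i x) = x) :
    letI : Algebra B P := π.toAlgebra
    ∃ (F' : Type u) (_ : AddCommGroup F') (_ : Module B F') (b' : Module.Basis (Fin n) B F')
      (i' : P →ₗ[B] F') (r' : F' →ₗ[B] P), (∀ x, r' (i' x) = x) ∧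
      ∀ β : B, LinearMap.toMatrix b' b' (i' ∘ₗ LinearMap.mulLeft B (ε β) ∘ₗ r') =
        (LinearMap.toMatrix' (i ∘ₗ LinearMap.mulLeft A β ∘ₗ r)).map τ := by
  have hp : ∀ a, ε (algebraMap A B a) = π (τ a) := by
    intro a
    have := congrArg (fun f => f.hom a) hpush.w
    exact this.symm
  letI : Algebra (AlgVia τ) P := RingHom.toAlgebra (show AlgVia τ →+* P from π)
  letI algBP : Algebra B P := ε.toAlgebra
  letI : Algebra A P := (π.comp τ).toAlgebra
  haveI : IsScalarTower A (AlgVia τ) P := IsScalarTower.of_algebraMap_eq (fun a => rfl)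
  haveI : IsScalarTower A B P := IsScalarTower.of_algebraMap_eq (fun a => (hp a).symm)
  haveI hpo : Algebra.IsPushout A (AlgVia τ) B P :=
    (CommRingCat.isPushout_iff_isPushout (R := A) (R' := AlgVia τ) (S := B) (S' := P)).mp hpush
  have ibc : IsBaseChange (AlgVia τ) (IsScalarTower.toAlgHom A B P).toLinearMap := hpo.out
  obtain ⟨i', r', h1, h2⟩ := exists_matrix_presentation_baseChange
    (IsScalarTower.toAlgHom A B P).toLinearMap ibc i r hr
  refine ⟨AlgVia τ ⊗[A] (Fin n → A), inferInstance,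
    (inferInstance : Module (AlgVia τ) (AlgVia τ ⊗[A] (Fin n → A))),
    Algebra.TensorProduct.basis (AlgVia τ) (Pi.basisFun A (Fin n)), i', r', h1, fun β => ?_⟩
  exact h2 (LinearMap.mulLeft A β) (LinearMap.mulLeft (AlgVia τ) (ε β))
    (by intro x; change ε β * ε x = ε (β * x); rw [map_mul])

end matrixPresentation

section conj

variable {B : Type u} [CommRing B] {P : Type u} [AddCommGroup P] [Module B P]
  {F₁ : Type u} [AddCommGroup F₁] [Module B F₁] {F₂ : Type u} [AddCommGroup F₂] [Module B F₂]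

/-- Two presentations of the same module give block matrices conjugate by a fixed invertible
matrix, simultaneously for all endomorphisms. -/
theorem exists_conj_matrices {n : ℕ} (b₁ : Module.Basis (Fin n) B F₁)
    (b₂ : Module.Basis (Fin n) B F₂)
    (i₁ : P →ₗ[B] F₁) (r₁ : F₁ →ₗ[B] P) (hr₁ : ∀ x, r₁ (i₁ x) = x)
    (i₂ : P →ₗ[B] F₂) (r₂ : F₂ →ₗ[B] P) (hr₂ : ∀ x, r₂ (i₂ x) = x) :
    ∃ S S' : Matrix (Fin n ⊕ Fin n) (Fin n ⊕ Fin n) B, S * S' = 1 ∧ S' * S = 1 ∧
      ∀ ψ : P →ₗ[B] P,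
        S * Matrix.fromBlocks (LinearMap.toMatrix b₁ b₁ (i₁ ∘ₗ ψ ∘ₗ r₁)) 0 0 0 * S' =
          Matrix.fromBlocks (LinearMap.toMatrix b₂ b₂ (i₂ ∘ₗ ψ ∘ₗ r₂)) 0 0 0 := by
  classical
  haveI : Module.Free B F₁ := Module.Free.of_basis b₁
  haveI : Module.Finite B F₁ := Module.Finite.of_basis b₁
  haveI : Module.Free B F₂ := Module.Free.of_basis b₂
  haveI : Module.Finite B F₂ := Module.Finite.of_basis b₂
  let E := swapEquiv i₁ r₁ hr₁ i₂ r₂ hr₂
  refine ⟨LinearMap.toMatrix (b₁.prod b₂) (b₂.prod b₁) E.toLinearMap,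
    LinearMap.toMatrix (b₂.prod b₁) (b₁.prod b₂) E.symm.toLinearMap, ?_, ?_, ?_⟩
  · rw [← LinearMap.toMatrix_comp, LinearEquiv.comp_coe, LinearEquiv.symm_trans_self,
      LinearEquiv.refl_toLinearMap, LinearMap.toMatrix_id]
  · rw [← LinearMap.toMatrix_comp, LinearEquiv.comp_coe, LinearEquiv.self_trans_symm,
      LinearEquiv.refl_toLinearMap, LinearMap.toMatrix_id]
  · intro ψ
    have hconj : E.toLinearMap ∘ₗ ((i₁ ∘ₗ ψ ∘ₗ r₁).prodMap (0 : F₂ →ₗ[B] F₂)) ∘ₗ
        E.symm.toLinearMap = (i₂ ∘ₗ ψ ∘ₗ r₂).prodMap (0 : F₁ →ₗ[B] F₁) := by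
      apply LinearMap.ext
      intro x
      obtain ⟨⟨v, w⟩, rfl⟩ := E.surjective x
      simp only [LinearMap.comp_apply, LinearEquiv.coe_coe, LinearEquiv.symm_apply_apply]
      change swapLin i₁ r₁ i₂ r₂ _ = (i₂ ∘ₗ ψ ∘ₗ r₂).prodMap 0 (swapLin i₁ r₁ i₂ r₂ (v, w))
      simp only [LinearMap.prodMap_apply, LinearMap.comp_apply, LinearMap.zero_apply,
        swapLin_apply, map_add, map_sub, map_zero, hr₁, hr₂]
      ext <;> simp
    have h1 := LinearMap.toMatrix_prodMap (v₁ := b₁) (v₂ := b₂) (i₁ ∘ₗ ψ ∘ₗ r₁)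
      (0 : F₂ →ₗ[B] F₂)
    have h2 := LinearMap.toMatrix_prodMap (v₁ := b₂) (v₂ := b₁) (i₂ ∘ₗ ψ ∘ₗ r₂)
      (0 : F₁ →ₗ[B] F₁)
    rw [map_zero] at h1 h2
    rw [← h1, ← h2, ← hconj, LinearMap.toMatrix_comp (b₂.prod b₁) (b₁.prod b₂) (b₂.prod b₁),
      LinearMap.toMatrix_comp (b₂.prod b₁) (b₁.prod b₂) (b₁.prod b₂), Matrix.mul_assoc]

end conj

end Groth.Agent.Lib.Helper37
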