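import Groth.Agent.Lib.Helper37.GroupoidRank
import Mathlib.RingTheory.TensorProduct.IsBaseChangeFree
import Mathlib.RingTheory.Norm.Basic

set_option autoImplicit false
set_option linter.style.haveILetI false
universe u
open CategoryTheory CategoryTheory.Limits AlgebraicGeometry TensorProduct Grpd

namespace Groth.Agent.Lib.Helper37

section square
variable {S : Scheme.{u}} (G : GroupoidScheme S)

/-- The composition `c` is the base change of `s` along `s`, through the second projection. -/
theorem isPullback_c_snd : IsPullback G.c (pullback.snd G.s G.t) G.s G.s := by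
  have hmono : ∀ {T : Scheme.{u}} (l l' : T ⟶ pullback G.s G.t), l ≫ G.c = l' ≫ G.c →
      l ≫ pullback.snd G.s G.t = l' ≫ pullback.snd G.s G.t → l = l' := by
    intro T l l' h1 h2
    refine pullback.hom_ext ?_ h2
    have key : ∀ l : T ⟶ pullback G.s G.t, l ≫ pullback.fst G.s G.t =
        gcomp G (l ≫ G.c) ((l ≫ pullback.snd G.s G.t) ≫ G.i)
          (by simp only [Category.assoc, c_s, G.i_t]) := by
      intro l
      have hab : (l ≫ pullback.fst G.s G.t) ≫ G.s = (l ≫ pullback.snd G.s G.t) ≫ G.t := by
        rw [Category.assoc, Category.assoc, pullback.condition]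
      have := gcomp_gcomp_i G (l ≫ pullback.fst G.s G.t) (l ≫ pullback.snd G.s G.t) hab
        (by simp only [gcomp_s, Category.assoc, G.i_t])
      rw [← this]
      exact gcomp_congr G (comp_c G l).symm rfl _ _
    rw [key l, key l']
    exact gcomp_congr G h1 (by rw [h2]) _ _
  have hex : ∀ c : PullbackCone G.s G.s, ∃ l : c.pt ⟶ pullback G.s G.t,
      l ≫ G.c = c.fst ∧ l ≫ pullback.snd G.s G.t = c.snd := by
    intro c
    have hc : c.fst ≫ G.s = c.snd ≫ G.s := c.condition
    have h₁ : c.fst ≫ G.s = (c.snd ≫ G.i) ≫ G.t := by rw [Category.assoc, G.i_t, hc]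
    refine ⟨pullback.lift (gcomp G c.fst (c.snd ≫ G.i) h₁) c.snd
      (by rw [gcomp_s, Category.assoc, G.i_s]), ?_, pullback.lift_snd _ _ _⟩
    rw [lift_c]
    exact gcomp_i_gcomp' G c.fst c.snd hc h₁ _
  choose l hl₁ hl₂ using hex
  exact ⟨⟨c_s G⟩, ⟨PullbackCone.IsLimit.mk _ l hl₁ hl₂ (fun c m hm1 hm2 =>
    hmono _ _ (hm1.trans (hl₁ c).symm) (hm2.trans (hl₂ c).symm))⟩⟩

end square


/-- type synonym of `B` carrying the `A`-algebra structure given by `τ`. -/
def AlgVia {A B : Type u} [CommRing A] [CommRing B] (_τ : A →+* B) : Type u := B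

instance {A B : Type u} [CommRing A] [CommRing B] (τ : A →+* B) : CommRing (AlgVia τ) :=
  inferInstanceAs (CommRing B)

instance {A B : Type u} [CommRing A] [CommRing B] (τ : A →+* B) : Algebra A (AlgVia τ) :=
  τ.toAlgebra

/-- Norm and base change, instance form. -/
theorem norm_algebraMap_of_isPushout {A B B' P : Type u} [CommRing A] [CommRing B] [CommRing B']
    [CommRing P] [Algebra A B] [Algebra A B'] [Algebra B P] [Algebra B' P] [Algebra A P]
    [IsScalarTower A B P] [IsScalarTower A B' P] [h : Algebra.IsPushout A B' B P]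
    {ι : Type*} [Fintype ι] [DecidableEq ι] (b : Module.Basis ι A B) (β : B) :
    Algebra.norm B' (algebraMap B P β) = algebraMap A B' (Algebra.norm A β) := by
  have ibc : IsBaseChange B' (IsScalarTower.toAlgHom A B P).toLinearMap := h.out
  rw [Algebra.norm_eq_matrix_det (IsBaseChange.basis b ibc), Algebra.norm_eq_matrix_det b,
    RingHom.map_det]
  congr 1
  ext i j
  rw [Algebra.leftMulMatrix_eq_repr_mul, RingHom.mapMatrix_apply, Matrix.map_apply,
    Algebra.leftMulMatrix_eq_repr_mul, IsBaseChange.basis_apply]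
  have : algebraMap B P β * (IsScalarTower.toAlgHom A B P).toLinearMap (b j) =
      (IsScalarTower.toAlgHom A B P).toLinearMap (β * b j) := by
    simp
  rw [this, IsBaseChange.basis_repr_comp_apply]


/-- Norm and base change, ring hom form: for a pushout square of rings with legs `τ` (scalars) and
`algebraMap A B` (the finite free algebra), the norm of `ε β` along `π` is `τ` of the norm of `β`. -/
theorem norm_of_isPushout {A B P : Type u} [CommRing A] [CommRing B] [CommRing P] [Algebra A B]
    (τ : A →+* B) (ε π : B →+* P)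
    (hpush : IsPushout (CommRingCat.ofHom τ) (CommRingCat.ofHom (algebraMap A B))
      (CommRingCat.ofHom π) (CommRingCat.ofHom ε))
    {ι : Type*} [Fintype ι] [DecidableEq ι] (b : Module.Basis ι A B) (β : B) :
    @Algebra.norm B P _ _ π.toAlgebra (ε β) = τ (Algebra.norm A β) := by
  have hp : ∀ a, ε (algebraMap A B a) = π (τ a) := by
    intro a
    have := congrArg (fun f => f.hom a) hpush.w
    exact this.symm
  letI : Algebra (AlgVia τ) P := RingHom.toAlgebra (show AlgVia τ →+* P from π)
  letI : Algebra B P := ε.toAlgebra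
  letI : Algebra A P := (π.comp τ).toAlgebra
  haveI : IsScalarTower A (AlgVia τ) P := IsScalarTower.of_algebraMap_eq (fun a => rfl)
  haveI : IsScalarTower A B P := IsScalarTower.of_algebraMap_eq (fun a => (hp a).symm)
  haveI hpo : Algebra.IsPushout A (AlgVia τ) B P :=
    (CommRingCat.isPushout_iff_isPushout (R := A) (R' := AlgVia τ) (S := B) (S' := P)).mp hpush
  have key := norm_algebraMap_of_isPushout (A := A) (B := B) (B' := AlgVia τ) (P := P) b β
  exact key

section affine
variable {S : Scheme.{u}} (G : GroupoidScheme S)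

lemma appTop_comp_apply' {X Y Z : Scheme.{u}} (f : X ⟶ Y) (g : Y ⟶ Z) (a : Γ(Z, ⊤)) :
    (f ≫ g).appTop.hom a = f.appTop.hom (g.appTop.hom a) := by
  rw [Scheme.Hom.comp_appTop]; rfl

/-- The norm along `s♯` of `t♯ f` is an invariant function (affine groupoid). -/
theorem normST_mem_invariants [IsAffine G.U] [IsAffine G.R] (f : Γ(G.U, ⊤)) :
    G.normST f ∈ G.invariants := by
  letI : Algebra Γ(G.U, ⊤) Γ(G.R, ⊤) := G.s.appTop.hom.toAlgebra
  change G.s.appTop.hom (G.normST f) = G.t.appTop.hom (G.normST f)
  by_cases hfree : ∃ s : Finset Γ(G.R, ⊤), Nonempty (Module.Basis s Γ(G.U, ⊤) Γ(G.R, ⊤))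
  · obtain ⟨s, ⟨b⟩⟩ := hfree
    classical
    have hpt := (isPushout_appTop_of_isPullback (IsPullback.of_hasPullback G.s G.t)).flip
    have hps := (isPushout_appTop_of_isPullback (isPullback_c_snd G)).flip
    have h1 := norm_of_isPushout G.t.appTop.hom (pullback.fst G.s G.t).appTop.hom
      (pullback.snd G.s G.t).appTop.hom hpt b (G.t.appTop.hom f)
    have h2 := norm_of_isPushout G.s.appTop.hom G.c.appTop.hom
      (pullback.snd G.s G.t).appTop.hom hps b (G.t.appTop.hom f)
    have hct : G.c.appTop.hom (G.t.appTop.hom f) =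
        (pullback.fst G.s G.t).appTop.hom (G.t.appTop.hom f) := by
      rw [← appTop_comp_apply', c_t, appTop_comp_apply']
    rw [hct] at h2
    exact h2.symm.trans h1
  · have : G.normST f = 1 := Algebra.norm_eq_one_of_not_exists_basis _ hfree _
    rw [this, map_one, map_one]

end affine

end Groth.Agent.Lib.Helper37
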