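import Mathlib.LinearAlgebra.Matrix.ToLin
import Mathlib.LinearAlgebra.Matrix.SchurComplement
import Mathlib.Algebra.MvPolynomial.Eval
import Mathlib.LinearAlgebra.Matrix.Determinant.Basic

set_option autoImplicit false
universe u
open MvPolynomial

namespace Groth.Agent.Lib.Helper37

section normForm

variable {A B : Type u} [CommRing A] [CommRing B] {n : ℕ} {ι : Type*} [Fintype ι]

/-- The multi-variable "norm form" `det (1 + ∑ X_l N_l)`. -/
noncomputable def normForm (N : ι → Matrix (Fin n) (Fin n) A) : MvPolynomial (ι) A :=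
  (1 + ∑ l, (X l : MvPolynomial (ι) A) • (N l).map (C : A →+* MvPolynomial (ι) A)).det

theorem map_normForm (f : A →+* B) (N : ι → Matrix (Fin n) (Fin n) A) :
    MvPolynomial.map f (normForm N) = normForm (fun l => (N l).map f) := by
  unfold normForm
  rw [RingHom.map_det]
  congr 1
  ext a b
  simp [Matrix.map_apply, Matrix.add_apply, Matrix.sum_apply, Matrix.one_apply]

theorem eval₂Hom_normForm {k : Type u} [CommRing k] (x : A →+* k) (lam : ι → k)
    (N : ι → Matrix (Fin n) (Fin n) A) :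
    MvPolynomial.eval₂Hom x lam (normForm N) = (1 + ∑ l, lam l • (N l).map x).det := by
  unfold normForm
  rw [RingHom.map_det]
  congr 1
  ext a b
  simp [Matrix.map_apply, Matrix.add_apply, Matrix.sum_apply, Matrix.one_apply]
  split_ifs <;> simp

theorem fromBlocks_normMatrix (N : ι → Matrix (Fin n) (Fin n) B) :
    Matrix.fromBlocks (1 + ∑ l, (X l : MvPolynomial (ι) B) •
      (N l).map (C : B →+* MvPolynomial (ι) B)) 0 0 (1 : Matrix (Fin n) (Fin n) _) =
    1 + ∑ l, (X l : MvPolynomial (ι) B) •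
      (Matrix.fromBlocks (N l) 0 0 0).map (C : B →+* MvPolynomial (ι) B) := by
  ext (a | a) (b | b) <;>
  simp [Matrix.fromBlocks_apply₁₁, Matrix.fromBlocks_apply₁₂, Matrix.fromBlocks_apply₂₁,
    Matrix.fromBlocks_apply₂₂, Matrix.add_apply, Matrix.sum_apply, Matrix.one_apply]

theorem normForm_eq_of_conj (N N' : ι → Matrix (Fin n) (Fin n) B)
    (S S' : Matrix (Fin n ⊕ Fin n) (Fin n ⊕ Fin n) B) (h1 : S * S' = 1)
    (h : ∀ l, S * Matrix.fromBlocks (N l) 0 0 0 * S' = Matrix.fromBlocks (N' l) 0 0 0) :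
    normForm N = normForm N' := by
  have hdet : ∀ Q : Matrix (Fin n) (Fin n) (MvPolynomial (ι) B),
      (Matrix.fromBlocks Q 0 0 (1 : Matrix (Fin n) (Fin n) _)).det = Q.det := by
    intro Q
    rw [Matrix.det_fromBlocks_zero₂₁, Matrix.det_one, mul_one]
  unfold normForm
  rw [← hdet, ← hdet (1 + ∑ l, (X l : MvPolynomial (ι) B) • (N' l).map C),
    fromBlocks_normMatrix, fromBlocks_normMatrix]
  have hSc : S.map (C : B →+* MvPolynomial (ι) B) * S'.map (C : B →+* MvPolynomial (ι) B)
      = 1 := by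
    rw [← Matrix.map_mul, h1, Matrix.map_one _ (map_zero _) (map_one _)]
  have hconj : S.map (C : B →+* MvPolynomial (ι) B) *
      (1 + ∑ l, (X l : MvPolynomial (ι) B) • (Matrix.fromBlocks (N l) 0 0 0).map
        (C : B →+* MvPolynomial (ι) B)) * S'.map (C : B →+* MvPolynomial (ι) B) =
      1 + ∑ l, (X l : MvPolynomial (ι) B) • (Matrix.fromBlocks (N' l) 0 0 0).map
        (C : B →+* MvPolynomial (ι) B) := by
    rw [Matrix.mul_add, Matrix.add_mul, Matrix.mul_one, hSc, Matrix.mul_sum, Matrix.sum_mul]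
    congr 1
    refine Finset.sum_congr rfl fun l _ => ?_
    rw [Matrix.mul_smul, Matrix.smul_mul, ← h l, Matrix.map_mul, Matrix.map_mul]
  have := congrArg Matrix.det hconj
  have hdd : (S.map (C : B →+* MvPolynomial (ι) B)).det *
      (S'.map (C : B →+* MvPolynomial (ι) B)).det = 1 := by
    rw [← Matrix.det_mul, hSc, Matrix.det_one]
  rw [Matrix.det_mul, Matrix.det_mul, mul_comm, ← mul_assoc, mul_comm (Matrix.det (S'.map _)),
    hdd, one_mul] at this
  exact this

omit [Fintype ι] in
theorem eval₂Hom_eq_of_map_eq (σ τ : A →+* B) (p : MvPolynomial (ι) A)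
    (hp : MvPolynomial.map σ p = MvPolynomial.map τ p) {k : Type u} [CommRing k]
    (x₀ x₁ : A →+* k) (hx : ∀ c : A, σ c = τ c → x₀ c = x₁ c) (lam : ι → k) :
    MvPolynomial.eval₂Hom x₀ lam p = MvPolynomial.eval₂Hom x₁ lam p := by
  simp only [MvPolynomial.coe_eval₂Hom, MvPolynomial.eval₂_eq]
  refine Finset.sum_congr rfl fun d _ => ?_
  congr 1
  apply hx
  have := congrArg (MvPolynomial.coeff d) hp
  simpa [MvPolynomial.coeff_map] using this

end normForm

end Groth.Agent.Lib.Helper37
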