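import Groth.Agent.Lib.Helper37.GroupoidMatrix
import Groth.Agent.Lib.Helper37.NormForm
import Mathlib.LinearAlgebra.Matrix.ToLinearEquiv
import Mathlib.FieldTheory.IsAlgClosed.Basic
import Mathlib.RingTheory.Ideal.GoingUp
import Mathlib.RingTheory.IntegralClosure.IsIntegralClosure.Basic

/-!
# Orbits of geometric points of a finite locally free groupoid, ring level (helper37)

`exists_hom_of_agree`: for `A → B` finite projective (source map), a second map `τ : A → B`
(target map), a unit section, and the two pushout squares of the groupoid, two ring homs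
`x₀ x₁ : A → k` into an algebraically closed field agreeing on the equaliser of the two maps
are the target and source of a ring hom `B → k`.
-/

set_option autoImplicit false
set_option linter.style.haveILetI false
universe u
open Polynomial TensorProduct CategoryTheory CategoryTheory.Limits

namespace Groth.Agent.Lib.Helper37

section orbitAlg

variable {A B P : Type u} [CommRing A] [CommRing B] [CommRing P] [Algebra A B]

/-- The matrix of multiplication by `β` through a presentation. -/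
noncomputable def presMat {n : ℕ} (i : B →ₗ[A] (Fin n → A)) (r : (Fin n → A) →ₗ[A] B) (β : B) :
    Matrix (Fin n) (Fin n) A :=
  LinearMap.toMatrix' (i ∘ₗ LinearMap.mulLeft A β ∘ₗ r)

theorem presMat_apply {n : ℕ} (i : B →ₗ[A] (Fin n → A)) (r : (Fin n → A) →ₗ[A] B) (β : B)
    (j j' : Fin n) : presMat i r β j j' = i (β * r (Pi.single j' 1)) j := by
  unfold presMat
  rw [LinearMap.toMatrix'_apply]
  simp

/-- The vector of images of the generators `r e_j`. -/
def presVec {k : Type u} [CommRing k] {n : ℕ} (r : (Fin n → A) →ₗ[A] B) (ρ : B →+* k) :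
    Fin n → k := fun j => ρ (r (Pi.single j 1))

theorem r_eq_sum {n : ℕ} (r : (Fin n → A) →ₗ[A] B) (v : Fin n → A) :
    r v = ∑ j, v j • r (Pi.single j 1) := by
  conv_lhs => rw [← Finset.univ_sum_single v]
  rw [map_sum]
  refine Finset.sum_congr rfl fun j _ => ?_
  rw [← map_smul]
  congr 1
  ext j'
  simp [Pi.single_apply]

theorem presVec_vecMul {k : Type u} [CommRing k] {n : ℕ} (i : B →ₗ[A] (Fin n → A))
    (r : (Fin n → A) →ₗ[A] B) (hr : ∀ x, r (i x) = x) (ρ : B →+* k) (β : B) :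
    Matrix.vecMul (presVec r ρ) ((presMat i r β).map (ρ.comp (algebraMap A B))) =
      ρ β • presVec r ρ := by
  ext j'
  simp only [Matrix.vecMul, dotProduct, Matrix.map_apply, presMat_apply, presVec, Pi.smul_apply,
    smul_eq_mul, RingHom.comp_apply]
  have h := r_eq_sum r (i (β * r (Pi.single j' 1)))
  rw [hr] at h
  have h2 := congrArg ρ h
  rw [map_mul ρ, map_sum] at h2
  rw [h2]
  refine Finset.sum_congr rfl fun j _ => ?_
  rw [Algebra.smul_def, map_mul ρ, mul_comm]

theorem presVec_ne_zero {k : Type u} [CommRing k] [Nontrivial k] {n : ℕ}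
    (i : B →ₗ[A] (Fin n → A)) (r : (Fin n → A) →ₗ[A] B) (hr : ∀ x, r (i x) = x) (ρ : B →+* k) :
    presVec r ρ ≠ 0 := by
  intro h0
  have h := r_eq_sum r (i 1)
  rw [hr] at h
  have h2 := congrArg ρ h
  rw [map_one, map_sum] at h2
  have h3 : ∀ j, ρ (i 1 j • r (Pi.single j 1)) = 0 := by
    intro j
    rw [Algebra.smul_def, map_mul]
    have := congrFun h0 j
    simp only [presVec, Pi.zero_apply] at this
    rw [this, mul_zero]
  rw [Finset.sum_eq_zero (fun j _ => h3 j)] at h2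
  exact one_ne_zero h2

theorem map_normForm_eq_of_isPushout (τ : A →+* B) (c p₁ p₂ : B →+* P)
    (hps : IsPushout (CommRingCat.ofHom (algebraMap A B)) (CommRingCat.ofHom (algebraMap A B))
      (CommRingCat.ofHom p₂) (CommRingCat.ofHom c))
    (hpt : IsPushout (CommRingCat.ofHom τ) (CommRingCat.ofHom (algebraMap A B))
      (CommRingCat.ofHom p₂) (CommRingCat.ofHom p₁))
    (hct : ∀ a, c (τ a) = p₁ (τ a))
    {n : ℕ} (i : B →ₗ[A] (Fin n → A)) (r : (Fin n → A) →ₗ[A] B) (hr : ∀ x, r (i x) = x)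
    {ι : Type*} [Fintype ι] (a : ι → A) :
    MvPolynomial.map (algebraMap A B) (normForm (fun l => presMat i r (τ (a l)))) =
      MvPolynomial.map τ (normForm (fun l => presMat i r (τ (a l)))) := by
  letI : Algebra B P := p₂.toAlgebra
  obtain ⟨F₁, _, _, b₁, i₁, r₁, hr₁, hm₁⟩ :=
    exists_matrix_presentation_of_isPushout (algebraMap A B) c p₂ hps i r hr
  obtain ⟨F₂, _, _, b₂, i₂, r₂, hr₂, hm₂⟩ :=
    exists_matrix_presentation_of_isPushout τ p₁ p₂ hpt i r hr
  obtain ⟨S, S', h1, -, hS⟩ := exists_conj_matrices b₁ b₂ i₁ r₁ hr₁ i₂ r₂ hr₂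
  rw [map_normForm, map_normForm]
  refine normForm_eq_of_conj _ _ S S' h1 fun l => ?_
  have := hS (LinearMap.mulLeft B (c (τ (a l))))
  rw [hm₁] at this
  rw [hct, hm₂] at this
  exact this

/-- `β ↦ presMat i r β` as a linear map. -/
noncomputable def presMatLin {n : ℕ} (i : B →ₗ[A] (Fin n → A)) (r : (Fin n → A) →ₗ[A] B) :
    B →ₗ[A] Matrix (Fin n) (Fin n) A where
  toFun := presMat i r
  map_add' β β' := by
    ext j j'
    simp [presMat_apply, add_mul]
  map_smul' a β := by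
    ext j j'
    simp [presMat_apply]

theorem sum_smul_presMat_eq_zero {k : Type u} [Field k] [Algebra A k] {n : ℕ}
    (i : B →ₗ[A] (Fin n → A)) (r : (Fin n → A) →ₗ[A] B) {ι : Type*} [Fintype ι]
    (b : ι → B) (lam : ι → k) (h : ∑ l, lam l ⊗ₜ[A] b l = (0 : k ⊗[A] B)) :
    ∑ l, lam l • (presMat i r (b l)).map (algebraMap A k) = 0 := by
  have := congrArg (LinearMap.liftBaseChange k
    ((Algebra.linearMap A k).mapMatrix ∘ₗ presMatLin i r)) h
  rw [map_sum, map_zero] at this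
  rw [← this]
  refine Finset.sum_congr rfl fun l _ => ?_
  rw [LinearMap.liftBaseChange_tmul]
  rfl

theorem sum_eq_zero_of_tmul_eq_zero (τ : A →+* B) (e : B →+* A)
    (hes : ∀ a, e (algebraMap A B a) = a) (het : ∀ a, e (τ a) = a) (c p₁ p₂ : B →+* P)
    (hps : IsPushout (CommRingCat.ofHom (algebraMap A B)) (CommRingCat.ofHom (algebraMap A B))
      (CommRingCat.ofHom p₂) (CommRingCat.ofHom c))
    (hpt : IsPushout (CommRingCat.ofHom τ) (CommRingCat.ofHom (algebraMap A B))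
      (CommRingCat.ofHom p₂) (CommRingCat.ofHom p₁))
    (hct : ∀ a, c (τ a) = p₁ (τ a))
    {n : ℕ} (i : B →ₗ[A] (Fin n → A)) (r : (Fin n → A) →ₗ[A] B) (hr : ∀ x, r (i x) = x)
    {k : Type u} [Field k] [Algebra A k] (x₀ : A →+* k)
    (hx : ∀ a, algebraMap A B a = τ a → x₀ a = algebraMap A k a)
    {ι : Type*} [Fintype ι] (a : ι → A) (lam : ι → k)
    (h : ∑ l, lam l ⊗ₜ[A] τ (a l) = (0 : k ⊗[A] B)) :
    ∑ l, lam l * x₀ (a l) = 0 := by
  classical
  by_contra hθ
  set θ := ∑ l, lam l * x₀ (a l) with hθdef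
  have h0 := sum_smul_presMat_eq_zero i r (fun l => τ (a l)) lam h
  have hp := map_normForm_eq_of_isPushout τ c p₁ p₂ hps hpt hct i r hr a
  have key := eval₂Hom_eq_of_map_eq (algebraMap A B) τ _ hp x₀ (algebraMap A k) hx
    (fun l => (-θ⁻¹) * lam l)
  rw [eval₂Hom_normForm, eval₂Hom_normForm] at key
  have h1 : ∑ l, ((-θ⁻¹) * lam l) • (presMat i r (τ (a l))).map (algebraMap A k) = 0 := by
    simp_rw [mul_smul]
    rw [← Finset.smul_sum, h0, smul_zero]
  rw [h1, add_zero, Matrix.det_one] at key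
  set ρ₀ : B →+* k := x₀.comp e with hρ₀
  have hρ : ρ₀.comp (algebraMap A B) = x₀ := by
    ext a'
    simp [hρ₀, hes]
  have hw := presVec_ne_zero i r hr ρ₀
  have hvm : Matrix.vecMul (presVec r ρ₀)
      (1 + ∑ l, ((-θ⁻¹) * lam l) • (presMat i r (τ (a l))).map x₀) = 0 := by
    rw [Matrix.vecMul_add, Matrix.vecMul_one, Matrix.vecMul_sum]
    have : ∀ l, Matrix.vecMul (presVec r ρ₀)
        (((-θ⁻¹) * lam l) • (presMat i r (τ (a l))).map x₀) =
        ((-θ⁻¹) * (lam l * x₀ (a l))) • presVec r ρ₀ := by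
      intro l
      rw [Matrix.vecMul_smul, ← hρ, presVec_vecMul i r hr ρ₀, smul_smul, hρ]
      congr 1
      simp [hρ₀, het]
      ring
    simp_rw [this]
    rw [← Finset.sum_smul, ← Finset.mul_sum, ← hθdef, neg_mul, inv_mul_cancel₀ hθ, neg_smul,
      one_smul, add_neg_cancel]
  have hdet := Matrix.exists_vecMul_eq_zero_iff.mp ⟨_, hw, hvm⟩
  rw [hdet] at key
  exact zero_ne_one key

theorem exists_hom_of_agree [Module.Finite A B] (τ : A →+* B) (e : B →+* A)
    (hes : ∀ a, e (algebraMap A B a) = a) (het : ∀ a, e (τ a) = a) (c p₁ p₂ : B →+* P)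
    (hps : IsPushout (CommRingCat.ofHom (algebraMap A B)) (CommRingCat.ofHom (algebraMap A B))
      (CommRingCat.ofHom p₂) (CommRingCat.ofHom c))
    (hpt : IsPushout (CommRingCat.ofHom τ) (CommRingCat.ofHom (algebraMap A B))
      (CommRingCat.ofHom p₂) (CommRingCat.ofHom p₁))
    (hct : ∀ a, c (τ a) = p₁ (τ a))
    {n : ℕ} (i : B →ₗ[A] (Fin n → A)) (r : (Fin n → A) →ₗ[A] B) (hr : ∀ x, r (i x) = x)
    {k : Type u} [Field k] [IsAlgClosed k] (x₀ x₁ : A →+* k)
    (hx : ∀ a, algebraMap A B a = τ a → x₀ a = x₁ a) :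
    ∃ ρ : B →+* k, ρ.comp τ = x₀ ∧ ρ.comp (algebraMap A B) = x₁ := by
  letI : Algebra A k := x₁.toAlgebra
  let incl : B →ₐ[A] k ⊗[A] B := Algebra.TensorProduct.includeRight
  let X₀ : k ⊗[ℤ] A →ₐ[k] k := Algebra.TensorProduct.lift (Algebra.ofId k k) x₀.toIntAlgHom
    (fun _ _ => Commute.all _ _)
  let T : k ⊗[ℤ] A →ₐ[k] k ⊗[A] B := Algebra.TensorProduct.lift (Algebra.ofId k (k ⊗[A] B))
    ((incl.toRingHom.comp τ).toIntAlgHom) (fun _ _ => Commute.all _ _)
  have hX₀ : ∀ (l : k) (a : A), X₀ (l ⊗ₜ a) = l * x₀ a := by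
    intro l a
    simp [X₀]
  have hT : ∀ (l : k) (a : A), T (l ⊗ₜ a) = l ⊗ₜ[A] τ a := by
    intro l a
    simp only [T, Algebra.TensorProduct.lift_tmul]
    change algebraMap k (k ⊗[A] B) l * ((1 : k) ⊗ₜ[A] τ a) = _
    rw [Algebra.TensorProduct.algebraMap_apply, Algebra.TensorProduct.tmul_mul_tmul]
    simp
  have hker : RingHom.ker T.toRingHom ≤ RingHom.ker X₀.toRingHom := by
    intro F hF
    rw [RingHom.mem_ker] at hF ⊢
    obtain ⟨S, hS⟩ := TensorProduct.exists_finset F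
    rw [← Finset.sum_coe_sort S (fun p => p.1 ⊗ₜ[ℤ] p.2)] at hS
    subst hS
    change T _ = 0 at hF
    change X₀ _ = 0
    rw [map_sum] at hF ⊢
    simp only [hT, hX₀] at hF ⊢
    exact sum_eq_zero_of_tmul_eq_zero τ e hes het c p₁ p₂ hps hpt hct i r hr x₀ hx
      (fun p : S => p.1.2) (fun p : S => p.1.1) hF
  letI : Algebra (k ⊗[ℤ] A) (k ⊗[A] B) := T.toRingHom.toAlgebra
  haveI : IsScalarTower k (k ⊗[ℤ] A) (k ⊗[A] B) :=
    IsScalarTower.of_algebraMap_eq (fun c => (T.commutes c).symm)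
  haveI : Algebra.IsIntegral (k ⊗[ℤ] A) (k ⊗[A] B) := Algebra.IsIntegral.tower_top k
  haveI : (RingHom.ker X₀.toRingHom).IsPrime := RingHom.ker_isPrime _
  obtain ⟨Q, -, hQ, hQc⟩ := Ideal.exists_ideal_over_prime_of_isIntegral
    (RingHom.ker X₀.toRingHom) (⊥ : Ideal (k ⊗[A] B))
    (by rw [← RingHom.ker_eq_comap_bot]; exact hker)
  have hbij : Function.Bijective (algebraMap k ((k ⊗[A] B) ⧸ Q)) :=
    IsAlgClosed.algebraMap_bijective_of_isIntegral
  let φ := (RingEquiv.ofBijective (algebraMap k ((k ⊗[A] B) ⧸ Q)) hbij).symm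
  have hφ : ∀ l : k, φ (algebraMap k ((k ⊗[A] B) ⧸ Q) l) = l := fun l =>
    (RingEquiv.ofBijective (algebraMap k ((k ⊗[A] B) ⧸ Q)) hbij).symm_apply_apply l
  refine ⟨(φ : (k ⊗[A] B) ⧸ Q →+* k).comp ((Ideal.Quotient.mk Q).comp incl.toRingHom), ?_, ?_⟩
  · ext a
    simp only [RingHom.comp_apply]
    have hmem : ((1 : k) ⊗ₜ[ℤ] a - x₀ a ⊗ₜ[ℤ] (1 : A) : k ⊗[ℤ] A) ∈ RingHom.ker X₀.toRingHom := by
      rw [RingHom.mem_ker]
      change X₀ _ = 0
      rw [map_sub, hX₀, hX₀]
      simp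
    rw [← hQc, Ideal.mem_comap] at hmem
    change T _ ∈ Q at hmem
    rw [map_sub, hT, hT, ← Ideal.Quotient.mk_eq_mk_iff_sub_mem] at hmem
    have h2 : (Ideal.Quotient.mk Q) (incl.toRingHom (τ a)) =
        algebraMap k ((k ⊗[A] B) ⧸ Q) (x₀ a) := by
      rw [show incl.toRingHom (τ a) = (1 : k) ⊗ₜ[A] τ a from rfl, hmem, map_one]
      rfl
    rw [h2]
    exact hφ _
  · ext a
    simp only [RingHom.comp_apply]
    have h2 : (Ideal.Quotient.mk Q) (incl.toRingHom (algebraMap A B a)) =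
        algebraMap k ((k ⊗[A] B) ⧸ Q) (x₁ a) := by
      rw [show incl.toRingHom (algebraMap A B a) = (1 : k) ⊗ₜ[A] algebraMap A B a from rfl,
        Algebra.algebraMap_eq_smul_one, ← TensorProduct.smul_tmul, Algebra.smul_def, mul_one]
      rfl
    rw [h2]
    exact hφ _

end orbitAlg

theorem exists_ringHom_extension_of_isIntegral {C A : Type u} [CommRing C] [CommRing A]
    [Algebra C A] [Algebra.IsIntegral C A] (hinj : Function.Injective (algebraMap C A))
    {k : Type u} [Field k] [IsAlgClosed k] (μ : C →+* k) :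
    ∃ ξ : A →+* k, ξ.comp (algebraMap C A) = μ := by
  haveI : (RingHom.ker μ).IsPrime := RingHom.ker_isPrime μ
  obtain ⟨p, -, hp, hpc⟩ := Ideal.exists_ideal_over_prime_of_isIntegral (RingHom.ker μ)
    (⊥ : Ideal A) (by
      rw [← RingHom.ker_eq_comap_bot, (RingHom.injective_iff_ker_eq_bot _).mp hinj]
      exact bot_le)
  have hμ : ∀ c ∈ p.comap (algebraMap C A), μ c = 0 := by
    intro c hc
    rw [hpc] at hc
    exact hc
  letI : Algebra (C ⧸ p.comap (algebraMap C A)) k := (Ideal.Quotient.lift _ μ hμ).toAlgebra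
  have hinj1 : Function.Injective (algebraMap (C ⧸ p.comap (algebraMap C A)) k) := by
    rw [RingHom.injective_iff_ker_eq_bot, eq_bot_iff]
    rintro x hx
    obtain ⟨c, rfl⟩ := Ideal.Quotient.mk_surjective x
    rw [RingHom.mem_ker] at hx
    change Ideal.Quotient.lift _ μ hμ (Ideal.Quotient.mk _ c) = 0 at hx
    rw [Ideal.Quotient.lift_mk] at hx
    rw [Ideal.mem_bot, Ideal.Quotient.eq_zero_iff_mem, hpc]
    exact hx
  have hinj2 : Function.Injective (algebraMap (C ⧸ p.comap (algebraMap C A)) (A ⧸ p)) :=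
    Ideal.algebraMap_quotient_injective
  haveI : IsDomain (C ⧸ p.comap (algebraMap C A)) := Ideal.Quotient.isDomain _
  haveI : Module.IsTorsionFree (C ⧸ p.comap (algebraMap C A)) k :=
    Module.isTorsionFree_iff_algebraMap_injective.mpr hinj1
  haveI : Module.IsTorsionFree (C ⧸ p.comap (algebraMap C A)) (A ⧸ p) :=
    Module.isTorsionFree_iff_algebraMap_injective.mpr hinj2
  let f : (A ⧸ p) →ₐ[C ⧸ p.comap (algebraMap C A)] k := IsAlgClosed.lift
  refine ⟨f.toRingHom.comp (Ideal.Quotient.mk p), ?_⟩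
  ext c
  simp only [RingHom.comp_apply]
  have : (Ideal.Quotient.mk p) (algebraMap C A c) =
      algebraMap (C ⧸ p.comap (algebraMap C A)) (A ⧸ p) (Ideal.Quotient.mk _ c) := rfl
  rw [this]
  change f (algebraMap _ _ _) = _
  rw [f.commutes]
  rfl

end Groth.Agent.Lib.Helper37
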