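import Groth.Agent.Lib.Helper37.GroupoidIntegral
import Mathlib.LinearAlgebra.Eigenspace.Charpoly
import Mathlib.RingTheory.Ideal.Over

set_option autoImplicit false
set_option linter.style.haveILetI false
universe u v w
open Polynomial TensorProduct

namespace Groth.Agent.Lib.Helper37

section pnm

variable {A : Type u} [CommRing A] {B : Type u} [CommRing B] [Algebra A B]
  {F : Type u} [AddCommGroup F] [Module A F] [Module.Free A F] [Module.Finite A F]

/-- The "projective norm" of `b : B`, computed through a presentation `B ⇄ F` of the finite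
projective `A`-module `B` as a retract of a finite free module: `det (1 - i (1 - b) r)`, written
as the value at `1` of the presentation-charpoly of `1 - b`. -/
noncomputable def pnm (i : B →ₗ[A] F) (r : F →ₗ[A] B) (b : B) : A :=
  (pch i r (LinearMap.mulLeft A (1 - b))).eval 1

/-- Field-level criterion: over a field, the value at `1` of the presentation-charpoly of
`1 - v` vanishes iff `v` is a zero divisor. -/
theorem pch_eval_one_eq_zero_iff {K : Type u} [Field K] {V : Type u} [CommRing V] [Algebra K V]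
    {F' : Type u} [AddCommGroup F'] [Module K F'] [Module.Free K F'] [Module.Finite K F']
    (i' : V →ₗ[K] F') (r' : F' →ₗ[K] V) (hr : ∀ x, r' (i' x) = x) (v : V) :
    (pch i' r' (LinearMap.mulLeft K (1 - v))).eval 1 = 0 ↔ ∃ x : V, x ≠ 0 ∧ v * x = 0 := by
  unfold pch
  rw [← Polynomial.IsRoot.def, ← Module.End.hasEigenvalue_iff_isRoot_charpoly,
    Module.End.hasEigenvalue_iff, Submodule.ne_bot_iff]
  constructor
  · rintro ⟨w, hw, hw0⟩
    rw [Module.End.mem_eigenspace_iff, one_smul] at hw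
    simp only [LinearMap.comp_apply, LinearMap.mulLeft_apply] at hw
    refine ⟨r' w, ?_, ?_⟩
    · intro h0
      rw [h0, mul_zero, map_zero] at hw
      exact hw0 hw.symm
    · have := congrArg r' hw
      rw [hr] at this
      have h2 : (1 - v) * r' w = r' w - v * r' w := by ring
      rw [h2] at this
      exact sub_eq_self.mp this
  · rintro ⟨x, hx, hvx⟩
    refine ⟨i' x, ?_, ?_⟩
    · rw [Module.End.mem_eigenspace_iff, one_smul]
      simp only [LinearMap.comp_apply, LinearMap.mulLeft_apply, hr]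
      have h2 : (1 - v) * x = x := by rw [sub_mul, one_mul, hvx, sub_zero]
      rw [h2]
    · intro h0
      apply hx
      have := congrArg r' h0
      rwa [hr, map_zero] at this

/-- Base change of the projective norm along `A → K`. -/
theorem exists_presentation_tensor (K : Type u) [CommRing K] [Algebra A K]
    (i : B →ₗ[A] F) (r : F →ₗ[A] B) (hr : ∀ x, r (i x) = x) (b : B) :
    ∃ (i' : K ⊗[A] B →ₗ[K] K ⊗[A] F) (r' : K ⊗[A] F →ₗ[K] K ⊗[A] B), (∀ x, r' (i' x) = x) ∧
      algebraMap A K (pnm i r b) =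
        (pch i' r' (LinearMap.mulLeft K (1 - (1 : K) ⊗ₜ[A] b))).eval 1 := by
  obtain ⟨i', r', h1, h2⟩ := exists_presentation_baseChange (B' := K) (P := K ⊗[A] B)
    (TensorProduct.mk A K B 1) (TensorProduct.isBaseChange A B K) i r hr
    (LinearMap.mulLeft A (1 - b)) (LinearMap.mulLeft K (1 - (1 : K) ⊗ₜ[A] b))
    (by
      intro x
      simp only [LinearMap.mulLeft_apply, TensorProduct.mk_apply]
      rw [sub_mul, one_mul, Algebra.TensorProduct.tmul_mul_tmul, one_mul, sub_mul, one_mul,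
        TensorProduct.tmul_sub])
  refine ⟨i', r', h1, ?_⟩
  rw [h2, Polynomial.eval_one_map]
  rfl

omit [Algebra A B] in
theorem exists_ne_zero_mul_eq_zero_of_not_isUnit {K : Type*} [Field K] {V : Type*} [CommRing V]
    [Algebra K V] [Module.Finite K V] (v : V) (hv : ¬ IsUnit v) : ∃ x : V, x ≠ 0 ∧ v * x = 0 := by
  by_contra hcon
  push Not at hcon
  apply hv
  have hinj : Function.Injective (LinearMap.mulLeft K v) := by
    rw [← LinearMap.ker_eq_bot, LinearMap.ker_eq_bot']
    intro x hx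
    by_contra hx0
    exact hcon x hx0 hx
  obtain ⟨y, hy⟩ := (LinearMap.injective_iff_surjective.mp hinj) 1
  exact IsUnit.of_mul_eq_one y hy

/-- If `b` lies in a prime `𝔯` of `B`, the projective norm of `b` lies in `𝔯 ∩ A`. -/
theorem pnm_mem_comap_of_mem [Module.Finite A B] (i : B →ₗ[A] F) (r : F →ₗ[A] B)
    (hr : ∀ x, r (i x) = x) (b : B) (𝔯 : Ideal B) [𝔯.IsPrime] (hb : b ∈ 𝔯) :
    pnm i r b ∈ 𝔯.comap (algebraMap A B) := by
  obtain ⟨i', r', h1, h2⟩ := exists_presentation_tensor 𝔯.ResidueField i r hr b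
  let μ : 𝔯.ResidueField ⊗[A] B →ₐ[𝔯.ResidueField] 𝔯.ResidueField :=
    Algebra.TensorProduct.lift (Algebra.ofId _ _) (IsScalarTower.toAlgHom A B 𝔯.ResidueField)
      (fun _ _ => Commute.all _ _)
  have hμ : μ ((1 : 𝔯.ResidueField) ⊗ₜ[A] b) = 0 := by
    simp only [μ, Algebra.TensorProduct.lift_tmul, map_one, one_mul]
    exact Ideal.algebraMap_residueField_eq_zero.mpr hb
  have hnu : ¬ IsUnit ((1 : 𝔯.ResidueField) ⊗ₜ[A] b) := by
    intro hu
    have := hu.map μ
    rw [hμ] at this
    exact not_isUnit_zero this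
  have hz := (pch_eval_one_eq_zero_iff i' r' h1 _).mpr
    (exists_ne_zero_mul_eq_zero_of_not_isUnit (K := 𝔯.ResidueField) _ hnu)
  rw [← h2, IsScalarTower.algebraMap_apply A B 𝔯.ResidueField] at hz
  rw [Ideal.mem_comap]
  exact Ideal.algebraMap_residueField_eq_zero.mp hz

/-- If the projective norm of `b` lies in a prime `𝔴` of `A`, some prime of `B` over `𝔴`
contains `b`. -/
theorem exists_prime_of_pnm_mem [Module.Finite A B] (i : B →ₗ[A] F) (r : F →ₗ[A] B)
    (hr : ∀ x, r (i x) = x) (b : B) (𝔴 : Ideal A) [𝔴.IsPrime] (h : pnm i r b ∈ 𝔴) :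
    ∃ 𝔯 : Ideal B, 𝔯.IsPrime ∧ b ∈ 𝔯 ∧ 𝔯.comap (algebraMap A B) = 𝔴 := by
  obtain ⟨i', r', h1, h2⟩ := exists_presentation_tensor 𝔴.ResidueField i r hr b
  have h0 : algebraMap A 𝔴.ResidueField (pnm i r b) = 0 :=
    Ideal.algebraMap_residueField_eq_zero.mpr h
  rw [h2] at h0
  obtain ⟨x, hx0, hx⟩ := (pch_eval_one_eq_zero_iff i' r' h1 _).mp h0
  have hnu : ¬ IsUnit ((1 : 𝔴.ResidueField) ⊗ₜ[A] b) := by
    intro hu
    apply hx0
    exact (hu.mul_right_eq_zero).mp hx
  obtain ⟨𝔪, hmax, hmem⟩ := exists_max_ideal_of_mem_nonunits hnu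
  haveI := hmax.isPrime
  refine ⟨𝔪.comap (Algebra.TensorProduct.includeRight :
    B →ₐ[A] 𝔴.ResidueField ⊗[A] B), inferInstance, ?_, ?_⟩
  · rw [Ideal.mem_comap]
    exact hmem
  · have hcomp : (Algebra.TensorProduct.includeRight :
        B →ₐ[A] 𝔴.ResidueField ⊗[A] B).toRingHom.comp (algebraMap A B) =
        (algebraMap 𝔴.ResidueField (𝔴.ResidueField ⊗[A] B)).comp
          (algebraMap A 𝔴.ResidueField) := by
      ext a
      simp [Algebra.algebraMap_eq_smul_one]
    have hcc : Ideal.comap (algebraMap A B) (Ideal.comap (Algebra.TensorProduct.includeRight :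
        B →ₐ[A] 𝔴.ResidueField ⊗[A] B) 𝔪) = Ideal.comap ((Algebra.TensorProduct.includeRight :
        B →ₐ[A] 𝔴.ResidueField ⊗[A] B).toRingHom.comp (algebraMap A B)) 𝔪 := rfl
    rw [hcc, hcomp, ← Ideal.comap_comap]
    have hbot : 𝔪.comap (algebraMap 𝔴.ResidueField (𝔴.ResidueField ⊗[A] B)) = ⊥ :=
      Ideal.eq_bot_of_prime _
    rw [hbot]
    exact Ideal.ker_algebraMap_residueField 𝔴

end pnm

end Groth.Agent.Lib.Helper37
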