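import Groth.Agent.Lib.Helper37.GroupoidConj

/-!
# The pullbacks of the stabilizer along `s` and along `t` are isomorphic over `R` (helper37)
-/

set_option autoImplicit false

universe u

namespace Groth.Agent.Lib.Helper37

open CategoryTheory CategoryTheory.Limits AlgebraicGeometry Grpd

variable {S : Scheme.{u}} (G : GroupoidScheme S) {T : Scheme.{u}}

section abstract

variable {St : Scheme.{u}} {σ : St ⟶ G.R} {π : St ⟶ G.U} (hσ : IsPullback σ π G.j G.diag)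

include hσ

lemma absStab_t : σ ≫ G.t = π := ((comp_j_eq_comp_diag_iff G _ _).mp hσ.w).1

lemma absStab_s : σ ≫ G.s = π := ((comp_j_eq_comp_diag_iff G _ _).mp hσ.w).2

lemma exists_absStabLift (γ : T ⟶ G.R) (h : γ ≫ G.t = γ ≫ G.s) :
    ∃ l : T ⟶ St, l ≫ σ = γ :=
  ⟨hσ.lift γ (γ ≫ G.t) ((comp_j_eq_comp_diag_iff G _ _).mpr ⟨rfl, h.symm⟩), hσ.lift_fst _ _ _⟩

lemma absStab_hom_ext {a b : T ⟶ St} (h : a ≫ σ = b ≫ σ) : a = b := by
  apply hσ.hom_ext h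
  rw [← absStab_t G hσ, ← Category.assoc, ← Category.assoc, h]

omit hσ in
lemma conjR_conjL' (r r' δ γ : T ⟶ G.R) (ht : δ ≫ G.t = r ≫ G.s) (hs : δ ≫ G.s = r ≫ G.s)
    (hr : r' = r) (hγ : γ = conjL G r δ ht hs)
    (ht' : γ ≫ G.t = r' ≫ G.t) (hs' : γ ≫ G.s = r' ≫ G.t) :
    conjR G r' γ ht' hs' = δ := by
  subst hr
  exact conjR_conjL G r' δ ht hs γ hγ ht' hs'

omit hσ in
lemma conjL_conjR' (r r' δ γ : T ⟶ G.R) (ht : γ ≫ G.t = r ≫ G.t) (hs : γ ≫ G.s = r ≫ G.t)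
    (hr : r' = r) (hδ : δ = conjR G r γ ht hs)
    (ht' : δ ≫ G.t = r' ≫ G.s) (hs' : δ ≫ G.s = r' ≫ G.s) :
    conjL G r' δ ht' hs' = γ := by
  subst hr
  exact conjL_conjR G r' γ ht hs δ hδ ht' hs'

/-- `Stab ×_{U,t} R` is also the pullback of `Stab → U` along `s`, via `(γ, r) ↦ (r⁻¹ γ r, r)`. -/
theorem exists_isPullback_absStab_conj {Z : Scheme.{u}} {a : Z ⟶ St} {b : Z ⟶ G.R}
    (h : IsPullback a b π G.t) :
    ∃ aₛ : Z ⟶ St, IsPullback aₛ b π G.s := by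
  have hγt : (a ≫ σ) ≫ G.t = b ≫ G.t := by
    rw [Category.assoc, absStab_t G hσ, h.w]
  have hγs : (a ≫ σ) ≫ G.s = b ≫ G.t := by
    rw [Category.assoc, absStab_s G hσ, h.w]
  obtain ⟨aₛ, ha₁⟩ : ∃ aₛ : Z ⟶ St, aₛ ≫ σ = conjR G b (a ≫ σ) hγt hγs :=
    exists_absStabLift G hσ _ (by rw [conjR_t, conjR_s])
  have ha₂ : aₛ ≫ π = b ≫ G.s := by
    have e : aₛ ≫ π = (aₛ ≫ σ) ≫ G.t := by rw [Category.assoc, absStab_t G hσ]
    rw [e, ha₁, conjR_t]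
  -- the lift
  have key : ∀ (c : PullbackCone π G.s), ∃ l : c.pt ⟶ Z, l ≫ aₛ = c.fst ∧ l ≫ b = c.snd := by
    intro c
    have hδt : (c.fst ≫ σ) ≫ G.t = c.snd ≫ G.s := by
      rw [Category.assoc, absStab_t G hσ, c.condition]
    have hδs : (c.fst ≫ σ) ≫ G.s = c.snd ≫ G.s := by
      rw [Category.assoc, absStab_s G hσ, c.condition]
    obtain ⟨l₁, hl₁⟩ : ∃ l₁ : c.pt ⟶ St, l₁ ≫ σ = conjL G c.snd (c.fst ≫ σ) hδt hδs :=
      exists_absStabLift G hσ _ (by rw [conjL_t, conjL_s])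
    have hl₁π : l₁ ≫ π = c.snd ≫ G.t := by
      have e : l₁ ≫ π = (l₁ ≫ σ) ≫ G.t := by rw [Category.assoc, absStab_t G hσ]
      rw [e, hl₁, conjL_t]
    refine ⟨h.lift l₁ c.snd hl₁π, ?_, h.lift_snd _ _ _⟩
    apply absStab_hom_ext G hσ
    rw [Category.assoc, ha₁, precomp_conjR]
    refine conjR_conjL' G c.snd _ (c.fst ≫ σ) _ hδt hδs (h.lift_snd _ _ _) ?_ _ _
    rw [← Category.assoc, h.lift_fst, hl₁]
  choose l hl₁ hl₂ using key
  refine ⟨aₛ, ⟨⟨ha₂⟩, ⟨PullbackCone.IsLimit.mk _ l hl₁ hl₂ (fun c m hm1 hm2 => ?_)⟩⟩⟩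
  -- uniqueness
  have hδt : (c.fst ≫ σ) ≫ G.t = c.snd ≫ G.s := by
    rw [Category.assoc, absStab_t G hσ, c.condition]
  have hδs : (c.fst ≫ σ) ≫ G.s = c.snd ≫ G.s := by
    rw [Category.assoc, absStab_s G hσ, c.condition]
  have huniq : ∀ m : c.pt ⟶ Z, m ≫ aₛ = c.fst → m ≫ b = c.snd →
      m ≫ a ≫ σ = conjL G c.snd (c.fst ≫ σ) hδt hδs := by
    intro m hm1 hm2
    refine (conjL_conjR' G (m ≫ b) c.snd (c.fst ≫ σ) (m ≫ a ≫ σ)
      (by rw [Category.assoc, Category.assoc, ← Category.assoc a, hγt, Category.assoc])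
      (by rw [Category.assoc, Category.assoc, ← Category.assoc a, hγs, Category.assoc])
      hm2.symm ?_ hδt hδs).symm
    rw [← hm1, Category.assoc, ha₁, precomp_conjR]
  apply h.hom_ext
  · apply absStab_hom_ext G hσ
    rw [Category.assoc, Category.assoc, huniq m hm1 hm2, huniq (l c) (hl₁ c) (hl₂ c)]
  · exact hm2.trans (hl₂ c).symm

end abstract

/-- `Stab ×_{U,t} R` is also the pullback of `Stab → U` along `s`, via `(γ, r) ↦ (r⁻¹ γ r, r)`. -/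
theorem exists_isPullback_stab_conj :
    ∃ aₛ : pullback (pullback.snd G.j G.diag) G.t ⟶ pullback G.j G.diag,
      IsPullback aₛ (pullback.snd (pullback.snd G.j G.diag) G.t) (pullback.snd G.j G.diag) G.s :=
  exists_isPullback_absStab_conj G (IsPullback.of_hasPullback G.j G.diag)
    (IsPullback.of_hasPullback (pullback.snd G.j G.diag) G.t)

end Groth.Agent.Lib.Helper37
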