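import Groth.Agent.Lib.Helper37.GroupoidDif

/-!
# Translating the fibres of `s` by an arrow (helper37)

For `T'`-points `a b` of `U` and an arrow `γ : a ⟶ b` (a `T'`-point of `R` with `s γ = a`,
`t γ = b`), right multiplication by `γ⁻¹` is an isomorphism `s⁻¹(a) ≅ s⁻¹(b)` over `T'`.
-/

set_option autoImplicit false

universe u

namespace Groth.Agent.Lib.Helper37

open CategoryTheory CategoryTheory.Limits AlgebraicGeometry Grpd

variable {S : Scheme.{u}} (G : GroupoidScheme S)

theorem exists_iso_pullback_s {T' : Scheme.{u}} (a b : T' ⟶ G.U) (γ : T' ⟶ G.R)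
    (hγt : γ ≫ G.t = b) (hγs : γ ≫ G.s = a) :
    ∃ φ : pullback G.s a ≅ pullback G.s b,
      φ.hom ≫ pullback.snd G.s b = pullback.snd G.s a ∧
      ∃ h : pullback.fst G.s a ≫ G.s = ((pullback.snd G.s a ≫ γ) ≫ G.i) ≫ G.t,
        φ.hom ≫ pullback.fst G.s b =
          gcomp G (pullback.fst G.s a) ((pullback.snd G.s a ≫ γ) ≫ G.i) h := by
  -- the forward map
  have h₁ : pullback.fst G.s a ≫ G.s = ((pullback.snd G.s a ≫ γ) ≫ G.i) ≫ G.t := by
    rw [Category.assoc _ G.i, G.i_t, Category.assoc, hγs, pullback.condition]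
  have h₁' : gcomp G (pullback.fst G.s a) ((pullback.snd G.s a ≫ γ) ≫ G.i) h₁ ≫ G.s =
      pullback.snd G.s a ≫ b := by
    rw [gcomp_s, Category.assoc _ G.i, G.i_s, Category.assoc, hγt]
  -- the backward map
  have h₂ : pullback.fst G.s b ≫ G.s = (pullback.snd G.s b ≫ γ) ≫ G.t := by
    rw [Category.assoc, hγt, pullback.condition]
  have h₂' : gcomp G (pullback.fst G.s b) (pullback.snd G.s b ≫ γ) h₂ ≫ G.s =
      pullback.snd G.s b ≫ a := by
    rw [gcomp_s, Category.assoc, hγs]
  refine ⟨⟨pullback.lift _ _ h₁', pullback.lift _ _ h₂', ?_, ?_⟩, pullback.lift_snd _ _ _,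
    h₁, pullback.lift_fst _ _ _⟩
  · apply pullback.hom_ext
    · rw [Category.assoc, pullback.lift_fst, precomp_gcomp, Category.id_comp]
      have e1 : pullback.lift _ _ h₁' ≫ pullback.fst G.s b =
          gcomp G (pullback.fst G.s a) ((pullback.snd G.s a ≫ γ) ≫ G.i) h₁ :=
        pullback.lift_fst _ _ _
      have e2 : pullback.lift _ _ h₁' ≫ pullback.snd G.s b ≫ γ = pullback.snd G.s a ≫ γ := by
        rw [← Category.assoc, pullback.lift_snd]
      rw [gcomp_congr G e1 e2 _ (by rw [gcomp_s, Category.assoc _ G.i, G.i_s])]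
      exact gcomp_i_gcomp' G _ _ (by rw [Category.assoc, hγs, pullback.condition]) _ _
    · rw [Category.assoc, pullback.lift_snd, pullback.lift_snd, Category.id_comp]
  · apply pullback.hom_ext
    · rw [Category.assoc, pullback.lift_fst, precomp_gcomp, Category.id_comp]
      have e1 : pullback.lift _ _ h₂' ≫ pullback.fst G.s a =
          gcomp G (pullback.fst G.s b) (pullback.snd G.s b ≫ γ) h₂ :=
        pullback.lift_fst _ _ _
      have e2 : pullback.lift _ _ h₂' ≫ (pullback.snd G.s a ≫ γ) ≫ G.i =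
          (pullback.snd G.s b ≫ γ) ≫ G.i := by
        rw [← Category.assoc, ← Category.assoc, pullback.lift_snd]
      rw [gcomp_congr G e1 e2 _ (by rw [gcomp_s, Category.assoc _ G.i, G.i_t])]
      exact gcomp_gcomp_i G _ _ h₂ _
    · rw [Category.assoc, pullback.lift_snd, pullback.lift_snd, Category.id_comp]

end Groth.Agent.Lib.Helper37
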