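import Mathlib
import Groth.Prelude
import Groth.Agent.Lib.Helper37.GroupoidTranslate
import Groth.Agent.Lib.Helper55.FieldExtLocalDim
import Groth.Agent.Lib.Helper55.LocalDimTop

set_option autoImplicit false
universe u

namespace Groth.Agent.Lib.Helper37.GD

open CategoryTheory CategoryTheory.Limits AlgebraicGeometry Grpd

variable {S : Scheme.{u}} (G : GroupoidScheme S) {k : Type u} [Field k]
  (eU : G.U ≅ Spec (CommRingCat.of k))

include eU in
/-- the fibres of `s` over field-valued points have the same local dimensions as `R`. -/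
theorem localDim_pullback_s [LocallyOfFiniteType G.s] {K : Type u} [Field K]
    (c : Spec (CommRingCat.of K) ⟶ G.U) (y : ↥(pullback G.s c)) :
    FlatMor.localDim ↥(pullback G.s c) y = FlatMor.localDim ↥G.R (pullback.fst G.s c y) := by
  let ψ : CommRingCat.of k ⟶ CommRingCat.of K := Spec.preimage (c ≫ eU.hom)
  have hψ : Spec.map ψ = c ≫ eU.hom := Spec.map_preimage _
  letI : Algebra k K := ψ.hom.toAlgebra
  have hψ' : Spec.map (CommRingCat.ofHom (algebraMap k K)) = c ≫ eU.hom := hψ
  let θ : pullback G.s c ⟶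
      pullback (G.s ≫ eU.hom) (Spec.map (CommRingCat.ofHom (algebraMap k K))) :=
    pullback.map _ _ _ _ (𝟙 _) (𝟙 _) eU.hom (by rw [Category.id_comp])
      (by rw [Category.id_comp, hψ'])
  have hθ : IsIso θ := inferInstance
  have h1 := Groth.Agent.Lib.Helper55.localDim_baseChange_field_eq K (G.s ≫ eU.hom) (θ y)
  have h2 := Groth.Agent.Lib.Helper55.localDim_eq_of_isOpenEmbedding θ θ.isOpenEmbedding y
  have h3 : (pullback.fst (G.s ≫ eU.hom) (Spec.map (CommRingCat.ofHom (algebraMap k K))))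
      (θ y) = pullback.fst G.s c y := by
    rw [← Scheme.Hom.comp_apply, pullback.lift_fst, Category.comp_id]
  rw [h2, h1, h3]

include eU in
/-- the local dimension of `R` is the same at all points. -/
theorem localDim_eq [LocallyOfFiniteType G.s] (r : G.R) (u₀ : G.U) :
    FlatMor.localDim ↥G.R r = FlatMor.localDim ↥G.R (G.e u₀) := by
  haveI : Subsingleton G.U := eU.hom.homeomorph.injective.subsingleton
  let K : Type u := G.R.residueField r
  obtain ⟨r', x₀, hr'⟩ : ∃ (r' : Spec (CommRingCat.of K) ⟶ G.R) (x₀ : Spec (CommRingCat.of K)),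
      r' x₀ = r :=
    ⟨G.R.fromSpecResidueField r, IsLocalRing.closedPoint K, Scheme.fromSpecResidueField_apply _ _⟩
  obtain ⟨φ, hφsnd, h, hφfst⟩ := exists_iso_pullback_s G (r' ≫ G.s) (r' ≫ G.t) r' rfl rfl
  have hb : ((r' ≫ G.t) ≫ G.e) ≫ G.s = 𝟙 _ ≫ (r' ≫ G.t) := by
    rw [Category.assoc, G.e_s, Category.comp_id, Category.id_comp]
  have ha : r' ≫ G.s = 𝟙 _ ≫ (r' ≫ G.s) := by rw [Category.id_comp]
  have e1 : pullback.lift r' (𝟙 _) ha ≫ φ.hom = pullback.lift ((r' ≫ G.t) ≫ G.e) (𝟙 _) hb := by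
    apply pullback.hom_ext
    · rw [Category.assoc, hφfst, precomp_gcomp]
      have e1 : pullback.lift r' (𝟙 _) ha ≫ pullback.fst G.s (r' ≫ G.s) = r' :=
        pullback.lift_fst _ _ _
      have e2 : pullback.lift r' (𝟙 _) ha ≫ (pullback.snd G.s (r' ≫ G.s) ≫ r') ≫ G.i =
          r' ≫ G.i := by
        rw [← Category.assoc, ← Category.assoc, pullback.lift_snd, Category.id_comp]
      rw [gcomp_congr G e1 e2 _ (by rw [Category.assoc, G.i_t]), gcomp_i G r' _ rfl,
        pullback.lift_fst, Category.assoc]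
    · rw [Category.assoc, hφsnd, pullback.lift_snd, pullback.lift_snd]
  have s1 := localDim_pullback_s G eU (r' ≫ G.s) ((pullback.lift r' (𝟙 _) ha) x₀)
  have s2 := Groth.Agent.Lib.Helper55.localDim_eq_of_isOpenEmbedding φ.hom φ.hom.isOpenEmbedding
    ((pullback.lift r' (𝟙 _) ha) x₀)
  have s3 := localDim_pullback_s G eU (r' ≫ G.t)
    ((pullback.lift ((r' ≫ G.t) ≫ G.e) (𝟙 _) hb) x₀)
  rw [← Scheme.Hom.comp_apply, pullback.lift_fst, hr'] at s1
  rw [← Scheme.Hom.comp_apply, e1] at s2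
  rw [← Scheme.Hom.comp_apply, pullback.lift_fst, Scheme.Hom.comp_apply] at s3
  rw [← s1, s2, s3]
  exact congrArg _ (congrArg _ (Subsingleton.elim _ _))

end Groth.Agent.Lib.Helper37.GD
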