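import Mathlib
import Groth.Prelude
import Groth.Agent.Lib.Helper37.CoeffField
import Groth.Agent.Lib.Helper19.Subscheme

set_option autoImplicit false
universe u

namespace Groth.Agent.Lib.Helper37.GD

open CategoryTheory CategoryTheory.Limits AlgebraicGeometry Grpd

variable {S : Scheme.{u}} (G : GroupoidScheme S) {k : Type u} [Field k]
  (eU : G.U ≅ Spec (CommRingCat.of k))

lemma comp_j_eq_of_eq {T : Scheme.{u}} (x : T ⟶ G.R) (h : x ≫ G.s = x ≫ G.t) :
    x ≫ G.j = (x ≫ G.s) ≫ G.diag := by
  apply pullback.hom_ext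
  · rw [Category.assoc, Category.assoc, GroupoidScheme.j, GroupoidScheme.diag, pullback.lift_fst,
      pullback.lift_fst, Category.comp_id, h]
  · rw [Category.assoc, Category.assoc, GroupoidScheme.j, GroupoidScheme.diag, pullback.lift_snd,
      pullback.lift_snd, Category.comp_id]

include eU in
/-- the irreducible component of `R` through the identity lies in the stabilizer. -/
theorem irreducibleComponent_e_subset [LocallyOfFiniteType G.s] (u₀ : G.U) :
    irreducibleComponent (G.e u₀) ⊆ G.j ⁻¹' Set.range G.diag := by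
  have hsub : Subsingleton G.U := eU.hom.homeomorph.injective.subsingleton
  have hint : IsIntegral G.U := IsIntegral.of_isIso eU.inv
  have haff : IsAffine G.U := IsAffine.of_isIso eU.hom
  let C : TopologicalSpace.Closeds G.R :=
    ⟨irreducibleComponent (G.e u₀), isClosed_irreducibleComponent⟩
  let I := Scheme.IdealSheafData.vanishingIdeal C
  have hr : Set.range I.subschemeι = irreducibleComponent (G.e u₀) := by
    rw [Scheme.IdealSheafData.range_subschemeι, Scheme.IdealSheafData.coe_support_vanishingIdeal]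
    rfl
  have hZred : IsReduced I.subscheme :=
    Groth.Agent.Lib.Helper19.isReduced_subscheme_vanishingIdeal C
  have hZirr : IrreducibleSpace I.subscheme := by
    have e := I.subschemeι.isEmbedding.toHomeomorph
    rw [e.irreducibleSpace_iff, hr]
    exact Subtype.irreducibleSpace isIrreducible_irreducibleComponent
  have hZint : IsIntegral I.subscheme := isIntegral_of_irreducibleSpace_of_isReduced _
  obtain ⟨e', he'⟩ : ∃ e' : G.U ⟶ I.subscheme, e' ≫ I.subschemeι = G.e := by
    apply Groth.Agent.Lib.Helper19.exists_lift_of_isReduced_of_range_subset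
    rintro _ ⟨u, rfl⟩
    rw [hr, Subsingleton.elim u u₀]
    exact mem_irreducibleComponent
  obtain ⟨W, hW, hzW, -⟩ :=
    exists_isAffineOpen_mem_and_subset (x := e' u₀) (U := ⊤) trivial
  have hWne : Nonempty W := ⟨⟨_, hzW⟩⟩
  have hdom : IsDomain Γ(I.subscheme, W) := inferInstance
  have hrange : Set.range (eU.inv ≫ e') ⊆ Set.range hW.fromSpec := by
    rintro _ ⟨x, rfl⟩
    rw [hW.range_fromSpec, Scheme.Hom.comp_apply, Subsingleton.elim (eU.inv x) u₀]
    exact hzW
  let e'' := IsOpenImmersion.lift hW.fromSpec (eU.inv ≫ e') hrange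
  have he'' : e'' ≫ hW.fromSpec = eU.inv ≫ e' := IsOpenImmersion.lift_fac _ _ _
  obtain ⟨σ, hσ⟩ := Spec.map_surjective (hW.fromSpec ≫ I.subschemeι ≫ G.s ≫ eU.hom)
  obtain ⟨τ, hτ⟩ := Spec.map_surjective (hW.fromSpec ≫ I.subschemeι ≫ G.t ≫ eU.hom)
  obtain ⟨ε, hε⟩ := Spec.map_surjective e''
  have h1 : σ ≫ ε = 𝟙 _ := by
    apply Spec.map_injective
    rw [Spec.map_comp, hσ, hε, Spec.map_id, ← Category.assoc, he'', Category.assoc,
      ← Category.assoc e', he', ← Category.assoc G.e, G.e_s, Category.id_comp, Iso.inv_hom_id]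
  have h2 : τ ≫ ε = 𝟙 _ := by
    apply Spec.map_injective
    rw [Spec.map_comp, hτ, hε, Spec.map_id, ← Category.assoc, he'', Category.assoc,
      ← Category.assoc e', he', ← Category.assoc G.e, G.e_t, Category.id_comp, Iso.inv_hom_id]
  have hσft : σ.hom.FiniteType := by
    have : LocallyOfFiniteType (Spec.map σ) := by rw [hσ]; infer_instance
    exact (HasRingHomProperty.Spec_iff (P := @LocallyOfFiniteType)).mp this
  have key : σ.hom = τ.hom := AL.ringHom_eq_of_retraction σ.hom τ.hom ε.hom hσft
    (fun x => congrArg (fun f => f.hom x) h1) (fun x => congrArg (fun f => f.hom x) h2)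
  have key' : σ = τ := CommRingCat.hom_ext key
  have hst : (hW.fromSpec ≫ I.subschemeι) ≫ G.s = (hW.fromSpec ≫ I.subschemeι) ≫ G.t := by
    rw [← cancel_mono eU.hom]
    simp only [Category.assoc]
    rw [← hσ, ← hτ, key']
  have hWsub : I.subschemeι '' (W : Set I.subscheme) ⊆ G.j ⁻¹' Set.range G.diag := by
    rintro _ ⟨z, hz, rfl⟩
    rw [← hW.range_fromSpec] at hz
    obtain ⟨x, rfl⟩ := hz
    show G.j (I.subschemeι (hW.fromSpec x)) ∈ Set.range G.diag
    rw [← Scheme.Hom.comp_apply, ← Scheme.Hom.comp_apply,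
      ← Category.assoc, comp_j_eq_of_eq G _ hst, Scheme.Hom.comp_apply]
    exact ⟨_, rfl⟩
  have hclosed : IsClosed (G.j ⁻¹' Set.range G.diag) := by
    have : IsClosedImmersion G.diag :=
      (inferInstance : IsClosedImmersion (pullback.diagonal G.pU))
    exact (G.diag.isClosedEmbedding.isClosed_range).preimage G.j.continuous
  have hdense : closure (W : Set I.subscheme) = Set.univ :=
    (W.2.dense ⟨_, hzW⟩).closure_eq
  rw [← hr, ← Set.image_univ, ← hdense]
  exact (image_closure_subset_closure_image I.subschemeι.continuous).trans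
    (closure_minimal hWsub hclosed)

end Groth.Agent.Lib.Helper37.GD
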