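import Mathlib
import Groth.Prelude
import Groth.Agent.Lib.Helper37.GrpdDimA
import Groth.Agent.Lib.Helper37.GrpdDimB
import Groth.Agent.Lib.Helper55.FlatLocalDim
import Groth.Agent.Lib.Helper55.GroupLocalDim

set_option autoImplicit false
universe u

namespace Groth.Agent.Lib.Helper37.GD

open CategoryTheory CategoryTheory.Limits AlgebraicGeometry Grpd TopologicalSpace

/-- In a Noetherian space every irreducible component contains a nonempty open subset
(after Helper23.FibreEquidim). -/
theorem exists_open_subset_of_mem_irreducibleComponents {F : Type*} [TopologicalSpace F]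
    [NoetherianSpace F] (T : Set F) (hT : T ∈ irreducibleComponents F) :
    ∃ O : Set F, IsOpen O ∧ O.Nonempty ∧ O ⊆ T := by
  classical
  have hfin : (irreducibleComponents F).Finite := NoetherianSpace.finite_irreducibleComponents
  let others : Set (Set F) := irreducibleComponents F \ {T}
  have hofin : others.Finite := hfin.subset Set.sdiff_subset
  have hclosed : IsClosed (⋃₀ others) := by
    rw [Set.sUnion_eq_biUnion]
    exact hofin.isClosed_biUnion fun Z hZ => isClosed_of_mem_irreducibleComponents Z hZ.1
  refine ⟨(⋃₀ others)ᶜ, hclosed.isOpen_compl, ?_, ?_⟩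
  · by_contra hemp
    rw [Set.not_nonempty_iff_eq_empty, Set.compl_empty_iff] at hemp
    have hTsub : T ⊆ ⋃₀ others := hemp ▸ Set.subset_univ T
    obtain ⟨Z, hZ, hTZ⟩ := (isIrreducible_iff_sUnion_isClosed.mp hT.1) hofin.toFinset
      (fun Z hZ => isClosed_of_mem_irreducibleComponents Z (hofin.mem_toFinset.mp hZ).1)
      (by simpa using hTsub)
    have hZ' := hofin.mem_toFinset.mp hZ
    have : T = Z := le_antisymm hTZ (hT.2 hZ'.1.1 hTZ)
    exact hZ'.2 this.symm
  · intro x hx
    by_contra hxT
    apply hx
    refine ⟨irreducibleComponent x, ⟨irreducibleComponent_mem_irreducibleComponents x, ?_⟩,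
      mem_irreducibleComponent⟩
    rintro (h : irreducibleComponent x = T)
    exact hxT (h ▸ mem_irreducibleComponent)

/-- In a locally Noetherian scheme every irreducible component contains a nonempty open. -/
theorem exists_opens_subset_irreducibleComponent {X : Scheme.{u}} [IsLocallyNoetherian X]
    (Zc : Set X) (hZ : Zc ∈ irreducibleComponents X) :
    ∃ O : X.Opens, (O : Set X).Nonempty ∧ (O : Set X) ⊆ Zc := by
  obtain ⟨x, hx⟩ := hZ.1.1
  obtain ⟨V, hV, hxV, -⟩ := exists_isAffineOpen_mem_and_subset (x := x) (U := ⊤) trivial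
  have hnr : IsNoetherianRing Γ(X, V) := IsLocallyNoetherian.component_noetherian ⟨V, hV⟩
  have hns : NoetherianSpace V := noetherianSpace_of_isAffineOpen V hV
  have hoe : Topology.IsOpenEmbedding (Subtype.val : V → X) := V.2.isOpenEmbedding_subtypeVal
  have hT : (Subtype.val : V → X) ⁻¹' Zc ∈ irreducibleComponents V :=
    preimage_mem_irreducibleComponents hZ hoe ⟨x, hx, ⟨⟨x, hxV⟩, rfl⟩⟩
  obtain ⟨O', hO'o, ⟨y, hy⟩, hO's⟩ := exists_open_subset_of_mem_irreducibleComponents _ hT
  refine ⟨⟨Subtype.val '' O', hoe.isOpenMap _ hO'o⟩, ⟨y.1, y, hy, rfl⟩, ?_⟩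
  rintro _ ⟨z, hz, rfl⟩
  exact hO's hz

variable {S : Scheme.{u}} (G : GroupoidScheme S) {k : Type u} [Field k]
  (eU : G.U ≅ Spec (CommRingCat.of k))

include eU in
/-- a groupoid on a field and its stabilizer have the same dimension. -/
theorem topologicalKrullDim_eq_stabilizer [LocallyOfFiniteType G.s] :
    topologicalKrullDim G.R = topologicalKrullDim G.stabilizer := by
  have hsub : Subsingleton G.U := eU.hom.homeomorph.injective.subsingleton
  have haff : IsAffine G.U := IsAffine.of_isIso eU.hom
  have hLN : IsLocallyNoetherian G.U := isLocallyNoetherian_of_isOpenImmersion eU.hom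
  have hLNR : IsLocallyNoetherian G.R := LocallyOfFiniteType.isLocallyNoetherian G.s
  let u₀ : G.U := eU.inv (IsLocalRing.closedPoint k)
  set d := FlatMor.localDim ↥G.R (G.e u₀) with hd
  have hconst : ∀ r : G.R, FlatMor.localDim ↥G.R r = d := fun r => localDim_eq G eU r u₀
  have hne : Nonempty G.R := ⟨G.e u₀⟩
  have hdimR : topologicalKrullDim G.R = d := by
    rw [Groth.Agent.Lib.Helper55.topologicalKrullDim_eq_iSup_localDim]
    simp_rw [hconst]
    exact ciSup_const
  obtain ⟨O, hOne, hOsub⟩ := exists_opens_subset_irreducibleComponent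
    (irreducibleComponent (G.e u₀)) (irreducibleComponent_mem_irreducibleComponents _)
  have hdimO : topologicalKrullDim ↥(O : Set G.R) = d :=
    Groth.Agent.Lib.Helper55.topologicalKrullDim_opens_eq_of_localDim_eq d hconst O hOne
  have hci : IsClosedImmersion G.diag :=
    (inferInstance : IsClosedImmersion (pullback.diagonal G.pU))
  have hci' : IsClosedImmersion (pullback.fst G.j G.diag) := inferInstance
  have hrange : Set.range (pullback.fst G.j G.diag) = G.j ⁻¹' Set.range G.diag :=
    Scheme.Pullback.range_fst _ _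
  have hOrange : (O : Set G.R) ⊆ Set.range (pullback.fst G.j G.diag) :=
    hOsub.trans ((irreducibleComponent_e_subset G eU u₀).trans hrange.ge)
  have hemb := (pullback.fst G.j G.diag).isEmbedding
  have hle1 : topologicalKrullDim G.stabilizer ≤ topologicalKrullDim G.R :=
    hemb.isInducing.topologicalKrullDim_le
  have hle2 : topologicalKrullDim ↥(O : Set G.R) ≤ topologicalKrullDim G.stabilizer := by
    let h := hemb.toHomeomorph
    have hind : Topology.IsInducing (h.symm ∘ Set.inclusion hOrange) :=
      h.symm.isInducing.comp (Topology.IsEmbedding.inclusion hOrange).isInducing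
    exact hind.topologicalKrullDim_le
  rw [hdimO] at hle2
  rw [hdimR]
  exact le_antisymm hle2 (hdimR ▸ hle1)

end Groth.Agent.Lib.Helper37.GD
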