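import Mathlib
import Groth.Prelude
import Groth.Agent.Lib.Helper70.GrpIrrD
import Groth.Agent.Lib.Helper37.GroupoidTranslate
import Groth.Agent.Lib.Helper37.GrpdPull

set_option autoImplicit false
set_option linter.style.haveILetI false
universe u

namespace Groth.Agent.Lib.Helper37.GF

open CategoryTheory CategoryTheory.Limits AlgebraicGeometry Grpd
open Groth.Agent.Lib.Helper70.GrpIrrA Groth.Agent.Lib.Helper70.GrpIrrB

variable {S : Scheme.{u}} (G : GroupoidScheme S)

theorem subsingleton_U {k : Type u} [Field k] (eU : G.U ≅ Spec (CommRingCat.of k)) :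
    Subsingleton G.U :=
  eU.hom.homeomorph.injective.subsingleton

theorem isIntegral_U {k : Type u} [Field k] (eU : G.U ≅ Spec (CommRingCat.of k)) :
    IsIntegral G.U :=
  IsIntegral.of_isIso eU.inv

/-- Over an algebraically closed field, at most one irreducible component of `R` passes through
the identity. -/
theorem uniqueComp_e_of_isAlgClosed (K : Type u) [Field K] [IsAlgClosed K]
    (eU : G.U ≅ Spec (CommRingCat.of K)) (u₀ : G.U) : UniqueComp G.R (G.e u₀) := by
  haveI : Subsingleton G.U := subsingleton_U G eU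
  haveI : IsIntegral G.U := isIntegral_U G eU
  intro Z₁ hZ₁ Z₂ hZ₂ h₁ h₂
  obtain ⟨Z₁', i₁, _, hr₁, _⟩ := exists_closedSubscheme Z₁
    (isClosed_of_mem_irreducibleComponents _ hZ₁) hZ₁.1
  obtain ⟨Z₂', i₂, _, hr₂, _⟩ := exists_closedSubscheme Z₂
    (isClosed_of_mem_irreducibleComponents _ hZ₂) hZ₂.1
  have g1 : GeometricallyIrreducible (i₁ ≫ G.s) := by
    have := Groth.Agent.Lib.Helper12.GeomAlgClosed.geometricallyIrreducible_of_irreducibleSpace
      ((i₁ ≫ G.s) ≫ eU.hom)
    have hri : MorphismProperty.RespectsIso @GeometricallyIrreducible :=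
      MorphismProperty.IsStableUnderBaseChange.respectsIso
    exact (MorphismProperty.cancel_right_of_respectsIso @GeometricallyIrreducible _ eU.hom).mp this
  have : UniversallyOpen (i₁ ≫ G.s) := inferInstance
  have : IrreducibleSpace ↥(pullback (i₁ ≫ G.s) (i₂ ≫ G.t)) := inferInstance
  let j : pullback (i₁ ≫ G.s) (i₂ ≫ G.t) ⟶ pullback G.s G.t :=
    pullback.map _ _ _ _ i₁ i₂ (𝟙 _) (by simp) (by simp)
  have hj : Set.range j = (pullback.fst G.s G.t) ⁻¹' Z₁ ∩ (pullback.snd G.s G.t) ⁻¹' Z₂ := by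
    rw [Scheme.Pullback.range_map, hr₁, hr₂]
  let W : Set G.R := G.c '' Set.range j
  have hW : IsIrreducible (closure W) := by
    apply IsIrreducible.closure
    apply IsIrreducible.image _ _ G.c.continuous.continuousOn
    rw [← Set.image_univ]
    exact (IrreducibleSpace.isIrreducible_univ _).image _ j.continuous.continuousOn
  have hpt : ∀ u : G.U, G.e u = G.e u₀ := fun u => congrArg _ (Subsingleton.elim _ _)
  have s1 : Z₁ ⊆ closure W := by
    intro z hz
    apply subset_closure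
    have hc : 𝟙 G.R ≫ G.s = (𝟙 G.R ≫ G.s ≫ G.e) ≫ G.t := by
      rw [Category.assoc, Category.assoc, G.e_t, Category.comp_id]
    refine ⟨(pullback.lift (𝟙 G.R) (𝟙 G.R ≫ G.s ≫ G.e) hc) z, ?_, ?_⟩
    · rw [hj]
      constructor
      · show (pullback.fst G.s G.t) ((pullback.lift (𝟙 G.R) (𝟙 G.R ≫ G.s ≫ G.e) hc) z) ∈ Z₁
        rw [← Scheme.Hom.comp_apply, pullback.lift_fst]
        exact hz
      · show (pullback.snd G.s G.t) ((pullback.lift (𝟙 G.R) (𝟙 G.R ≫ G.s ≫ G.e) hc) z) ∈ Z₂
        rw [← Scheme.Hom.comp_apply, pullback.lift_snd, Category.id_comp, Scheme.Hom.comp_apply,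
          hpt]
        exact h₂
    · rw [← Scheme.Hom.comp_apply, G.comp_e (𝟙 G.R)]
      rfl
  have s2 : Z₂ ⊆ closure W := by
    intro z hz
    apply subset_closure
    have hc : (𝟙 G.R ≫ G.t ≫ G.e) ≫ G.s = 𝟙 G.R ≫ G.t := by
      rw [Category.assoc, Category.assoc, G.e_s, Category.comp_id]
    refine ⟨(pullback.lift (𝟙 G.R ≫ G.t ≫ G.e) (𝟙 G.R) hc) z, ?_, ?_⟩
    · rw [hj]
      constructor
      · show (pullback.fst G.s G.t) ((pullback.lift (𝟙 G.R ≫ G.t ≫ G.e) (𝟙 G.R) hc) z) ∈ Z₁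
        rw [← Scheme.Hom.comp_apply, pullback.lift_fst, Category.id_comp, Scheme.Hom.comp_apply,
          hpt]
        exact h₁
      · show (pullback.snd G.s G.t) ((pullback.lift (𝟙 G.R ≫ G.t ≫ G.e) (𝟙 G.R) hc) z) ∈ Z₂
        rw [← Scheme.Hom.comp_apply, pullback.lift_snd]
        exact hz
    · rw [← Scheme.Hom.comp_apply, G.e_comp (𝟙 G.R)]
      rfl
  rw [subset_antisymm s1 (hZ₁.2 hW s1), subset_antisymm s2 (hZ₂.2 hW s2)]


section L2

variable {k : Type u} [Field k] (eU : G.U ≅ Spec (CommRingCat.of k))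
  {K : Type u} [Field K] (b : Spec (CommRingCat.of K) ⟶ G.U)

/-- the comparison map from the restricted groupoid to the fibre of `s`. -/
noncomputable def q : Pull.R' G b ⟶ pullback G.s b :=
  (pullbackRightPullbackFstIso G.s b (pullback.fst G.t b)).inv ≫
    pullback.snd (pullback.fst G.t b) (pullback.fst G.s b)

lemma q_fst : q G b ≫ pullback.fst G.s b = Pull.ρ G b := by
  unfold q Pull.ρ
  rw [Category.assoc, ← pullback.condition, pullbackRightPullbackFstIso_inv_fst_assoc]

lemma q_snd : q G b ≫ pullback.snd G.s b = Pull.b' G b := by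
  unfold q Pull.b'
  rw [Category.assoc, pullbackRightPullbackFstIso_inv_snd_snd]

include eU in
lemma flat_q : Flat (q G b) := by
  haveI : Subsingleton G.U := subsingleton_U G eU
  haveI : IsIntegral G.U := isIntegral_U G eU
  unfold q
  infer_instance

lemma e'_q (h : (b ≫ G.e) ≫ G.s = 𝟙 _ ≫ b) :
    Pull.e' G b ≫ q G b = pullback.lift (b ≫ G.e) (𝟙 _) h := by
  apply pullback.hom_ext
  · rw [Category.assoc, q_fst, pullback.lift_fst, Pull.e', Pull.mk_ρ]
  · rw [Category.assoc, q_snd, pullback.lift_snd, Pull.e', Pull.mk_b']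

include eU in
theorem uniqueComp_pullback_e [IsAlgClosed K] (h : (b ≫ G.e) ≫ G.s = 𝟙 _ ≫ b)
    (x : Spec (CommRingCat.of K)) :
    UniqueComp ↥(pullback G.s b) ((pullback.lift (b ≫ G.e) (𝟙 _) h) x) := by
  have h1 : UniqueComp (Pull.pullGrpd G b).R ((Pull.pullGrpd G b).e x) :=
    uniqueComp_e_of_isAlgClosed (Pull.pullGrpd G b) K (Iso.refl _) x
  have hf := flat_q G eU b
  have h2 := h1.of_generalizingMap (q G b).continuous (Flat.generalizingMap _)
  have e : (q G b) ((Pull.pullGrpd G b).e x) = (pullback.lift (b ≫ G.e) (𝟙 _) h) x := by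
    rw [← e'_q G b h, Scheme.Hom.comp_apply]
    rfl
  rwa [e] at h2

end L2

section L3

variable {k : Type u} [Field k] (eU : G.U ≅ Spec (CommRingCat.of k))

include eU in
theorem uniqueComp_of_point {K : Type u} [Field K] [IsAlgClosed K]
    (r' : Spec (CommRingCat.of K) ⟶ G.R) (x₀ : Spec (CommRingCat.of K)) :
    UniqueComp G.R (r' x₀) := by
  haveI : Subsingleton G.U := subsingleton_U G eU
  haveI : IsIntegral G.U := isIntegral_U G eU
  obtain ⟨φ, hφsnd, h, hφfst⟩ := exists_iso_pullback_s G (r' ≫ G.s) (r' ≫ G.t) r' rfl rfl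
  have hb : ((r' ≫ G.t) ≫ G.e) ≫ G.s = 𝟙 _ ≫ (r' ≫ G.t) := by
    rw [Category.assoc, G.e_s, Category.comp_id, Category.id_comp]
  have h1 := uniqueComp_pullback_e G eU (r' ≫ G.t) hb x₀
  have h2 := h1.of_homeomorph φ.inv.homeomorph
  have ha : r' ≫ G.s = 𝟙 _ ≫ (r' ≫ G.s) := by rw [Category.id_comp]
  have e1 : pullback.lift r' (𝟙 _) ha ≫ φ.hom = pullback.lift ((r' ≫ G.t) ≫ G.e) (𝟙 _) hb := by
    apply pullback.hom_ext
    · rw [Category.assoc, hφfst, precomp_gcomp]
      have e1 : pullback.lift r' (𝟙 _) ha ≫ pullback.fst G.s (r' ≫ G.s) = r' :=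
        pullback.lift_fst _ _ _
      have e2 : pullback.lift r' (𝟙 _) ha ≫ (pullback.snd G.s (r' ≫ G.s) ≫ r') ≫ G.i =
          r' ≫ G.i := by
        rw [← Category.assoc, ← Category.assoc, pullback.lift_snd, Category.id_comp]
      rw [gcomp_congr G e1 e2 _ (by rw [Category.assoc, G.i_t]), gcomp_i G r' _ rfl,
        pullback.lift_fst, Category.assoc]
    · rw [Category.assoc, hφsnd, pullback.lift_snd, pullback.lift_snd]
  have e1' : pullback.lift ((r' ≫ G.t) ≫ G.e) (𝟙 _) hb ≫ φ.inv = pullback.lift r' (𝟙 _) ha := by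
    rw [← e1, Category.assoc, Iso.hom_inv_id, Category.comp_id]
  have e2 : φ.inv.homeomorph ((pullback.lift ((r' ≫ G.t) ≫ G.e) (𝟙 _) hb) x₀) =
      (pullback.lift r' (𝟙 _) ha) x₀ := by
    show φ.inv ((pullback.lift ((r' ≫ G.t) ≫ G.e) (𝟙 _) hb) x₀) = _
    rw [← Scheme.Hom.comp_apply, e1']
  rw [e2] at h2
  have h3 := h2.of_generalizingMap (pullback.fst G.s (r' ≫ G.s)).continuous
    (Flat.generalizingMap _)
  have e3 : (pullback.fst G.s (r' ≫ G.s)) ((pullback.lift r' (𝟙 _) ha) x₀) = r' x₀ := by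
    rw [← Scheme.Hom.comp_apply, pullback.lift_fst]
  rwa [e3] at h3

include eU in
/-- At most one irreducible component of `R` passes through any point. -/
theorem uniqueComp (r : G.R) : UniqueComp G.R r := by
  let κ := G.R.residueField r
  let K : Type u := AlgebraicClosure κ
  let r' : Spec (CommRingCat.of K) ⟶ G.R :=
    Spec.map (CommRingCat.ofHom (algebraMap κ K)) ≫ G.R.fromSpecResidueField r
  let x₀ : Spec (CommRingCat.of K) := IsLocalRing.closedPoint K
  have hr' : r' x₀ = r := by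
    show (Spec.map (CommRingCat.ofHom (algebraMap κ K)) ≫ G.R.fromSpecResidueField r) x₀ = r
    rw [Scheme.Hom.comp_apply]
    exact Scheme.fromSpecResidueField_apply _ _
  rw [← hr']
  exact uniqueComp_of_point G eU r' x₀

end L3

end Groth.Agent.Lib.Helper37.GF
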