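import Mathlib
import Groth.Prelude
import Groth.Agent.Lib.Helper37.GrpdField
import Groth.Agent.Lib.Helper37.GroupoidRank
import Groth.Agent.H8.GeomIrred

set_option autoImplicit false
set_option linter.style.haveILetI false
universe u

namespace Groth.Agent.Lib.Helper37.GF

open CategoryTheory CategoryTheory.Limits AlgebraicGeometry Grpd
open Groth.Agent.Lib.Helper70.GrpIrrA Groth.Agent.Lib.Helper70.GrpIrrB
open Groth.Agent.Lib.Helper70.GrpIrrC (bc)

variable {S : Scheme.{u}} (G : GroupoidScheme S)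

lemma e_i : G.e ≫ G.i = G.e := by
  have h1 := G.comp_i G.e
  have h2 := G.e_comp (G.e ≫ G.i)
  have e1 : (G.e ≫ G.i) ≫ G.t ≫ G.e = G.e := by
    rw [Category.assoc, ← Category.assoc G.i, G.i_t, ← Category.assoc, G.e_s, Category.id_comp]
  have e2 : G.e ≫ G.t ≫ G.e = G.e := by
    rw [← Category.assoc, G.e_t, Category.id_comp]
  rw [e2] at h1
  refine h2.symm.trans (Eq.trans ?_ h1)
  congr 1
  apply pullback.hom_ext
  · rw [pullback.lift_fst, pullback.lift_fst, e1]
  · rw [pullback.lift_snd, pullback.lift_snd]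

theorem fibre_subsingleton {X Y T : Scheme.{u}} (f : X ⟶ Y) (g : T ⟶ Y) (σ : Y ⟶ X)
    (hσ : σ ≫ f = 𝟙 Y) [Subsingleton T] (q : Y) (y₁ y₂ : ↥(pullback f g))
    (h₁ : (pullback.fst f g) y₁ = σ q) (h₂ : (pullback.fst f g) y₂ = σ q) : y₁ = y₂ := by
  have hr : Set.range (pullback.snd σ (pullback.fst f g)) =
      (pullback.fst f g) ⁻¹' Set.range σ := Scheme.Pullback.range_snd _ _
  have hsub : Subsingleton ↥(pullback σ (pullback.fst f g)) := by
    let e1 := pullbackRightPullbackFstIso f g σ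
    have : IsIso (pullback.snd (σ ≫ f) g) := by
      rw [hσ]; infer_instance
    have : IsIso (e1.hom ≫ pullback.snd (σ ≫ f) g) := inferInstance
    exact (e1.hom ≫ pullback.snd (σ ≫ f) g).homeomorph.injective.subsingleton
  have m₁ : y₁ ∈ Set.range (pullback.snd σ (pullback.fst f g)) := by
    rw [hr]; exact ⟨q, h₁.symm⟩
  have m₂ : y₂ ∈ Set.range (pullback.snd σ (pullback.fst f g)) := by
    rw [hr]; exact ⟨q, h₂.symm⟩
  obtain ⟨a₁, rfl⟩ := m₁
  obtain ⟨a₂, rfl⟩ := m₂
  rw [Subsingleton.elim a₁ a₂]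

section

variable {k : Type u} [Field k] (eU : G.U ≅ Spec (CommRingCat.of k))
  (K : Type u) [Field K] [Algebra k K]

/-- the base change of `R` along `s` to `K`, and a point over the identity. -/
theorem exists_point_bc [IsAlgClosed K] (u₀ : G.U) :
    ∃ e' : ↥(pullback (G.s ≫ eU.hom) (bc k K)),
      (pullback.fst (G.s ≫ eU.hom) (bc k K)) e' = G.e u₀ ∧
      UniqueComp ↥(pullback (G.s ≫ eU.hom) (bc k K)) e' := by
  haveI : Subsingleton G.U := subsingleton_U G eU
  obtain ⟨b, hbdef⟩ : ∃ b : Spec (CommRingCat.of K) ⟶ G.U, b = bc k K ≫ eU.inv := ⟨_, rfl⟩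
  have hb : (b ≫ G.e) ≫ G.s = 𝟙 _ ≫ b := by
    rw [Category.assoc, G.e_s, Category.comp_id, Category.id_comp]
  let x : Spec (CommRingCat.of K) := IsLocalRing.closedPoint K
  have h1 := uniqueComp_pullback_e G eU b hb x
  let θ : pullback G.s b ⟶ pullback (G.s ≫ eU.hom) (bc k K) :=
    pullback.map _ _ _ _ (𝟙 _) (𝟙 _) eU.hom (by rw [Category.id_comp])
      (by rw [hbdef, Category.assoc, Iso.inv_hom_id, Category.comp_id, Category.id_comp])
  have h2 := h1.of_homeomorph θ.homeomorph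
  refine ⟨_, ?_, h2⟩
  show (pullback.fst (G.s ≫ eU.hom) (bc k K)) (θ ((pullback.lift (b ≫ G.e) (𝟙 _) hb) x)) = G.e u₀
  rw [← Scheme.Hom.comp_apply, ← Scheme.Hom.comp_apply]
  have : pullback.lift (b ≫ G.e) (𝟙 _) hb ≫ θ ≫ pullback.fst (G.s ≫ eU.hom) (bc k K) =
      b ≫ G.e := by
    rw [pullback.lift_fst, Category.comp_id, pullback.lift_fst]
  rw [this, Scheme.Hom.comp_apply]
  exact congrArg _ (Subsingleton.elim _ _)

set_option backward.isDefEq.respectTransparency.types false in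
theorem irreducibleSpace_bc [IsAlgClosed K] [Algebra.IsAlgebraic k K] (Z : Scheme.{u})
    (incl : Z ⟶ G.R) [IsClosedImmersion incl] [IrreducibleSpace Z]
    (hZ : Set.range incl ∈ irreducibleComponents G.R) (u₀ : G.U)
    (he : G.e u₀ ∈ Set.range incl) :
    IrreducibleSpace ↥(pullback (incl ≫ G.s ≫ eU.hom) (bc k K)) := by
  let ρ := pullback.fst (incl ≫ G.s ≫ eU.hom) (bc k K)
  let π := pullback.fst (G.s ≫ eU.hom) (bc k K)
  let j : pullback (incl ≫ G.s ≫ eU.hom) (bc k K) ⟶ pullback (G.s ≫ eU.hom) (bc k K) :=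
    pullback.map _ _ _ _ incl (𝟙 _) (𝟙 _) (by simp) (by simp)
  have hcomm : j ≫ π = ρ ≫ incl := pullback.lift_fst _ _ _
  have hjsnd : j ≫ pullback.snd (G.s ≫ eU.hom) (bc k K) =
      pullback.snd (incl ≫ G.s ≫ eU.hom) (bc k K) := by
    rw [pullback.lift_snd, Category.comp_id]
  have hpb : IsPullback j ρ π incl := by
    refine IsPullback.of_right ?_ hcomm (IsPullback.of_hasPullback (G.s ≫ eU.hom) (bc k K)).flip
    rw [hjsnd]
    exact (IsPullback.of_hasPullback (incl ≫ G.s ≫ eU.hom) (bc k K)).flip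
  have hjci : IsClosedImmersion j := MorphismProperty.of_isPullback hpb.flip inferInstance
  have hjr : Set.range j = π ⁻¹' Set.range incl := by
    rw [Scheme.Pullback.range_map]
    simp
    rfl
  have hint : IsIntegralHom (bc k K) :=
    Groth.Agent.Lib.Helper50.isIntegralHom_specMap_of_isAlgebraic k K
  have hρint : IsIntegralHom ρ := MorphismProperty.pullback_fst _ _ hint
  have hρflat : Flat ρ := MorphismProperty.pullback_fst _ _ (inferInstance : Flat (bc k K))
  have hρ : ∀ W ∈ irreducibleComponents ↥(pullback (incl ≫ G.s ≫ eU.hom) (bc k K)),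
      ρ '' W = Set.univ := by
    intro W hW
    have := Groth.Agent.Lib.Helper50.image_mem_irreducibleComponents_of_flat_of_isClosedMap ρ
      ρ.isClosedMap hW
    rw [irreducibleComponents_eq_singleton] at this
    exact this
  have hsurj : Surjective ρ := MorphismProperty.pullback_fst _ _
    (⟨fun x => ⟨(⊥ : PrimeSpectrum K), Subsingleton.elim _ _⟩⟩ : Surjective (bc k K))
  have hne : Nonempty ↥(pullback (incl ≫ G.s ≫ eU.hom) (bc k K)) := by
    obtain ⟨z⟩ := (inferInstance : Nonempty Z)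
    obtain ⟨p, -⟩ := ρ.surjective z
    exact ⟨p⟩
  obtain ⟨e', he'1, he'2⟩ := exists_point_bc G eU K u₀
  refine Groth.Agent.Lib.Helper70.GrpIrrD.irreducibleSpace_of_top ρ j π incl
    (fun p => by rw [← Scheme.Hom.comp_apply, hcomm, Scheme.Hom.comp_apply])
    j.isEmbedding hjr π.continuous hρ hZ e' ?_ ?_ he'2
  · intro y hy
    have hσ : (eU.inv ≫ G.e) ≫ (G.s ≫ eU.hom) = 𝟙 _ := by
      rw [Category.assoc, ← Category.assoc G.e, G.e_s, Category.id_comp, Iso.inv_hom_id]
    have hq : (eU.inv ≫ G.e) (eU.hom u₀) = G.e u₀ := by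
      rw [← Scheme.Hom.comp_apply, ← Category.assoc, Iso.hom_inv_id, Category.id_comp]
    refine fibre_subsingleton (G.s ≫ eU.hom) (bc k K) (eU.inv ≫ G.e) hσ (eU.hom u₀) y e' ?_ ?_
    · rw [hq]; exact hy.trans he'1
    · rw [hq]; exact he'1
  · show π e' ∈ Set.range incl
    rw [he'1]
    exact he

end

section Main

variable {k : Type u} [Field k] (eU : G.U ≅ Spec (CommRingCat.of k))

theorem geometricallyIrreducible_s (Z : Scheme.{u}) (ι : Z ⟶ G.R) [IsClosedImmersion ι]
    [IrreducibleSpace Z] (hZ : Set.range ι ∈ irreducibleComponents G.R) (u₀ : G.U)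
    (he : G.e u₀ ∈ Set.range ι) : GeometricallyIrreducible (ι ≫ G.s ≫ eU.hom) := by
  have h1 : IrreducibleSpace ↥(pullback (ι ≫ G.s ≫ eU.hom) (bc k (AlgebraicClosure k))) :=
    irreducibleSpace_bc G eU (AlgebraicClosure k) Z ι hZ u₀ he
  have h2 : GeometricallyIrreducible (pullback.snd (ι ≫ G.s ≫ eU.hom)
      (Spec.map (CommRingCat.ofHom (algebraMap k (AlgebraicClosure k))))) :=
    Groth.Agent.Lib.Helper12.GeomAlgClosed.geometricallyIrreducible_of_irreducibleSpace _
  exact Groth.Agent.H8.geometricallyIrreducible_of_baseChange (ι ≫ G.s ≫ eU.hom)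
    (AlgebraicClosure k)

theorem geometricallyIrreducible_t (Z : Scheme.{u}) (ι : Z ⟶ G.R) [IsClosedImmersion ι]
    [IrreducibleSpace Z] (hZ : Set.range ι ∈ irreducibleComponents G.R) (u₀ : G.U)
    (he : G.e u₀ ∈ Set.range ι) : GeometricallyIrreducible (ι ≫ G.t ≫ eU.hom) := by
  have hZ' : Set.range (ι ≫ G.i) ∈ irreducibleComponents G.R := by
    have : Set.range (ι ≫ G.i) = G.i '' Set.range ι := by
      rw [Scheme.Hom.comp_base, TopCat.coe_comp, Set.range_comp]
    rw [this]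
    refine image_mem_irreducibleComponents_of_isPreirreducible_fiber G.i G.i.continuous
      G.i.homeomorph.isOpenMap (fun x => ?_) G.i.homeomorph.surjective hZ
    exact (Set.subsingleton_singleton.preimage G.i.homeomorph.injective).isPreirreducible
  have he' : G.e u₀ ∈ Set.range (ι ≫ G.i) := by
    obtain ⟨z, hz⟩ := he
    refine ⟨z, ?_⟩
    rw [Scheme.Hom.comp_apply, hz, ← Scheme.Hom.comp_apply, e_i]
  have := geometricallyIrreducible_s G eU Z (ι ≫ G.i) hZ' u₀ he'
  have e : (ι ≫ G.i) ≫ G.s ≫ eU.hom = ι ≫ G.t ≫ eU.hom := by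
    rw [Category.assoc, ← Category.assoc G.i, G.i_s]
  rwa [e] at this

end Main

end Groth.Agent.Lib.Helper37.GF
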