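import Groth.Agent.Lib.Helper37.GrpdNM

set_option autoImplicit false
set_option linter.style.haveILetI false
set_option linter.unusedSectionVars false
universe u

namespace Groth.Agent.Lib.Helper37.NM

open CategoryTheory CategoryTheory.Limits AlgebraicGeometry Grpd

variable {S : Scheme.{u}} {G : GroupoidScheme S}
  [IsFinite G.s] [Flat G.s] [LocallyOfFinitePresentation G.s]

variable (G) in
/-- The diagram of local quotients. -/
noncomputable def quotFunctor : InvAff G ⥤ Scheme.{u} where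
  obj W := Y W
  map f := map (leOfHom f)
  map_id W := map_rfl W
  map_comp f g := map_trans (leOfHom f) (leOfHom g)

instance {W' W : InvAff G} (f : W' ⟶ W) : IsOpenImmersion ((quotFunctor G).map f) :=
  isOpenImmersion_map (leOfHom f)

instance : (quotFunctor G ⋙ Scheme.forget).IsLocallyDirected where
  cond {i j k} fi fj xi xj hx := by
    simp only [Functor.comp_obj, Scheme.forget_obj, Functor.comp_map, Scheme.forget_map,
      ConcreteCategory.hom_ofHom, TypeCat.Fun.coe_mk] at hx xi xj ⊢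
    change Y i at xi
    change Y j at xj
    change map (leOfHom fi) xi = map (leOfHom fj) xj at hx
    obtain ⟨ui, rfl⟩ := q_surjective i xi
    obtain ⟨uj, rfl⟩ := q_surjective j xj
    rw [map_q_apply, map_q_apply] at hx
    obtain ⟨r, hr1, hr2⟩ := exists_of_q_eq k _ _ hx
    rw [← Scheme.Hom.comp_apply, Scheme.homOfLE_ι] at hr1 hr2
    have huj : i.1.ι ui ∈ j.1 := by
      rw [← hr1]
      apply InvAff.mem_of_s
      rw [hr2]
      exact uj.2
    obtain ⟨l, hl, hli, hlj⟩ := exists_invAff_le i j (i.1.ι ui) ui.2 huj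
    let ul : (l.1 : Scheme.{u}) := ⟨i.1.ι ui, hl⟩
    refine ⟨l, homOfLE hli, homOfLE hlj, q l ul, ?_, ?_⟩
    · change map hli _ = _
      rw [map_q_apply]
      congr 1
      apply i.1.ι.isOpenEmbedding.injective
      rw [← Scheme.Hom.comp_apply, Scheme.homOfLE_ι]
      rfl
    · change map hlj _ = _
      rw [map_q_apply]
      refine q_eq_of_arrow j _ _ r ?_ hr2
      rw [hr1, ← Scheme.Hom.comp_apply, Scheme.homOfLE_ι]
      rfl

/-- Uniqueness of factorizations through `q W` for maps landing in an affine open. -/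
theorem q_epi_of_mem_affine (W : InvAff G) {Z : Scheme.{u}} (g₁ g₂ : Y W ⟶ Z) (Z' : Z.Opens)
    (hZ' : IsAffineOpen Z') (h1 : ∀ y, g₁ y ∈ Z') (h : q W ≫ g₁ = q W ≫ g₂) : g₁ = g₂ := by
  have h2 : ∀ y, g₂ y ∈ Z' := by
    intro y
    obtain ⟨x, rfl⟩ := q_surjective W y
    rw [← Scheme.Hom.comp_apply, ← h, Scheme.Hom.comp_apply]
    exact h1 _
  haveI : IsAffine (Z' : Scheme.{u}) := hZ'
  have key : liftOpen Z' g₁ h1 = liftOpen Z' g₂ h2 := by
    apply q_epi_affine W
    rw [← cancel_mono Z'.ι]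
    simp only [Category.assoc, liftOpen_ι]
    exact h
  rw [← liftOpen_ι Z' g₁ h1, ← liftOpen_ι Z' g₂ h2, key]

/-- Local factorization through `q W` for an invariant morphism mapping `W` into an affine. -/
theorem exists_local_desc (W : InvAff G) {Z : Scheme.{u}} (f : G.U ⟶ Z)
    (hf : G.t ≫ f = G.s ≫ f) (Z' : Z.Opens) (hZ' : IsAffineOpen Z') (hW : W.1 ≤ f ⁻¹ᵁ Z') :
    ∃ g : Y W ⟶ Z, q W ≫ g = W.1.ι ≫ f ∧ ∀ y, g y ∈ Z' := by
  haveI : IsAffine (Z' : Scheme.{u}) := hZ'
  have hmem : ∀ x : (W.1 : Scheme.{u}), (W.1.ι ≫ f) x ∈ Z' := fun x => hW x.2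
  obtain ⟨g, hg⟩ := q_desc_affine W (liftOpen Z' (W.1.ι ≫ f) hmem) (by
    rw [← cancel_mono Z'.ι]
    simp only [Category.assoc, liftOpen_ι]
    rw [resT_ι_assoc, resS_ι_assoc, hf])
  refine ⟨g ≫ Z'.ι, ?_, fun y => ?_⟩
  · rw [← Category.assoc, hg, liftOpen_ι]
  · rw [Scheme.Hom.comp_apply]
    exact (g y).2

section Global

variable (hcov : ∀ u : G.U, ∃ W : InvAff G, u ∈ W.1)

variable (G) in
/-- The global quotient scheme, glued from the local quotients. -/
noncomputable def quotY : Scheme.{u} := colimit (quotFunctor G)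

variable (G) in
/-- The inclusion of a local quotient. -/
noncomputable def quotι (W : InvAff G) : Y W ⟶ quotY G := colimit.ι (quotFunctor G) W

instance (W : InvAff G) : IsOpenImmersion (quotι G W) :=
  inferInstanceAs (IsOpenImmersion (colimit.ι (quotFunctor G) W))

lemma map_quotι {W' W : InvAff G} (h : W' ≤ W) : map h ≫ quotι G W = quotι G W' :=
  colimit.w (quotFunctor G) (homOfLE h)

lemma quotMap_aux {i j : InvAff G} (h : i ≤ j) :
    G.U.homOfLE h ≫ q j ≫ quotι G j = q i ≫ quotι G i := by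
  rw [← q_map_assoc, map_quotι]

variable (G) in
/-- The global quotient map. -/
noncomputable def quotMap : G.U ⟶ quotY G :=
  (invCover G hcov).glueMorphismsOfLocallyDirected (fun W => q W ≫ quotι G W)
    (fun {_ _} hij => quotMap_aux (leOfHom hij))

@[reassoc]
lemma ι_quotMap (W : InvAff G) : W.1.ι ≫ quotMap G hcov = q W ≫ quotι G W :=
  (invCover G hcov).map_glueMorphismsOfLocallyDirected (fun W => q W ≫ quotι G W)
    (fun {_ _} hij => quotMap_aux (leOfHom hij)) W

lemma quotMap_apply (W : InvAff G) (x : (W.1 : Scheme.{u})) :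
    quotMap G hcov (W.1.ι x) = quotι G W (q W x) := by
  rw [← Scheme.Hom.comp_apply, ι_quotMap, Scheme.Hom.comp_apply]

lemma quotMap_preimage (W : InvAff G) :
    quotMap G hcov ⁻¹ᵁ (quotι G W).opensRange = W.1 := by
  ext u
  constructor
  · rintro ⟨y, hy⟩
    obtain ⟨W', hu'⟩ := hcov u
    let u' : (W'.1 : Scheme.{u}) := ⟨u, hu'⟩
    have h1 : quotι G W y = quotι G W' (q W' u') := by
      rw [← quotMap_apply hcov W' u']
      exact hy
    obtain ⟨k, fi, fj, x, hx1, hx2⟩ :=
      (Scheme.IsLocallyDirected.ι_eq_ι_iff (F := quotFunctor G)).mp h1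
    change Y k at x
    change map (leOfHom fi) x = y at hx1
    change map (leOfHom fj) x = q W' u' at hx2
    obtain ⟨v, rfl⟩ := q_surjective k x
    rw [map_q_apply] at hx2
    obtain ⟨r, hr1, hr2⟩ := exists_of_q_eq W' _ _ hx2
    rw [← Scheme.Hom.comp_apply, Scheme.homOfLE_ι] at hr1
    have : G.s r ∈ k.1 := InvAff.mem_of_t (hr1 ▸ v.2)
    rw [hr2] at this
    exact leOfHom fi this
  · intro hu
    let u' : (W.1 : Scheme.{u}) := ⟨u, hu⟩
    exact ⟨q W u', (quotMap_apply hcov W u').symm⟩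

lemma isPullback_quotι (W : InvAff G) :
    IsPullback (q W) W.1.ι (quotι G W) (quotMap G hcov) :=
  IsOpenImmersion.isPullback _ _ _ _ (ι_quotMap hcov W) (by
    rw [quotMap_preimage, Scheme.Opens.opensRange_ι])

/-- A property local at the target holds for the quotient map if it holds for the local ones. -/
lemma quotMap_of_local (P : MorphismProperty Scheme.{u}) [IsZariskiLocalAtTarget P]
    (hP : ∀ W : InvAff G, P (q W)) : P (quotMap G hcov) := by
  refine IsZariskiLocalAtTarget.of_openCover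
    (Scheme.IsLocallyDirected.openCover (quotFunctor G)) (fun W => ?_)
  change InvAff G at W
  change P (pullback.snd (quotMap G hcov) (quotι G W))
  have h := (isPullback_quotι hcov W).flip
  have := hP W
  rw [← h.isoPullback_hom_snd, P.cancel_left_of_respectsIso] at this
  exact this

set_option backward.isDefEq.respectTransparency.types false in
instance : IsIntegralHom (quotMap G hcov) :=
  quotMap_of_local hcov @IsIntegralHom fun _ => inferInstance

instance : Surjective (quotMap G hcov) := by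
  refine ⟨fun y => ?_⟩
  obtain ⟨W, y', rfl⟩ := Scheme.IsLocallyDirected.ι_jointly_surjective (quotFunctor G) y
  change InvAff G at W
  change Y W at y'
  obtain ⟨x, rfl⟩ := q_surjective W y'
  exact ⟨W.1.ι x, quotMap_apply hcov W x⟩

/-- The quotient map coequalizes target and source. -/
theorem quotMap_cond : G.t ≫ quotMap G hcov = G.s ≫ quotMap G hcov := by
  refine Scheme.hom_ext_of_forall _ _ (fun r => ?_)
  obtain ⟨W, hW⟩ := hcov (G.s r)
  refine ⟨G.s ⁻¹ᵁ W.1, hW, ?_⟩
  rw [← resT_ι_assoc G W.1 W.2.2, ← resS_ι_assoc, ι_quotMap, ← Category.assoc,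
    q_cond, Category.assoc]

/-- Fibres of the quotient map are the orbits. -/
theorem quotMap_eq_iff (x y : G.U) :
    quotMap G hcov x = quotMap G hcov y ↔ ∃ r : G.R, G.t r = x ∧ G.s r = y := by
  constructor
  · intro h
    obtain ⟨W, hx⟩ := hcov x
    let x' : (W.1 : Scheme.{u}) := ⟨x, hx⟩
    have hx' : quotMap G hcov x = quotι G W (q W x') := quotMap_apply hcov W x'
    have hy : y ∈ quotMap G hcov ⁻¹ᵁ (quotι G W).opensRange := by
      change quotMap G hcov y ∈ (quotι G W).opensRange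
      rw [← h, hx']
      exact ⟨_, rfl⟩
    rw [quotMap_preimage] at hy
    let y' : (W.1 : Scheme.{u}) := ⟨y, hy⟩
    have hy' : quotMap G hcov y = quotι G W (q W y') := quotMap_apply hcov W y'
    rw [hx', hy'] at h
    exact exists_of_q_eq W x' y' ((quotι G W).isOpenEmbedding.injective h)
  · rintro ⟨r, rfl, rfl⟩
    rw [← Scheme.Hom.comp_apply, ← Scheme.Hom.comp_apply, quotMap_cond]

/-- The quotient map is open. -/
theorem quotMap_isOpenMap : IsOpenMap (quotMap G hcov) := by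
  have hq : Topology.IsQuotientMap (quotMap G hcov) :=
    (quotMap G hcov).isClosedMap.isQuotientMap (quotMap G hcov).continuous
      (quotMap G hcov).surjective
  intro O hO
  rw [← hq.isOpen_preimage]
  have : quotMap G hcov ⁻¹' (quotMap G hcov '' O) = G.s '' (G.t ⁻¹' O) := by
    ext y
    constructor
    · rintro ⟨x, hxO, hxy⟩
      obtain ⟨r, hr1, hr2⟩ := (quotMap_eq_iff hcov x y).mp hxy
      exact ⟨r, by rw [Set.mem_preimage, hr1]; exact hxO, hr2⟩
    · rintro ⟨r, hr, rfl⟩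
      exact ⟨G.t r, hr, (quotMap_eq_iff hcov _ _).mpr ⟨r, rfl, rfl⟩⟩
  rw [this]
  exact G.s.isOpenMap _ (hO.preimage G.t.continuous)

/-- If `U` is affine, so is the quotient. -/
theorem isAffine_quotY [IsAffine G.U] : IsAffine (quotY G) := by
  let W : InvAff G := ⟨⊤, isAffineOpen_top G.U, rfl⟩
  have hcov' : ∀ u : G.U, ∃ W : InvAff G, u ∈ W.1 := fun u => ⟨W, trivial⟩
  haveI : IsIso (quotι G W) := by
    apply isIso_of_isOpenImmersion_of_opensRange_eq_top
    refine top_le_iff.mp (fun y _ => ?_)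
    obtain ⟨u, rfl⟩ := (quotMap G hcov').surjective y
    let u' : (W.1 : Scheme.{u}) := ⟨u, trivial⟩
    exact ⟨q W u', (quotMap_apply hcov' W u').symm⟩
  exact IsAffine.of_isIso (CategoryTheory.inv (quotι G W))

/-- The arrows surject onto the kernel pair of the quotient map. -/
theorem lift_surjective :
    Function.Surjective (pullback.lift G.t G.s (quotMap_cond hcov) :
      G.R ⟶ pullback (quotMap G hcov) (quotMap G hcov)) := by
  intro z
  obtain ⟨k, _, _, yb, hyb⟩ := Groth.Agent.S1878.exists_geometric_point z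
  have pt : ↥(Spec (CommRingCat.of k)) := IsLocalRing.closedPoint k
  have hpt : ∀ p : ↥(Spec (CommRingCat.of k)), p = pt := fun p => Subsingleton.elim _ _
  let x₀ : Spec (CommRingCat.of k) ⟶ G.U := yb ≫ pullback.fst _ _
  let x₁ : Spec (CommRingCat.of k) ⟶ G.U := yb ≫ pullback.snd _ _
  have hx : x₀ ≫ quotMap G hcov = x₁ ≫ quotMap G hcov := by
    simp only [x₀, x₁, Category.assoc, pullback.condition]
  obtain ⟨W, hW⟩ := hcov (x₀ pt)
  have h0 : ∀ p, x₀ p ∈ W.1 := fun p => by rw [hpt p]; exact hW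
  have h1 : ∀ p, x₁ p ∈ W.1 := by
    intro p
    have : x₁ p ∈ quotMap G hcov ⁻¹ᵁ (quotι G W).opensRange := by
      change quotMap G hcov (x₁ p) ∈ (quotι G W).opensRange
      rw [← Scheme.Hom.comp_apply, ← hx, Scheme.Hom.comp_apply]
      let u' : (W.1 : Scheme.{u}) := ⟨x₀ p, h0 p⟩
      exact ⟨q W u', (quotMap_apply hcov W u').symm⟩
    rwa [quotMap_preimage] at this
  let a₀ : Spec (CommRingCat.of k) ⟶ (W.1 : Scheme.{u}) := liftOpen W.1 x₀ h0
  let a₁ : Spec (CommRingCat.of k) ⟶ (W.1 : Scheme.{u}) := liftOpen W.1 x₁ h1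
  have ha : a₀ ≫ q W = a₁ ≫ q W := by
    rw [← cancel_mono (quotι G W), Category.assoc, Category.assoc, ← ι_quotMap hcov,
      ← Category.assoc, ← Category.assoc, liftOpen_ι, liftOpen_ι]
    exact hx
  obtain ⟨rb, hr1, hr2⟩ := Groth.Agent.S1878.kpoints_orbit W.res k a₀ a₁ ha
  change Spec (CommRingCat.of k) ⟶ ((G.s ⁻¹ᵁ W.1 : G.R.Opens) : Scheme.{u}) at rb
  change rb ≫ resT G W.1 W.2.2 = a₀ at hr1
  change rb ≫ resS G W.1 = a₁ at hr2
  let ρ : Spec (CommRingCat.of k) ⟶ G.R := rb ≫ (G.s ⁻¹ᵁ W.1).ι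
  have hρt : ρ ≫ G.t = x₀ := by
    simp only [ρ, Category.assoc]
    rw [← resT_ι G W.1 W.2.2, ← Category.assoc, hr1, liftOpen_ι]
  have hρs : ρ ≫ G.s = x₁ := by
    simp only [ρ, Category.assoc]
    rw [← resS_ι, ← Category.assoc, hr2, liftOpen_ι]
  have hρ : ρ ≫ pullback.lift G.t G.s (quotMap_cond hcov) = yb := by
    apply pullback.hom_ext
    · rw [Category.assoc, pullback.lift_fst, hρt]
    · rw [Category.assoc, pullback.lift_snd, hρs]
  refine ⟨ρ pt, ?_⟩
  rw [← Scheme.Hom.comp_apply, hρ, hyb]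

end Global

section Coeq

variable (horb : ∀ u : G.U, ∃ V : G.U.Opens, IsAffineOpen V ∧ ∀ r : G.R, G.s r = u → G.t r ∈ V)

include horb in
lemma hcov_of_horb : ∀ u : G.U, ∃ W : InvAff G, u ∈ W.1 := by
  intro u
  obtain ⟨V, hV, huV⟩ := horb u
  obtain ⟨W, hWa, huW, -, -, hWinv⟩ := exists_invariant_affine_le G u V hV ⊤ rfl trivial huV
  exact ⟨⟨W, hWa, hWinv⟩, huW⟩

include horb in
/-- Invariant affine neighbourhoods mapping into an affine open of the target. -/
lemma exists_invAff_le_preimage {Z : Scheme.{u}} (f : G.U ⟶ Z) (hf : G.t ≫ f = G.s ≫ f)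
    (u : G.U) :
    ∃ (W : InvAff G) (Z' : Z.Opens), IsAffineOpen Z' ∧ u ∈ W.1 ∧ W.1 ≤ f ⁻¹ᵁ Z' := by
  obtain ⟨Z', hZ'a, hfu, -⟩ := exists_isAffineOpen_mem_and_subset (x := f u) (U := ⊤) trivial
  obtain ⟨V, hV, huV⟩ := horb u
  have hO : G.s ⁻¹ᵁ (f ⁻¹ᵁ Z') = G.t ⁻¹ᵁ (f ⁻¹ᵁ Z') := by
    rw [← Scheme.Hom.comp_preimage, ← Scheme.Hom.comp_preimage, hf]
  obtain ⟨W, hWa, huW, hWO, -, hWinv⟩ :=
    exists_invariant_affine_le G u V hV (f ⁻¹ᵁ Z') hO hfu huV
  exact ⟨⟨W, hWa, hWinv⟩, Z', hZ'a, huW, hWO⟩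

/-- **Uniqueness in the coequalizer property.** -/
theorem quotMap_epi {Z : Scheme.{u}} (g₁ g₂ : quotY G ⟶ Z)
    (h : quotMap G (hcov_of_horb horb) ≫ g₁ = quotMap G (hcov_of_horb horb) ≫ g₂) : g₁ = g₂ := by
  refine Scheme.hom_ext_of_forall _ _ (fun y => ?_)
  obtain ⟨u, rfl⟩ := (quotMap G (hcov_of_horb horb)).surjective y
  have hf : G.t ≫ quotMap G (hcov_of_horb horb) ≫ g₁ =
      G.s ≫ quotMap G (hcov_of_horb horb) ≫ g₁ := by
    rw [← Category.assoc, quotMap_cond, Category.assoc]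
  obtain ⟨W, Z', hZ'a, huW, hWZ'⟩ := exists_invAff_le_preimage horb _ hf u
  let u' : (W.1 : Scheme.{u}) := ⟨u, huW⟩
  refine ⟨(quotι G W).opensRange, ⟨q W u', (quotMap_apply _ W u').symm⟩, ?_⟩
  rw [← Scheme.Hom.isoOpensRange_inv_comp, Category.assoc, Category.assoc]
  congr 1
  refine q_epi_of_mem_affine W _ _ Z' hZ'a (fun y => ?_) ?_
  · obtain ⟨x, rfl⟩ := q_surjective W y
    rw [← Scheme.Hom.comp_apply, ← Category.assoc,
      ← ι_quotMap (hcov_of_horb horb), Category.assoc, Scheme.Hom.comp_apply]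
    exact hWZ' x.2
  · rw [← Category.assoc, ← Category.assoc, ← ι_quotMap (hcov_of_horb horb), Category.assoc,
      Category.assoc, h]

/-- **Existence in the coequalizer property.** -/
theorem exists_desc {Z : Scheme.{u}} (f : G.U ⟶ Z) (hf : G.t ≫ f = G.s ≫ f) :
    ∃ g : quotY G ⟶ Z, quotMap G (hcov_of_horb horb) ≫ g = f := by
  classical
  let I := {W : InvAff G // ∃ Z' : Z.Opens, IsAffineOpen Z' ∧ W.1 ≤ f ⁻¹ᵁ Z'}
  have hloc : ∀ i : I, ∃ (Z' : Z.Opens) (g : Y i.1 ⟶ Z), IsAffineOpen Z' ∧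
      q i.1 ≫ g = i.1.1.ι ≫ f ∧ ∀ y, g y ∈ Z' := by
    rintro ⟨W, Z', hZ', hW⟩
    obtain ⟨g, hg1, hg2⟩ := exists_local_desc W f hf Z' hZ' hW
    exact ⟨Z', g, hZ', hg1, hg2⟩
  choose Z' g hZ' hg1 hg2 using hloc
  let 𝒰 : (quotY G).OpenCover :=
    { I₀ := I
      X := fun i => Y i.1
      f := fun i => quotι G i.1
      mem₀ := by
        rw [Scheme.presieve₀_mem_precoverage_iff]
        refine ⟨fun y => ?_, fun i => inferInstance⟩
        obtain ⟨u, rfl⟩ := (quotMap G (hcov_of_horb horb)).surjective y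
        obtain ⟨W, Z', hZ'a, huW, hWZ'⟩ := exists_invAff_le_preimage horb f hf u
        exact ⟨⟨W, Z', hZ'a, hWZ'⟩, q W ⟨u, huW⟩, (quotMap_apply _ W _).symm⟩ }
  have hcompat : ∀ i j : I, pullback.fst (quotι G i.1) (quotι G j.1) ≫ g i =
      pullback.snd _ _ ≫ g j := by
    intro i j
    refine Scheme.hom_ext_of_forall _ _ (fun p => ?_)
    have hp : quotι G i.1 (pullback.fst (quotι G i.1) (quotι G j.1) p) =
        quotι G j.1 (pullback.snd (quotι G i.1) (quotι G j.1) p) := by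
      rw [← Scheme.Hom.comp_apply, ← Scheme.Hom.comp_apply, pullback.condition]
    obtain ⟨k, fi, fj, x, hx1, hx2⟩ :=
      (Scheme.IsLocallyDirected.ι_eq_ι_iff (F := quotFunctor G)).mp hp
    change InvAff G at k
    change Y k at x
    change map (leOfHom fi) x = _ at hx1
    change map (leOfHom fj) x = _ at hx2
    let m : Y k ⟶ pullback (quotι G i.1) (quotι G j.1) :=
      pullback.lift (map (leOfHom fi)) (map (leOfHom fj)) (by rw [map_quotι, map_quotι])
    haveI : IsOpenImmersion m := by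
      haveI : IsOpenImmersion (m ≫ pullback.fst (quotι G i.1) (quotι G j.1)) := by
        rw [pullback.lift_fst]; infer_instance
      exact IsOpenImmersion.of_comp m (pullback.fst _ _)
    have hmx : m x = p := by
      apply (pullback.fst (quotι G i.1) (quotι G j.1)).isOpenEmbedding.injective
      rw [← Scheme.Hom.comp_apply, pullback.lift_fst]
      exact hx1
    refine ⟨m.opensRange, ⟨x, hmx⟩, ?_⟩
    rw [← Scheme.Hom.isoOpensRange_inv_comp, Category.assoc, Category.assoc]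
    congr 1
    rw [← Category.assoc, ← Category.assoc, pullback.lift_fst, pullback.lift_snd]
    refine q_epi_of_mem_affine k _ _ (Z' i) (hZ' i) (fun y => ?_) ?_
    · rw [Scheme.Hom.comp_apply]
      exact hg2 i _
    · rw [q_map_assoc, q_map_assoc, hg1, hg1, ← Category.assoc, ← Category.assoc,
        Scheme.homOfLE_ι, Scheme.homOfLE_ι]
  refine ⟨𝒰.glueMorphisms g hcompat, ?_⟩
  refine Scheme.hom_ext_of_forall _ _ (fun u => ?_)
  obtain ⟨W, Z'', hZ''a, huW, hWZ''⟩ := exists_invAff_le_preimage horb f hf u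
  let i : I := ⟨W, Z'', hZ''a, hWZ''⟩
  refine ⟨W.1, huW, ?_⟩
  rw [ι_quotMap_assoc]
  have h1 : quotι G W ≫ 𝒰.glueMorphisms g hcompat = g i := 𝒰.ι_glueMorphisms g hcompat i
  rw [h1, hg1 i]

end Coeq

/-- **Quotient by a finite locally free groupoid** whose orbits lie in affine opens. -/
theorem exists_quotient (G : GroupoidScheme S) [IsFinite G.s] [Flat G.s]
    [LocallyOfFinitePresentation G.s]
    (horb : ∀ u : G.U, ∃ V : G.U.Opens, IsAffineOpen V ∧ ∀ r : G.R, G.s r = u → G.t r ∈ V) :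
    ∃ (Y : Scheme.{u}) (p : G.U ⟶ Y) (w : G.t ≫ p = G.s ≫ p),
      Nonempty (IsColimit (Cofork.ofπ p w)) ∧ IsIntegralHom p ∧ Surjective p ∧ IsOpenMap p ∧
      (∀ x y : G.U, p x = p y ↔ ∃ r : G.R, G.t r = x ∧ G.s r = y) ∧
      Function.Surjective (pullback.lift G.t G.s w) ∧ (IsAffine G.U → IsAffine Y) := by
  refine ⟨quotY G, quotMap G (hcov_of_horb horb), quotMap_cond _, ⟨?_⟩, inferInstance,
    inferInstance, quotMap_isOpenMap _, quotMap_eq_iff _, lift_surjective _,
    fun _ => isAffine_quotY⟩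
  exact Cofork.IsColimit.mk _ (fun s => (exists_desc horb s.π s.condition).choose)
    (fun s => (exists_desc horb s.π s.condition).choose_spec)
    (fun s m hm => quotMap_epi horb _ _
      (hm.trans (exists_desc horb s.π s.condition).choose_spec.symm))

end Groth.Agent.Lib.Helper37.NM
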