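import Mathlib.Algebra.Module.Submodule.Union
import Mathlib.Algebra.Module.Torsion.Basic
import Mathlib.RingTheory.LocalRing.ResidueField.Basic
import Mathlib.LinearAlgebra.Dimension.Constructions
import Mathlib.LinearAlgebra.FiniteDimensional.Lemmas

set_option autoImplicit false
set_option linter.style.haveILetI false
universe u
open IsLocalRing

namespace Groth.Agent.Lib.Helper37

/-- Avoidance of finitely many proper submodules containing `𝔪 W`, over a local ring with infinite
residue field. -/
theorem exists_forall_notMem_of_isLocalRing {C : Type*} [CommRing C] [IsLocalRing C]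
    [Infinite (ResidueField C)] {W : Type*} [AddCommGroup W] [Module C W]
    {L : Type*} [Finite L] (U : L → Submodule C W) (hU : ∀ l, U l ≠ ⊤)
    (hm : ∀ l, maximalIdeal C • (⊤ : Submodule C W) ≤ U l) :
    ∃ w, ∀ l, w ∉ U l := by
  let I := maximalIdeal C
  let N : Submodule C W := I • ⊤
  letI : Field (C ⧸ I) := Ideal.Quotient.field I
  haveI : Infinite (C ⧸ I) := inferInstanceAs (Infinite (ResidueField C))
  let Ubar : L → Submodule (C ⧸ I) (W ⧸ N) := fun l =>
    { carrier := N.mkQ '' (U l)
      add_mem' := by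
        rintro _ _ ⟨a, ha, rfl⟩ ⟨b, hb, rfl⟩
        exact ⟨a + b, (U l).add_mem ha hb, map_add _ _ _⟩
      zero_mem' := ⟨0, (U l).zero_mem, map_zero _⟩
      smul_mem' := by
        rintro c _ ⟨a, ha, rfl⟩
        obtain ⟨c, rfl⟩ := Ideal.Quotient.mk_surjective c
        exact ⟨c • a, (U l).smul_mem c ha, rfl⟩ }
  have hmem : ∀ l w, N.mkQ w ∈ Ubar l → w ∈ U l := by
    rintro l w ⟨a, ha, hab⟩
    have h1 : a - w ∈ N := by
      rw [← Submodule.Quotient.mk_eq_zero, Submodule.Quotient.mk_sub, sub_eq_zero]
      exact hab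
    have h2 : a - w ∈ U l := hm l h1
    have : w = a - (a - w) := by abel
    rw [this]
    exact (U l).sub_mem ha h2
  have hne : ∀ l, Ubar l ≠ ⊤ := by
    intro l h
    apply hU l
    rw [eq_top_iff]
    intro w _
    apply hmem l w
    rw [h]
    trivial
  obtain ⟨wbar, hw⟩ := Submodule.exists_forall_notMem_of_forall_ne_top Ubar hne
  obtain ⟨w, rfl⟩ := N.mkQ_surjective wbar
  exact ⟨w, fun l hwl => hw l ⟨w, hwl, rfl⟩⟩

/-- Simultaneous choice of vectors which are linearly independent in finitely many fibres. -/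
theorem exists_simultaneous_linearIndependent {C : Type*} [CommRing C] [IsLocalRing C]
    [Infinite (ResidueField C)] {W : Type*} [AddCommGroup W] [Module C W]
    {L : Type*} [Finite L] (κ : L → Type*) [∀ l, Field (κ l)] [∀ l, Algebra C (κ l)]
    (V : L → Type*) [∀ l, AddCommGroup (V l)] [∀ l, Module (κ l) (V l)] [∀ l, Module C (V l)]
    [∀ l, IsScalarTower C (κ l) (V l)] [∀ l, Module.Finite (κ l) (V l)]
    (hκ : ∀ l, ∀ z ∈ maximalIdeal C, algebraMap C (κ l) z = 0)
    (φ : ∀ l, W →ₗ[C] V l) (hφ : ∀ l, Submodule.span (κ l) (Set.range (φ l)) = ⊤)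
    (r : ℕ) (hr : ∀ l, Module.finrank (κ l) (V l) = r) :
    ∀ t ≤ r, ∃ x : Fin t → W, ∀ l, LinearIndependent (κ l) (fun j => φ l (x j)) := by
  intro t
  induction t with
  | zero =>
    intro _
    exact ⟨Fin.elim0, fun l => linearIndependent_empty_type⟩
  | succ t ih =>
    intro ht
    obtain ⟨x, hx⟩ := ih (Nat.le_of_succ_le ht)
    let S : ∀ l, Submodule (κ l) (V l) := fun l => Submodule.span (κ l) (Set.range fun j => φ l (x j))
    have hS : ∀ l, S l ≠ ⊤ := by
      intro l h
      have h1 : Module.finrank (κ l) (S l) ≤ t := by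
        have := finrank_range_le_card (R := κ l) (fun j => φ l (x j))
        simpa [S, Set.finrank] using this
      rw [h, finrank_top, hr] at h1
      omega
    let U : L → Submodule C W := fun l => ((S l).restrictScalars C).comap (φ l)
    have hU : ∀ l, U l ≠ ⊤ := by
      intro l h
      apply hS l
      rw [eq_top_iff, ← hφ l, Submodule.span_le]
      rintro _ ⟨w, rfl⟩
      have : w ∈ U l := by rw [h]; trivial
      exact this
    have hm : ∀ l, maximalIdeal C • (⊤ : Submodule C W) ≤ U l := by
      intro l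
      rw [Submodule.smul_le]
      intro z hz w _
      change φ l (z • w) ∈ S l
      rw [map_smul, ← algebraMap_smul (κ l) z (φ l w), hκ l z hz, zero_smul]
      exact (S l).zero_mem
    obtain ⟨w, hw⟩ := exists_forall_notMem_of_isLocalRing U hU hm
    refine ⟨Fin.snoc x w, fun l => ?_⟩
    have : (fun j => φ l ((Fin.snoc x w : Fin (t + 1) → W) j)) =
        Fin.snoc (fun j => φ l (x j)) (φ l w) := by
      funext j
      refine Fin.lastCases ?_ (fun j => ?_) j
      · simp
      · simp
    rw [this, linearIndependent_finSnoc]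
    exact ⟨hx l, hw l⟩

end Groth.Agent.Lib.Helper37
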