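import Groth.Agent.Lib.Helper37.GrpdRData
import Groth.Agent.Lib.Helper37.SimultaneousBasis
import Mathlib.RingTheory.Flat.Rank
import Mathlib.RingTheory.Flat.LocallyFree
import Mathlib.RingTheory.QuasiFinite.Basic
import Mathlib.RingTheory.LocalRing.ResidueField.Fiber
import Mathlib.FieldTheory.IsAlgClosed.AlgebraicClosure

set_option autoImplicit false
set_option linter.style.haveILetI false
universe u
open Polynomial TensorProduct CategoryTheory CategoryTheory.Limits IsLocalRing

namespace Groth.Agent.Lib.Helper37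

theorem exists_ringHom_ker_eq_of_isMaximal {C A : Type u} [CommRing C] [CommRing A] [Algebra C A]
    [Algebra.IsIntegral C A] (m : Ideal A) [m.IsMaximal] {k : Type u} [Field k] [IsAlgClosed k]
    (μ : C →+* k) (hμ : RingHom.ker μ = m.comap (algebraMap C A)) :
    ∃ ξ : A →+* k, RingHom.ker ξ = m ∧ ξ.comp (algebraMap C A) = μ := by
  have hμ' : ∀ c ∈ m.comap (algebraMap C A), μ c = 0 := by
    intro c hc
    rw [← hμ] at hc
    exact hc
  let μbar : (C ⧸ m.comap (algebraMap C A)) →+* k := Ideal.Quotient.lift _ μ hμ'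
  obtain ⟨ξbar, hξbar⟩ := exists_ringHom_extension_of_isIntegral
    (C := C ⧸ m.comap (algebraMap C A)) (A := A ⧸ m) Ideal.algebraMap_quotient_injective μbar
  letI : Field (A ⧸ m) := Ideal.Quotient.field m
  refine ⟨ξbar.comp (Ideal.Quotient.mk m), ?_, ?_⟩
  · ext a
    rw [RingHom.mem_ker, RingHom.comp_apply, map_eq_zero_iff ξbar ξbar.injective,
      Ideal.Quotient.eq_zero_iff_mem]
  · ext c
    have h1 : (Ideal.Quotient.mk m) (algebraMap C A c) =
        algebraMap (C ⧸ m.comap (algebraMap C A)) (A ⧸ m) (Ideal.Quotient.mk _ c) := rfl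
    rw [RingHom.comp_apply, RingHom.comp_apply, h1]
    have := RingHom.congr_fun hξbar (Ideal.Quotient.mk _ c)
    rw [RingHom.comp_apply] at this
    rw [this]
    rfl

namespace RData

variable {A B P : Type u} [CommRing A] [CommRing B] [CommRing P] [Algebra A B] (D : RData A B P)

theorem rankAtStalk_comap_eq [Module.Finite A B] [Module.Flat A B] (q : PrimeSpectrum B) :
    Module.rankAtStalk B (PrimeSpectrum.comap (algebraMap A B) q) =
      Module.rankAtStalk B (PrimeSpectrum.comap D.τ q) := by
  have hflat : (algebraMap A B).Flat := RingHom.flat_algebraMap_iff.mpr inferInstance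
  have hfin : (algebraMap A B).Finite := RingHom.finite_algebraMap.mpr inferInstance
  have h1 := CommRingCat.finrank_eq_of_isPushout D.hps.flip hflat hfin q
  have h2 := CommRingCat.finrank_eq_of_isPushout D.hpt.flip hflat hfin q
  have h3 := h1.symm.trans h2
  simp only [CommRingCat.hom_ofHom, RingHom.finrank_algebraMap] at h3
  exact h3

theorem exists_prime_comap_eq [Module.Finite A B] [Module.Projective A B] {C : Type u}
    [CommRing C] [IsLocalRing C] [Algebra C A] [Algebra.IsIntegral C A]
    (hinv : ∀ a, algebraMap A B a = D.τ a → a ∈ Set.range (algebraMap C A))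
    (m m' : Ideal A) [m.IsMaximal] [m'.IsMaximal] :
    ∃ q : Ideal B, q.IsPrime ∧ q.comap D.τ = m ∧ q.comap (algebraMap A B) = m' := by
  obtain ⟨n, r, i, -, -, hri⟩ := Module.Finite.exists_comp_eq_id_of_projective A B
  have hr : ∀ x, r (i x) = x := fun x => LinearMap.congr_fun hri x
  let Ω := AlgebraicClosure (ResidueField C)
  let μ : C →+* Ω := (algebraMap (ResidueField C) Ω).comp (residue C)
  have hker : RingHom.ker μ = maximalIdeal C := by
    ext z
    rw [RingHom.mem_ker, RingHom.comp_apply,
      map_eq_zero_iff _ (algebraMap (ResidueField C) Ω).injective, residue_eq_zero_iff]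
  have hcomap : ∀ (M : Ideal A) [M.IsMaximal], M.comap (algebraMap C A) = maximalIdeal C := by
    intro M _
    haveI := Ideal.isMaximal_comap_of_isIntegral_of_isMaximal (R := C) M
    exact IsLocalRing.eq_maximalIdeal this
  obtain ⟨x₀, hx₀k, hx₀⟩ := exists_ringHom_ker_eq_of_isMaximal m μ (hker.trans (hcomap m).symm)
  obtain ⟨x₁, hx₁k, hx₁⟩ := exists_ringHom_ker_eq_of_isMaximal m' μ (hker.trans (hcomap m').symm)
  have hx : ∀ a, algebraMap A B a = D.τ a → x₀ a = x₁ a := by
    intro a ha
    obtain ⟨z, rfl⟩ := hinv a ha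
    have h0 := RingHom.congr_fun hx₀ z
    have h1 := RingHom.congr_fun hx₁ z
    rw [RingHom.comp_apply] at h0 h1
    rw [h0, h1]
  obtain ⟨ρ, hρ₀, hρ₁⟩ := exists_hom_of_agree D.τ D.e D.hes D.het D.c D.p₁ D.p₂ D.hps D.hpt
    D.hct i r hr x₀ x₁ hx
  refine ⟨RingHom.ker ρ, RingHom.ker_isPrime ρ, ?_, ?_⟩
  · rw [RingHom.comap_ker, hρ₀, hx₀k]
  · rw [RingHom.comap_ker, hρ₁, hx₁k]

theorem finite_setOf_isMaximal [Module.Finite A B] [Module.Projective A B] {C : Type u}
    [CommRing C] [IsLocalRing C] [Algebra C A] [Algebra.IsIntegral C A]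
    (hinv : ∀ a, algebraMap A B a = D.τ a → a ∈ Set.range (algebraMap C A)) :
    {m : Ideal A | m.IsMaximal}.Finite := by
  by_cases h : ∃ m' : Ideal A, m'.IsMaximal
  · obtain ⟨m', hm'⟩ := h
    have hfin : (m'.primesOver B).Finite := Algebra.QuasiFinite.finite_primesOver m'
    refine (hfin.image (fun q => q.comap D.τ)).subset ?_
    intro m (hm : m.IsMaximal)
    obtain ⟨q, hq, hqm, hqm'⟩ := D.exists_prime_comap_eq hinv m m'
    exact ⟨q, ⟨hq, ⟨hqm'.symm⟩⟩, hqm⟩
  · push Not at h
    have : {m : Ideal A | m.IsMaximal} = ∅ := by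
      ext m
      simp only [Set.mem_ofPred_eq, Set.mem_empty_iff_false, iff_false]
      exact h m
    rw [this]
    exact Set.finite_empty

/-- Surjectivity of a linear map onto a finite module can be checked on the fibres at maximal
ideals. -/
theorem _root_.Groth.Agent.Lib.Helper37.surjective_of_fibre_span {A B : Type u} [CommRing A]
    [AddCommGroup B] [Module A B] [Module.Finite A B] {r : ℕ} (y : Fin r → B)
    (h : ∀ (m : Ideal A) [m.IsMaximal],
      Submodule.span m.ResidueField (Set.range fun j => (1 : m.ResidueField) ⊗ₜ[A] y j) = ⊤) :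
    Function.Surjective (Fintype.linearCombination A y) := by
  rw [← LinearMap.range_eq_top]
  by_contra hne
  set N := LinearMap.range (Fintype.linearCombination A y) with hN
  haveI : Nontrivial (B ⧸ N) := Submodule.Quotient.nontrivial_iff.mpr hne
  obtain ⟨p, hp⟩ := Module.nonempty_support_of_nontrivial (R := A) (M := B ⧸ N)
  obtain ⟨m, hm, hpm⟩ := Ideal.exists_le_maximal p.asIdeal p.2.ne_top
  have hmem : (⟨m, hm.isPrime⟩ : PrimeSpectrum A) ∈ Module.support A (B ⧸ N) :=
    Module.mem_support_mono (show p ≤ ⟨m, hm.isPrime⟩ from hpm) hp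
  rw [Module.mem_support_iff_nontrivial_residueField_tensorProduct] at hmem
  let f : m.ResidueField ⊗[A] B →ₗ[m.ResidueField] m.ResidueField ⊗[A] (B ⧸ N) :=
    N.mkQ.baseChange m.ResidueField
  have hf : Function.Surjective f := by
    have : Function.Surjective (N.mkQ.lTensor m.ResidueField) :=
      LinearMap.lTensor_surjective _ N.mkQ_surjective
    exact this
  have hker : LinearMap.ker f = ⊤ := by
    rw [eq_top_iff, ← h m, Submodule.span_le]
    rintro _ ⟨j, rfl⟩
    rw [SetLike.mem_coe, LinearMap.mem_ker, LinearMap.baseChange_tmul]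
    have : N.mkQ (y j) = 0 := by
      rw [Submodule.mkQ_apply, Submodule.Quotient.mk_eq_zero]
      refine ⟨Pi.single j 1, ?_⟩
      simp [Fintype.linearCombination_apply, Pi.single_apply]
    rw [this, tmul_zero]
  have : Subsingleton (m.ResidueField ⊗[A] (B ⧸ N)) := by
    refine ⟨fun a b => ?_⟩
    obtain ⟨a', rfl⟩ := hf a
    obtain ⟨b', rfl⟩ := hf b
    have ha : a' ∈ LinearMap.ker f := by rw [hker]; trivial
    have hb : b' ∈ LinearMap.ker f := by rw [hker]; trivial
    rw [LinearMap.mem_ker.mp ha, LinearMap.mem_ker.mp hb]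
  exact not_subsingleton _ this

/-- Local theorem, part 1: over a local ring of invariants with infinite residue field, there are
`x_j ∈ A` such that `τ(x_j)` is an `A`-basis of `B`. -/
theorem exists_gmap_bijective [Module.Finite A B] [Module.Projective A B] {C : Type u}
    [CommRing C] [IsLocalRing C] [Infinite (ResidueField C)] [Algebra C A]
    (hinj : Function.Injective (algebraMap C A))
    (hinv : ∀ a, algebraMap A B a = D.τ a ↔ a ∈ Set.range (algebraMap C A))
    (hspan : Submodule.span A (Set.range D.τ) = ⊤) :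
    ∃ (r : ℕ) (x : Fin r → A), Function.Bijective (D.gmap x) := by
  haveI : Algebra.IsIntegral C A := D.isIntegral_of_invariants fun a ha => (hinv a).mp ha
  haveI : Nontrivial A := hinj.nontrivial
  have hinv' : ∀ a, algebraMap A B a = D.τ a → a ∈ Set.range (algebraMap C A) :=
    fun a ha => (hinv a).mp ha
  have hinvC : ∀ z : C, D.τ (algebraMap C A z) = algebraMap A B (algebraMap C A z) :=
    fun z => ((hinv _).mpr ⟨z, rfl⟩).symm
  let L := {m : Ideal A // m.IsMaximal}
  haveI : Finite L := (D.finite_setOf_isMaximal hinv').to_subtype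
  haveI hLmax : ∀ l : L, l.1.IsMaximal := fun l => l.2
  obtain ⟨m₀, hm₀⟩ := Ideal.exists_maximal A
  let r := Module.rankAtStalk B ⟨m₀, hm₀.isPrime⟩
  have hrank : ∀ (m : Ideal A) [hm : m.IsMaximal], Module.rankAtStalk B ⟨m, hm.isPrime⟩ = r := by
    intro m hm
    obtain ⟨q, hq, hqm, hqm'⟩ := D.exists_prime_comap_eq hinv' m m₀
    have := D.rankAtStalk_comap_eq ⟨q, hq⟩
    have e1 : PrimeSpectrum.comap (algebraMap A B) ⟨q, hq⟩ = ⟨m₀, hm₀.isPrime⟩ :=
      PrimeSpectrum.ext hqm'
    have e2 : PrimeSpectrum.comap D.τ ⟨q, hq⟩ = ⟨m, hm.isPrime⟩ := PrimeSpectrum.ext hqm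
    rw [e1, e2] at this
    exact this.symm
  have hcomap : ∀ (M : Ideal A) [M.IsMaximal], M.comap (algebraMap C A) = maximalIdeal C := by
    intro M _
    haveI := Ideal.isMaximal_comap_of_isIntegral_of_isMaximal (R := C) M
    exact IsLocalRing.eq_maximalIdeal this
  let φ : ∀ l : L, A →ₗ[C] l.1.ResidueField ⊗[A] B := fun l =>
    { toFun := fun a => (1 : l.1.ResidueField) ⊗ₜ[A] D.τ a
      map_add' := fun a b => by rw [map_add, tmul_add]
      map_smul' := fun z a => by
        rw [RingHom.id_apply, Algebra.smul_def, map_mul, hinvC, ← Algebra.smul_def,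
          ← TensorProduct.smul_tmul, TensorProduct.smul_tmul', algebraMap_smul] }
  have hφ : ∀ l : L, Submodule.span l.1.ResidueField (Set.range (φ l)) = ⊤ := by
    intro l
    rw [eq_top_iff]
    rintro y -
    induction y using TensorProduct.induction_on with
    | zero => exact Submodule.zero_mem _
    | add a b ha hb => exact Submodule.add_mem _ ha hb
    | tmul lam b =>
      have hb : b ∈ Submodule.span A (Set.range D.τ) := by rw [hspan]; trivial
      induction hb using Submodule.span_induction generalizing lam with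
      | mem b hb =>
        obtain ⟨a, rfl⟩ := hb
        have : lam ⊗ₜ[A] D.τ a = lam • φ l a := by
          change _ = lam • ((1 : l.1.ResidueField) ⊗ₜ[A] D.τ a)
          rw [TensorProduct.smul_tmul', smul_eq_mul, mul_one]
        rw [this]
        exact Submodule.smul_mem _ _ (Submodule.subset_span ⟨a, rfl⟩)
      | zero => rw [tmul_zero]; exact Submodule.zero_mem _
      | add b b' _ _ hb hb' => rw [tmul_add]; exact Submodule.add_mem _ (hb lam) (hb' lam)
      | smul a b _ hb =>
        rw [← TensorProduct.smul_tmul]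
        exact hb (a • lam)
  have hκ : ∀ l : L, ∀ z ∈ maximalIdeal C, algebraMap C l.1.ResidueField z = 0 := by
    intro l z hz
    rw [IsScalarTower.algebraMap_apply C A l.1.ResidueField, Ideal.algebraMap_residueField_eq_zero]
    rw [← hcomap l.1] at hz
    exact hz
  have hr : ∀ l : L, Module.finrank l.1.ResidueField (l.1.ResidueField ⊗[A] B) = r := by
    intro l
    rw [← hrank l.1]
    exact (Module.rankAtStalk_eq (M := B) ⟨l.1, l.2.isPrime⟩).symm
  obtain ⟨x, hx⟩ := exists_simultaneous_linearIndependent (C := C) (W := A)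
    (fun l : L => l.1.ResidueField) (fun l : L => l.1.ResidueField ⊗[A] B) hκ φ hφ r hr r le_rfl
  refine ⟨r, x, ?_⟩
  have hsurj : Function.Surjective (D.gmap x) := by
    apply surjective_of_fibre_span
    intro m hm
    have h1 := hx ⟨m, hm⟩
    exact h1.span_eq_top_of_card_eq_finrank' (by rw [Fintype.card_fin]; exact (hr ⟨m, hm⟩).symm)
  haveI : Module.Flat A B := inferInstance
  refine Module.bijective_of_surjective_of_rankAtStalk_eq hsurj fun m hm => ?_
  rw [hrank m, Module.rankAtStalk_eq_finrank_of_free]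
  simp

/-- Local theorem: over a local ring of invariants with infinite residue field, there are
`x_j ∈ A` forming a basis of `A` over the invariants such that `τ(x_j)` is an `A`-basis of `B`. -/
theorem local_theorem [Module.Finite A B] [Module.Projective A B] {C : Type u}
    [CommRing C] [IsLocalRing C] [Infinite (ResidueField C)] [Algebra C A]
    (hinj : Function.Injective (algebraMap C A))
    (hinv : ∀ a, algebraMap A B a = D.τ a ↔ a ∈ Set.range (algebraMap C A))
    (hspan : Submodule.span A (Set.range D.τ) = ⊤) :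
    ∃ (r : ℕ) (x : Fin r → A), Function.Bijective (D.gmap x) ∧
      Function.Bijective (Fintype.linearCombination C x : (Fin r → C) →ₗ[C] A) := by
  obtain ⟨r, x, hx⟩ := D.exists_gmap_bijective hinj hinv hspan
  exact ⟨r, x, hx, D.bijective_of_gmap_bijective hinj hinv x hx⟩

end RData

end Groth.Agent.Lib.Helper37
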