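import Mathlib

set_option autoImplicit false
universe u

namespace Groth.Agent.Lib.Helper37

section R1

variable {A B A' B' : Type u} [CommRing A] [CommRing B] [CommRing A'] [CommRing B']
  [Algebra A A'] [Algebra B B'] (σ τ : A →+* B) (σ' τ' : A' →+* B')

/-- **Localization of invariants.** If `c` is an invariant element (`σ c = τ c`), and
`(σ', τ')` is the localization of the pair `(σ, τ)` away from `c`, then the equalizer of
`(σ', τ')` is the localization of the equalizer of `(σ, τ)` away from `c`. -/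
theorem isLocalization_eqLocus
    (hσ : ∀ a, σ' (algebraMap A A' a) = algebraMap B B' (σ a))
    (hτ : ∀ a, τ' (algebraMap A A' a) = algebraMap B B' (τ a))
    (c : A) (hc : σ c = τ c) [IsLocalization.Away c A'] [IsLocalization.Away (σ c) B']
    (ψ : RingHom.eqLocus σ τ →+* RingHom.eqLocus σ' τ')
    (hψ : ∀ a : RingHom.eqLocus σ τ, (ψ a : A') = algebraMap A A' a) :
    @IsLocalization.Away _ _ (⟨c, hc⟩ : RingHom.eqLocus σ τ) (RingHom.eqLocus σ' τ') _
      ψ.toAlgebra := by
  let _ : Algebra (RingHom.eqLocus σ τ) (RingHom.eqLocus σ' τ') := ψ.toAlgebra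
  have halg : ∀ a : RingHom.eqLocus σ τ,
      algebraMap (RingHom.eqLocus σ τ) (RingHom.eqLocus σ' τ') a = ψ a := fun _ => rfl
  -- the inverse of `c`
  have hu : IsUnit (algebraMap A A' c) := IsLocalization.Away.algebraMap_isUnit c
  obtain ⟨d, hd⟩ := hu.exists_right_inv
  have hdmem : σ' d = τ' d := by
    have h1 : σ' (algebraMap A A' c) * σ' d = 1 := by rw [← map_mul, hd, map_one]
    have h2 : τ' (algebraMap A A' c) * τ' d = 1 := by rw [← map_mul, hd, map_one]
    have h3 : σ' (algebraMap A A' c) = τ' (algebraMap A A' c) := by rw [hσ, hτ, hc]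
    calc σ' d = σ' d * (τ' (algebraMap A A' c) * τ' d) := by rw [h2, mul_one]
      _ = (σ' (algebraMap A A' c) * σ' d) * τ' d := by rw [← h3]; ring
      _ = τ' d := by rw [h1, one_mul]
  have hunit : IsUnit (ψ ⟨c, hc⟩) := by
    refine IsUnit.of_mul_eq_one (⟨d, hdmem⟩ : RingHom.eqLocus σ' τ') ?_
    apply Subtype.ext
    change (ψ ⟨c, hc⟩ : A') * d = 1
    rw [hψ]
    exact hd
  refine ⟨?_, ?_, ?_⟩
  · rintro ⟨y, n, rfl⟩
    change IsUnit (algebraMap _ _ ((⟨c, hc⟩ : RingHom.eqLocus σ τ) ^ n))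
    rw [halg, map_pow]
    exact hunit.pow n
  · intro z
    obtain ⟨⟨a, ⟨_, n, rfl⟩⟩, hza⟩ := IsLocalization.surj (Submonoid.powers c) (z : A')
    simp only at hza
    have hz : σ' (z : A') = τ' (z : A') := z.2
    have h1 : algebraMap B B' (σ a) = algebraMap B B' (τ a) := by
      rw [← hσ, ← hτ, ← hza, map_mul, map_mul, hz, hσ, hτ, map_pow, map_pow, hc]
      simp only [map_pow]
    obtain ⟨⟨_, m, rfl⟩, hm⟩ := (IsLocalization.eq_iff_exists (Submonoid.powers (σ c)) B').mp h1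
    simp only at hm
    have hmem : σ (c ^ m * a) = τ (c ^ m * a) := by
      rw [map_mul, map_mul, map_pow, map_pow, ← hc, hm]
    refine ⟨⟨⟨c ^ m * a, hmem⟩, ⟨(⟨c, hc⟩ : RingHom.eqLocus σ τ) ^ (n + m), n + m, rfl⟩⟩, ?_⟩
    apply Subtype.ext
    simp only [halg]
    change (z : A') * (ψ (⟨c, hc⟩ ^ (n + m)) : A') = (ψ ⟨c ^ m * a, hmem⟩ : A')
    rw [hψ, hψ]
    change (z : A') * algebraMap A A' (c ^ (n + m)) = algebraMap A A' (c ^ m * a)
    rw [pow_add, map_mul, ← mul_assoc, hza, map_mul]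
    ring
  · intro x y hxy
    rw [halg, halg] at hxy
    have h1 : algebraMap A A' x = algebraMap A A' y := by
      rw [← hψ, ← hψ, hxy]
    obtain ⟨⟨_, m, rfl⟩, hm⟩ := (IsLocalization.eq_iff_exists (Submonoid.powers c) A').mp h1
    simp only at hm
    refine ⟨⟨(⟨c, hc⟩ : RingHom.eqLocus σ τ) ^ m, m, rfl⟩, ?_⟩
    apply Subtype.ext
    exact hm

end R1

end Groth.Agent.Lib.Helper37
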