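import Mathlib

set_option autoImplicit false
set_option linter.style.haveILetI false
universe u

namespace Groth.Agent.Lib.Helper37

open CategoryTheory CategoryTheory.Limits AlgebraicGeometry

/-- An open immersion into an affine scheme whose range is a basic open induces a localization
on global sections. -/
theorem isLocalization_appTop_of_opensRange_eq {X' X₁ : Scheme.{u}} [IsAffine X₁] (j : X' ⟶ X₁)
    [IsOpenImmersion j] (c : Γ(X₁, ⊤)) (hj : j.opensRange = X₁.basicOpen c) :
    @IsLocalization.Away _ _ c Γ(X', ⊤) _ j.appTop.hom.toAlgebra := by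
  let D : X₁.Opens := X₁.basicOpen c
  let e : X' ≅ (D : Scheme.{u}) := IsOpenImmersion.isoOfRangeEq j D.ι (by
    rw [← Scheme.Hom.coe_opensRange, ← Scheme.Hom.coe_opensRange, hj, Scheme.Opens.opensRange_ι])
  have he : e.hom ≫ D.ι = j := IsOpenImmersion.isoOfRangeEq_hom_fac _ _ _
  have h1 : IsLocalization.Away c Γ(D, ⊤) := inferInstance
  letI : Algebra Γ(X₁, ⊤) Γ(X', ⊤) := j.appTop.hom.toAlgebra
  let ε : Γ(D, ⊤) ≃ₐ[Γ(X₁, ⊤)] Γ(X', ⊤) :=
    { (show Γ(D, ⊤) ≅ Γ(X', ⊤) from ⟨e.hom.appTop, e.inv.appTop,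
        by rw [← Scheme.Hom.comp_appTop, e.inv_hom_id]; simp,
        by rw [← Scheme.Hom.comp_appTop, e.hom_inv_id]; simp⟩).commRingCatIsoToRingEquiv with
      commutes' := fun r => by
        change (e.hom.appTop).hom (D.ι.appTop.hom r) = j.appTop.hom r
        rw [← he, Scheme.Hom.comp_appTop]
        rfl }
  exact IsLocalization.isLocalization_of_algEquiv (Submonoid.powers c) ε

end Groth.Agent.Lib.Helper37
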