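import Groth.Agent.S1878
import Groth.Agent.Lib.Helper37.GrpdGlue
import Groth.Agent.Lib.Helper37.InvLocalization
import Groth.Agent.Lib.Helper37.OpenImmLoc

set_option autoImplicit false
set_option linter.style.haveILetI false
set_option linter.unusedSectionVars false
universe u

namespace Groth.Agent.Lib.Helper37.NM

open CategoryTheory CategoryTheory.Limits AlgebraicGeometry Grpd

variable {S : Scheme.{u}}

section Affine

variable (G : GroupoidScheme S)

lemma t_toQuot : G.t ≫ G.toQuot = G.s ≫ G.toQuot := (Groth.Agent.S1878.s_toQuot G).symm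

/-- `toQuot` on global sections is the inclusion of the invariants. -/
lemma toQuot_appTop :
    G.toQuot.appTop = (Scheme.ΓSpecIso (CommRingCat.of G.invariants)).hom ≫
      CommRingCat.ofHom G.invariants.subtype := by
  unfold GroupoidScheme.toQuot
  rw [Scheme.Hom.comp_appTop, Scheme.toSpecΓ_appTop, Scheme.ΓSpecIso_naturality]

lemma toQuot_appTop_injective : Function.Injective G.toQuot.appTop.hom := by
  rw [toQuot_appTop]
  intro x y hxy
  have h1 := Subtype.val_injective hxy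
  exact (ConcreteCategory.bijective_of_isIso
    (Scheme.ΓSpecIso (CommRingCat.of G.invariants)).hom).1 h1

/-- Uniqueness in the universal property of `toQuot`, for affine targets. -/
theorem toQuot_epi_affine {Z : Scheme.{u}} [IsAffine Z]
    (g₁ g₂ : Spec (CommRingCat.of G.invariants) ⟶ Z) (h : G.toQuot ≫ g₁ = G.toQuot ≫ g₂) :
    g₁ = g₂ := by
  apply ext_of_isAffine
  have h1 := congrArg Scheme.Hom.appTop h
  rw [Scheme.Hom.comp_appTop, Scheme.Hom.comp_appTop] at h1
  ext z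
  apply toQuot_appTop_injective G
  exact congrArg (fun φ => φ.hom z) h1

/-- Existence in the universal property of `toQuot`, for affine targets. -/
theorem toQuot_desc_affine {Z : Scheme.{u}} [IsAffine Z] (f : G.U ⟶ Z)
    (hf : G.t ≫ f = G.s ≫ f) :
    ∃ g : Spec (CommRingCat.of G.invariants) ⟶ Z, G.toQuot ≫ g = f := by
  have hmem : ∀ z : Γ(Z, ⊤), f.appTop.hom z ∈ G.invariants := by
    intro z
    change G.s.appTop.hom (f.appTop.hom z) = G.t.appTop.hom (f.appTop.hom z)
    have h1 := congrArg (fun φ => φ.appTop.hom z) hf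
    simp only [Scheme.Hom.comp_appTop, CommRingCat.hom_comp, RingHom.comp_apply] at h1
    exact h1.symm
  let φ : Γ(Z, ⊤) →+* G.invariants := f.appTop.hom.codRestrict G.invariants hmem
  refine ⟨Spec.map (CommRingCat.ofHom φ) ≫ Z.isoSpec.inv, ?_⟩
  unfold GroupoidScheme.toQuot
  rw [Category.assoc, ← Category.assoc (Spec.map _), ← Spec.map_comp]
  have h2 : CommRingCat.ofHom φ ≫ CommRingCat.ofHom G.invariants.subtype = f.appTop := by
    ext z
    rfl
  rw [h2, ← Category.assoc, ← Scheme.toSpecΓ_naturality, Category.assoc,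
    Scheme.toSpecΓ_isoSpec_inv, Category.comp_id]

end Affine

section Local

variable {G : GroupoidScheme S} [IsFinite G.s] [Flat G.s] [LocallyOfFinitePresentation G.s]

instance isAffine_resU (W : InvAff G) : IsAffine W.res.U := restrict_isAffine_U G W.1 W.2.2 W.2.1
instance isAffine_resR (W : InvAff G) : IsAffine W.res.R := restrict_isAffine_R G W.1 W.2.2 W.2.1
instance isAffine_W (W : InvAff G) : IsAffine (W.1 : Scheme.{u}) := W.2.1
instance isAffine_RW (W : InvAff G) : IsAffine ((G.s ⁻¹ᵁ W.1 : G.R.Opens) : Scheme.{u}) :=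
  isAffine_resR W

/-- The ring of invariant functions on an invariant affine open. -/
noncomputable def inv (W : InvAff G) : Subring Γ((W.1 : Scheme.{u}), ⊤) := W.res.invariants

omit [IsFinite G.s] [Flat G.s] [LocallyOfFinitePresentation G.s] in
lemma mem_inv {W : InvAff G} {a : Γ((W.1 : Scheme.{u}), ⊤)} :
    a ∈ inv W ↔ (resS G W.1).appTop.hom a = (resT G W.1 W.2.2).appTop.hom a := Iff.rfl

/-- The local quotient. -/
noncomputable def Y (W : InvAff G) : Scheme.{u} := Spec (CommRingCat.of (inv W))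

instance (W : InvAff G) : IsAffine (Y W) := inferInstanceAs (IsAffine (Spec _))

/-- The local quotient map. -/
noncomputable def q (W : InvAff G) : (W.1 : Scheme.{u}) ⟶ Y W :=
  (W.1 : Scheme.{u}).toSpecΓ ≫ Spec.map (CommRingCat.ofHom (inv W).subtype)

omit [IsFinite G.s] [Flat G.s] [LocallyOfFinitePresentation G.s] in
lemma q_eq_toQuot (W : InvAff G) : q W = W.res.toQuot := rfl

omit [IsFinite G.s] [Flat G.s] [LocallyOfFinitePresentation G.s] in
lemma q_cond (W : InvAff G) : resT G W.1 W.2.2 ≫ q W = resS G W.1 ≫ q W := t_toQuot W.res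

omit [IsFinite G.s] [Flat G.s] [LocallyOfFinitePresentation G.s] in
/-- Uniqueness for affine targets. -/
theorem q_epi_affine (W : InvAff G) {Z : Scheme.{u}} [IsAffine Z] (g₁ g₂ : Y W ⟶ Z)
    (h : q W ≫ g₁ = q W ≫ g₂) : g₁ = g₂ := toQuot_epi_affine W.res g₁ g₂ h

omit [IsFinite G.s] [Flat G.s] [LocallyOfFinitePresentation G.s] in
/-- Existence for affine targets. -/
theorem q_desc_affine (W : InvAff G) {Z : Scheme.{u}} [IsAffine Z] (f : (W.1 : Scheme.{u}) ⟶ Z)
    (hf : resT G W.1 W.2.2 ≫ f = resS G W.1 ≫ f) : ∃ g : Y W ⟶ Z, q W ≫ g = f :=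
  toQuot_desc_affine W.res f hf

lemma q_surjective (W : InvAff G) : Function.Surjective (q W) :=
  (Groth.Agent.S1878.points_part W.res).1

instance (W : InvAff G) : Surjective (q W) := ⟨q_surjective W⟩

set_option backward.isDefEq.respectTransparency.types false in
instance (W : InvAff G) : IsIntegralHom (q W) := by
  have h1 : IsIntegralHom (Spec.map (CommRingCat.ofHom W.res.invariants.subtype)) := by
    rw [IsIntegralHom.SpecMap_iff]
    have := isIntegral_invariants W.res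
    exact (Algebra.isIntegral_def.mp this)
  change IsIntegralHom (W.res.U.toSpecΓ ≫ Spec.map (CommRingCat.ofHom W.res.invariants.subtype))
  haveI : IsIso W.res.U.toSpecΓ := IsAffine.affine
  rw [MorphismProperty.cancel_left_of_respectsIso @IsIntegralHom]
  exact h1

/-- Points with the same image in the local quotient are related by an arrow. -/
lemma exists_of_q_eq (W : InvAff G) (x y : (W.1 : Scheme.{u})) (h : q W x = q W y) :
    ∃ r : G.R, G.t r = W.1.ι x ∧ G.s r = W.1.ι y := by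
  obtain ⟨r', hr1, hr2⟩ := ((Groth.Agent.S1878.points_part W.res).2 x y).mp h
  change ((G.s ⁻¹ᵁ W.1 : G.R.Opens) : Scheme.{u}) at r'
  change resT G W.1 W.2.2 r' = x at hr1
  change resS G W.1 r' = y at hr2
  refine ⟨(G.s ⁻¹ᵁ W.1).ι r', ?_, ?_⟩
  · rw [← Scheme.Hom.comp_apply, ← resT_ι G W.1 W.2.2, Scheme.Hom.comp_apply]
    exact congrArg _ hr1
  · rw [← Scheme.Hom.comp_apply, ← resS_ι, Scheme.Hom.comp_apply]
    exact congrArg _ hr2

omit [IsFinite G.s] [Flat G.s] [LocallyOfFinitePresentation G.s] in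
/-- Points related by an arrow have the same image in the local quotient. -/
lemma q_eq_of_arrow (W : InvAff G) (x y : (W.1 : Scheme.{u})) (r : G.R) (ht : G.t r = W.1.ι x)
    (hs : G.s r = W.1.ι y) : q W x = q W y := by
  have hr : r ∈ G.s ⁻¹ᵁ W.1 := by
    change G.s r ∈ W.1
    rw [hs]
    exact y.2
  let r' : ((G.s ⁻¹ᵁ W.1 : G.R.Opens) : Scheme.{u}) := ⟨r, hr⟩
  have h1 : resT G W.1 W.2.2 r' = x := by
    apply W.1.ι.isOpenEmbedding.injective
    rw [← Scheme.Hom.comp_apply, resT_ι, Scheme.Hom.comp_apply]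
    exact ht
  have h2 : resS G W.1 r' = y := by
    apply W.1.ι.isOpenEmbedding.injective
    rw [← Scheme.Hom.comp_apply, resS_ι, Scheme.Hom.comp_apply]
    exact hs
  rw [← h1, ← h2, ← Scheme.Hom.comp_apply, ← Scheme.Hom.comp_apply, q_cond]

section Transition

omit [IsFinite G.s] [Flat G.s] [LocallyOfFinitePresentation G.s] in
/-- restriction of sections preserves invariants -/
lemma appTop_mem_invariants {W' W : InvAff G} (h : W' ≤ W) (a : Γ((W.1 : Scheme.{u}), ⊤))
    (ha : a ∈ inv W) :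
    (G.U.homOfLE h).appTop.hom a ∈ inv W' := by
  rw [mem_inv] at ha ⊢
  have ha' := ha
  rw [← appTop_comp_apply', ← appTop_comp_apply', resS_homOfLE h, resT_homOfLE h,
    appTop_comp_apply', appTop_comp_apply', ha']

/-- The restriction map on invariants. -/
noncomputable def ψ {W' W : InvAff G} (h : W' ≤ W) : inv W →+* inv W' :=
  ((G.U.homOfLE h).appTop.hom.comp (inv W).subtype).codRestrict (inv W')
    (fun a => appTop_mem_invariants h a.1 a.2)

omit [IsFinite G.s] [Flat G.s] [LocallyOfFinitePresentation G.s] in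
lemma ψ_coe {W' W : InvAff G} (h : W' ≤ W) (a : inv W) :
    ((ψ h a : inv W') : Γ((W'.1 : Scheme.{u}), ⊤)) = (G.U.homOfLE h).appTop.hom a.1 :=
  rfl

/-- The transition maps between local quotients. -/
noncomputable def map {W' W : InvAff G} (h : W' ≤ W) : Y W' ⟶ Y W :=
  Spec.map (CommRingCat.ofHom (ψ h))

set_option backward.isDefEq.respectTransparency false in
omit [IsFinite G.s] [Flat G.s] [LocallyOfFinitePresentation G.s] in
lemma q_map_aux {W' W : InvAff G} (h : W' ≤ W) :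
    ((W'.1 : Scheme.{u}).toSpecΓ ≫ Spec.map (CommRingCat.ofHom (inv W').subtype)) ≫
      Spec.map (CommRingCat.ofHom (ψ h)) =
    G.U.homOfLE h ≫ ((W.1 : Scheme.{u}).toSpecΓ ≫
      Spec.map (CommRingCat.ofHom (inv W).subtype)) := by
  have e1 : CommRingCat.ofHom (ψ h) ≫ CommRingCat.ofHom (inv W').subtype =
      CommRingCat.ofHom (inv W).subtype ≫ (G.U.homOfLE h).appTop := rfl
  rw [Category.assoc, ← Spec.map_comp, e1, Spec.map_comp, ← Category.assoc, ← Category.assoc,
    Scheme.toSpecΓ_naturality]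

omit [IsFinite G.s] [Flat G.s] [LocallyOfFinitePresentation G.s] in
@[reassoc]
lemma q_map {W' W : InvAff G} (h : W' ≤ W) : q W' ≫ map h = G.U.homOfLE h ≫ q W :=
  q_map_aux h

omit [IsFinite G.s] [Flat G.s] [LocallyOfFinitePresentation G.s] in
lemma map_rfl (W : InvAff G) : map (le_refl W) = 𝟙 _ := by
  apply q_epi_affine W
  rw [q_map, Category.comp_id]
  simp

omit [IsFinite G.s] [Flat G.s] [LocallyOfFinitePresentation G.s] in
lemma map_trans {W₁ W₂ W₃ : InvAff G} (h₁ : W₁ ≤ W₂) (h₂ : W₂ ≤ W₃) :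
    map (h₁.trans h₂) = map h₁ ≫ map h₂ := by
  apply q_epi_affine W₁
  rw [q_map, q_map_assoc, q_map, ← Category.assoc, Scheme.homOfLE_homOfLE]

omit [IsFinite G.s] [Flat G.s] [LocallyOfFinitePresentation G.s] in
lemma map_q_apply {W' W : InvAff G} (h : W' ≤ W) (x : (W'.1 : Scheme.{u})) :
    map h (q W' x) = q W (G.U.homOfLE h x) := by
  rw [← Scheme.Hom.comp_apply, q_map, Scheme.Hom.comp_apply]

end Transition

section Localization

omit [IsFinite G.s] [Flat G.s] [LocallyOfFinitePresentation G.s] in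
lemma opensRange_homOfLE_of_eq_image {X : Scheme.{u}} {U V : X.Opens} (e : U ≤ V)
    (D : (V : Scheme.{u}).Opens) (hD : U = V.ι ''ᵁ D) : (X.homOfLE e).opensRange = D := by
  ext x
  constructor
  · rintro ⟨y, rfl⟩
    have h1 : V.ι (X.homOfLE e y) ∈ V.ι ''ᵁ D := by
      rw [← Scheme.Hom.comp_apply, Scheme.homOfLE_ι, ← hD]
      exact y.2
    obtain ⟨z, hz, hzx⟩ := h1
    have h2 : z = X.homOfLE e y := V.ι.isOpenEmbedding.injective hzx
    rw [← h2]
    exact hz
  · intro hx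
    have hxU : V.ι x ∈ U := by
      rw [hD]
      exact ⟨x, hx, rfl⟩
    let y : (U : Scheme.{u}) := ⟨V.ι x, hxU⟩
    refine ⟨y, ?_⟩
    apply V.ι.isOpenEmbedding.injective
    rw [← Scheme.Hom.comp_apply, Scheme.homOfLE_ι]
    rfl

omit [IsFinite G.s] [Flat G.s] [LocallyOfFinitePresentation G.s] in
/-- the preimage under `s` of a basic invariant open -/
lemma preimage_s_eq_image {W : InvAff G} {O : G.U.Opens} (c : Γ((W.1 : Scheme.{u}), ⊤))
    (hc : O = W.1.ι ''ᵁ ((W.1 : Scheme.{u}).basicOpen c)) :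
    G.s ⁻¹ᵁ O = (G.s ⁻¹ᵁ W.1).ι ''ᵁ
      (((G.s ⁻¹ᵁ W.1 : G.R.Opens) : Scheme.{u}).basicOpen ((resS G W.1).appTop.hom c)) := by
  rw [← Scheme.preimage_basicOpen_top]
  ext r
  constructor
  · intro hr
    have hr' : G.s r ∈ W.1.ι ''ᵁ ((W.1 : Scheme.{u}).basicOpen c) := by
      rw [← hc]; exact hr
    obtain ⟨x, hx, hxr⟩ := hr'
    have hrW : r ∈ G.s ⁻¹ᵁ W.1 := by
      change G.s r ∈ W.1
      rw [← hxr]
      exact x.2
    let r' : ((G.s ⁻¹ᵁ W.1 : G.R.Opens) : Scheme.{u}) := ⟨r, hrW⟩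
    refine ⟨r', ?_, rfl⟩
    change resS G W.1 r' ∈ (W.1 : Scheme.{u}).basicOpen c
    have : resS G W.1 r' = x := by
      apply W.1.ι.isOpenEmbedding.injective
      rw [← Scheme.Hom.comp_apply, resS_ι, Scheme.Hom.comp_apply]
      exact hxr.symm
    rw [this]
    exact hx
  · rintro ⟨r', hr', rfl⟩
    change G.s ((G.s ⁻¹ᵁ W.1).ι r') ∈ O
    rw [hc, ← Scheme.Hom.comp_apply, ← resS_ι, Scheme.Hom.comp_apply]
    exact ⟨_, hr', rfl⟩

omit [IsFinite G.s] [Flat G.s] [LocallyOfFinitePresentation G.s] in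
/-- the preimage under `t` of a basic open of an invariant affine open -/
lemma preimage_t_eq_image {W : InvAff G} {O : G.U.Opens} (c : Γ((W.1 : Scheme.{u}), ⊤))
    (hc : O = W.1.ι ''ᵁ ((W.1 : Scheme.{u}).basicOpen c)) :
    G.t ⁻¹ᵁ O = (G.s ⁻¹ᵁ W.1).ι ''ᵁ
      (((G.s ⁻¹ᵁ W.1 : G.R.Opens) : Scheme.{u}).basicOpen
        ((resT G W.1 W.2.2).appTop.hom c)) := by
  rw [← Scheme.preimage_basicOpen_top]
  ext r
  constructor
  · intro hr
    have hr' : G.t r ∈ W.1.ι ''ᵁ ((W.1 : Scheme.{u}).basicOpen c) := by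
      rw [← hc]; exact hr
    obtain ⟨x, hx, hxr⟩ := hr'
    have hrW : r ∈ G.s ⁻¹ᵁ W.1 := by
      rw [W.2.2]
      change G.t r ∈ W.1
      rw [← hxr]
      exact x.2
    let r' : ((G.s ⁻¹ᵁ W.1 : G.R.Opens) : Scheme.{u}) := ⟨r, hrW⟩
    refine ⟨r', ?_, rfl⟩
    change resT G W.1 W.2.2 r' ∈ (W.1 : Scheme.{u}).basicOpen c
    have : resT G W.1 W.2.2 r' = x := by
      apply W.1.ι.isOpenEmbedding.injective
      rw [← Scheme.Hom.comp_apply, resT_ι, Scheme.Hom.comp_apply]
      exact hxr.symm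
    rw [this]
    exact hx
  · rintro ⟨r', hr', rfl⟩
    change G.t ((G.s ⁻¹ᵁ W.1).ι r') ∈ O
    rw [hc, ← Scheme.Hom.comp_apply, ← resT_ι G W.1 W.2.2, Scheme.Hom.comp_apply]
    exact ⟨_, hr', rfl⟩

omit [Flat G.s] [LocallyOfFinitePresentation G.s] in
/-- **Localization of invariants** on a basic invariant open. -/
theorem isLocalization_ψ {W'' W : InvAff G} (h : W'' ≤ W) (c : inv W)
    (hc : W''.1 = W.1.ι ''ᵁ ((W.1 : Scheme.{u}).basicOpen c.1)) :
    @IsLocalization.Away _ _ c (inv W'') _ (ψ h).toAlgebra := by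
  letI : Algebra Γ((W.1 : Scheme.{u}), ⊤) Γ((W''.1 : Scheme.{u}), ⊤) :=
    (G.U.homOfLE h).appTop.hom.toAlgebra
  letI : Algebra Γ(((G.s ⁻¹ᵁ W.1 : G.R.Opens) : Scheme.{u}), ⊤)
      Γ(((G.s ⁻¹ᵁ W''.1 : G.R.Opens) : Scheme.{u}), ⊤) :=
    (G.R.homOfLE (InvAff.R_le h)).appTop.hom.toAlgebra
  haveI h1 : IsLocalization.Away c.1 Γ((W''.1 : Scheme.{u}), ⊤) :=
    isLocalization_appTop_of_opensRange_eq (G.U.homOfLE h) c.1
      (opensRange_homOfLE_of_eq_image h _ hc)
  haveI h2 : IsLocalization.Away ((resS G W.1).appTop.hom c.1)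
      Γ(((G.s ⁻¹ᵁ W''.1 : G.R.Opens) : Scheme.{u}), ⊤) :=
    isLocalization_appTop_of_opensRange_eq (G.R.homOfLE (InvAff.R_le h)) _
      (opensRange_homOfLE_of_eq_image (InvAff.R_le h) _ (preimage_s_eq_image c.1 hc))
  refine isLocalization_eqLocus (resS G W.1).appTop.hom (resT G W.1 W.2.2).appTop.hom
    (resS G W''.1).appTop.hom (resT G W''.1 W''.2.2).appTop.hom ?_ ?_ c.1 c.2 (ψ h) (fun a => rfl)
  · intro a
    change (resS G W''.1).appTop.hom ((G.U.homOfLE h).appTop.hom a) =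
      (G.R.homOfLE (InvAff.R_le h)).appTop.hom ((resS G W.1).appTop.hom a)
    rw [← appTop_comp_apply', ← appTop_comp_apply', resS_homOfLE h]
  · intro a
    change (resT G W''.1 W''.2.2).appTop.hom ((G.U.homOfLE h).appTop.hom a) =
      (G.R.homOfLE (InvAff.R_le h)).appTop.hom ((resT G W.1 W.2.2).appTop.hom a)
    rw [← appTop_comp_apply', ← appTop_comp_apply', resT_homOfLE h]

omit [Flat G.s] [LocallyOfFinitePresentation G.s] in
/-- The transition map from a basic invariant open is an open immersion. -/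
theorem isOpenImmersion_map_of_basic {W'' W : InvAff G} (h : W'' ≤ W) (c : inv W)
    (hc : W''.1 = W.1.ι ''ᵁ ((W.1 : Scheme.{u}).basicOpen c.1)) : IsOpenImmersion (map h) := by
  letI : Algebra (inv W) (inv W'') := (ψ h).toAlgebra
  haveI := isLocalization_ψ h c hc
  exact IsOpenImmersion.of_isLocalization (R := inv W) (S := inv W'') c

set_option backward.isDefEq.respectTransparency false in
omit [IsFinite G.s] [Flat G.s] [LocallyOfFinitePresentation G.s] in
lemma toSpecΓ_comp_preimage_basicOpen (X : Scheme.{u}) (C : Subring Γ(X, ⊤)) (c : C) :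
    (X.toSpecΓ ≫ Spec.map (CommRingCat.ofHom C.subtype)) ⁻¹ᵁ (PrimeSpectrum.basicOpen c) =
      X.basicOpen c.1 := by
  rw [Scheme.Hom.comp_preimage, SpecMap_preimage_basicOpen, Scheme.toSpecΓ_preimage_basicOpen]
  rfl

omit [IsFinite G.s] [Flat G.s] [LocallyOfFinitePresentation G.s] in
lemma q_preimage_basicOpen (W : InvAff G) (c : inv W) :
    q W ⁻¹ᵁ (PrimeSpectrum.basicOpen c) = (W.1 : Scheme.{u}).basicOpen c.1 :=
  toSpecΓ_comp_preimage_basicOpen _ _ _

end Localization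

section ClaimA

/-- **Separation by invariant functions**: inside an invariant open neighbourhood of a point of an
invariant affine open `W`, there is a basic open of an invariant function of `W` containing the
point. -/
theorem exists_basic_le (W : InvAff G) (O : G.U.Opens) (hO : G.s ⁻¹ᵁ O = G.t ⁻¹ᵁ O)
    (x : (W.1 : Scheme.{u})) (hx : W.1.ι x ∈ O) :
    ∃ c : inv W, x ∈ (W.1 : Scheme.{u}).basicOpen c.1 ∧
      W.1.ι ''ᵁ ((W.1 : Scheme.{u}).basicOpen c.1) ≤ O := by
  let F : Set (W.1 : Scheme.{u}) := ((W.1.ι ⁻¹ᵁ O : (W.1 : Scheme.{u}).Opens) : Set _)ᶜ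
  have hF : IsClosed F := (W.1.ι ⁻¹ᵁ O).2.isClosed_compl
  have hK : IsClosed (q W '' F) := (q W).isClosedMap F hF
  have hy : q W x ∈ (q W '' F)ᶜ := by
    rintro ⟨x₂, hx₂, hx₂x⟩
    obtain ⟨r, hr1, hr2⟩ := exists_of_q_eq W x x₂ hx₂x.symm
    have h1 : r ∈ G.t ⁻¹ᵁ O := by
      change G.t r ∈ O
      rw [hr1]; exact hx
    rw [← hO] at h1
    have h2 : G.s r ∈ O := h1
    rw [hr2] at h2
    exact hx₂ h2
  obtain ⟨_, ⟨c, rfl⟩, hyc, hcK⟩ :=
    PrimeSpectrum.isTopologicalBasis_basic_opens.exists_subset_of_mem_open hy hK.isOpen_compl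
  have hpre : ∀ z : (W.1 : Scheme.{u}), z ∈ (W.1 : Scheme.{u}).basicOpen c.1 ↔
      q W z ∈ PrimeSpectrum.basicOpen c := by
    intro z
    rw [← q_preimage_basicOpen]
    rfl
  refine ⟨c, (hpre x).mpr hyc, ?_⟩
  rintro _ ⟨z, hz, rfl⟩
  by_contra hzO
  exact hcK ((hpre z).mp hz) ⟨z, hzO, rfl⟩

end ClaimA

section OpenImm

lemma basicInv_aux (W : InvAff G) (c : inv W) :
    IsAffineOpen (W.1.ι ''ᵁ ((W.1 : Scheme.{u}).basicOpen c.1)) ∧
      G.s ⁻¹ᵁ (W.1.ι ''ᵁ ((W.1 : Scheme.{u}).basicOpen c.1)) =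
        G.t ⁻¹ᵁ (W.1.ι ''ᵁ ((W.1 : Scheme.{u}).basicOpen c.1)) := by
  refine ⟨((isAffineOpen_top (W.1 : Scheme.{u})).basicOpen c.1).image_of_isOpenImmersion W.1.ι, ?_⟩
  rw [preimage_s_eq_image c.1 rfl, preimage_t_eq_image c.1 rfl, mem_inv.mp c.2]

/-- The invariant affine open cut out by an invariant function. -/
noncomputable def basicInv (W : InvAff G) (c : inv W) : InvAff G :=
  ⟨W.1.ι ''ᵁ ((W.1 : Scheme.{u}).basicOpen c.1), basicInv_aux W c⟩

lemma basicInv_le (W : InvAff G) (c : inv W) : basicInv W c ≤ W := by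
  change W.1.ι ''ᵁ _ ≤ W.1
  rintro _ ⟨x, -, rfl⟩
  exact x.2

lemma map_injective {W' W : InvAff G} (h : W' ≤ W) : Function.Injective (map h) := by
  intro y₁ y₂ hy
  obtain ⟨x₁, rfl⟩ := q_surjective W' y₁
  obtain ⟨x₂, rfl⟩ := q_surjective W' y₂
  rw [map_q_apply, map_q_apply] at hy
  obtain ⟨r, hr1, hr2⟩ := exists_of_q_eq W _ _ hy
  rw [← Scheme.Hom.comp_apply, Scheme.homOfLE_ι] at hr1 hr2
  exact q_eq_of_arrow W' x₁ x₂ r hr1 hr2

/-- **The transition maps between local quotients are open immersions.** -/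
instance isOpenImmersion_map {W' W : InvAff G} (h : W' ≤ W) : IsOpenImmersion (map h) := by
  refine IsOpenImmersion.of_forall_source_exists (map h) (map_injective h) (fun y' => ?_)
  obtain ⟨x', rfl⟩ := q_surjective W' y'
  obtain ⟨c, hxc, hcW'⟩ := exists_basic_le W W'.1 W'.2.2 (G.U.homOfLE h x') (by
    rw [← Scheme.Hom.comp_apply, Scheme.homOfLE_ι]; exact x'.2)
  have h''W : basicInv W c ≤ W := basicInv_le W c
  have h''W' : basicInv W c ≤ W' := hcW'
  have hc' : (basicInv W c).1 =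
      W'.1.ι ''ᵁ ((W'.1 : Scheme.{u}).basicOpen (ψ h c).1) := by
    rw [ψ_coe, ← Scheme.preimage_basicOpen_top, Scheme.ι_image_homOfLE_eq_ι_image_inf]
    exact (inf_eq_left.mpr hcW').symm
  haveI : IsOpenImmersion (map h''W') := isOpenImmersion_map_of_basic h''W' (ψ h c) hc'
  haveI : IsOpenImmersion (map h''W) := isOpenImmersion_map_of_basic h''W c rfl
  refine ⟨Y (basicInv W c), map h''W', inferInstance, ?_, ?_⟩
  · have hx'' : W'.1.ι x' ∈ (basicInv W c).1 := by
      refine ⟨G.U.homOfLE h x', hxc, ?_⟩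
      change W.1.ι (G.U.homOfLE h x') = _
      rw [← Scheme.Hom.comp_apply, Scheme.homOfLE_ι]
    let x'' : ((basicInv W c).1 : Scheme.{u}) := ⟨W'.1.ι x', hx''⟩
    refine ⟨q (basicInv W c) x'', ?_⟩
    rw [map_q_apply]
    congr 1
    apply W'.1.ι.isOpenEmbedding.injective
    rw [← Scheme.Hom.comp_apply, Scheme.homOfLE_ι]
    rfl
  · rw [← map_trans]
    exact ‹IsOpenImmersion (map h''W)›

end OpenImm

end Local

end Groth.Agent.Lib.Helper37.NM
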