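import Groth.Agent.Lib.Helper37.GrpdPull
import Groth.Agent.Lib.Helper37.GroupoidStab
import Groth.Agent.Lib.Helper37.GrpdQuotFull
import Groth.Agent.Lib.Helper7.FlatDescent

set_option autoImplicit false
set_option linter.style.haveILetI false
set_option linter.unusedSectionVars false
universe u

namespace Groth.Agent.Lib.Helper37.QS

open CategoryTheory CategoryTheory.Limits AlgebraicGeometry Grpd
open Groth.Agent.Lib.Helper37.Pull

variable {S : Scheme.{u}} (G : GroupoidScheme S) {U' : Scheme.{u}} (u : U' ⟶ G.U)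

section Basic

/-- the canonical section `a ↦ (e(u a), a)` of `V ⟶ U'` -/
noncomputable def σ : U' ⟶ pullback G.t u :=
  pullback.lift (u ≫ G.e) (𝟙 _) (by rw [Category.assoc, G.e_t, Category.comp_id, Category.id_comp])

@[reassoc (attr := simp)]
lemma σ_π : σ G u ≫ π G u = u := by
  simp only [σ, π, pullback.lift_fst_assoc, Category.assoc, G.e_s, Category.comp_id]

@[reassoc (attr := simp)]
lemma σ_snd : σ G u ≫ pullback.snd G.t u = 𝟙 _ := by
  simp only [σ, pullback.lift_snd]

variable {G u}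

/-- Two arrows into `U'` with the same source have equivalent targets. -/
lemma key1 {Y : Scheme.{u}} (p' : U' ⟶ Y) (hp' : a' G u ≫ p' = b' G u ≫ p') {T : Scheme.{u}}
    (α β : T ⟶ pullback G.t u) (h : α ≫ π G u = β ≫ π G u) :
    α ≫ pullback.snd G.t u ≫ p' = β ≫ pullback.snd G.t u ≫ p' := by
  have h1 : (α ≫ pullback.fst G.t u) ≫ G.s = ((β ≫ pullback.fst G.t u) ≫ G.i) ≫ G.t := by
    rw [Category.assoc, Category.assoc, Category.assoc, G.i_t]
    simpa only [π, Category.assoc] using h
  let m : T ⟶ R' G u := mk (gcomp G (α ≫ pullback.fst G.t u) ((β ≫ pullback.fst G.t u) ≫ G.i) h1)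
    (α ≫ pullback.snd G.t u) (β ≫ pullback.snd G.t u)
    (by rw [gcomp_t, Category.assoc, pullback.condition, Category.assoc])
    (by rw [gcomp_s, Category.assoc, Category.assoc, G.i_s, pullback.condition, Category.assoc])
  have e1 : m ≫ a' G u = α ≫ pullback.snd G.t u := mk_a' _ _ _ _ _
  have e2 : m ≫ b' G u = β ≫ pullback.snd G.t u := mk_b' _ _ _ _ _
  rw [← Category.assoc, ← e1, Category.assoc, hp', ← Category.assoc, e2, Category.assoc]

end Basic

section Main

variable [IsFinite (π G u)] [Flat (π G u)] [LocallyOfFinitePresentation (π G u)]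
  [Surjective (π G u)]

instance : IsFinite (pullGrpd G u).s := inferInstanceAs (IsFinite (pullback.snd (π G u) u))
instance : Flat (pullGrpd G u).s := inferInstanceAs (Flat (pullback.snd (π G u) u))
instance : LocallyOfFinitePresentation (pullGrpd G u).s :=
  inferInstanceAs (LocallyOfFinitePresentation (pullback.snd (π G u) u))

variable {G u}
variable {Y : Scheme.{u}} (p' : U' ⟶ Y) (hp' : a' G u ≫ p' = b' G u ≫ p')

/-- The descended quotient map. -/
noncomputable def desc : G.U ⟶ Y :=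
  fppfDesc (π G u) (IsPullback.of_hasPullback (π G u) (π G u)) (pullback.snd G.t u ≫ p')
    (key1 p' hp' _ _ pullback.condition)

@[reassoc]
lemma π_desc : π G u ≫ desc p' hp' = pullback.snd G.t u ≫ p' := fppfDesc_fac _ _ _ _

@[reassoc]
lemma u_desc : u ≫ desc p' hp' = p' := by
  have h : σ G u ≫ π G u ≫ desc p' hp' = p' := by rw [π_desc, σ_snd_assoc]
  rwa [← Category.assoc, σ_π] at h

/-- The descended map coequalizes `t` and `s`. -/
lemma desc_cond : G.t ≫ desc p' hp' = G.s ≫ desc p' hp' := by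
  haveI : Epi (pullback.fst G.s (π G u)) := Flat.epi_of_flat_of_surjective _
  rw [← cancel_epi (pullback.fst G.s (π G u))]
  -- `T`-points: `r = fst`, `(r₁, a₁) = snd`
  have hc : pullback.fst G.s (π G u) ≫ G.s =
      (pullback.snd G.s (π G u) ≫ pullback.fst G.t u) ≫ G.s := by
    rw [pullback.condition, Category.assoc]
  have h1 : (pullback.snd G.s (π G u) ≫ pullback.fst G.t u) ≫ G.s =
      (pullback.fst G.s (π G u) ≫ G.i) ≫ G.t := by
    rw [Category.assoc _ G.i, G.i_t, hc]
  let w : pullback G.s (π G u) ⟶ pullback G.t u :=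
    pullback.lift (gcomp G (pullback.snd G.s (π G u) ≫ pullback.fst G.t u)
      (pullback.fst G.s (π G u) ≫ G.i) h1) (pullback.snd G.s (π G u) ≫ pullback.snd G.t u)
      (by rw [gcomp_t, Category.assoc, pullback.condition, Category.assoc])
  have hw : w ≫ π G u = pullback.fst G.s (π G u) ≫ G.t := by
    simp only [w, π, pullback.lift_fst_assoc, gcomp_s, Category.assoc, G.i_s]
  have hw2 : w ≫ pullback.snd G.t u = pullback.snd G.s (π G u) ≫ pullback.snd G.t u :=
    pullback.lift_snd _ _ _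
  calc pullback.fst G.s (π G u) ≫ G.t ≫ desc p' hp'
      = (w ≫ π G u) ≫ desc p' hp' := by rw [hw, Category.assoc]
    _ = pullback.snd G.s (π G u) ≫ pullback.snd G.t u ≫ p' := by
        rw [Category.assoc, π_desc, ← Category.assoc, hw2, Category.assoc]
    _ = (pullback.snd G.s (π G u) ≫ π G u) ≫ desc p' hp' := by
        rw [Category.assoc, π_desc]
    _ = pullback.fst G.s (π G u) ≫ G.s ≫ desc p' hp' := by
        rw [← pullback.condition, Category.assoc]

/-- the descended map is a coequalizer of `(t, s)` -/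
noncomputable def isColimitDesc (hcolim : IsColimit (Cofork.ofπ p' hp')) :
    IsColimit (Cofork.ofπ (desc p' hp') (desc_cond p' hp')) := by
  haveI : Epi (π G u) := Flat.epi_of_flat_of_surjective _
  have hcond : ∀ s : Cofork G.t G.s, a' G u ≫ u ≫ s.π = b' G u ≫ u ≫ s.π := by
    intro s
    rw [← ρ_t_assoc, ← ρ_s_assoc, s.condition]
  refine Cofork.IsColimit.mk _ (fun s => hcolim.desc (Cofork.ofπ (u ≫ s.π) (hcond s)))
    (fun s => ?_) (fun s m hm => ?_)
  · have h1 : p' ≫ hcolim.desc (Cofork.ofπ (u ≫ s.π) (hcond s)) = u ≫ s.π :=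
      hcolim.fac (Cofork.ofπ (u ≫ s.π) (hcond s)) WalkingParallelPair.one
    change desc p' hp' ≫ _ = s.π
    rw [← cancel_epi (π G u), ← Category.assoc, π_desc, Category.assoc, h1,
      ← pullback.condition_assoc, s.condition, Category.assoc]
  · change desc p' hp' ≫ m = s.π at hm
    apply Cofork.IsColimit.hom_ext hcolim
    have h1 : p' ≫ hcolim.desc (Cofork.ofπ (u ≫ s.π) (hcond s)) = u ≫ s.π :=
      hcolim.fac (Cofork.ofπ (u ≫ s.π) (hcond s)) WalkingParallelPair.one
    change p' ≫ m = p' ≫ _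
    rw [h1, ← u_desc p' hp', Category.assoc, hm]

lemma desc_surjective (hsurj : Function.Surjective p') : Function.Surjective (desc p' hp') := by
  intro y
  obtain ⟨x, rfl⟩ := hsurj y
  refine ⟨u x, ?_⟩
  rw [← Scheme.Hom.comp_apply, u_desc]

lemma desc_t_eq_s (r : G.R) : desc p' hp' (G.t r) = desc p' hp' (G.s r) := by
  rw [← Scheme.Hom.comp_apply, ← Scheme.Hom.comp_apply, desc_cond]

lemma desc_u_apply (a : U') : desc p' hp' (u a) = p' a := by
  rw [← Scheme.Hom.comp_apply, u_desc]

lemma desc_isOpenMap (hopen : IsOpenMap p') (ht : IsOpenMap G.t) : IsOpenMap (desc p' hp') := by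
  intro O hO
  have : desc p' hp' '' O = p' '' (u ⁻¹' (G.t '' (G.s ⁻¹' O))) := by
    ext y
    constructor
    · rintro ⟨x, hx, rfl⟩
      obtain ⟨v, rfl⟩ := (π G u).surjective x
      have hv : G.t (pullback.fst G.t u v) = u (pullback.snd G.t u v) := by
        rw [← Scheme.Hom.comp_apply, ← Scheme.Hom.comp_apply, pullback.condition]
      have hs : π G u v = G.s (pullback.fst G.t u v) := Scheme.Hom.comp_apply _ _ _
      refine ⟨pullback.snd G.t u v, ⟨pullback.fst G.t u v, ?_, hv⟩, ?_⟩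
      · rw [Set.mem_preimage, ← hs]; exact hx
      · rw [← desc_u_apply p' hp', ← hv, desc_t_eq_s, hs]
    · rintro ⟨a, ⟨r, hr, hra⟩, rfl⟩
      refine ⟨G.s r, hr, ?_⟩
      rw [← desc_t_eq_s, hra, desc_u_apply]
  rw [this]
  exact hopen _ ((ht _ (hO.preimage G.s.continuous)).preimage u.continuous)

lemma desc_universallyClosed [UniversallyClosed p'] [UniversallyClosed G.t] :
    UniversallyClosed (desc p' hp') := by
  haveI : UniversallyClosed (π G u ≫ desc p' hp') := by rw [π_desc]; infer_instance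
  exact UniversallyClosed.of_comp_surjective (π G u) (desc p' hp')

lemma desc_flat [Flat p'] [Flat G.t] : Flat (desc p' hp') := by
  haveI : Flat (π G u ≫ desc p' hp') := by rw [π_desc]; infer_instance
  exact Groth.Agent.Lib.Helper7.flat_of_flat_comp_of_flat_surjective (π G u) (desc p' hp')

end Main

section Conj

variable {G u}

/-- For `v₁ = (r₁, a₁)`, `v₂ = (r₂, a₂)` in `V` and `m : a₂ ⟶ a₁` in `R'`, the arrow
`r₁⁻¹ ∘ m ∘ r₂ : π v₂ ⟶ π v₁`. -/
noncomputable def conj {T : Scheme.{u}} (v₁ v₂ : T ⟶ pullback G.t u) (m : T ⟶ R' G u)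
    (h1 : m ≫ a' G u = v₁ ≫ pullback.snd G.t u) (h2 : m ≫ b' G u = v₂ ≫ pullback.snd G.t u) :
    T ⟶ G.R :=
  gcomp G (gcomp G ((v₁ ≫ pullback.fst G.t u) ≫ G.i) (m ≫ ρ G u)
    (by rw [Category.assoc, G.i_s, Category.assoc, pullback.condition, Category.assoc, ρ_t,
      ← Category.assoc, ← h1, Category.assoc]))
    (v₂ ≫ pullback.fst G.t u)
    (by rw [gcomp_s, Category.assoc, ρ_s, ← Category.assoc, h2, Category.assoc, Category.assoc,
      pullback.condition])

lemma conj_t {T : Scheme.{u}} (v₁ v₂ : T ⟶ pullback G.t u) (m : T ⟶ R' G u)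
    (h1 : m ≫ a' G u = v₁ ≫ pullback.snd G.t u) (h2 : m ≫ b' G u = v₂ ≫ pullback.snd G.t u) :
    conj v₁ v₂ m h1 h2 ≫ G.t = v₁ ≫ π G u := by
  rw [conj, gcomp_t, gcomp_t, Category.assoc, G.i_t, Category.assoc]

lemma conj_s {T : Scheme.{u}} (v₁ v₂ : T ⟶ pullback G.t u) (m : T ⟶ R' G u)
    (h1 : m ≫ a' G u = v₁ ≫ pullback.snd G.t u) (h2 : m ≫ b' G u = v₂ ≫ pullback.snd G.t u) :
    conj v₁ v₂ m h1 h2 ≫ G.s = v₂ ≫ π G u := by
  rw [conj, gcomp_s, Category.assoc]

end Conj

section Surj

variable [IsFinite (π G u)] [Flat (π G u)] [LocallyOfFinitePresentation (π G u)]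
  [Surjective (π G u)]
variable {G u}
variable {Y : Scheme.{u}} (p' : U' ⟶ Y) (hp' : a' G u ≫ p' = b' G u ≫ p')

/-- `V ×_Y V` -/
noncomputable abbrev VV (p' : U' ⟶ Y) : Scheme.{u} :=
  pullback (pullback.snd G.t u ≫ p') (pullback.snd G.t u ≫ p')

/-- `V ×_Y V ⟶ U ×_Y U` -/
noncomputable def mVV : VV (G := G) (u := u) p' ⟶ pullback (desc p' hp') (desc p' hp') :=
  pullback.map _ _ _ _ (π G u) (π G u) (𝟙 _) ((Category.comp_id _).trans (π_desc p' hp').symm)
    ((Category.comp_id _).trans (π_desc p' hp').symm)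

@[reassoc]
lemma mVV_fst : mVV p' hp' ≫ pullback.fst _ _ = pullback.fst _ _ ≫ π G u :=
  pullback.lift_fst _ _ _

@[reassoc]
lemma mVV_snd : mVV p' hp' ≫ pullback.snd _ _ = pullback.snd _ _ ≫ π G u :=
  pullback.lift_snd _ _ _

set_option backward.isDefEq.respectTransparency.types false in
instance : Surjective (mVV p' hp') :=
  MorphismProperty.pullbackMap (P := @Surjective.{u}) (inferInstanceAs (Surjective (π G u)))
    (inferInstanceAs (Surjective (π G u))) (π_desc p' hp').symm (π_desc p' hp').symm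

instance : Flat (mVV p' hp') :=
  MorphismProperty.pullbackMap (P := @Flat.{u}) (inferInstanceAs (Flat (π G u)))
    (inferInstanceAs (Flat (π G u))) (π_desc p' hp').symm (π_desc p' hp').symm

instance : LocallyOfFinitePresentation (mVV p' hp') :=
  MorphismProperty.pullbackMap (P := @LocallyOfFinitePresentation.{u})
    (inferInstanceAs (LocallyOfFinitePresentation (π G u)))
    (inferInstanceAs (LocallyOfFinitePresentation (π G u))) (π_desc p' hp').symm
    (π_desc p' hp').symm

/-- `V ×_Y V ⟶ U' ×_Y U'` -/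
noncomputable def nVV : VV (G := G) (u := u) p' ⟶ pullback p' p' :=
  pullback.map _ _ _ _ (pullback.snd G.t u) (pullback.snd G.t u) (𝟙 _)
    (Category.comp_id _) (Category.comp_id _)

@[reassoc]
lemma nVV_fst : nVV (G := G) (u := u) p' ≫ pullback.fst _ _ =
    pullback.fst _ _ ≫ pullback.snd G.t u :=
  pullback.lift_fst _ _ _

@[reassoc]
lemma nVV_snd : nVV (G := G) (u := u) p' ≫ pullback.snd _ _ =
    pullback.snd _ _ ≫ pullback.snd G.t u :=
  pullback.lift_snd _ _ _

/-- `R ⟶ U ×_Y U` is surjective as soon as `R' ⟶ U' ×_Y U'` is. -/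
lemma lift_surjective (hs : Function.Surjective (pullback.lift (a' G u) (b' G u) hp')) :
    Function.Surjective (pullback.lift G.t G.s (desc_cond p' hp')) := by
  haveI : Surjective (pullback.lift (a' G u) (b' G u) hp') := ⟨hs⟩
  let W := pullback (nVV (G := G) (u := u) p') (pullback.lift (a' G u) (b' G u) hp')
  let f1 : W ⟶ VV (G := G) (u := u) p' := pullback.fst _ _
  let f2 : W ⟶ R' G u := pullback.snd _ _
  have hc : f1 ≫ nVV p' = f2 ≫ pullback.lift (a' G u) (b' G u) hp' := pullback.condition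
  have h1 : f2 ≫ a' G u = (f1 ≫ pullback.fst _ _) ≫ pullback.snd G.t u := by
    have := congrArg (· ≫ pullback.fst p' p') hc
    simp only [Category.assoc, pullback.lift_fst, nVV_fst] at this
    exact this.symm.trans (Category.assoc _ _ _).symm
  have h2 : f2 ≫ b' G u = (f1 ≫ pullback.snd _ _) ≫ pullback.snd G.t u := by
    have := congrArg (· ≫ pullback.snd p' p') hc
    simp only [Category.assoc, pullback.lift_snd, nVV_snd] at this
    exact this.symm.trans (Category.assoc _ _ _).symm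
  let k : W ⟶ G.R := conj (f1 ≫ pullback.fst _ _) (f1 ≫ pullback.snd _ _) f2 h1 h2
  have hk : k ≫ pullback.lift G.t G.s (desc_cond p' hp') = f1 ≫ mVV p' hp' := by
    apply pullback.hom_ext
    · rw [Category.assoc, pullback.lift_fst, conj_t, Category.assoc f1, Category.assoc f1,
        mVV_fst]
    · rw [Category.assoc, pullback.lift_snd, conj_s, Category.assoc f1, Category.assoc f1,
        mVV_snd]
  haveI : Surjective f1 := inferInstanceAs (Surjective (pullback.fst _ _))
  haveI : Surjective (k ≫ pullback.lift G.t G.s (desc_cond p' hp')) := by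
    rw [hk]; infer_instance
  exact (Surjective.of_comp k (pullback.lift G.t G.s (desc_cond p' hp'))).surj

/-- In the equivalence relation case, `R ≅ U ×_Y U` as soon as `R' ≅ U' ×_Y U'`. -/
lemma isPullback_desc [Mono G.j] (hpb : IsPullback (a' G u) (b' G u) p' p') :
    IsPullback G.t G.s (desc p' hp') (desc p' hp') := by
  let l := pullback.lift G.t G.s (desc_cond p' hp')
  have hl1 : l ≫ pullback.fst _ _ = G.t := pullback.lift_fst _ _ _
  have hl2 : l ≫ pullback.snd _ _ = G.s := pullback.lift_snd _ _ _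
  haveI : Mono l := by
    refine ⟨fun {T} α β h => ?_⟩
    rw [← cancel_mono G.j]
    apply pullback.hom_ext
    · have := congrArg (· ≫ pullback.fst _ _) h
      simpa only [Category.assoc, hl1, j_fst G] using this
    · have := congrArg (· ≫ pullback.snd _ _) h
      simpa only [Category.assoc, hl2, j_snd G] using this
  let κ : VV (G := G) (u := u) p' ⟶ R' G u :=
    hpb.lift (pullback.fst _ _ ≫ pullback.snd G.t u) (pullback.snd _ _ ≫ pullback.snd G.t u)
      (by rw [Category.assoc, Category.assoc, pullback.condition])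
  have hκ1 : κ ≫ a' G u = pullback.fst _ _ ≫ pullback.snd G.t u := hpb.lift_fst _ _ _
  have hκ2 : κ ≫ b' G u = pullback.snd _ _ ≫ pullback.snd G.t u := hpb.lift_snd _ _ _
  let k : VV (G := G) (u := u) p' ⟶ G.R := conj (pullback.fst _ _) (pullback.snd _ _) κ hκ1 hκ2
  have hk : k ≫ l = mVV p' hp' := by
    apply pullback.hom_ext
    · rw [Category.assoc, hl1, conj_t, mVV_fst]
    · rw [Category.assoc, hl2, conj_s, mVV_snd]
  haveI : Epi (mVV p' hp') := Flat.epi_of_flat_of_surjective _
  let k' := fppfDesc (mVV p' hp') (IsPullback.of_hasPullback (mVV p' hp') (mVV p' hp')) k (by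
    rw [← cancel_mono l, Category.assoc, Category.assoc, hk, pullback.condition])
  have hk' : mVV p' hp' ≫ k' = k := fppfDesc_fac _ _ _ _
  have e1 : k' ≫ l = 𝟙 _ := by
    rw [← cancel_epi (mVV p' hp'), ← Category.assoc, hk', hk, Category.comp_id]
  have e2 : l ≫ k' = 𝟙 _ := by
    rw [← cancel_mono l, Category.assoc, e1, Category.comp_id, Category.id_comp]
  haveI : IsIso l := ⟨⟨k', e2, e1⟩⟩
  exact IsPullback.of_iso_pullback ⟨desc_cond p' hp'⟩ (asIso l) hl1 hl2

end Surj

section MonoJ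

variable {G u}

lemma R'_ext_of_mono [Mono G.j] {T : Scheme.{u}} (α β : T ⟶ R' G u)
    (ha : α ≫ a' G u = β ≫ a' G u) (hb : α ≫ b' G u = β ≫ b' G u) : α = β := by
  refine Pull.ext ?_ ha hb
  rw [← cancel_mono G.j]
  apply pullback.hom_ext
  · simp only [Category.assoc, j_fst G, ρ_t]
    rw [← Category.assoc, ha, Category.assoc]
  · simp only [Category.assoc, j_snd G, ρ_s]
    rw [← Category.assoc, hb, Category.assoc]

/-- The induced groupoid is an equivalence relation if `G` is. -/
instance [Mono G.j] : Mono (pullGrpd G u).j := by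
  refine ⟨fun {T} α β h => R'_ext_of_mono α β ?_ ?_⟩
  · have := congrArg (· ≫ pullback.fst _ _) h
    simp only [Category.assoc, j_fst] at this
    exact this
  · have := congrArg (· ≫ pullback.snd _ _) h
    simp only [Category.assoc, j_snd] at this
    exact this

end MonoJ

section Orbit

variable {G u}

/-- points of `R'` from points of `R` with source and target in `U'` -/
lemma exists_R'_point (r : G.R) (a b : U') (h1 : G.t r = u a) (h2 : G.s r = u b) :
    ∃ r' : R' G u, a' G u r' = a ∧ b' G u r' = b := by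
  obtain ⟨v, hv1, hv2⟩ := Scheme.Pullback.exists_preimage_pullback (f := G.t) (g := u) r a h1
  have hπ : π G u v = u b := by rw [Scheme.Hom.comp_apply, hv1, h2]
  obtain ⟨r', hr1, hr2⟩ := Scheme.Pullback.exists_preimage_pullback (f := π G u) (g := u) v b hπ
  refine ⟨r', ?_, hr2⟩
  rw [a', Scheme.Hom.comp_apply, hr1, hv2]

lemma ρ_t_apply (r' : R' G u) : G.t (ρ G u r') = u (a' G u r') := by
  rw [← Scheme.Hom.comp_apply, ρ_t, Scheme.Hom.comp_apply]

lemma ρ_s_apply (r' : R' G u) : G.s (ρ G u r') = u (b' G u r') := by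
  rw [← Scheme.Hom.comp_apply, ρ_s, Scheme.Hom.comp_apply]

/-- The orbit hypothesis for the induced groupoid. -/
lemma horb_pull
    (h2 : ∀ E : Set U', (∀ x ∈ E, ∀ y ∈ E, ∃ r : G.R, G.t r = u x ∧ G.s r = u y) →
      ∃ W : U'.Opens, IsAffineOpen W ∧ E ⊆ (W : Set U')) (a : (pullGrpd G u).U) :
    ∃ V : (pullGrpd G u).U.Opens, IsAffineOpen V ∧
      ∀ r : (pullGrpd G u).R, (pullGrpd G u).s r = a → (pullGrpd G u).t r ∈ V := by
  obtain ⟨W, hW, hE⟩ := h2 {x | ∃ r' : R' G u, b' G u r' = a ∧ a' G u r' = x} (by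
    rintro x ⟨r₁, hr₁, rfl⟩ y ⟨r₂, hr₂, rfl⟩
    obtain ⟨r₂i, h2s, h2t⟩ := exists_inv_point G (ρ G u r₂)
    obtain ⟨r₃, h3s, h3t⟩ := exists_comp_point G (ρ G u r₁) r₂i (by
      rw [h2t, ρ_s_apply, ρ_s_apply, hr₁, hr₂])
    refine ⟨r₃, ?_, ?_⟩
    · rw [h3t, ρ_t_apply]
    · rw [h3s, h2s, ρ_t_apply])
  exact ⟨W, hW, fun r hr => hE ⟨r, hr, rfl⟩⟩

end Orbit


section Quot

variable [IsFinite (π G u)] [Flat (π G u)] [LocallyOfFinitePresentation (π G u)]
  [Surjective (π G u)]
variable {G u}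

/-- The quotient of `U'` by the induced groupoid, with all types in terms of `U'`, `a'`, `b'`. -/
theorem exists_quotient_pull
    (h2 : ∀ E : Set U', (∀ x ∈ E, ∀ y ∈ E, ∃ r : G.R, G.t r = u x ∧ G.s r = u y) →
      ∃ W : U'.Opens, IsAffineOpen W ∧ E ⊆ (W : Set U')) :
    ∃ (Y : Scheme.{u}) (p' : U' ⟶ Y) (hp' : a' G u ≫ p' = b' G u ≫ p'),
      Nonempty (IsColimit (Cofork.ofπ p' hp')) ∧ IsIntegralHom p' ∧ Surjective p' ∧
      IsOpenMap p' ∧ Function.Surjective (pullback.lift (a' G u) (b' G u) hp') ∧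
      (Mono G.j → Flat p' ∧ IsPullback (a' G u) (b' G u) p' p') := by
  obtain ⟨Y, p', hp', hcolim, hint, hsurj', hopen, -, hliftsurj, -, hmono⟩ :=
    NM.exists_quotient_full (pullGrpd G u) (horb_pull (G := G) (u := u) h2)
  refine ⟨Y, p', hp', hcolim, hint, hsurj', hopen, hliftsurj, fun hm => ?_⟩
  haveI := hm
  obtain ⟨-, hflat', -, hpb'⟩ := hmono inferInstance
  exact ⟨hflat', hpb'⟩

end Quot

end Groth.Agent.Lib.Helper37.QS
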