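import Groth.Agent.Lib.Helper37.GroupoidOrbitAlg
import Groth.Agent.Lib.Helper37.GroupoidNorm
import Groth.Agent.Lib.Helper37.GroupoidIntegral
import Mathlib.Algebra.Polynomial.Lifts

set_option autoImplicit false
set_option linter.style.haveILetI false
universe u
open Polynomial TensorProduct CategoryTheory CategoryTheory.Limits

namespace Groth.Agent.Lib.Helper37

/-- Ring-level data of an affine groupoid with finite source map: `A = Γ(U)`, `B = Γ(R)` (an
`A`-algebra through the source map), `P = Γ(R ×_{s,U,t} R)`. -/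
structure RData (A B P : Type u) [CommRing A] [CommRing B] [CommRing P] [Algebra A B] where
  τ : A →+* B
  e : B →+* A
  c : B →+* P
  p₁ : B →+* P
  p₂ : B →+* P
  hes : ∀ a, e (algebraMap A B a) = a
  het : ∀ a, e (τ a) = a
  hps : IsPushout (CommRingCat.ofHom (algebraMap A B)) (CommRingCat.ofHom (algebraMap A B))
      (CommRingCat.ofHom p₂) (CommRingCat.ofHom c)
  hpt : IsPushout (CommRingCat.ofHom τ) (CommRingCat.ofHom (algebraMap A B))
      (CommRingCat.ofHom p₂) (CommRingCat.ofHom p₁)
  hct : ∀ a, c (τ a) = p₁ (τ a)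

namespace RData

variable {A B P : Type u} [CommRing A] [CommRing B] [CommRing P] [Algebra A B] (D : RData A B P)

lemma c_sigma (a : A) : D.c (algebraMap A B a) = D.p₂ (algebraMap A B a) := by
  have := congrArg (fun f => f.hom a) D.hps.w
  exact this.symm

lemma p₁_sigma (a : A) : D.p₁ (algebraMap A B a) = D.p₂ (D.τ a) := by
  have := congrArg (fun f => f.hom a) D.hpt.w
  exact this.symm

/-- The linear map `A^r → B`, `w ↦ ∑ σ(w_j) τ(x_j)`. -/
noncomputable def gmap {r : ℕ} (x : Fin r → A) : (Fin r → A) →ₗ[A] B :=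
  Fintype.linearCombination A (fun j => D.τ (x j))

lemma gmap_apply {r : ℕ} (x : Fin r → A) (w : Fin r → A) :
    D.gmap x w = ∑ j, algebraMap A B (w j) * D.τ (x j) := by
  simp [gmap, Fintype.linearCombination_apply, Algebra.smul_def]

/-- If `τ(x_j)` is an `A`-basis of `B`, then `p₁(τ(x_j))` is a `B`-basis of `P` (via `p₂`):
uniqueness of coefficients. -/
theorem coeff_unique {r : ℕ} (x : Fin r → A) (hb : Function.Bijective (D.gmap x))
    (u u' : Fin r → B)
    (h : ∑ j, D.p₂ (u j) * D.p₁ (D.τ (x j)) = ∑ j, D.p₂ (u' j) * D.p₁ (D.τ (x j))) : u = u' := by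
  letI : Algebra (AlgVia D.τ) P := RingHom.toAlgebra (show AlgVia D.τ →+* P from D.p₂)
  letI algBP : Algebra B P := D.p₁.toAlgebra
  letI : Algebra A P := (D.p₂.comp D.τ).toAlgebra
  haveI : IsScalarTower A (AlgVia D.τ) P := IsScalarTower.of_algebraMap_eq (fun a => rfl)
  haveI : IsScalarTower A B P := IsScalarTower.of_algebraMap_eq (fun a => (D.p₁_sigma a).symm)
  haveI hpo : Algebra.IsPushout A (AlgVia D.τ) B P :=
    (CommRingCat.isPushout_iff_isPushout (R := A) (R' := AlgVia D.τ) (S := B) (S' := P)).mp D.hpt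
  have ibc : IsBaseChange (AlgVia D.τ) (IsScalarTower.toAlgHom A B P).toLinearMap := hpo.out
  let bB : Module.Basis (Fin r) A B :=
    Module.Basis.ofEquivFun (LinearEquiv.ofBijective (D.gmap x) hb).symm
  have hbB : ∀ j, bB j = D.τ (x j) := by
    intro j
    simp only [bB, Module.Basis.coe_ofEquivFun, LinearEquiv.symm_symm,
      LinearEquiv.ofBijective_apply]
    rw [gmap_apply]
    simp [Pi.single_apply]
  let bP := IsBaseChange.basis bB ibc
  have hbP : ∀ j, bP j = D.p₁ (D.τ (x j)) := by
    intro j
    rw [IsBaseChange.basis_apply, hbB]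
    rfl
  have h1 : ∀ v : Fin r → AlgVia D.τ, ∑ j, D.p₂ (v j) * D.p₁ (D.τ (x j)) =
      ∑ j, v j • bP j := by
    intro v
    refine Finset.sum_congr rfl fun j _ => ?_
    rw [hbP, Algebra.smul_def]
    rfl
  let uu : Fin r → AlgVia D.τ := u
  let uu' : Fin r → AlgVia D.τ := u'
  have h' : ∑ j, uu j • bP j = ∑ j, uu' j • bP j := (h1 uu).symm.trans (h.trans (h1 uu'))
  have h2 := bP.linearIndependent
  rw [Fintype.linearIndependent_iff] at h2
  have h3 : ∑ j, (uu j - uu' j) • bP j = 0 := by
    simp_rw [sub_smul]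
    rw [Finset.sum_sub_distrib, h', sub_self]
  funext j
  have := h2 _ h3 j
  exact sub_eq_zero.mp this

/-- The key claim: if `τ(x_j)` is an `A`-basis of `B` then `x_j` is a basis of `A` over the
invariants. -/
theorem bijective_of_gmap_bijective {C : Type u} [CommRing C] [Algebra C A]
    (hinj : Function.Injective (algebraMap C A))
    (hinv : ∀ a, algebraMap A B a = D.τ a ↔ a ∈ Set.range (algebraMap C A))
    {r : ℕ} (x : Fin r → A) (hb : Function.Bijective (D.gmap x)) :
    Function.Bijective (Fintype.linearCombination C x : (Fin r → C) →ₗ[C] A) := by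
  have hinvC : ∀ z : C, D.τ (algebraMap C A z) = algebraMap A B (algebraMap C A z) :=
    fun z => ((hinv _).mpr ⟨z, rfl⟩).symm
  constructor
  · rw [injective_iff_map_eq_zero]
    intro v hv
    rw [Fintype.linearCombination_apply] at hv
    have h1 : D.gmap x (fun j => algebraMap C A (v j)) = 0 := by
      rw [gmap_apply]
      have := congrArg D.τ hv
      rw [map_zero, map_sum] at this
      rw [← this]
      refine Finset.sum_congr rfl fun j _ => ?_
      rw [Algebra.smul_def, map_mul, hinvC]
    have h2 := (injective_iff_map_eq_zero _).mp hb.1 _ h1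
    funext j
    have := congrFun h2 j
    exact hinj (by rw [Pi.zero_apply, map_zero]; exact this)
  · intro a
    obtain ⟨lam, hlam⟩ := hb.2 (D.τ a)
    rw [gmap_apply] at hlam
    have key : (fun j => algebraMap A B (lam j)) = fun j => D.τ (lam j) := by
      apply D.coeff_unique x hb
      have e1 : ∑ j, D.p₂ (algebraMap A B (lam j)) * D.p₁ (D.τ (x j)) = D.c (D.τ a) := by
        rw [← hlam, map_sum]
        refine Finset.sum_congr rfl fun j _ => ?_
        rw [map_mul, D.c_sigma, D.hct]
      have e2 : ∑ j, D.p₂ (D.τ (lam j)) * D.p₁ (D.τ (x j)) = D.p₁ (D.τ a) := by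
        rw [← hlam, map_sum]
        refine Finset.sum_congr rfl fun j _ => ?_
        rw [map_mul, D.p₁_sigma]
      rw [e1, e2, D.hct]
    have hmem : ∀ j, ∃ z : C, algebraMap C A z = lam j := fun j =>
      (hinv (lam j)).mp (congrFun key j)
    choose v hv using hmem
    refine ⟨v, ?_⟩
    rw [Fintype.linearCombination_apply]
    have := congrArg D.e hlam
    rw [map_sum, D.het] at this
    rw [← this]
    refine Finset.sum_congr rfl fun j _ => ?_
    rw [map_mul, D.hes, D.het, Algebra.smul_def, hv]

/-- `A` is integral over any ring `C` mapping onto the invariants. -/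
theorem isIntegral_of_invariants [Module.Finite A B] [Module.Projective A B] {C : Type u}
    [CommRing C] [Algebra C A]
    (hinv : ∀ a, algebraMap A B a = D.τ a → a ∈ Set.range (algebraMap C A)) :
    Algebra.IsIntegral C A := by
  obtain ⟨n, r, i, -, -, hri⟩ := Module.Finite.exists_comp_eq_id_of_projective A B
  have hr : ∀ x, r (i x) = x := fun x => LinearMap.congr_fun hri x
  refine ⟨fun a => ?_⟩
  obtain ⟨χ, hχ⟩ : ∃ χ, χ = pch i r (LinearMap.mulLeft A (D.τ a)) := ⟨_, rfl⟩
  have hmap : χ.map (algebraMap A B) = χ.map D.τ := by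
    rw [hχ]
    exact map_pch_eq_of_isPushout (algebraMap A B) D.τ D.c D.p₁ D.p₂ D.hps D.hpt i r hr
      (D.τ a) (D.hct a)
  have hlift : χ ∈ Polynomial.lifts (algebraMap C A) := by
    rw [Polynomial.lifts_iff_coeff_lifts]
    intro k
    apply hinv
    have := congrArg (fun p => p.coeff k) hmap
    simp only [Polynomial.coeff_map] at this
    exact this
  have hmonic : χ.Monic := hχ ▸ pch_monic i r _
  have heval : χ.eval a = 0 := by
    have h1 := aeval_pch i r hri (LinearMap.mulLeft A (D.τ a))
    rw [← hχ] at h1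
    have h2 : aeval (Algebra.lmul A B (D.τ a)) χ = 0 := h1
    rw [Polynomial.aeval_algHom_apply] at h2
    have h3 : aeval (D.τ a) χ = 0 := Algebra.lmul_injective (by rw [h2, map_zero])
    have h4 := congrArg D.e h3
    rw [map_zero, Polynomial.aeval_def, Polynomial.hom_eval₂] at h4
    have h5 : D.e.comp (algebraMap A B) = RingHom.id _ := RingHom.ext D.hes
    rw [h5, D.het, Polynomial.eval₂_id] at h4
    exact h4
  obtain ⟨q, hq, -, hqm⟩ := Polynomial.lifts_and_natDegree_eq_and_monic hlift hmonic
  refine ⟨q, hqm, ?_⟩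
  rw [Polynomial.eval₂_eq_eval_map, hq, heval]

end RData

end Groth.Agent.Lib.Helper37
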