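import Groth.Agent.S0463
import Groth.Agent.S0468

set_option autoImplicit false
universe u
open CategoryTheory CategoryTheory.Limits Opposite TopologicalSpace Abelian

namespace Groth.Agent.Lib.Helper37.H1Colim

variable {X : TopCat.{u}}

/-- the constant sheaf `ℤ` on `X` -/
noncomputable abbrev cZ (X : TopCat.{u}) : CohTop.Ab X :=
  (constantSheaf (Opens.grothendieckTopology X) AddCommGrpCat.{u}).obj
    (AddCommGrpCat.of (ULift ℤ))

/-- morphisms from the constant sheaf are global sections -/
noncomputable def α (F : CohTop.Ab X) : (cZ X ⟶ F) ≃ F.obj.obj (op (⊤ : Opens X)) :=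
  ((constantSheafAdj (Opens.grothendieckTopology X) AddCommGrpCat.{u}
      (isTerminalTop (α := Opens X))).homEquiv (AddCommGrpCat.of (ULift ℤ)) F).trans
    (AddCommGrpCat.uliftZMultiplesAddEquiv _).toEquiv

lemma α_naturality {F G : CohTop.Ab X} (f : F ⟶ G) (g : cZ X ⟶ F) :
    α G (g ≫ f) = f.hom.app (op ⊤) (α F g) := by
  dsimp only [α, Equiv.trans_apply]
  rw [Adjunction.homEquiv_naturality_right]
  rfl

/-- the constant sheaf is the free sheaf on the terminal object. -/
noncomputable def isoFreeTop : cZ X ≅ Groth.Agent.S0463.freeSheaf (⊤ : Opens X) :=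
  Groth.Agent.S0463.isoOfCorepresent (T := fun F : CohTop.Ab X => F.obj.obj (op (⊤ : Opens X)))
    (fun f x => f.hom.app _ x) α (Groth.Agent.S0463.β _) α_naturality
    (Groth.Agent.S0463.β_naturality _)

lemma isZero_of_isColimit_of_forall_isZero {C : Type*} [Category C] [HasZeroMorphisms C]
    {J : Type*} [Category J] {F : J ⥤ C} {c : Cocone F} (hc : IsColimit c)
    (h : ∀ j, IsZero (F.obj j)) : IsZero c.pt := by
  rw [IsZero.iff_id_eq_zero]
  exact hc.hom_ext (fun j => (h j).eq_of_src _ _)

/-- On a quasi-compact quasi-separated prespectral space, vanishing of `H^q` passes to directed colimits. -/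
theorem subsingleton_H_of_isColimit [PrespectralSpace X] [QuasiSeparatedSpace X] [CompactSpace X]
    {ι : Type u} [Preorder ι] [IsDirected ι (· ≤ ·)] [Nonempty ι] (D : ι ⥤ CohTop.Ab X)
    (c : Cocone D) (hc : IsColimit c) (q : ℕ) (h : ∀ i, Subsingleton (Sheaf.H.{u} (D.obj i) q)) :
    Subsingleton (Sheaf.H.{u} c.pt q) := by
  have hpres := Groth.Agent.S0468.result (X := X) ⊤ (by simpa using isCompact_univ) ι q
  let G : CohTop.Ab X ⥤ AddCommGrpCat.{u} :=
    (Sheaf.cohomologyPresheafFunctor (Opens.grothendieckTopology X) q).flip.obj (op ⊤)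
  have hG : IsColimit (G.mapCocone c) := isColimitOfPreserves G hc
  have key : ∀ F : CohTop.Ab X, Subsingleton (Sheaf.H.{u} F q) ↔ IsZero (G.obj F) := by
    intro F
    have e : Sheaf.H.{u} F q ≃+ (G.obj F : Type u) :=
      Groth.Agent.S0463.extIsoLeft isoFreeTop F q
    constructor
    · intro hs
      have : Subsingleton (G.obj F : Type u) := e.symm.toEquiv.subsingleton
      exact AddCommGrpCat.isZero_of_subsingleton _
    · intro hz
      have : Subsingleton (G.obj F : Type u) := AddCommGrpCat.subsingleton_of_isZero hz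
      exact e.toEquiv.subsingleton
  rw [key]
  exact isZero_of_isColimit_of_forall_isZero hG (fun i => (key _).mp (h i))

end Groth.Agent.Lib.Helper37.H1Colim

namespace Groth.Agent.Lib.Helper37.H1Colim

variable {X : TopCat.{u}}

/-- A cocone of abelian sheaves over a directed poset whose legs are injective on sections and which is
locally surjective is a colimit cocone. -/
theorem isColimit_of_injective_of_locally_surjective
    {ι : Type u} [Preorder ι] [IsDirected ι (· ≤ ·)] [Nonempty ι]
    (F : ι ⥤ CohTop.Ab X) (c : Cocone F)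
    (hinj : ∀ (k : ι) (U : Opens X), Function.Injective ((c.ι.app k).hom.app (op U)))
    (hsurj : ∀ (U : Opens X) (s : c.pt.obj.obj (op U)) (x : X), x ∈ U →
      ∃ (V : Opens X) (hV : V ≤ U) (k : ι) (t : (F.obj k).obj.obj (op V)), x ∈ V ∧
        (c.ι.app k).hom.app (op V) t = c.pt.obj.map (homOfLE hV).op s) :
    Nonempty (IsColimit c) := by
  let E := colimit.cocone (F ⋙ sheafToPresheaf (Opens.grothendieckTopology X) AddCommGrpCat.{u})
  let hE : IsColimit E := colimit.isColimit _
  let P := Sheaf.isColimitSheafifyCocone E hE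
  let φ : E.pt ⟶ c.pt.obj :=
    hE.desc ((sheafToPresheaf (Opens.grothendieckTopology X) AddCommGrpCat.{u}).mapCocone c)
  have hφ : ∀ k, E.ι.app k ≫ φ = (c.ι.app k).hom := fun k => hE.fac _ k
  let d := P.desc c
  let dh : sheafify (Opens.grothendieckTopology X) E.pt ⟶ c.pt.obj := d.hom
  have fac : toSheafify (Opens.grothendieckTopology X) E.pt ≫ dh = φ := by
    refine hE.hom_ext fun k => ?_
    rw [hφ]
    have h1 : ((Sheaf.sheafifyCocone E).ι.app k ≫ d).hom = (c.ι.app k).hom :=
      congrArg (fun f => f.hom) (P.fac c k)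
    have h2 : ((Sheaf.sheafifyCocone E).ι.app k).hom ≫ dh = (c.ι.app k).hom := h1
    have h3 : ((Sheaf.sheafifyCocone E).ι.app k).hom =
        E.ι.app k ≫ toSheafify (Opens.grothendieckTopology X) E.pt :=
      Sheaf.sheafifyCocone_ι_app_val E k
    calc E.ι.app k ≫ toSheafify (Opens.grothendieckTopology X) E.pt ≫ dh
        = (E.ι.app k ≫ toSheafify (Opens.grothendieckTopology X) E.pt) ≫ dh :=
          (Category.assoc _ _ _).symm
      _ = ((Sheaf.sheafifyCocone E).ι.app k).hom ≫ dh := congrArg (fun f => f ≫ dh) h3.symm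
      _ = _ := h2
  -- representatives
  have hrep : ∀ (U : Opens X) (x : E.pt.obj (op U)), ∃ (k : ι) (y : (F.obj k).obj.obj (op U)),
      (E.ι.app k).app (op U) y = x := by
    intro U x
    have hU : IsColimit (((evaluation _ AddCommGrpCat.{u}).obj (op U)).mapCocone E) :=
      isColimitOfPreserves _ hE
    obtain ⟨k, y, hy⟩ := Concrete.isColimit_exists_rep _ hU x
    exact ⟨k, y, hy⟩
  have hinjφ : Presheaf.IsLocallyInjective (Opens.grothendieckTopology X) φ := by
    apply Presheaf.isLocallyInjective_of_injective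
    intro U
    obtain ⟨U⟩ := U
    rw [← AddMonoidHom.coe_coe, injective_iff_map_eq_zero]
    intro x hx
    obtain ⟨k, y, rfl⟩ := hrep U x
    have h1 : (c.ι.app k).hom.app (op U) y = 0 := by
      rw [← hφ]
      exact hx
    have h2 : y = 0 := hinj k U (by rw [h1, map_zero])
    rw [h2, map_zero]
  have hsurjφ : Presheaf.IsLocallySurjective (Opens.grothendieckTopology X) φ := by
    refine ⟨fun {U} s => ?_⟩
    intro x hx
    obtain ⟨V, hV, k, t, hxV, ht⟩ := hsurj U s x hx
    refine ⟨V, homOfLE hV, ⟨(E.ι.app k).app (op V) t, ?_⟩, hxV⟩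
    rw [← ht, ← hφ]
    rfl
  have hd1 : Presheaf.IsLocallySurjective (Opens.grothendieckTopology X) dh :=
    Presheaf.isLocallySurjective_of_isLocallySurjective_fac _ fac
  have hd2 : Presheaf.IsLocallyInjective (Opens.grothendieckTopology X) dh :=
    Presheaf.isLocallyInjective_of_isLocallyInjective_of_isLocallySurjective_fac _ φ fac
  have hiso : IsIso d := (Sheaf.isLocallyBijective_iff_isIso d).mp ⟨hd2, hd1⟩
  exact ⟨IsColimit.ofPointIso P⟩

end Groth.Agent.Lib.Helper37.H1Colim
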