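import Mathlib.AlgebraicGeometry.Sites.MorphismProperty
import Mathlib.CategoryTheory.MorphismProperty.Local
import Mathlib.AlgebraicGeometry.Morphisms.UnderlyingMap
import Mathlib.AlgebraicGeometry.PullbackCarrier

/-!
# Largest opens and base change along two maps (helper37)

Abstract form of the argument "the largest open over which a morphism has a target-local property
is invariant".
-/

set_option autoImplicit false

universe u

namespace Groth.Agent.Lib.Helper37

open CategoryTheory CategoryTheory.Limits AlgebraicGeometry MorphismProperty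

/-- Let `Q` be a class of open morphisms containing open immersions, stable under base change and
composition, and let `P` be local at the target for the `Q`-topology. Let `s t : R ⟶ U` be in `Q`
with `t` surjective and let `φ : X ⟶ U` be a morphism whose base changes along `s` and along `t`
are isomorphic over `R` (given by a common object `Z` with two cartesian squares). If `W` is the
largest open of `U` over which `φ` has `P`, then `t⁻¹ W ≤ s⁻¹ W`. -/
theorem preimage_le_preimage_of_isPullback (Q P : MorphismProperty Scheme.{u})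
    [Q.IsStableUnderBaseChange] [Q.IsStableUnderComposition]
    [P.IsLocalAtTarget (Scheme.precoverage Q)]
    (hQ : ∀ {X Y : Scheme.{u}} (g : X ⟶ Y) [IsOpenImmersion g], Q g)
    (hopen : ∀ {X Y : Scheme.{u}} (g : X ⟶ Y), Q g → IsOpenMap g)
    {U R X Z : Scheme.{u}} (s t : R ⟶ U) (φ : X ⟶ U) (aₛ aₜ : Z ⟶ X) (b : Z ⟶ R)
    (hpbs : IsPullback aₛ b φ s) (hpbt : IsPullback aₜ b φ t)
    (hs : Q s) (ht : Q t) [Surjective t]
    (W : U.Opens) (hW : P (φ ∣_ W)) (hmax : ∀ W' : U.Opens, P (φ ∣_ W') → W' ≤ W) :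
    t ⁻¹ᵁ W ≤ s ⁻¹ᵁ W := by
  -- the open `V = t⁻¹ W` of `R` and the base change of `b` to it
  obtain ⟨a, b', h1⟩ : ∃ (a : pullback b (t ⁻¹ᵁ W).ι ⟶ Z)
      (b' : pullback b (t ⁻¹ᵁ W).ι ⟶ (t ⁻¹ᵁ W : Scheme.{u})),
      IsPullback a b' b (t ⁻¹ᵁ W).ι :=
    ⟨_, _, IsPullback.of_hasPullback _ _⟩
  -- (A) `b'` has `P`
  have hbP : P b' := by
    have h3 := h1.paste_horiz hpbt
    rw [← morphismRestrict_ι] at h3
    have h5 := IsPullback.of_right' h3 (isPullback_morphismRestrict φ W).flip
    have hcov : Presieve.singleton (t ∣_ W) ∈ Scheme.precoverage Q W := by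
      rw [Scheme.singleton_mem_precoverage_iff]
      refine ⟨(MorphismProperty.of_isPullback (P := @Surjective)
        (isPullback_morphismRestrict t W).flip ‹Surjective t›).surj, ?_⟩
      exact Q.of_isPullback (isPullback_morphismRestrict t W).flip ht
    have : HasPullback (φ ∣_ W) (t ∣_ W) := h5.hasPullback
    rw [← P.cancel_left_of_respectsIso h5.isoPullback.inv, h5.isoPullback_inv_snd]
    exact IsLocalAtTarget.pullbackSnd hcov (Presieve.singleton.mk) hW
  -- (B) the image `W''` of `V` under `s`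
  let W'' : U.Opens := ⟨s '' (t ⁻¹ᵁ W : Set R), hopen s hs _ (t ⁻¹ᵁ W).2⟩
  have hrange : Set.range ((t ⁻¹ᵁ W).ι ≫ s) ⊆ Set.range W''.ι := by
    rw [Scheme.Opens.range_ι]
    rintro _ ⟨v, rfl⟩
    exact ⟨v.1, v.2, rfl⟩
  obtain ⟨s', hfac⟩ : ∃ s' : (t ⁻¹ᵁ W : Scheme.{u}) ⟶ (W'' : Scheme.{u}),
      s' ≫ W''.ι = (t ⁻¹ᵁ W).ι ≫ s :=
    ⟨IsOpenImmersion.lift W''.ι ((t ⁻¹ᵁ W).ι ≫ s) hrange, IsOpenImmersion.lift_fac _ _ _⟩
  have hQs' : Q s' := by
    refine HasOfPostcompProperty.of_postcomp (W' := @IsOpenImmersion) s' W''.ι inferInstance ?_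
    rw [hfac]
    exact Q.comp_mem _ _ (hQ _) hs
  have hs'surj : Function.Surjective s'.base := by
    intro y
    obtain ⟨v, hv, hvy⟩ := y.2
    refine ⟨⟨v, hv⟩, ?_⟩
    apply W''.ι.isOpenEmbedding.injective
    show (s' ≫ W''.ι) _ = _
    rw [hfac]
    exact hvy
  have hPW'' : P (φ ∣_ W'') := by
    have h7 := h1.paste_horiz hpbs
    rw [← hfac] at h7
    have h9 := IsPullback.of_right' h7 (isPullback_morphismRestrict φ W'').flip
    have hcov : Presieve.singleton s' ∈ Scheme.precoverage Q W'' := by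
      rw [Scheme.singleton_mem_precoverage_iff]
      exact ⟨hs'surj, hQs'⟩
    refine IsLocalAtTarget.of_forall_pullbackSnd (P := P) hcov ?_
    rintro _ _ _ ⟨⟩
    rw [← P.cancel_left_of_respectsIso h9.isoPullback.hom, h9.isoPullback_hom_snd]
    exact hbP
  have hle : W'' ≤ W := hmax W'' hPW''
  intro x hx
  exact hle ⟨x, hx, rfl⟩

end Groth.Agent.Lib.Helper37
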