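import Mathlib.AlgebraicGeometry.Sites.Etale
import Mathlib.AlgebraicGeometry.Sites.Fpqc
import Mathlib.AlgebraicGeometry.Morphisms.Etale
import Mathlib.AlgebraicGeometry.Morphisms.Flat
import Mathlib.AlgebraicGeometry.Morphisms.FinitePresentation
import Mathlib.CategoryTheory.MorphismProperty.Local

/-!
# Largest open where a source-local property holds (helper37)
-/

set_option autoImplicit false

universe u

namespace Groth.Agent.Lib.Helper37

open CategoryTheory AlgebraicGeometry MorphismProperty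

/-- Let `Q` be a class of open morphisms of schemes containing open immersions, stable under
base change and composition, and let `P` be local at the source for the `Q`-topology. Then every
`f : X ⟶ Y` has a largest open `W` of `X` with `P (f|_W)`, compatible with pullback along `Q`. -/
theorem exists_largest_open (Q P : MorphismProperty Scheme.{u}) [Q.IsStableUnderBaseChange]
    [Q.IsStableUnderComposition] [Q.ContainsIdentities]
    [P.IsLocalAtSource (Scheme.precoverage Q)]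
    (hQ : ∀ {X Y : Scheme.{u}} (g : X ⟶ Y) [IsOpenImmersion g], Q g)
    (hopen : ∀ {X Y : Scheme.{u}} (g : X ⟶ Y), Q g → IsOpenMap g) {X Y : Scheme.{u}} (f : X ⟶ Y) :
    ∃ W : X.Opens, (P (W.ι ≫ f) ∧ ∀ W' : X.Opens, P (W'.ι ≫ f) → W' ≤ W) ∧
      ∀ (X' : Scheme.{u}) (g : X' ⟶ X), Q g → ∀ (V : X'.Opens),
        (P (V.ι ≫ g ≫ f) ∧ ∀ V' : X'.Opens, P (V'.ι ≫ g ≫ f) → V' ≤ V) → V = g ⁻¹ᵁ W := by
  have hle : Scheme.zariskiPrecoverage ≤ Scheme.precoverage Q :=
    Scheme.precoverage_mono fun _ _ g hg => @hQ _ _ g hg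
  have hZ : IsZariskiLocalAtSource P := IsLocalAtSource.of_le hle
  let W : X.Opens := ⨆ W' : {W' : X.Opens // P (W'.ι ≫ f)}, W'.1
  have hWmax : ∀ W' : X.Opens, P (W'.ι ≫ f) → W' ≤ W := fun W' h =>
    le_iSup (fun W' : {W' : X.Opens // P (W'.ι ≫ f)} => W'.1) ⟨W', h⟩
  have hW : P (W.ι ≫ f) := by
    refine IsZariskiLocalAtSource.of_iSup_eq_top
      (fun W' : {W' : X.Opens // P (W'.ι ≫ f)} => W.ι ⁻¹ᵁ W'.1) ?_ ?_
    · rw [← Scheme.Hom.preimage_iSup]
      exact W.ι_preimage_self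
    · rintro ⟨W', hW'⟩
      have hle : W' ≤ W := hWmax W' hW'
      show P ((W.ι ⁻¹ᵁ W').ι ≫ W.ι ≫ f)
      rw [← Scheme.Opens.isoOfLE_hom_ι_assoc hle, P.cancel_left_of_respectsIso]
      exact hW'
  refine ⟨W, ⟨hW, hWmax⟩, ?_⟩
  intro X' g hg V ⟨hV, hVmax⟩
  apply le_antisymm
  · -- the image of `V` is an open on which `f` has `P`
    let W' : X.Opens := ⟨g '' V, hopen g hg _ V.2⟩
    have hrange : Set.range (V.ι ≫ g) ⊆ Set.range W'.ι := by
      rw [Scheme.Opens.range_ι]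
      rintro _ ⟨v, rfl⟩
      exact ⟨v.1, v.2, rfl⟩
    let h : (V : Scheme.{u}) ⟶ (W' : Scheme.{u}) := IsOpenImmersion.lift W'.ι (V.ι ≫ g) hrange
    have hfac : h ≫ W'.ι = V.ι ≫ g := IsOpenImmersion.lift_fac _ _ _
    have hQh : Q h := by
      refine HasOfPostcompProperty.of_postcomp (W' := @IsOpenImmersion) h W'.ι inferInstance ?_
      rw [hfac]
      exact Q.comp_mem _ _ (hQ _) hg
    have hsurj : ∀ y : (W' : Scheme.{u}), ∃ (_ : PUnit.{1}) (v : (V : Scheme.{u})), h v = y := by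
      intro y
      obtain ⟨v, hv, hvy⟩ := y.2
      refine ⟨⟨⟩, ⟨v, hv⟩, ?_⟩
      apply W'.ι.isOpenEmbedding.injective
      rw [← Scheme.Hom.comp_apply, hfac]
      exact hvy
    let 𝒰 : Scheme.Cover (Scheme.precoverage Q) (W' : Scheme.{u}) :=
      Scheme.Cover.mkOfCovers PUnit.{1} (fun _ => (V : Scheme.{u})) (fun _ => h) hsurj
        (fun _ => hQh)
    have hPW' : P (W'.ι ≫ f) := by
      rw [IsLocalAtSource.iff_of_zeroHypercover (P := P) 𝒰]
      intro _
      show P (h ≫ W'.ι ≫ f)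
      rw [reassoc_of% hfac]
      exact hV
    intro v hv
    exact hWmax W' hPW' ⟨v, hv, rfl⟩
  · apply hVmax
    have hQr : Q (g ∣_ W) := Q.of_isPullback (isPullback_morphismRestrict g W).flip hg
    have : (g ⁻¹ᵁ W).ι ≫ g ≫ f = (g ∣_ W) ≫ W.ι ≫ f := by
      rw [← Category.assoc, ← morphismRestrict_ι, Category.assoc]
    rw [this]
    let 𝒱 : Scheme.Cover.{0, u} (Scheme.precoverage Q) (W : Scheme.{u}) :=
      (Scheme.coverOfIsIso.{0, u} (P := Q) (𝟙 (W : Scheme.{u}))).add (g ∣_ W) hQr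
    exact (IsLocalAtSource.iff_of_zeroHypercover (P := P) 𝒱).mp hW none

end Groth.Agent.Lib.Helper37
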