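import Groth.Agent.Lib.Helper37.SheafLocal
import Groth.Prelude.Def_HTop

/-!
# ph sheaves from proper surjective morphisms (helper37)

For a Zariski sheaf `F` with the sheaf property for all proper surjective morphisms, the sieve
generated by any ph covering is covering for the finest topology making `F` a sheaf.
-/

set_option autoImplicit false

universe w w' u

namespace Groth.Agent.Lib.Helper37

open CategoryTheory CategoryTheory.Limits AlgebraicGeometry HTop Opposite

/-- A topology containing the Zariski topology is local on affine opens. -/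
theorem mem_of_forall_affineOpens_pullback_mem (J : GrothendieckTopology Scheme.{u})
    (hJ : Scheme.zariskiTopology ≤ J) {X : Scheme.{u}} (S : Sieve X)
    (h : ∀ U : X.affineOpens, S.pullback (U : X.Opens).ι ∈ J ((U : X.Opens) : Scheme.{u})) :
    S ∈ J X := by
  refine J.transitive (hJ _ (affineOpens_sieve_mem_zariskiTopology X)) S ?_
  rintro Z k ⟨Z', k', _, ⟨U⟩, rfl⟩
  rw [Sieve.pullback_comp]
  exact J.pullback_stable k' (h U)

/-- An open covering family generates a Zariski covering sieve. -/
theorem generate_ofArrows_mem_zariskiTopology {U : Scheme.{u}} {I : Type w'}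
    (Y : I → Scheme.{u}) (ι : ∀ j, Y j ⟶ U) [∀ j, IsOpenImmersion (ι j)]
    (hcov : ∀ x : U, ∃ j, x ∈ Set.range (ι j)) :
    Sieve.generate (Presieve.ofArrows Y ι) ∈ Scheme.zariskiTopology U := by
  let G : PreZeroHypercover.{w'} U := { I₀ := I, X := Y, f := ι }
  have hG : G.presieve₀ ∈ Scheme.precoverage @IsOpenImmersion U := by
    rw [Scheme.presieve₀_mem_precoverage_iff]
    exact ⟨hcov, fun j => inferInstance⟩
  exact Precoverage.generate_mem_toGrothendieck hG

variable {F : Scheme.{u}ᵒᵖ ⥤ Type w}

/-- If `F` has the sheaf property for all proper surjective morphisms, the sieve generated by a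
proper surjective morphism is covering for the finest topology of `F`. -/
theorem generate_singleton_mem_finestTopologySingle_of_isProper
    (h₂ : ∀ (U V : Scheme.{u}) (f : V ⟶ U), IsProper f → Surjective f →
      Presieve.IsSheafFor F (Presieve.singleton f))
    {U V : Scheme.{u}} (f : V ⟶ U) [IsProper f] [Surjective f] :
    Sieve.generate (Presieve.singleton f) ∈ Sheaf.finestTopologySingle F U := by
  intro Y g
  rw [← Sieve.pullbackArrows_comm, ← Presieve.isSheafFor_iff_generate,
    Presieve.pullback_singleton]
  exact h₂ _ _ _ inferInstance inferInstance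

theorem generate_mem_finestTopologySingle_of_isStandardPh
    (h₁ : Presieve.IsSheaf Scheme.zariskiTopology F)
    (h₂ : ∀ (U V : Scheme.{u}) (f : V ⟶ U), IsProper f → Surjective f →
      Presieve.IsSheafFor F (Presieve.singleton f))
    {T : Scheme.{u}} (E : PreZeroHypercover.{w'} T) (hE : IsStandardPh E) :
    Sieve.generate E.presieve₀ ∈ Sheaf.finestTopologySingle F T := by
  obtain ⟨U, f, ι, hf, hfs, hι, hιf, hcov⟩ := hE.exists_proper
  refine (Sheaf.finestTopologySingle F).transitive
    (generate_singleton_mem_finestTopologySingle_of_isProper h₂ f) _ ?_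
  rintro Y k ⟨Y', k', _, ⟨⟩, rfl⟩
  have hZ : Sieve.generate (Presieve.ofArrows E.X ι) ∈ Sheaf.finestTopologySingle F U :=
    zariskiTopology_le_finestTopologySingle h₁ _
      (generate_ofArrows_mem_zariskiTopology E.X ι hcov)
  refine (Sheaf.finestTopologySingle F).superset_covering ?_
    ((Sheaf.finestTopologySingle F).pullback_stable k' hZ)
  rintro Y'' m ⟨Y₃, m', _, ⟨j⟩, e⟩
  show Sieve.generate E.presieve₀ (m ≫ k' ≫ f)
  rw [← Category.assoc, ← e, Category.assoc, hιf]
  exact ⟨_, m', E.f j, ⟨j⟩, rfl⟩

theorem generate_mem_finestTopologySingle_of_isPhCover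
    (h₁ : Presieve.IsSheaf Scheme.zariskiTopology F)
    (h₂ : ∀ (U V : Scheme.{u}) (f : V ⟶ U), IsProper f → Surjective f →
      Presieve.IsSheafFor F (Presieve.singleton f))
    {X : Scheme.{u}} (E : PreZeroHypercover.{w'} X) (hE : IsPhCover E) :
    Sieve.generate E.presieve₀ ∈ Sheaf.finestTopologySingle F X := by
  refine mem_of_forall_affineOpens_pullback_mem _ (zariskiTopology_le_finestTopologySingle h₁) _
    (fun U => ?_)
  obtain ⟨G, hG, hGE⟩ := hE.2 U
  refine (Sheaf.finestTopologySingle F).superset_covering ?_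
    (generate_mem_finestTopologySingle_of_isStandardPh h₁ h₂ G hG)
  rw [Sieve.generate_le_iff]
  rintro _ _ ⟨j⟩
  obtain ⟨i, h, hh⟩ := hGE j
  show Sieve.generate E.presieve₀ (G.f j ≫ (U : X.Opens).ι)
  rw [← hh]
  exact ⟨_, h, E.f i, ⟨i⟩, rfl⟩

end Groth.Agent.Lib.Helper37
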