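import Groth.Prelude.Def_HTop2
import Mathlib.RingTheory.LocalProperties.Reduced
import Mathlib.RingTheory.Localization.Away.Basic

/-!
# Seminormal rings are local (helper37)

`IsSeminormalRing A ↔ IsReduced A ∧ ∀ x y, x³ = y² → ∃ a, x = a² ∧ y = a³`; passage to `A_f`, and
descent along a finite family generating the unit ideal (by the "ideal of denominators" trick).
-/

set_option autoImplicit false

universe u

namespace Groth.Agent.Lib.Helper37

open HTop

section general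

variable {A : Type u} [CommRing A]

/-- An ideal containing a power of each member of a family generating the unit ideal is the unit
ideal. -/
theorem ideal_eq_top_of_forall_pow_mem (s : Finset A) (hs : Ideal.span (s : Set A) = ⊤)
    (I : Ideal A) (h : ∀ f ∈ s, ∃ n : ℕ, f ^ n ∈ I) : I = ⊤ := by
  classical
  choose! n hn using h
  let N := s.sup n
  have hN : ∀ f ∈ s, f ^ N ∈ I := by
    intro f hf
    have hle : n f ≤ N := Finset.le_sup hf
    rw [← Nat.sub_add_cancel hle, pow_add]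
    exact I.mul_mem_left _ (hn f hf)
  rw [eq_top_iff, ← Ideal.span_pow_eq_top (s : Set A) hs N, Ideal.span_le]
  rintro _ ⟨f, hf, rfl⟩
  exact hN f hf

/-- `a = 0` as soon as it dies in the localizations at a family generating the unit ideal. -/
theorem eq_zero_of_forall_pow_mul_eq_zero (s : Finset A) (hs : Ideal.span (s : Set A) = ⊤)
    (a : A) (h : ∀ f ∈ s, ∃ n : ℕ, f ^ n * a = 0) : a = 0 := by
  have := ideal_eq_top_of_forall_pow_mem s hs (Ideal.span {a}).annihilator ?_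
  · have h1 : (1 : A) ∈ (Ideal.span {a}).annihilator := by rw [this]; trivial
    rw [Submodule.mem_annihilator_span_singleton] at h1
    simpa using h1
  · intro f hf
    obtain ⟨n, hn⟩ := h f hf
    exact ⟨n, by rw [Submodule.mem_annihilator_span_singleton]; exact hn⟩

theorem sub_pow_three_eq_zero {u v : A} (h2 : u ^ 2 = v ^ 2) (h3 : u ^ 3 = v ^ 3) :
    (u - v) ^ 3 = 0 := by
  have e1 : u ^ 2 * v = v ^ 3 := by rw [h2]; ring
  have e2 : u * v ^ 2 = v ^ 3 := by rw [← h2, ← h3]; ring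
  calc (u - v) ^ 3 = u ^ 3 - 3 * (u ^ 2 * v) + 3 * (u * v ^ 2) - v ^ 3 := by ring
    _ = 0 := by rw [e1, e2, h3]; ring

theorem eq_of_sq_eq_of_cube_eq [IsReduced A] {u v : A} (h2 : u ^ 2 = v ^ 2)
    (h3 : u ^ 3 = v ^ 3) : u = v :=
  sub_eq_zero.mp (IsNilpotent.eq_zero ⟨3, sub_pow_three_eq_zero h2 h3⟩)

theorem isReduced_of_isSeminormalRing (h : IsSeminormalRing A) : IsReduced A := by
  rw [isReduced_iff_pow_one_lt 2 (by norm_num)]
  intro a ha
  obtain ⟨b, -, hb⟩ := h 0 0 (by simp)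
  have h1 := hb a ⟨ha.symm, by rw [pow_succ, ha, zero_mul]⟩
  have h2 := hb 0 ⟨by simp, by simp⟩
  rw [h1, h2]

theorem isSeminormalRing_iff :
    IsSeminormalRing A ↔ IsReduced A ∧ ∀ x y : A, x ^ 3 = y ^ 2 → ∃ a : A, x = a ^ 2 ∧ y = a ^ 3 := by
  constructor
  · intro h
    exact ⟨isReduced_of_isSeminormalRing h, fun x y hxy => (h x y hxy).exists⟩
  · rintro ⟨hred, h⟩ x y hxy
    obtain ⟨a, ha2, ha3⟩ := h x y hxy
    refine ⟨a, ⟨ha2, ha3⟩, ?_⟩
    rintro b ⟨hb2, hb3⟩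
    exact eq_of_sq_eq_of_cube_eq (hb2.symm.trans ha2) (hb3.symm.trans ha3)

end general

section localization

variable {A : Type u} [CommRing A]

/-- Clearing denominators in a cusp equation in `A_f`. -/
theorem exists_cusp_lift (f : A) (B : Type u) [CommRing B] [Algebra A B] [IsLocalization.Away f B]
    (x y : B) (hxy : x ^ 3 = y ^ 2) :
    ∃ (M : ℕ) (x₂ y₂ : A), x₂ ^ 3 = y₂ ^ 2 ∧
      algebraMap A B x₂ = algebraMap A B f ^ (2 * M) * x ∧
      algebraMap A B y₂ = algebraMap A B f ^ (3 * M) * y := by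
  obtain ⟨n, x₀, hx₀⟩ := IsLocalization.Away.surj f x
  obtain ⟨m, y₀, hy₀⟩ := IsLocalization.Away.surj f y
  -- common exponent `N = n + m`
  set φ := algebraMap A B f with hφ
  let x₁ : A := f ^ (n + 2 * m) * x₀
  let y₁ : A := f ^ (3 * n + 2 * m) * y₀
  have hx₁ : algebraMap A B x₁ = φ ^ (2 * (n + m)) * x := by
    simp only [x₁, map_mul, map_pow, ← hx₀, ← hφ]
    ring
  have hy₁ : algebraMap A B y₁ = φ ^ (3 * (n + m)) * y := by
    simp only [y₁, map_mul, map_pow, ← hy₀, ← hφ]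
    ring
  have h1 : algebraMap A B (x₁ ^ 3) = algebraMap A B (y₁ ^ 2) := by
    rw [map_pow, map_pow, hx₁, hy₁, mul_pow, mul_pow, hxy]
    ring
  obtain ⟨k, hk⟩ := IsLocalization.Away.exists_of_eq f h1
  refine ⟨n + m + k, f ^ (2 * k) * x₁, f ^ (3 * k) * y₁, ?_, ?_, ?_⟩
  · calc (f ^ (2 * k) * x₁) ^ 3 = f ^ (5 * k) * (f ^ k * x₁ ^ 3) := by ring
      _ = f ^ (5 * k) * (f ^ k * y₁ ^ 2) := by rw [hk]
      _ = (f ^ (3 * k) * y₁) ^ 2 := by ring
  · rw [map_mul, map_pow, hx₁, ← hφ]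
    ring
  · rw [map_mul, map_pow, hy₁, ← hφ]
    ring

/-- Seminormality passes to `A_f`. -/
theorem isSeminormalRing_of_isLocalizationAway (f : A) (B : Type u) [CommRing B] [Algebra A B]
    [IsLocalization.Away f B] (hA : IsSeminormalRing A) : IsSeminormalRing B := by
  rw [isSeminormalRing_iff] at hA ⊢
  obtain ⟨hred, hA⟩ := hA
  refine ⟨isReduced_localizationPreserves (Submonoid.powers f) B hred, fun x y hxy => ?_⟩
  obtain ⟨M, x₂, y₂, h₂, hx₂, hy₂⟩ := exists_cusp_lift f B x y hxy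
  obtain ⟨a₂, ha2, ha3⟩ := hA x₂ y₂ h₂
  have hu : IsUnit (algebraMap A B f) := IsLocalization.Away.algebraMap_isUnit f
  obtain ⟨u, hu⟩ := hu
  refine ⟨algebraMap A B a₂ * (↑(u⁻¹ ^ M) : B), ?_, ?_⟩
  · have : x = (↑(u⁻¹ ^ (2 * M)) : B) * algebraMap A B x₂ := by
      rw [hx₂, ← hu, ← Units.val_pow_eq_pow_val, ← mul_assoc, ← Units.val_mul]
      simp
    rw [this, ha2, map_pow, mul_pow, ← Units.val_pow_eq_pow_val, ← pow_mul, mul_comm M 2, mul_comm]
  · have : y = (↑(u⁻¹ ^ (3 * M)) : B) * algebraMap A B y₂ := by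
      rw [hy₂, ← hu, ← Units.val_pow_eq_pow_val, ← mul_assoc, ← Units.val_mul]
      simp
    rw [this, ha3, map_pow, mul_pow, ← Units.val_pow_eq_pow_val, ← pow_mul, mul_comm M 3, mul_comm]

/-- The ideal of "denominators" of a solution of the cusp equation. -/
def cuspIdeal [IsReduced A] (x y : A) (hxy : x ^ 3 = y ^ 2) : Ideal A where
  carrier := {c | ∃ b : A, b ^ 2 = c ^ 2 * x ∧ b ^ 3 = c ^ 3 * y}
  zero_mem' := ⟨0, by simp, by simp⟩
  add_mem' := by
    rintro c c' ⟨b, hb2, hb3⟩ ⟨b', hb2', hb3'⟩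
    refine ⟨b + b', ?_, ?_⟩
    · have e : b * b' = c * c' * x := by
        apply eq_of_sq_eq_of_cube_eq
        · calc (b * b') ^ 2 = b ^ 2 * b' ^ 2 := by ring
            _ = (c * c' * x) ^ 2 := by rw [hb2, hb2']; ring
        · calc (b * b') ^ 3 = b ^ 3 * b' ^ 3 := by ring
            _ = c ^ 3 * c' ^ 3 * y ^ 2 := by rw [hb3, hb3']; ring
            _ = (c * c' * x) ^ 3 := by rw [← hxy]; ring
      calc (b + b') ^ 2 = b ^ 2 + 2 * (b * b') + b' ^ 2 := by ring
        _ = (c + c') ^ 2 * x := by rw [hb2, hb2', e]; ring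
    · have e1 : b ^ 2 * b' = c ^ 2 * c' * y := by
        apply eq_of_sq_eq_of_cube_eq
        · calc (b ^ 2 * b') ^ 2 = (b ^ 2) ^ 2 * b' ^ 2 := by ring
            _ = c ^ 4 * c' ^ 2 * x ^ 3 := by rw [hb2, hb2']; ring
            _ = (c ^ 2 * c' * y) ^ 2 := by rw [hxy]; ring
        · calc (b ^ 2 * b') ^ 3 = (b ^ 3) ^ 2 * b' ^ 3 := by ring
            _ = (c ^ 2 * c' * y) ^ 3 := by rw [hb3, hb3']; ring
      have e2 : b * b' ^ 2 = c * c' ^ 2 * y := by
        apply eq_of_sq_eq_of_cube_eq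
        · calc (b * b' ^ 2) ^ 2 = b ^ 2 * (b' ^ 2) ^ 2 := by ring
            _ = c ^ 2 * c' ^ 4 * x ^ 3 := by rw [hb2, hb2']; ring
            _ = (c * c' ^ 2 * y) ^ 2 := by rw [hxy]; ring
        · calc (b * b' ^ 2) ^ 3 = b ^ 3 * (b' ^ 3) ^ 2 := by ring
            _ = (c * c' ^ 2 * y) ^ 3 := by rw [hb3, hb3']; ring
      calc (b + b') ^ 3 = b ^ 3 + 3 * (b ^ 2 * b') + 3 * (b * b' ^ 2) + b' ^ 3 := by ring
        _ = (c + c') ^ 3 * y := by rw [hb3, hb3', e1, e2]; ring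
  smul_mem' := by
    rintro r c ⟨b, hb2, hb3⟩
    refine ⟨r * b, ?_, ?_⟩
    · rw [smul_eq_mul, mul_pow, hb2]; ring
    · rw [smul_eq_mul, mul_pow, hb3]; ring

/-- Seminormality descends along a finite family generating the unit ideal. -/
theorem isSeminormalRing_of_span_eq_top (s : Finset A) (hs : Ideal.span (s : Set A) = ⊤)
    (B : A → Type u) [∀ f, CommRing (B f)] [∀ f, Algebra A (B f)]
    (hB : ∀ f ∈ s, IsLocalization.Away f (B f)) (h : ∀ f ∈ s, IsSeminormalRing (B f)) :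
    IsSeminormalRing A := by
  have hred : IsReduced A := by
    rw [isReduced_iff_pow_one_lt 2 (by norm_num)]
    intro a ha
    refine eq_zero_of_forall_pow_mul_eq_zero s hs a (fun f hf => ?_)
    have := hB f hf
    have hredB : IsReduced (B f) := isReduced_of_isSeminormalRing (h f hf)
    have h0 : algebraMap A (B f) a = algebraMap A (B f) 0 := by
      rw [map_zero]
      exact IsNilpotent.eq_zero ⟨2, by rw [← map_pow, ha, map_zero]⟩
    obtain ⟨n, hn⟩ := IsLocalization.Away.exists_of_eq f h0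
    exact ⟨n, by rw [hn, mul_zero]⟩
  rw [isSeminormalRing_iff]
  refine ⟨hred, fun x y hxy => ?_⟩
  have htop : cuspIdeal x y hxy = ⊤ := by
    refine ideal_eq_top_of_forall_pow_mem s hs _ (fun f hf => ?_)
    have := hB f hf
    obtain ⟨a, ⟨ha2, ha3⟩, -⟩ := h f hf (algebraMap A (B f) x) (algebraMap A (B f) y)
      (by rw [← map_pow, ← map_pow, hxy])
    obtain ⟨n, b, hb⟩ := IsLocalization.Away.surj f a
    -- `b = a * f^n` in `B f`
    have e2 : algebraMap A (B f) (b ^ 2) = algebraMap A (B f) ((f ^ n) ^ 2 * x) := by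
      rw [map_pow, ← hb, map_mul, map_pow, map_pow, ha2]; ring
    have e3 : algebraMap A (B f) (b ^ 3) = algebraMap A (B f) ((f ^ n) ^ 3 * y) := by
      rw [map_pow, ← hb, map_mul, map_pow, map_pow, ha3]; ring
    obtain ⟨k2, hk2⟩ := IsLocalization.Away.exists_of_eq f e2
    obtain ⟨k3, hk3⟩ := IsLocalization.Away.exists_of_eq f e3
    refine ⟨k2 + k3 + n, f ^ (k2 + k3) * b, ?_, ?_⟩
    · calc (f ^ (k2 + k3) * b) ^ 2 = f ^ (k2 + 2 * k3) * (f ^ k2 * b ^ 2) := by ring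
        _ = f ^ (k2 + 2 * k3) * (f ^ k2 * ((f ^ n) ^ 2 * x)) := by rw [hk2]
        _ = (f ^ (k2 + k3 + n)) ^ 2 * x := by ring
    · calc (f ^ (k2 + k3) * b) ^ 3 = f ^ (3 * k2 + 2 * k3) * (f ^ k3 * b ^ 3) := by ring
        _ = f ^ (3 * k2 + 2 * k3) * (f ^ k3 * ((f ^ n) ^ 3 * y)) := by rw [hk3]
        _ = (f ^ (k2 + k3 + n)) ^ 3 * y := by ring
  have h1 : (1 : A) ∈ cuspIdeal x y hxy := by rw [htop]; trivial
  obtain ⟨b, hb2, hb3⟩ := h1
  exact ⟨b, by rw [hb2]; ring, by rw [hb3]; ring⟩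

end localization

end Groth.Agent.Lib.Helper37
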