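import Mathlib.AlgebraicGeometry.Morphisms.Separated
import Mathlib.AlgebraicGeometry.Limits

/-!
# Separatedness of disjoint unions; dense separated opens (helper37)

* `isSeparated_coprodMap`: `coprod.map f g` is separated if `f`, `g` are.
* `isSeparated_of_isCompl`: a scheme covered by two disjoint separated open subschemes is separated.
* `exists_dense_open_isSeparated`: a quasi-compact scheme has a dense open separated subscheme.
-/

set_option autoImplicit false
universe u
open CategoryTheory CategoryTheory.Limits AlgebraicGeometry TopologicalSpace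

namespace Groth.Agent.Lib.Helper37

theorem isSeparated_coprodMap {A B A' B' : Scheme.{u}} (f : A ⟶ A') (g : B ⟶ B')
    [IsSeparated f] [IsSeparated g] : IsSeparated (coprod.map f g) := by
  rw [IsZariskiLocalAtTarget.iff_of_openCover (P := @IsSeparated) (coprodOpenCover.{u, 0} A' B')]
  rintro (⟨⟩ | ⟨⟩)
  · have h := (isPullback_inl_inl_coprodMap f g).flip
    have e : h.isoPullback.hom ≫ pullback.snd (coprod.map f g) coprod.inl = f :=
      h.isoPullback_hom_snd
    change IsSeparated (pullback.snd (coprod.map f g) coprod.inl)
    rw [← MorphismProperty.cancel_left_of_respectsIso @IsSeparated h.isoPullback.hom, e]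
    infer_instance
  · have h := (isPullback_inr_inr_coprodMap f g).flip
    have e : h.isoPullback.hom ≫ pullback.snd (coprod.map f g) coprod.inr = g :=
      h.isoPullback_hom_snd
    change IsSeparated (pullback.snd (coprod.map f g) coprod.inr)
    rw [← MorphismProperty.cancel_left_of_respectsIso @IsSeparated h.isoPullback.hom, e]
    infer_instance

theorem isSeparated_of_isCompl {A B Y : Scheme.{u}} (f : A ⟶ Y) (g : B ⟶ Y)
    [IsOpenImmersion f] [IsOpenImmersion g] (h : IsCompl f.opensRange g.opensRange)
    [A.IsSeparated] [B.IsSeparated] : Y.IsSeparated := by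
  obtain ⟨hc⟩ := nonempty_isColimit_binaryCofanMk_of_isCompl f g h
  let e : A ⨿ B ≅ Y := (coprodIsCoprod A B).coconePointUniqueUpToIso hc
  have h1 : (A ⨿ B).IsSeparated := by
    constructor
    have : terminal.from (A ⨿ B) =
        coprod.map (terminal.from A) (terminal.from B) ≫ terminal.from _ :=
      (terminal.hom_ext _ _)
    rw [this]
    have := isSeparated_coprodMap (terminal.from A) (terminal.from B)
    infer_instance
  constructor
  have : terminal.from Y = e.inv ≫ terminal.from (A ⨿ B) := terminal.hom_ext _ _
  rw [this]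
  infer_instance

theorem exists_open_isSeparated_dense_in (X : Scheme.{u}) (S : X.Opens) (hS : IsCompact (S : Set X)) :
    ∃ V : X.Opens, V ≤ S ∧ (S : Set X) ⊆ closure (V : Set X) ∧ (V : Scheme.{u}).IsSeparated := by
  refine compact_open_induction_on (P := fun S : X.Opens => ∃ V : X.Opens, V ≤ S ∧
    (S : Set X) ⊆ closure (V : Set X) ∧ (V : Scheme.{u}).IsSeparated) S hS ?_ ?_
  · refine ⟨⊥, le_rfl, by simp, ?_⟩
    have : IsEmpty ((⊥ : X.Opens) : Scheme.{u}) := ⟨fun x => x.2⟩
    infer_instance
  · rintro S - U ⟨V, hVS, hVd, hVsep⟩
    let W : X.Opens := ⟨(U : Set X) ∩ (closure (S : Set X))ᶜ,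
      U.1.2.inter isClosed_closure.isOpen_compl⟩
    have hWU : W ≤ U.1 := fun x hx => hx.1
    have hdisj : Disjoint V W := by
      rw [disjoint_iff]
      ext x
      simp only [Opens.coe_inf, Set.mem_inter_iff, SetLike.mem_coe, Opens.coe_bot,
        Set.mem_empty_iff_false, iff_false, not_and]
      intro hxV hxW
      exact hxW.2 (subset_closure (hVS hxV))
    refine ⟨V ⊔ W, sup_le_sup hVS hWU, ?_, ?_⟩
    · intro x hx
      have hVV : closure (V : Set X) ⊆ closure ((V ⊔ W : X.Opens) : Set X) :=
        closure_mono (by intro y hy; exact Or.inl hy)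
      by_cases hxS : x ∈ closure (S : Set X)
      · exact hVV (closure_minimal hVd isClosed_closure hxS)
      · rcases hx with hx | hx
        · exact absurd (subset_closure hx) hxS
        · exact subset_closure (Or.inr ⟨hx, hxS⟩)
    · have : (W : Scheme.{u}).IsSeparated := by
        constructor
        have hU : IsAffine (U.1 : Scheme.{u}) := U.2
        have : terminal.from (W : Scheme.{u}) = X.homOfLE hWU ≫ terminal.from _ :=
          terminal.hom_ext _ _
        rw [this]
        infer_instance
      refine isSeparated_of_isCompl (X.homOfLE (le_sup_left : V ≤ V ⊔ W))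
        (X.homOfLE (le_sup_right : W ≤ V ⊔ W)) ?_
      rw [Scheme.opensRange_homOfLE, Scheme.opensRange_homOfLE]
      constructor
      · rw [disjoint_iff]
        ext x
        simp only [Opens.coe_inf, Set.mem_inter_iff, SetLike.mem_coe, Opens.coe_bot,
          Set.mem_empty_iff_false, iff_false, not_and]
        intro hxV hxW
        have : x.1 ∈ V ⊓ W := ⟨hxV, hxW⟩
        rw [disjoint_iff.mp hdisj] at this
        exact this
      · rw [codisjoint_iff]
        ext x
        simp only [Opens.coe_sup, Set.mem_union, SetLike.mem_coe, Opens.coe_top, Set.mem_univ,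
          iff_true]
        exact x.2

theorem exists_dense_open_isSeparated (X : Scheme.{u}) [CompactSpace X] :
    ∃ V : X.Opens, Dense (V : Set X) ∧ (V : Scheme.{u}).IsSeparated := by
  obtain ⟨V, -, hd, hs⟩ := exists_open_isSeparated_dense_in X ⊤ isCompact_univ
  refine ⟨V, ?_, hs⟩
  intro x
  exact hd (Set.mem_univ x)

end Groth.Agent.Lib.Helper37
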