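import Groth.Agent.Lib.Helper37.H1Colim
import Groth.Agent.Lib.Helper37.FTLim
import Groth.Agent.Lib.Helper1.SerreCriterion
import Groth.Agent.Lib.Helper11.IdealGen
import Groth.Agent.Lib.Helper45.IdealModSections
import Groth.Agent.Lib.Helper45.QCohStalk

set_option autoImplicit false
set_option linter.style.haveILetI false
universe u
open CategoryTheory CategoryTheory.Limits Opposite TopologicalSpace AlgebraicGeometry

namespace Groth.Agent.Lib.Helper37.SerreFT

open Groth.Agent.Lib.Helper1 Groth.Agent.Lib.Helper45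

variable {X : Scheme.{u}}

/-- morphisms of modules agreeing on sections over affine opens are equal. -/
theorem hom_ext_affine {A B : X.Modules} (φ ψ : A ⟶ B)
    (h : ∀ (U : X.affineOpens) (a : Γ(A, U.1)), φ.app U.1 a = ψ.app U.1 a) : φ = ψ := by
  apply Scheme.Modules.hom_ext
  intro V
  ext a
  refine TopCat.Sheaf.eq_of_locally_eq' ⟨B.presheaf, B.isSheaf⟩
    (fun (W : {W : X.affineOpens // W.1 ≤ V}) => W.1.1) V (fun W => homOfLE W.2) ?_ _ _
    (fun W => ?_)
  · intro x hx
    obtain ⟨_, ⟨W, hW, rfl⟩, hxW, hWV⟩ :=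
      X.isBasis_affineOpens.exists_subset_of_mem_open hx V.2
    exact Opens.mem_iSup.mpr ⟨⟨⟨W, hW⟩, hWV⟩, hxW⟩
  · change B.presheaf.map (homOfLE W.2).op (φ.app V a) = B.presheaf.map (homOfLE W.2).op (ψ.app V a)
    rw [hom_app_naturality, hom_app_naturality]
    exact h _ _

/-- a subobject whose sections over affine opens lie in another subobject factors through it. -/
theorem comp_cokernel_eq_zero_of_range_le {M M' P : X.Modules} (i : M ⟶ P) (j : M' ⟶ P)
    (h : ∀ (U : X.affineOpens) (a : Γ(M', U.1)), ∃ m : Γ(M, U.1), i.app U.1 m = j.app U.1 a) :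
    j ≫ cokernel.π i = 0 := by
  refine hom_ext_affine _ _ fun U a => ?_
  obtain ⟨m, hm⟩ := h U a
  change (cokernel.π i).app U.1 (j.app U.1 a) = 0
  rw [← hm]
  have : (i ≫ cokernel.π i).app U.1 m = 0 := by rw [cokernel.condition]; rfl
  exact this

/-- the lift. -/
noncomputable def liftOfRangeLE {M M' P : X.Modules} (i : M ⟶ P) [Mono i] (j : M' ⟶ P)
    (h : ∀ (U : X.affineOpens) (a : Γ(M', U.1)), ∃ m : Γ(M, U.1), i.app U.1 m = j.app U.1 a) :
    M' ⟶ M :=
  Abelian.monoLift i j (comp_cokernel_eq_zero_of_range_le i j h)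

@[reassoc (attr := simp)]
theorem liftOfRangeLE_comp {M M' P : X.Modules} (i : M ⟶ P) [Mono i] (j : M' ⟶ P)
    (h : ∀ (U : X.affineOpens) (a : Γ(M', U.1)), ∃ m : Γ(M, U.1), i.app U.1 m = j.app U.1 a) :
    liftOfRangeLE i j h ≫ i = j :=
  Abelian.monoLift_comp _ _ _

/-- the ideal of sections of a subsheaf of the structure sheaf over an open. -/
noncomputable def idealAt {M : X.Modules} (i : M ⟶ Coh.structureModule X) (U : X.Opens) :
    Ideal Γ(X, U) where
  carrier := {a | ∃ m : Γ(M, U), secToFun (i.app U m) = a}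
  add_mem' := by
    rintro _ _ ⟨m, rfl⟩ ⟨m', rfl⟩
    exact ⟨m + m', map_add _ _ _⟩
  zero_mem' := ⟨0, map_zero _⟩
  smul_mem' := by
    rintro r _ ⟨m, rfl⟩
    exact ⟨r • m, Scheme.Modules.Hom.app_smul i r m⟩

theorem mem_idealAt_iff {M : X.Modules} (i : M ⟶ Coh.structureModule X) (U : X.Opens)
    (a : Γ(X, U)) : a ∈ idealAt i U ↔ ∃ m : Γ(M, U), secToFun (i.app U m) = a := Iff.rfl

theorem secToFun_naturality {M : X.Modules} (i : M ⟶ Coh.structureModule X) {V W : X.Opens}
    (hWV : W ≤ V) (m : Γ(M, V)) :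
    X.presheaf.map (homOfLE hWV).op (secToFun (i.app V m)) =
      secToFun (i.app W (M.presheaf.map (homOfLE hWV).op m)) :=
  hom_app_naturality i hWV m

theorem secToFun_smul {M : X.Modules} (i : M ⟶ Coh.structureModule X) {V : X.Opens}
    (r : Γ(X, V)) (m : Γ(M, V)) :
    secToFun (i.app V (r • m)) = r * secToFun (i.app V m) :=
  Scheme.Modules.Hom.app_smul i r m

/-- the ideal sheaf of a quasi-coherent subsheaf of the structure sheaf. -/
noncomputable def idealOfHom {M : X.Modules} [M.IsQuasicoherent] (i : M ⟶ Coh.structureModule X) :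
    X.IdealSheafData where
  ideal U := idealAt i U.1
  map_ideal_basicOpen U f := by
    apply le_antisymm
    · refine Ideal.map_le_iff_le_comap.mpr ?_
      rintro _ ⟨m, rfl⟩
      exact ⟨M.presheaf.map (homOfLE (X.basicOpen_le f)).op m,
        (secToFun_naturality i (X.basicOpen_le f) m).symm⟩
    · rintro _ ⟨s, rfl⟩
      obtain ⟨n, t, ht⟩ := exists_restrict_eq_pow_smul U.2 M f s
      have hunit : IsUnit (X.presheaf.map (homOfLE (X.basicOpen_le f)).op f) :=
        RingedSpace.isUnit_res_basicOpen X.toRingedSpace f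
      obtain ⟨v, hv⟩ := hunit
      have h1 : secToFun (i.app (X.basicOpen f)
          (M.presheaf.map (homOfLE (X.basicOpen_le f)).op t)) =
          (X.presheaf.map (homOfLE (X.basicOpen_le f)).op f) ^ n *
            secToFun (i.app (X.basicOpen f) s) := by
        rw [ht]
        exact secToFun_smul i _ s
      have h2 := secToFun_naturality i (X.basicOpen_le f) t
      have h3 : secToFun (i.app (X.basicOpen f) s) =
          (↑(v⁻¹ ^ n) : Γ(X, X.basicOpen f)) * X.presheaf.map (homOfLE (X.basicOpen_le f)).op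
            (secToFun (i.app U.1 t)) := by
        rw [h2, h1, ← hv, ← mul_assoc, ← Units.val_pow_eq_pow_val, ← Units.val_mul, ← mul_pow,
          inv_mul_cancel, one_pow, Units.val_one, one_mul]
      change secToFun (i.app (X.basicOpen f) s) ∈
        Ideal.map (X.presheaf.map (homOfLE (X.basicOpen_le f)).op).hom (idealAt i U.1)
      rw [h3]
      exact Ideal.mul_mem_left _ _ (Ideal.mem_map_of_mem _ ⟨t, rfl⟩)

theorem mem_idealOfHom_iff {M : X.Modules} [M.IsQuasicoherent] (i : M ⟶ Coh.structureModule X)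
    (U : X.affineOpens) (a : Γ(X, U.1)) :
    a ∈ (idealOfHom i).ideal U ↔ ∃ m : Γ(M, U.1), secToFun (i.app U.1 m) = a :=
  Iff.rfl

section Diagram

open Groth.Agent.Lib.Helper37.FTLim

theorem range_idealModι_le {K K' : X.IdealSheafData} (h : K ≤ K') (U : X.affineOpens)
    (a : Γ(ClSub.idealMod K, U.1)) :
    ∃ m : Γ(ClSub.idealMod K', U.1), (ClSub.idealModι K').app U.1 m = (ClSub.idealModι K).app U.1 a :=
  (mem_ideal_iff_exists_section K' U _).mp (h U (idealModι_app_mem K U a))

/-- the transition maps between ideal modules. -/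
noncomputable def idealModMap {K K' : X.IdealSheafData} (h : K ≤ K') :
    ClSub.idealMod K ⟶ ClSub.idealMod K' :=
  liftOfRangeLE (ClSub.idealModι K') (ClSub.idealModι K) (range_idealModι_le h)

@[reassoc (attr := simp)]
theorem idealModMap_ι {K K' : X.IdealSheafData} (h : K ≤ K') :
    idealModMap h ≫ ClSub.idealModι K' = ClSub.idealModι K :=
  liftOfRangeLE_comp _ _ _

/-- the diagram of the ideal modules of the finite type subideals. -/
noncomputable def diag (I : X.IdealSheafData) : FTSub I ⥤ X.Modules where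
  obj K := ClSub.idealMod K.1
  map {K K'} f := idealModMap (show K.1 ≤ K'.1 from leOfHom f)
  map_id K := by
    rw [← cancel_mono (ClSub.idealModι K.1), idealModMap_ι, Category.id_comp]
  map_comp {K K' K''} f g := by
    rw [← cancel_mono (ClSub.idealModι K''.1), Category.assoc, idealModMap_ι, idealModMap_ι,
      idealModMap_ι]

variable {M : X.Modules} [M.IsQuasicoherent] (i : M ⟶ Coh.structureModule X)

theorem range_idealModι_le_hom (K : FTSub (idealOfHom i)) (U : X.affineOpens)
    (a : Γ(ClSub.idealMod K.1, U.1)) :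
    ∃ m : Γ(M, U.1), i.app U.1 m = (ClSub.idealModι K.1).app U.1 a :=
  K.2.1 U (idealModι_app_mem K.1 U a)

variable [Mono i]

/-- the cocone with vertex `M`. -/
noncomputable def cocone : Cocone (diag (idealOfHom i)) where
  pt := M
  ι :=
    { app := fun K => liftOfRangeLE i (ClSub.idealModι K.1) (range_idealModι_le_hom i K)
      naturality := fun K K' f => by
        rw [← cancel_mono i]
        dsimp [diag]
        rw [Category.assoc, liftOfRangeLE_comp, idealModMap_ι, Category.comp_id,
          liftOfRangeLE_comp] }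

theorem cocone_ι_comp (K : FTSub (idealOfHom i)) :
    (cocone i).ι.app K ≫ i = ClSub.idealModι K.1 :=
  liftOfRangeLE_comp i (ClSub.idealModι K.1) (range_idealModι_le_hom i K)

instance (K : FTSub (idealOfHom i)) : Mono ((cocone i).ι.app K) :=
  haveI : Mono ((cocone i).ι.app K ≫ i) := by
    rw [cocone_ι_comp]
    exact Groth.Agent.Lib.Helper45.mono_idealModι K.1
  mono_of_mono ((cocone i).ι.app K) i

/-- On a qcqs scheme, a quasi-coherent ideal is, as an abelian sheaf, the colimit of its finite type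
quasi-coherent subideals. -/
theorem nonempty_isColimit_mapCocone [CompactSpace X] [QuasiSeparatedSpace X] :
    Nonempty (IsColimit ((toAbF X).mapCocone (cocone i))) := by
  refine H1Colim.isColimit_of_injective_of_locally_surjective (X := X.toTopCat)
    (diag (idealOfHom i) ⋙ toAbF X) ((toAbF X).mapCocone (cocone i)) ?_ ?_
  · intro K U
    exact app_injective_of_mono ((cocone i).ι.app K) U
  · intro U s x hx
    obtain ⟨_, ⟨W, hW, rfl⟩, hxW, hWU⟩ :=
      X.isBasis_affineOpens.exists_subset_of_mem_open hx U.2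
    let s' : Γ(M, U) := s
    let sW : Γ(M, W) := M.presheaf.map (homOfLE hWU).op s'
    have ha : secToFun (i.app W sW) ∈ (idealOfHom i).ideal ⟨W, hW⟩ := ⟨sW, rfl⟩
    obtain ⟨K, hK, haK, hfg⟩ :=
      Groth.Agent.Lib.Helper18.FTApprox.exists_le_ft_mem (idealOfHom i) ⟨W, hW⟩ _ ha
    obtain ⟨t, ht⟩ := (mem_ideal_iff_exists_section K ⟨W, hW⟩ _).mp haK
    refine ⟨W, hWU, ⟨K, hK, hfg⟩, t, hxW, ?_⟩
    apply app_injective_of_mono i W
    have h1 : i.app W (((cocone i).ι.app ⟨K, hK, hfg⟩).app W t) =
        (ClSub.idealModι K).app W t := by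
      rw [← cocone_ι_comp i ⟨K, hK, hfg⟩]
      rfl
    exact h1.trans ht

end Diagram

/-- On a qcqs scheme on which `H¹` of all finite type quasi-coherent ideals vanishes, `H¹` of all
quasi-coherent ideals vanishes. -/
theorem subsingleton_HH_one_of_ft [CompactSpace X] [QuasiSeparatedSpace X]
    (h : ∀ (I : X.Modules) (i : I ⟶ Coh.structureModule X), Mono i →
      Coh.IsQCoh I → CohB1.IsFT I → Subsingleton (Coh.HH X I 1))
    (M : X.Modules) (i : M ⟶ Coh.structureModule X) (hi : Mono i) (hM : Coh.IsQCoh M) :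
    Subsingleton (Coh.HH X M 1) := by
  haveI : M.IsQuasicoherent := hM
  obtain ⟨hc⟩ := nonempty_isColimit_mapCocone i
  haveI : PrespectralSpace X.toTopCat := inferInstanceAs (PrespectralSpace X)
  haveI : QuasiSeparatedSpace X.toTopCat := inferInstanceAs (QuasiSeparatedSpace X)
  haveI : CompactSpace X.toTopCat := inferInstanceAs (CompactSpace X)
  refine H1Colim.subsingleton_H_of_isColimit (X := X.toTopCat) _ _ hc 1 fun K => ?_
  exact h (ClSub.idealMod K.1) (ClSub.idealModι K.1) (Groth.Agent.Lib.Helper45.mono_idealModι K.1)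
    (Groth.Agent.Lib.Helper45.isQuasicoherent_idealMod K.1)
    (Groth.Agent.Lib.Helper11.IdealGen.isFiniteType_idealMod K.1 K.2.2)

/-- Serre's criterion with finite type ideals on a qcqs scheme. -/
theorem isAffine_of_ft [CompactSpace X] [QuasiSeparatedSpace X]
    (h : ∀ (I : X.Modules) (i : I ⟶ Coh.structureModule X), Mono i →
      Coh.IsQCoh I → CohB1.IsFT I → Subsingleton (Coh.HH X I 1)) : IsAffine X :=
  isAffine_of_forall_subsingleton_HH_one X (subsingleton_HH_one_of_ft h)

end Groth.Agent.Lib.Helper37.SerreFT
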