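import Mathlib.AlgebraicGeometry.Sites.BigZariski
import Mathlib.CategoryTheory.Sites.Canonical

/-!
# Checking the sheaf condition of a Zariski sheaf on affine pullbacks (helper37)

Let `F` be a presheaf of sets on the category of schemes which is a sheaf for the Zariski topology.

* `isSheafFor_of_forall_affine`: a sieve `S` on `Y` such that `F` has the sheaf property for
  `S.pullback g` for every `g : W ⟶ Y` with `W` affine, has the sheaf property for `S`.
* `mem_finestTopologySingle_of_forall_affine`: the same hypothesis gives that `S` is covering for the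
  finest topology making `F` a sheaf.
* `zariskiTopology_le_finestTopologySingle`.
-/

set_option autoImplicit false

universe w u

namespace Groth.Agent.Lib.Helper37

open CategoryTheory CategoryTheory.Limits AlgebraicGeometry Opposite

variable (F : Scheme.{u}ᵒᵖ ⥤ Type w)

/-- The sieve generated by the inclusions of all affine opens is a Zariski covering sieve. -/
lemma affineOpens_sieve_mem_zariskiTopology (X : Scheme.{u}) :
    Sieve.ofArrows (fun U : X.affineOpens => ((U : X.Opens) : Scheme.{u}))
      (fun U => (U : X.Opens).ι) ∈ Scheme.zariskiTopology X :=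
  (X.openCoverOfIsOpenCover (fun U : X.affineOpens => (U : X.Opens))
    (iSup_affineOpens_eq_top X)).mem_grothendieckTopology

variable {F}

lemma zariskiTopology_le_finestTopologySingle
    (hF : Presieve.IsSheaf Scheme.zariskiTopology F) :
    Scheme.zariskiTopology ≤ Sheaf.finestTopologySingle F := by
  intro X S hS Y f
  exact hF _ (Scheme.zariskiTopology.pullback_stable f hS)

/-- Separatedness can be checked on affine pullbacks. -/
theorem isSeparatedFor_of_forall_affine (hF : Presieve.IsSheaf Scheme.zariskiTopology F)
    {X : Scheme.{u}} (S : Sieve X)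
    (h : ∀ (W : Scheme.{u}) [IsAffine W] (g : W ⟶ X),
      Presieve.IsSeparatedFor F (S.pullback g).arrows) :
    Presieve.IsSeparatedFor F S.arrows := by
  intro x t₁ t₂ h₁ h₂
  have hZ := (hF _ (affineOpens_sieve_mem_zariskiTopology X)).isSeparatedFor
  apply hZ.ext
  rintro Z f ⟨Z', f', _, ⟨U⟩, rfl⟩
  have hU : IsAffine ((U : X.Opens) : Scheme.{u}) := U.2
  have e : F.map (U : X.Opens).ι.op t₁ = F.map (U : X.Opens).ι.op t₂ := by
    apply (h _ (U : X.Opens).ι).ext
    intro Z'' k hk
    rw [← Functor.map_comp_apply, ← Functor.map_comp_apply, ← op_comp,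
      h₁ _ hk, h₂ _ hk]
  rw [op_comp, Functor.map_comp_apply, Functor.map_comp_apply, e]

/-- The sheaf condition for a sieve can be checked on affine pullbacks, for a Zariski sheaf. -/
theorem isSheafFor_of_forall_affine (hF : Presieve.IsSheaf Scheme.zariskiTopology F)
    {X : Scheme.{u}} (S : Sieve X)
    (h : ∀ (W : Scheme.{u}) [IsAffine W] (g : W ⟶ X),
      Presieve.IsSheafFor F (S.pullback g).arrows) :
    Presieve.IsSheafFor F S.arrows := by
  -- all pullbacks of `S` are separated
  have hsep : ∀ {Z : Scheme.{u}} (f : Z ⟶ X), Presieve.IsSeparatedFor F (S.pullback f).arrows := by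
    intro Z f
    refine isSeparatedFor_of_forall_affine hF _ (fun W _ g => ?_)
    rw [← Sieve.pullback_comp]
    exact (h W (g ≫ f)).isSeparatedFor
  rw [← Presieve.isSeparatedFor_and_exists_isAmalgamation_iff_isSheafFor]
  refine ⟨by simpa using hsep (𝟙 X), fun x hx => ?_⟩
  have hx' := (Presieve.compatible_iff_sieveCompatible x).mp hx
  have hUaff : ∀ U : X.affineOpens, IsAffine ((U : X.Opens) : Scheme.{u}) := fun U => U.2
  -- local amalgamations
  let t : ∀ U : X.affineOpens, F.obj (op ((U : X.Opens) : Scheme.{u})) := fun U =>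
    (h _ (U : X.Opens).ι).amalgamate (x.pullback (U : X.Opens).ι) (hx.pullback _)
  have key : ∀ (U : X.affineOpens) {Z : Scheme.{u}} (k : Z ⟶ ((U : X.Opens) : Scheme.{u}))
      (hk : S (k ≫ (U : X.Opens).ι)), F.map k.op (t U) = x (k ≫ (U : X.Opens).ι) hk := by
    intro U Z k hk
    exact (h _ (U : X.Opens).ι).valid_glue (hx.pullback _) k hk
  -- compatibility of the local amalgamations
  have hcomp : Presieve.Arrows.Compatible F (fun U : X.affineOpens => (U : X.Opens).ι) t := by
    intro U₁ U₂ Z g₁ g₂ e
    apply (hsep (g₁ ≫ (U₁ : X.Opens).ι)).ext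
    intro Z' m hm
    have hm₁ : S ((m ≫ g₁) ≫ (U₁ : X.Opens).ι) := by simpa using hm
    have hm₂ : S ((m ≫ g₂) ≫ (U₂ : X.Opens).ι) := by
      rw [Category.assoc, ← e]; simpa using hm
    rw [← Functor.map_comp_apply, ← Functor.map_comp_apply, ← op_comp, ← op_comp,
      key U₁ _ hm₁, key U₂ _ hm₂]
    congr 1
    rw [Category.assoc, Category.assoc, e]
  have hZ := hF _ (affineOpens_sieve_mem_zariskiTopology X)
  rw [Sieve.ofArrows, ← Presieve.isSheafFor_iff_generate, Presieve.isSheafFor_arrows_iff] at hZ
  obtain ⟨s, hs, -⟩ := hZ t hcomp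
  refine ⟨s, fun Z f hf => ?_⟩
  have hZ' := (hF _ (Scheme.zariskiTopology.pullback_stable f
    (affineOpens_sieve_mem_zariskiTopology X))).isSeparatedFor
  apply hZ'.ext
  rintro Z' m ⟨Z'', m', _, ⟨U⟩, e⟩
  have hm' : S (m' ≫ (U : X.Opens).ι) := by
    rw [e]; exact S.downward_closed hf m
  rw [← Functor.map_comp_apply, ← op_comp, ← e, op_comp, Functor.map_comp_apply,
    hs U, key U m' hm', ← hx' f m hf]
  congr 1

/-- For a Zariski sheaf `F`, membership in the finest topology making `F` a sheaf can be checked
on pullbacks to affine schemes. -/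
theorem mem_finestTopologySingle_of_forall_affine
    (hF : Presieve.IsSheaf Scheme.zariskiTopology F) {X : Scheme.{u}} (S : Sieve X)
    (h : ∀ (W : Scheme.{u}) [IsAffine W] (g : W ⟶ X),
      Presieve.IsSheafFor F (S.pullback g).arrows) :
    S ∈ Sheaf.finestTopologySingle F X := by
  intro Z f
  refine isSheafFor_of_forall_affine hF _ (fun W _ g => ?_)
  rw [← Sieve.pullback_comp]
  exact h W (g ≫ f)

/-- A sieve which is covering for the finest topology of `F` has the sheaf property. -/
lemma isSheafFor_of_mem_finestTopologySingle {X : Scheme.{u}} {S : Sieve X}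
    (h : S ∈ Sheaf.finestTopologySingle F X) : Presieve.IsSheafFor F S.arrows := by
  simpa using h X (𝟙 X)

/-- A presieve whose generated sieve is covering for the finest topology of `F` has the sheaf
property. -/
lemma isSheafFor_of_generate_mem_finestTopologySingle {X : Scheme.{u}} {R : Presieve X}
    (h : Sieve.generate R ∈ Sheaf.finestTopologySingle F X) : Presieve.IsSheafFor F R := by
  rw [Presieve.isSheafFor_iff_generate]
  exact isSheafFor_of_mem_finestTopologySingle h

end Groth.Agent.Lib.Helper37
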