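import Mathlib
import Groth.Agent.Lib.Helper18.IdealComap
import Groth.Agent.Lib.Helper93.FiniteTypeIdeal

/-!
# Smoothness stratifications: basics (helper37)

`StratSmooth g J J'`: the stratum `V(J) ∖ V(J')` (open subscheme of `V(J)`) is smooth over the base;
`ChainFrom g I`: a finite chain of finite type ideal sheaves from `I` to `⊤` with smooth strata;
`SmoothStrat g`: the `Fin`-indexed form used in the statements.  All are stable under arbitrary
base change (`isPullback_strat`, `SmoothStrat.baseChange`).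
-/

set_option autoImplicit false
set_option linter.style.haveILetI false
set_option backward.isDefEq.respectTransparency false
universe u
open CategoryTheory Limits AlgebraicGeometry TopologicalSpace

namespace Groth.Agent.Lib.Helper37.SmStrat

open Scheme IdealSheafData

variable {Y T Y' T' : Scheme.{u}}

/-- the pullback square of a pulled back closed subscheme -/
theorem isPullback_comap_subscheme (I : Y.IdealSheafData) (f : Y' ⟶ Y) :
    IsPullback (I.comap f).subschemeι (subschemeMap (I.comap f) I f (I.le_map_comap f)) f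
      I.subschemeι := by
  refine IsPullback.of_iso_pullback ⟨by simp⟩ (I.comapIso f) ?_ ?_
  · simp
  · simp

theorem comap_comap_restrict (J : Y.IdealSheafData) (h : Y' ⟶ Y) (O : Y.Opens) :
    (J.comap h).comap (h ⁻¹ᵁ O).ι = (J.comap O.ι).comap (h ∣_ O) := by
  rw [← comap_comp, ← comap_comp, morphismRestrict_ι]

/-- the stratum of the pulled back ideal sheaf is the pullback of the stratum. -/
theorem isPullback_strat {h : Y' ⟶ Y} {g' : Y' ⟶ T'} {g : Y ⟶ T} {b : T' ⟶ T}
    (H : IsPullback h g' g b) (J : Y.IdealSheafData) (O : Y.Opens) :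
    IsPullback (subschemeMap ((J.comap O.ι).comap (h ∣_ O)) (J.comap O.ι) (h ∣_ O)
        ((J.comap O.ι).le_map_comap (h ∣_ O)))
      (((J.comap O.ι).comap (h ∣_ O)).subschemeι ≫ (h ⁻¹ᵁ O).ι ≫ g')
      ((J.comap O.ι).subschemeι ≫ O.ι ≫ g) b := by
  have h1 := (isPullback_comap_subscheme (J.comap O.ι) (h ∣_ O)).flip
  have h2 := (isPullback_morphismRestrict h O)
  have h3 := h1.paste_vert h2
  exact h3.paste_vert H

theorem smooth_strat_baseChange {h : Y' ⟶ Y} {g' : Y' ⟶ T'} {g : Y ⟶ T} {b : T' ⟶ T}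
    (H : IsPullback h g' g b) (J : Y.IdealSheafData) (O : Y.Opens)
    (hs : Smooth ((J.comap O.ι).subschemeι ≫ O.ι ≫ g)) :
    Smooth (((J.comap h).comap (h ⁻¹ᵁ O).ι).subschemeι ≫ (h ⁻¹ᵁ O).ι ≫ g') := by
  rw [comap_comap_restrict]
  exact MorphismProperty.of_isPullback (isPullback_strat H J O) hs

/-- the stratum `V(J) ∩ O` as a closed subscheme of the open `O` is isomorphic to the stratum
as an open subscheme of `V(J)`. -/
noncomputable def stratIso (J : Y.IdealSheafData) (O : Y.Opens) :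
    (J.comap O.ι).subscheme ≅ ((J.subschemeι ⁻¹ᵁ O : J.subscheme.Opens) : Scheme.{u}) :=
  J.comapIso O.ι ≪≫ pullbackSymmetry _ _ ≪≫ pullbackRestrictIsoRestrict J.subschemeι O

@[reassoc]
theorem stratIso_hom_ι (J : Y.IdealSheafData) (O : Y.Opens) :
    (stratIso J O).hom ≫ (J.subschemeι ⁻¹ᵁ O).ι ≫ J.subschemeι =
      (J.comap O.ι).subschemeι ≫ O.ι := by
  simp only [stratIso, Iso.trans_hom, Category.assoc]
  rw [pullbackRestrictIsoRestrict_hom_ι_assoc, pullbackSymmetry_hom_comp_fst_assoc,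
    ← pullback.condition, comapIso_hom_fst_assoc]

theorem smooth_strat_iff (g : Y ⟶ T) (J : Y.IdealSheafData) (O : Y.Opens) :
    Smooth ((J.subschemeι ⁻¹ᵁ O).ι ≫ J.subschemeι ≫ g) ↔
      Smooth ((J.comap O.ι).subschemeι ≫ O.ι ≫ g) := by
  rw [← MorphismProperty.cancel_left_of_respectsIso @Smooth (stratIso J O).hom,
    stratIso_hom_ι_assoc]

/-- the open complement of the support -/
abbrev cmpl (J : Y.IdealSheafData) : Y.Opens := J.support.compl

/-- the smoothness of the stratum `V(J) ∖ V(J')` over `T` -/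
def StratSmooth (g : Y ⟶ T) (J J' : Y.IdealSheafData) : Prop :=
  Smooth ((J.subschemeι ⁻¹ᵁ J'.support.compl).ι ≫ J.subschemeι ≫ g)

theorem stratSmooth_iff (g : Y ⟶ T) (J J' : Y.IdealSheafData) :
    StratSmooth g J J' ↔
      Smooth ((J.comap (cmpl J').ι).subschemeι ≫ (cmpl J').ι ≫ g) :=
  smooth_strat_iff g J _

theorem support_compl_comap (J : Y.IdealSheafData) (h : Y' ⟶ Y) :
    cmpl (J.comap h) = h ⁻¹ᵁ cmpl J := by
  ext x
  simp [support_comap]

theorem StratSmooth.baseChange {h : Y' ⟶ Y} {g' : Y' ⟶ T'} {g : Y ⟶ T} {b : T' ⟶ T}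
    (H : IsPullback h g' g b) {J J' : Y.IdealSheafData} (hs : StratSmooth g J J') :
    StratSmooth g' (J.comap h) (J'.comap h) := by
  rw [stratSmooth_iff] at hs ⊢
  rw [support_compl_comap]
  exact smooth_strat_baseChange H J _ hs

/-- A chain of finite type ideal sheaves from `I` up to `⊤` with smooth strata. -/
inductive ChainFrom (g : Y ⟶ T) : Y.IdealSheafData → Prop
  | top : ChainFrom g ⊤
  | cons (I I' : Y.IdealSheafData) (hle : I ≤ I') (hfg : ∀ O : Y.affineOpens, (I.ideal O).FG)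
      (hs : StratSmooth g I I') (h : ChainFrom g I') : ChainFrom g I

theorem ChainFrom.baseChange {h : Y' ⟶ Y} {g' : Y' ⟶ T'} {g : Y ⟶ T} {b : T' ⟶ T}
    (H : IsPullback h g' g b) {I : Y.IdealSheafData} (hc : ChainFrom g I) :
    ChainFrom g' (I.comap h) := by
  induction hc with
  | top => rw [comap_top]; exact .top
  | cons I I' hle hfg hs _ ih =>
    exact .cons _ _ (comap_mono h hle)
      (Groth.Agent.Lib.Helper93.FiniteTypeIdeal.isFiniteTypeIdeal_comap I hfg h)
      (hs.baseChange H) ih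

/-- The Fin-indexed form, as in the statements. -/
def SmoothStrat (g : Y ⟶ T) : Prop :=
  ∃ (t : ℕ) (J : Fin (t + 1) → Y.IdealSheafData), Monotone J ∧ J (Fin.last t) = ⊤ ∧
    ((J 0).support : Set Y) = Set.univ ∧ (∀ i, ∀ O : Y.affineOpens, ((J i).ideal O).FG) ∧
    ∀ i : Fin t, Smooth (((J i.castSucc).subschemeι ⁻¹ᵁ (J i.succ).support.compl).ι ≫
      (J i.castSucc).subschemeι ≫ g)

theorem ChainFrom.exists_fin {g : Y ⟶ T} {I : Y.IdealSheafData} (hc : ChainFrom g I) :
    ∃ (t : ℕ) (J : Fin (t + 1) → Y.IdealSheafData), Monotone J ∧ J (Fin.last t) = ⊤ ∧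
      J 0 = I ∧ (∀ i, ∀ O : Y.affineOpens, ((J i).ideal O).FG) ∧
      ∀ i : Fin t, StratSmooth g (J i.castSucc) (J i.succ) := by
  induction hc with
  | top =>
    refine ⟨0, fun _ => ⊤, fun _ _ _ => le_rfl, rfl, rfl, fun _ O => ⟨{1}, by simp⟩, fun i => i.elim0⟩
  | cons I I' hle hfg hs _ ih =>
    obtain ⟨t, J, hmono, hlast, h0, hfgJ, hsJ⟩ := ih
    refine ⟨t + 1, Fin.cons I J, ?_, ?_, ?_, ?_, ?_⟩
    · refine Fin.monotone_iff_le_succ.mpr fun i => ?_
      refine Fin.cases ?_ (fun j => ?_) i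
      · simp only [Fin.castSucc_zero, Fin.cons_zero, Fin.succ_zero_eq_one]
        have : (Fin.cons I J : Fin (t + 1 + 1) → _) 1 = J 0 := by
          rw [← Fin.succ_zero_eq_one, Fin.cons_succ]
        rw [this, h0]; exact hle
      · rw [← Fin.succ_castSucc, Fin.cons_succ, Fin.cons_succ]
        exact hmono (Fin.castSucc_le_succ j)
    · rw [← Fin.succ_last, Fin.cons_succ]; exact hlast
    · rfl
    · intro i
      refine Fin.cases ?_ (fun j => ?_) i
      · exact hfg
      · rw [Fin.cons_succ]; exact hfgJ j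
    · intro i
      refine Fin.cases ?_ (fun j => ?_) i
      · simp only [Fin.castSucc_zero, Fin.cons_zero, Fin.succ_zero_eq_one]
        have : (Fin.cons I J : Fin (t + 1 + 1) → _) 1 = J 0 := by
          rw [← Fin.succ_zero_eq_one, Fin.cons_succ]
        rw [this, h0]; exact hs
      · rw [← Fin.succ_castSucc, Fin.cons_succ, Fin.cons_succ]
        exact hsJ j

theorem ChainFrom.smoothStrat {g : Y ⟶ T} {I : Y.IdealSheafData} (hc : ChainFrom g I)
    (hI : (I.support : Set Y) = Set.univ) : SmoothStrat g := by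
  obtain ⟨t, J, hmono, hlast, h0, hfgJ, hsJ⟩ := hc.exists_fin
  exact ⟨t, J, hmono, hlast, by rw [h0]; exact hI, hfgJ, hsJ⟩

theorem ChainFrom.of_fin {g : Y ⟶ T} (t : ℕ) (J : Fin (t + 1) → Y.IdealSheafData)
    (hmono : Monotone J) (hlast : J (Fin.last t) = ⊤)
    (hfg : ∀ i, ∀ O : Y.affineOpens, ((J i).ideal O).FG)
    (hs : ∀ i : Fin t, StratSmooth g (J i.castSucc) (J i.succ)) : ChainFrom g (J 0) := by
  induction t with
  | zero => 
    have : J 0 = ⊤ := hlast
    rw [this]; exact .top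
  | succ t ih =>
    have := ih (fun i => J i.succ) (fun a b hab => hmono (Fin.succ_le_succ_iff.mpr hab))
      (by rw [Fin.succ_last]; exact hlast) (fun i => hfg _)
      (fun i => by 
        have := hs i.succ
        rwa [← Fin.succ_castSucc] at this)
    exact .cons _ _ (hmono (Fin.zero_le _)) (hfg 0) (by simpa using hs 0) this

theorem SmoothStrat.exists_chainFrom {g : Y ⟶ T} (h : SmoothStrat g) :
    ∃ I : Y.IdealSheafData, (I.support : Set Y) = Set.univ ∧ ChainFrom g I := by
  obtain ⟨t, J, hmono, hlast, h0, hfg, hs⟩ := h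
  exact ⟨J 0, h0, ChainFrom.of_fin t J hmono hlast hfg hs⟩

theorem SmoothStrat.baseChange {h : Y' ⟶ Y} {g' : Y' ⟶ T'} {g : Y ⟶ T} {b : T' ⟶ T}
    (H : IsPullback h g' g b) (hs : SmoothStrat g) : SmoothStrat g' := by
  obtain ⟨I, hI, hc⟩ := hs.exists_chainFrom
  refine (hc.baseChange H).smoothStrat ?_
  rw [support_comap]
  simp [hI]

end Groth.Agent.Lib.Helper37.SmStrat
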