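import Mathlib
import Groth.Agent.Lib.Helper37.SmStratBasic

set_option autoImplicit false
set_option linter.style.haveILetI false
set_option backward.isDefEq.respectTransparency false
universe u
open CategoryTheory Limits AlgebraicGeometry TopologicalSpace

namespace Groth.Agent.Lib.Helper37.SmStrat

open Scheme IdealSheafData

variable {X S X' S' : Scheme.{u}}

/-- base change of fibre products over a commutative square of bases. -/
theorem exists_isPullback_snd {h : X' ⟶ X} {f' : X' ⟶ S'} {f : X ⟶ S} {b : S' ⟶ S}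
    (H : IsPullback h f' f b) {T T' : Scheme.{u}} (m : T ⟶ S) (m' : T' ⟶ S') (p : T' ⟶ T)
    (hp : m' ≫ b = p ≫ m) :
    ∃ h'' : pullback f' m' ⟶ pullback f m,
      IsPullback h'' (pullback.snd f' m') (pullback.snd f m) p := by
  have big : IsPullback (pullback.fst f' m' ≫ h) (pullback.snd f' m') f (m' ≫ b) :=
    (IsPullback.of_hasPullback f' m').paste_horiz H
  let h'' : pullback f' m' ⟶ pullback f m :=
    pullback.lift (pullback.fst f' m' ≫ h) (pullback.snd f' m' ≫ p)
      (by rw [Category.assoc (pullback.snd f' m'), ← hp]; exact big.w)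
  have big' : IsPullback (h'' ≫ pullback.fst f m) (pullback.snd f' m') f (p ≫ m) := by
    rw [pullback.lift_fst, ← hp]
    exact big
  exact ⟨h'', IsPullback.of_right big' (pullback.lift_snd _ _ _) (IsPullback.of_hasPullback f m)⟩

/-- The stratum `V(I) ∖ V(I')` admits a surjective finite locally free cover over which the
family has a smoothness stratification. -/
def StratumOK (f : X ⟶ S) (I I' : S.IdealSheafData) : Prop :=
  ∃ (T : Scheme.{u}) (v : T ⟶ ((I.subschemeι ⁻¹ᵁ I'.support.compl : I.subscheme.Opens) : Scheme.{u})),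
    Surjective v ∧ IsFinite v ∧ Flat v ∧ LocallyOfFinitePresentation v ∧
    SmoothStrat (pullback.snd f (v ≫ (I.subschemeι ⁻¹ᵁ I'.support.compl).ι ≫ I.subschemeι))

theorem stratumOK_of (f : X ⟶ S) (I I' : S.IdealSheafData) (U : I.subscheme.Opens)
    (hU : U = I.subschemeι ⁻¹ᵁ I'.support.compl) (T : Scheme.{u}) (v : T ⟶ (U : Scheme.{u}))
    [Surjective v] [IsFinite v] [Flat v] [LocallyOfFinitePresentation v]
    (hS : SmoothStrat (pullback.snd f (v ≫ U.ι ≫ I.subschemeι))) : StratumOK f I I' := by
  subst hU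
  exact ⟨T, v, inferInstance, inferInstance, inferInstance, inferInstance, hS⟩

theorem StratumOK.baseChange {h : X' ⟶ X} {f' : X' ⟶ S'} {f : X ⟶ S} {b : S' ⟶ S}
    (H : IsPullback h f' f b) {I I' : S.IdealSheafData} (hs : StratumOK f I I') :
    StratumOK f' (I.comap b) (I'.comap b) := by
  obtain ⟨T, v, h1, h2, h3, h4, hS⟩ := hs
  let β : (I.comap b).subscheme ⟶ I.subscheme :=
    subschemeMap (I.comap b) I b (I.le_map_comap b)
  have hβ : (I.comap b).subschemeι ≫ b = β ≫ I.subschemeι :=
    (isPullback_comap_subscheme I b).w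
  let Str : I.subscheme.Opens := I.subschemeι ⁻¹ᵁ I'.support.compl
  refine stratumOK_of f' _ _ (β ⁻¹ᵁ Str) ?_ (pullback v (β ∣_ Str)) (pullback.snd v (β ∣_ Str)) ?_
  · ext x
    have hx : I.subschemeι (β x) = b ((I.comap b).subschemeι x) := by
      rw [← Scheme.Hom.comp_apply, ← hβ, Scheme.Hom.comp_apply]
    have hsupp : ((I'.comap b).support : Set S') = b ⁻¹' (I'.support : Set S) := by
      rw [support_comap]; rfl
    change I.subschemeι (β x) ∉ (I'.support : Set S) ↔
      (I.comap b).subschemeι x ∉ ((I'.comap b).support : Set S')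
    rw [hx, hsupp]
    rfl
  · obtain ⟨h'', H''⟩ := exists_isPullback_snd H (v ≫ Str.ι ≫ I.subschemeι)
      (pullback.snd v (β ∣_ Str) ≫ (β ⁻¹ᵁ Str).ι ≫ (I.comap b).subschemeι)
      (pullback.fst v (β ∣_ Str)) (by
        rw [Category.assoc, Category.assoc, hβ, ← morphismRestrict_ι_assoc,
          ← pullback.condition_assoc])
    exact hS.baseChange H''

/-- A chain of finite type ideal sheaves on the base from `I` up to `⊤` with good strata. -/
inductive BaseChain (f : X ⟶ S) : S.IdealSheafData → Prop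
  | top : BaseChain f ⊤
  | cons (I I' : S.IdealSheafData) (hle : I ≤ I') (hfg : ∀ O : S.affineOpens, (I.ideal O).FG)
      (hs : StratumOK f I I') (h : BaseChain f I') : BaseChain f I

theorem BaseChain.baseChange {h : X' ⟶ X} {f' : X' ⟶ S'} {f : X ⟶ S} {b : S' ⟶ S}
    (H : IsPullback h f' f b) {I : S.IdealSheafData} (hc : BaseChain f I) :
    BaseChain f' (I.comap b) := by
  induction hc with
  | top => rw [comap_top]; exact .top
  | cons I I' hle hfg hs _ ih =>
    exact .cons _ _ (comap_mono b hle)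
      (Groth.Agent.Lib.Helper93.FiniteTypeIdeal.isFiniteTypeIdeal_comap I hfg b)
      (hs.baseChange H) ih

theorem BaseChain.exists_fin {f : X ⟶ S} {I : S.IdealSheafData} (hc : BaseChain f I) :
    ∃ (t : ℕ) (J : Fin (t + 1) → S.IdealSheafData), Monotone J ∧ J (Fin.last t) = ⊤ ∧
      J 0 = I ∧ (∀ i, ∀ O : S.affineOpens, ((J i).ideal O).FG) ∧
      ∀ i : Fin t, StratumOK f (J i.castSucc) (J i.succ) := by
  induction hc with
  | top =>
    refine ⟨0, fun _ => ⊤, fun _ _ _ => le_rfl, rfl, rfl, fun _ O => ⟨{1}, by simp⟩, fun i => i.elim0⟩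
  | cons I I' hle hfg hs _ ih =>
    obtain ⟨t, J, hmono, hlast, h0, hfgJ, hsJ⟩ := ih
    refine ⟨t + 1, Fin.cons I J, ?_, ?_, ?_, ?_, ?_⟩
    · refine Fin.monotone_iff_le_succ.mpr fun i => ?_
      refine Fin.cases ?_ (fun j => ?_) i
      · simp only [Fin.castSucc_zero, Fin.cons_zero, Fin.succ_zero_eq_one]
        have : (Fin.cons I J : Fin (t + 1 + 1) → _) 1 = J 0 := by
          rw [← Fin.succ_zero_eq_one, Fin.cons_succ]
        rw [this, h0]; exact hle
      · rw [← Fin.succ_castSucc, Fin.cons_succ, Fin.cons_succ]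
        exact hmono (Fin.castSucc_le_succ j)
    · rw [← Fin.succ_last, Fin.cons_succ]; exact hlast
    · rfl
    · intro i
      refine Fin.cases ?_ (fun j => ?_) i
      · exact hfg
      · rw [Fin.cons_succ]; exact hfgJ j
    · intro i
      refine Fin.cases ?_ (fun j => ?_) i
      · simp only [Fin.castSucc_zero, Fin.cons_zero, Fin.succ_zero_eq_one]
        have : (Fin.cons I J : Fin (t + 1 + 1) → _) 1 = J 0 := by
          rw [← Fin.succ_zero_eq_one, Fin.cons_succ]
        rw [this, h0]; exact hs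
      · rw [← Fin.succ_castSucc, Fin.cons_succ, Fin.cons_succ]
        exact hsJ j

end Groth.Agent.Lib.Helper37.SmStrat
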