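import Mathlib
import Groth.Agent.Lib.Helper37.SmStratBasic
import Groth.Agent.Lib.Helper18.IdealComap
import Groth.Agent.Lib.Helper50.RedBC
import Groth.Agent.Lib.Helper50.UnivHomeo
import Groth.Agent.Lib.Helper14.GeomReducedSmooth

/-!
# Smoothness stratifications: the field case (helper37)

`exists_smoothStrat_field`: for `Y₀` of finite type over a field `κ` there are a finite purely inseparable extension
`κ'/κ` and a chain of ideal sheaves on `Y₀ ×_κ κ'` with strata smooth over `κ'` (Noetherian induction, using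
helper50's `exists_finite_purelyInseparable_nilradical_bc` and helper14's
`dense_smoothLocus_of_geometricallyReduced`).
-/

set_option autoImplicit false
set_option linter.style.haveILetI false
set_option backward.isDefEq.respectTransparency false
universe u
open CategoryTheory Limits AlgebraicGeometry TopologicalSpace

namespace Groth.Agent.Lib.Helper37.SmStrat

open Scheme IdealSheafData

/-- The top stratum: for a closed subscheme `m : W ⟶ Y₂`, geometrically reduced over the field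
`κ₂`, there is an open `O₂` of `Y₂`, meeting the image when it is nonempty, whose complement
lies in the image and such that the image scheme is smooth over `κ₂` on `O₂`. -/
theorem exists_open_smooth_of_geometricallyReduced {κ₂ : Type u} [Field κ₂] {Y₂ W : Scheme.{u}}
    (g₂ : Y₂ ⟶ Spec (.of κ₂)) [LocallyOfFiniteType g₂] (m : W ⟶ Y₂) [IsClosedImmersion m]
    [GeometricallyReduced (m ≫ g₂)] :
    ∃ O₂ : Y₂.Opens, Smooth ((m.ker.comap O₂.ι).subschemeι ≫ O₂.ι ≫ g₂) ∧
      (O₂ : Set Y₂)ᶜ ⊆ Set.range m ∧ (Nonempty W → ((O₂ : Set Y₂) ∩ Set.range m).Nonempty) := by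
  let e : W ≅ m.image := asIso m.toImage
  have he : e.hom ≫ m.imageι = m := m.toImage_imageι
  obtain ⟨hV, hVdef⟩ : ∃ h : m.image ⟶ Spec (.of κ₂), h = m.imageι ≫ g₂ := ⟨_, rfl⟩
  have hVeq : e.hom ≫ hV = m ≫ g₂ := by rw [hVdef, ← Category.assoc, he]
  haveI : GeometricallyReduced hV := by
    rw [← MorphismProperty.cancel_left_of_respectsIso @GeometricallyReduced e.hom, hVeq]
    infer_instance
  haveI hlft : LocallyOfFiniteType hV := by rw [hVdef]; infer_instance
  haveI hlfp : LocallyOfFinitePresentation hV :=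
    LocallyOfFinitePresentation.iff_locallyOfFiniteType.mpr hlft
  have hdense := Groth.Agent.Lib.Helper14.dense_smoothLocus_of_geometricallyReduced hV
  have hm : ∀ w, m.imageι (e.hom w) = m w := fun w => by
    rw [← Scheme.Hom.comp_apply, he]
  have hrange : Set.range m.imageι = Set.range m := by
    ext y
    constructor
    · rintro ⟨v, rfl⟩
      refine ⟨e.inv v, ?_⟩
      rw [← hm, ← Scheme.Hom.comp_apply e.inv e.hom, e.inv_hom_id]
      rfl
    · rintro ⟨w, rfl⟩
      exact ⟨e.hom w, hm w⟩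
  let O₂ : Y₂.Opens := ⟨(m.imageι '' ((hV.smoothLocus : Set m.image)ᶜ))ᶜ,
    (m.imageι.isClosedEmbedding.isClosedMap _ hV.smoothLocus.2.isClosed_compl).isOpen_compl⟩
  have hpre : m.ker.subschemeι ⁻¹ᵁ O₂ = hV.smoothLocus := by
    ext x
    change m.imageι x ∉ m.imageι '' _ ↔ _
    rw [m.imageι.isClosedEmbedding.injective.mem_set_image]
    simp
  refine ⟨O₂, ?_, ?_, ?_⟩
  · rw [← smooth_strat_iff, hpre]
    change Smooth (hV.smoothLocus.ι ≫ m.imageι ≫ g₂)
    rw [← hVdef, ← Scheme.Hom.smoothLocus_eq_top_iff,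
      ← Scheme.Hom.preimage_smoothLocus_eq hV.smoothLocus.ι hV, eq_top_iff]
    intro x _
    exact x.2
  · intro y hy
    have hy' : y ∈ m.imageι '' ((hV.smoothLocus : Set m.image)ᶜ) := by
      by_contra h
      exact hy h
    rw [← hrange]
    exact Set.image_subset_range _ _ hy'
  · rintro ⟨w⟩
    obtain ⟨v, hv⟩ := hdense.nonempty_iff.mpr ⟨e.hom w⟩
    refine ⟨m.imageι v, ?_, hrange ▸ ⟨v, rfl⟩⟩
    have : v ∈ m.ker.subschemeι ⁻¹ᵁ O₂ := hpre ▸ hv
    exact this

theorem range_fst_of_isPullback {P X Y S : Scheme.{u}} {fst : P ⟶ X} {snd : P ⟶ Y} {f : X ⟶ S}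
    {g : Y ⟶ S} (H : IsPullback fst snd f g) : Set.range fst = f ⁻¹' Set.range g := by
  rw [← Scheme.Pullback.range_fst, ← H.isoPullback_hom_fst, Scheme.Hom.comp_base, TopCat.coe_comp,
    Set.range_comp]
  have hs : Function.Surjective H.isoPullback.hom := H.isoPullback.hom.homeomorph.surjective
  rw [Set.range_eq_univ.mpr hs, Set.image_univ]

theorem fg_of_isLocallyNoetherian {Y : Scheme.{u}} [IsLocallyNoetherian Y] (I : Y.IdealSheafData)
    (O : Y.affineOpens) : (I.ideal O).FG := by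
  haveI := IsLocallyNoetherian.component_noetherian O
  exact IsNoetherian.noetherian _

/-- the inductive statement for the field case -/
def FieldStep {Y₀ : Scheme.{u}} (Z : Closeds Y₀) : Prop :=
  ∀ (κ₁ : Type u) [Field κ₁] (Y₁ : Scheme.{u}) (g₁ : Y₁ ⟶ Spec (.of κ₁)) [LocallyOfFiniteType g₁]
    [QuasiCompact g₁] (p₁ : Y₁ ⟶ Y₀) (_ : IsHomeomorph p₁),
    ∃ (κ' : Type u) (_ : Field κ') (_ : Algebra κ₁ κ') (_ : Module.Finite κ₁ κ')
      (_ : IsPurelyInseparable κ₁ κ') (Y' : Scheme.{u}) (fst' : Y' ⟶ Y₁)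
      (snd' : Y' ⟶ Spec (.of κ')),
      IsPullback fst' snd' g₁ (Spec.map (CommRingCat.ofHom (algebraMap κ₁ κ'))) ∧
      ∃ I : Y'.IdealSheafData, (I.support : Set Y') = (fst' ≫ p₁) ⁻¹' (Z : Set Y₀) ∧
        ChainFrom snd' I

theorem fieldStep_bot {Y₀ : Scheme.{u}} : FieldStep (⊥ : Closeds Y₀) := by
  intro κ₁ _ Y₁ g₁ _ _ p₁ hp
  refine ⟨κ₁, inferInstance, inferInstance, inferInstance, inferInstance, Y₁, 𝟙 _, g₁, ?_, ⊤, ?_,
    .top⟩
  · have : Spec.map (CommRingCat.ofHom (algebraMap κ₁ κ₁)) = 𝟙 _ := by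
      rw [Algebra.algebraMap_self]
      exact Spec.map_id _
    rw [this]
    exact IsPullback.id_horiz g₁
  · simp

set_option maxHeartbeats 1000000 in
theorem fieldStep_of_lt {Y₀ : Scheme.{u}} (Z : Closeds Y₀)
    (ih : ∀ Z' : Closeds Y₀, Z' < Z → FieldStep Z') : FieldStep Z := by
  classical
  by_cases hZ : Z = ⊥
  · rw [hZ]; exact fieldStep_bot
  intro κ₁ _ Y₁ g₁ _ _ p₁ hp
  -- noetherianity of `Y₁`
  haveI hY₁c : CompactSpace Y₁ := QuasiCompact.compactSpace_of_compactSpace g₁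
  haveI hY₁N : IsLocallyNoetherian Y₁ := LocallyOfFiniteType.isLocallyNoetherian g₁
  -- the reduced closed subscheme on the preimage of `Z`
  let Z₁ : Closeds Y₁ := Z.preimage p₁.continuous
  let R₁ : Y₁.IdealSheafData := vanishingIdeal Z₁
  let j : R₁.subscheme ⟶ Y₁ := R₁.subschemeι
  let fQ : R₁.subscheme ⟶ Spec (.of κ₁) := j ≫ g₁
  haveI : LocallyOfFiniteType fQ := inferInstance
  haveI : QuasiCompact fQ := inferInstance
  haveI hQc : CompactSpace R₁.subscheme := QuasiCompact.compactSpace_of_compactSpace fQ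
  haveI hQN : IsLocallyNoetherian R₁.subscheme := LocallyOfFiniteType.isLocallyNoetherian fQ
  haveI hQNoeth : IsNoetherian R₁.subscheme := { }
  have hirr : (irreducibleComponents (R₁.subscheme : Type u)).Finite :=
    TopologicalSpace.NoetherianSpace.finite_irreducibleComponents
  obtain ⟨κ₂, hF₂, hA₂, hfin₂, hpi₂, hgr⟩ :=
    Groth.Agent.Lib.Helper50.exists_finite_purelyInseparable_nilradical_bc fQ hirr
  let b₁₂ : Spec (.of κ₂) ⟶ Spec (.of κ₁) := Spec.map (CommRingCat.ofHom (algebraMap κ₁ κ₂))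
  -- the base change of `Y₁`
  let Y₂ := pullback g₁ b₁₂
  let g₂ : Y₂ ⟶ Spec (.of κ₂) := pullback.snd g₁ b₁₂
  let pr₂ : Y₂ ⟶ Y₁ := pullback.fst g₁ b₁₂
  have hpr₂ : IsHomeomorph pr₂ :=
    (Groth.Agent.Lib.Helper50.isUnivHomeo_pullback_fst_of_isPurelyInseparable κ₁ κ₂ g₁)
      (𝟙 _) (𝟙 _) pr₂ (IsPullback.of_id_snd)
  -- the closed immersion `X' ⟶ Y₂`
  let X' := pullback fQ b₁₂
  let c : X' ⟶ Y₂ := pullback.map fQ b₁₂ g₁ b₁₂ j (𝟙 _) (𝟙 _) (by simp [fQ]) (by simp)
  have hc_snd : c ≫ g₂ = pullback.snd fQ b₁₂ := by simp [c, g₂]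
  have hc_fst : c ≫ pr₂ = pullback.fst fQ b₁₂ ≫ j := by simp [c, pr₂]
  have hcpb : IsPullback c (pullback.fst fQ b₁₂) pr₂ j := by
    refine IsPullback.of_right ?_ hc_fst (IsPullback.of_hasPullback g₁ b₁₂).flip
    rw [hc_snd]
    exact (IsPullback.of_hasPullback fQ b₁₂).flip
  haveI hcci : IsClosedImmersion c := MorphismProperty.of_isPullback hcpb.flip
    (inferInstanceAs (IsClosedImmersion R₁.subschemeι))
  let m : X'.nilradical.subscheme ⟶ Y₂ := X'.nilradical.subschemeι ≫ c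
  haveI : IsClosedImmersion m := inferInstance
  have hm_g : m ≫ g₂ = X'.nilradical.subschemeι ≫ pullback.snd fQ b₁₂ := by
    simp only [m, Category.assoc, hc_snd]
  haveI : GeometricallyReduced (m ≫ g₂) := by rw [hm_g]; exact hgr
  haveI : LocallyOfFiniteType g₂ := inferInstance
  haveI : QuasiCompact g₂ := inferInstance
  obtain ⟨O₂, hO₂sm, hO₂c, hO₂ne⟩ := exists_open_smooth_of_geometricallyReduced g₂ m
  -- the range of `m`
  have hrange_m : Set.range m = pr₂ ⁻¹' (Z₁ : Set Y₁) := by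
    have h1 : Set.range X'.nilradical.subschemeι = Set.univ := by
      rw [range_subschemeι]; rfl
    have h2 : Set.range c = pr₂ ⁻¹' Set.range j := range_fst_of_isPullback hcpb
    rw [Scheme.Hom.comp_base, TopCat.coe_comp, Set.range_comp, h1, Set.image_univ, h2,
      range_subschemeι, coe_support_vanishingIdeal]
  let p₂ : Y₂ ⟶ Y₀ := pr₂ ≫ p₁
  have hp₂ : IsHomeomorph p₂ := by
    have : (p₂ : Y₂ → Y₀) = p₁ ∘ pr₂ := by
      ext x; rfl
    rw [this]
    exact hp.comp hpr₂
  have hrange_m' : Set.range m = p₂ ⁻¹' (Z : Set Y₀) := by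
    rw [hrange_m]; rfl
  -- the smaller closed subset
  let Znew : Closeds Y₀ := ⟨p₂ '' (O₂ : Set Y₂)ᶜ,
    hp₂.isClosedMap _ O₂.2.isClosed_compl⟩
  have hZnew_le : Znew ≤ Z := by
    rintro _ ⟨x, hx, rfl⟩
    have := hO₂c hx
    rw [hrange_m'] at this
    exact this
  have hZnew_ne : Znew ≠ Z := by
    intro heq
    have hZne : (Z : Set Y₀).Nonempty := by
      rw [Set.nonempty_iff_ne_empty]
      intro h
      exact hZ (Closeds.ext h)
    obtain ⟨z, hz⟩ := hZne
    obtain ⟨x, rfl⟩ := hp₂.surjective z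
    have hx : x ∈ Set.range m := by rw [hrange_m']; exact hz
    obtain ⟨w, -⟩ := hx
    obtain ⟨y, hyO, hym⟩ := hO₂ne ⟨w⟩
    rw [hrange_m'] at hym
    have h1 : p₂ y ∈ Znew := by rw [heq]; exact hym
    obtain ⟨x', hx', hxy⟩ := h1
    rw [hp₂.injective hxy] at hx'
    exact hx' hyO
  have hlt : Znew < Z := lt_of_le_of_ne hZnew_le hZnew_ne
  obtain ⟨κ', hF', hA', hfin', hpi', Y', fst'', snd'', hpb'', I', hI'supp, hI'chain⟩ :=
    ih Znew hlt κ₂ Y₂ g₂ p₂ hp₂
  letI : Algebra κ₁ κ' := ((algebraMap κ₂ κ').comp (algebraMap κ₁ κ₂)).toAlgebra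
  haveI : IsScalarTower κ₁ κ₂ κ' := IsScalarTower.of_algebraMap_eq (fun x => rfl)
  haveI : Module.Finite κ₁ κ' := Module.Finite.trans κ₂ κ'
  haveI : IsPurelyInseparable κ₁ κ' := IsPurelyInseparable.trans κ₁ κ₂ κ'
  haveI : LocallyOfFiniteType snd'' := MorphismProperty.of_isPullback hpb'' inferInstance
  haveI : IsLocallyNoetherian Y' := LocallyOfFiniteType.isLocallyNoetherian snd''
  have hmem_cmpl : ∀ x : Y', x ∈ cmpl I' ↔ fst'' x ∈ O₂ := by
    intro x
    change x ∉ (I'.support : Set Y') ↔ _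
    rw [hI'supp, Set.mem_preimage, Scheme.Hom.comp_apply]
    change p₂ (fst'' x) ∉ p₂ '' (O₂ : Set Y₂)ᶜ ↔ _
    rw [hp₂.injective.mem_set_image]
    simp
  have hcm : cmpl I' = fst'' ⁻¹ᵁ O₂ := by
    ext x
    exact hmem_cmpl x
  have hsuppker : (m.ker.support : Set Y₂) = Set.range m := by
    rw [Scheme.Hom.support_ker, m.isClosedEmbedding.isClosed_range.closure_eq]
  refine ⟨κ', hF', inferInstance, inferInstance, inferInstance, Y', fst'' ≫ pr₂, snd'', ?_,
    (m.ker.comap fst'') * I', ?_, ?_⟩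
  · have := hpb''.paste_horiz (IsPullback.of_hasPullback g₁ b₁₂)
    have e : Spec.map (CommRingCat.ofHom (algebraMap κ₂ κ')) ≫ b₁₂ =
        Spec.map (CommRingCat.ofHom (algebraMap κ₁ κ')) := by
      rw [← Spec.map_comp, ← CommRingCat.ofHom_comp]
      rfl
    rw [e] at this
    exact this
  · rw [support_mul, support_comap]
    ext x
    simp only [Closeds.coe_sup, Closeds.coe_preimage, Set.mem_union, Set.mem_preimage,
      SetLike.mem_coe]
    rw [← SetLike.mem_coe, hsuppker, hrange_m', ← SetLike.mem_coe (p := I'.support), hI'supp]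
    simp only [Set.mem_preimage, Scheme.Hom.comp_apply, SetLike.mem_coe]
    constructor
    · rintro (h | h)
      · exact h
      · exact hZnew_le h
    · intro h
      exact Or.inl h
  · refine .cons _ I' ?_ (fun O => fg_of_isLocallyNoetherian _ O) ?_ hI'chain
    · intro U
      exact Ideal.mul_le_right
    · rw [stratSmooth_iff, hcm]
      have h1 : I'.comap (fst'' ⁻¹ᵁ O₂).ι = ⊤ := by
        rw [← support_eq_bot_iff, support_comap]
        ext x
        simp only [Closeds.coe_preimage, Set.mem_preimage, SetLike.mem_coe, Closeds.coe_bot,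
          Set.mem_empty_iff_false, iff_false]
        intro hx
        have h2 : (fst'' ⁻¹ᵁ O₂).ι x ∈ cmpl I' := (hmem_cmpl _).mpr x.2
        exact h2 hx
      rw [Groth.Agent.Lib.Helper18.comap_mul, h1, mul_top]
      exact smooth_strat_baseChange hpb'' m.ker O₂ hO₂sm


/-- **Field case**: a scheme of finite type over a field `κ` has, after a finite purely
inseparable extension of `κ`, a smoothness stratification. -/
theorem exists_smoothStrat_field (κ : Type u) [Field κ] {Y₀ : Scheme.{u}}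
    (f₀ : Y₀ ⟶ Spec (.of κ)) [LocallyOfFiniteType f₀] [QuasiCompact f₀] :
    ∃ (κ' : Type u) (_ : Field κ') (_ : Algebra κ κ') (_ : Module.Finite κ κ')
      (_ : IsPurelyInseparable κ κ') (Y' : Scheme.{u}) (fst' : Y' ⟶ Y₀)
      (snd' : Y' ⟶ Spec (.of κ')),
      IsPullback fst' snd' f₀ (Spec.map (CommRingCat.ofHom (algebraMap κ κ'))) ∧
        SmoothStrat snd' := by
  haveI : CompactSpace Y₀ := QuasiCompact.compactSpace_of_compactSpace f₀
  haveI : IsLocallyNoetherian Y₀ := LocallyOfFiniteType.isLocallyNoetherian f₀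
  haveI : IsNoetherian Y₀ := { }
  have key : FieldStep (⊤ : Closeds Y₀) :=
    WellFoundedLT.induction (motive := FieldStep) ⊤ (fun Z ih => fieldStep_of_lt Z ih)
  obtain ⟨κ', hF', hA', hfin', hpi', Y', fst', snd', hpb, I, hIsupp, hIchain⟩ :=
    key κ Y₀ f₀ (𝟙 _) (Homeomorph.refl _).isHomeomorph
  exact ⟨κ', hF', hA', hfin', hpi', Y', fst', snd', hpb, hIchain.smoothStrat (by
    rw [hIsupp]; rfl)⟩

end Groth.Agent.Lib.Helper37.SmStrat
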