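import Mathlib

set_option autoImplicit false
set_option linter.style.haveILetI false

universe u

open Polynomial IntermediateField

namespace Groth.Agent.Lib.Helper37.SmStrat

/-- every element of `B` has a `q`-power in the image of `A`. -/
def Radicial (q : ℕ) (A B : Type*) [CommRing A] [CommRing B] [Algebra A B] : Prop :=
  ∀ x : B, ∃ k : ℕ, x ^ q ^ k ∈ (algebraMap A B).range

/-- every element of `K'` is a fraction `x / s` with `x ∈ B`, `s ∈ A`. -/
def FS (A B K' : Type*) [CommRing A] [CommRing B] [Field K'] [Algebra A K'] [Algebra B K'] : Prop :=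
  ∀ z : K', ∃ (x : B) (s : A), algebraMap A K' s ≠ 0 ∧ z * algebraMap A K' s = algebraMap B K' x

theorem Radicial.refl (q : ℕ) (A : Type*) [CommRing A] : Radicial q A A :=
  fun x => ⟨0, x, by simp⟩

theorem Radicial.trans {q : ℕ} {A B C : Type*} [CommRing A] [CommRing B] [CommRing C]
    [Algebra A B] [Algebra B C] [Algebra A C] [IsScalarTower A B C]
    (h₁ : Radicial q A B) (h₂ : Radicial q B C) : Radicial q A C := by
  intro x
  obtain ⟨k, y, hy⟩ := h₂ x
  obtain ⟨l, a, ha⟩ := h₁ y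
  refine ⟨k + l, a, ?_⟩
  rw [IsScalarTower.algebraMap_apply A B C, ha, map_pow, hy, ← pow_mul, ← pow_add]

theorem radicial_adjoinRoot {q : ℕ} {A : Type*} [CommRing A] [ExpChar A q] (α : A) (e : ℕ)
    (hinj : Function.Injective (algebraMap A (AdjoinRoot (X ^ q ^ e - C α : A[X])))) :
    Radicial q A (AdjoinRoot (X ^ q ^ e - C α : A[X])) := by
  have : ExpChar (AdjoinRoot (X ^ q ^ e - C α : A[X])) q := expChar_of_injective_ringHom hinj q
  intro x
  have hx : x ∈ Algebra.adjoin A ({AdjoinRoot.root (X ^ q ^ e - C α : A[X])} : Set _) := by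
    rw [AdjoinRoot.adjoinRoot_eq_top]; trivial
  induction hx using Algebra.adjoin_induction with
  | mem y hy =>
    rw [Set.mem_singleton_iff] at hy
    subst hy
    refine ⟨e, α, ?_⟩
    have := AdjoinRoot.eval₂_root (X ^ q ^ e - C α : A[X])
    simp only [eval₂_sub, eval₂_pow, eval₂_X, eval₂_C] at this
    rw [sub_eq_zero] at this
    exact this.symm
  | algebraMap r => exact ⟨0, r, by simp⟩
  | add y z _ _ hy hz =>
    obtain ⟨k, a, ha⟩ := hy
    obtain ⟨l, b, hb⟩ := hz
    refine ⟨k + l, a ^ q ^ l + b ^ q ^ k, ?_⟩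
    rw [add_pow_expChar_pow, map_add, map_pow, map_pow, ha, hb, ← pow_mul, ← pow_mul, ← pow_add,
      ← pow_add, add_comm l k]
  | mul y z _ _ hy hz =>
    obtain ⟨k, a, ha⟩ := hy
    obtain ⟨l, b, hb⟩ := hz
    refine ⟨k + l, a ^ q ^ l * b ^ q ^ k, ?_⟩
    rw [mul_pow, map_mul, map_pow, map_pow, ha, hb, ← pow_mul, ← pow_mul, ← pow_add,
      ← pow_add, add_comm l k]

/-- one step: the fraction property for `A[X]/(X^Q - α) → K(b)`. -/
theorem fs_step {A K K' : Type*} [CommRing A] [Field K] [Field K'] [Algebra A K] [Algebra K K']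
    [Algebra A K'] [IsScalarTower A K K'] (hFS : FS A A K) (f : A[X]) (b : K') (s : A)
    (hs : algebraMap A K' s ≠ 0)
    (hroot : f.eval₂ (algebraMap A K') (algebraMap A K' s * b) = 0) (y : K')
    (hy : y ∈ Algebra.adjoin K ({b} : Set K')) :
    ∃ (x : AdjoinRoot f) (t : A), algebraMap A K' t ≠ 0 ∧
      y * algebraMap A K' t = AdjoinRoot.lift (algebraMap A K') (algebraMap A K' s * b) hroot x := by
  induction hy using Algebra.adjoin_induction with
  | mem y hy =>
    rw [Set.mem_singleton_iff] at hy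
    subst hy
    exact ⟨AdjoinRoot.root f, s, hs, by rw [AdjoinRoot.lift_root, mul_comm]⟩
  | algebraMap c =>
    obtain ⟨x₀, t, ht, hx₀⟩ := hFS c
    refine ⟨AdjoinRoot.of f x₀, t, ?_, ?_⟩
    · rw [IsScalarTower.algebraMap_apply A K K']
      exact fun h => ht ((algebraMap K K').injective (by rw [h, map_zero]))
    · rw [AdjoinRoot.lift_of, IsScalarTower.algebraMap_apply A K K', ← map_mul, hx₀,
        ← IsScalarTower.algebraMap_apply A K K']
  | add y z _ _ hy hz =>
    obtain ⟨x₁, t₁, ht₁, h₁⟩ := hy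
    obtain ⟨x₂, t₂, ht₂, h₂⟩ := hz
    refine ⟨x₁ * AdjoinRoot.of f t₂ + x₂ * AdjoinRoot.of f t₁, t₁ * t₂, ?_, ?_⟩
    · rw [map_mul]; exact mul_ne_zero ht₁ ht₂
    · simp only [map_add, map_mul, AdjoinRoot.lift_of, ← h₁, ← h₂]
      ring
  | mul y z _ _ hy hz =>
    obtain ⟨x₁, t₁, ht₁, h₁⟩ := hy
    obtain ⟨x₂, t₂, ht₂, h₂⟩ := hz
    refine ⟨x₁ * x₂, t₁ * t₂, ?_, ?_⟩
    · rw [map_mul]; exact mul_ne_zero ht₁ ht₂
    · simp only [map_mul, ← h₁, ← h₂]
      ring

theorem exists_tower (n : ℕ) : ∀ (A : Type u) [CommRing A] (q : ℕ) [ExpChar A q] (K : Type u)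
    [Field K] [Algebra A K] [ExpChar K q] (K' : Type u) [Field K'] [Algebra K K'] [Algebra A K']
    [IsScalarTower A K K'] [FiniteDimensional K K'] [IsPurelyInseparable K K'],
    FS A A K → Module.finrank K K' = n →
    ∃ (B : Type u) (_ : CommRing B) (_ : Algebra A B) (_ : Algebra B K')
      (_ : IsScalarTower A B K'),
      Module.Finite A B ∧ Module.Free A B ∧ Module.finrank A B = n ∧
      Function.Injective (algebraMap A B) ∧ Radicial q A B ∧ FS A B K' := by
  induction n using Nat.strongRecOn with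
  | ind n IH =>
  intro A _ q _ K _ _ _ K' _ _ _ _ _ _ hFS hn
  have hAnt : Nontrivial A := (algebraMap A K).domain_nontrivial
  by_cases hsurj : Function.Surjective (algebraMap K K')
  · refine ⟨A, inferInstance, inferInstance, inferInstance, inferInstance, inferInstance,
      inferInstance, ?_, fun _ _ h => h, Radicial.refl q A, ?_⟩
    · have e : K ≃ₗ[K] K' := LinearEquiv.ofBijective (Algebra.linearMap K K')
        ⟨(algebraMap K K').injective, hsurj⟩
      rw [← hn, ← e.finrank_eq, Module.finrank_self, Module.finrank_self]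
    · intro z
      obtain ⟨z₀, rfl⟩ := hsurj z
      obtain ⟨x, s, hs, hx⟩ := hFS z₀
      refine ⟨x, s, ?_, ?_⟩
      · rw [IsScalarTower.algebraMap_apply A K K']
        exact fun h => hs ((algebraMap K K').injective (by rw [h, map_zero]))
      · rw [IsScalarTower.algebraMap_apply A K K', ← map_mul, hx]
        exact (IsScalarTower.algebraMap_apply A K K' x).symm
  · obtain ⟨b, hb⟩ : ∃ b : K', b ∉ (algebraMap K K').range := by
      by_contra! h
      exact hsurj h
    obtain ⟨e, a, hmin⟩ := IsPurelyInseparable.minpoly_eq_X_pow_sub_C K q b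
    have hint : IsIntegral K b := Algebra.IsIntegral.isIntegral b
    have hQpos : 0 < q ^ e := pow_pos (expChar_pos K q) e
    have hbQ : b ^ q ^ e = algebraMap K K' a := by
      have := minpoly.aeval K b
      rw [hmin] at this
      simpa [sub_eq_zero] using this
    obtain ⟨a', s, hs, has⟩ := hFS a
    obtain ⟨m₀, hm₀⟩ : ∃ m₀, q ^ e = m₀ + 1 := ⟨q ^ e - 1, by omega⟩
    have hs' : algebraMap A K' s ≠ 0 := by
      rw [IsScalarTower.algebraMap_apply A K K']
      exact fun h => hs ((algebraMap K K').injective (by rw [h, map_zero]))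
    have h1 : algebraMap A K' s * algebraMap K K' a = algebraMap A K' a' := by
      rw [IsScalarTower.algebraMap_apply A K K' s, IsScalarTower.algebraMap_apply A K K' a', ← has,
        map_mul, mul_comm]
    have hb'Q : (algebraMap A K' s * b) ^ q ^ e = algebraMap A K' (s ^ m₀ * a') := by
      rw [mul_pow, hbQ, hm₀, pow_succ, mul_assoc, h1, map_mul, map_pow]
    have hroot : (X ^ q ^ e - C (s ^ m₀ * a') : A[X]).eval₂ (algebraMap A K')
        (algebraMap A K' s * b) = 0 := by
      rw [eval₂_sub, eval₂_pow, eval₂_X, eval₂_C, hb'Q, sub_self]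
    have hf : (X ^ q ^ e - C (s ^ m₀ * a') : A[X]).Monic := monic_X_pow_sub_C _ hQpos.ne'
    -- the ring `A₁`
    have hfin₁ : Module.Finite A (AdjoinRoot (X ^ q ^ e - C (s ^ m₀ * a') : A[X])) :=
      (AdjoinRoot.powerBasis' hf).finite
    have hfree₁ : Module.Free A (AdjoinRoot (X ^ q ^ e - C (s ^ m₀ * a') : A[X])) :=
      Module.Free.of_basis (AdjoinRoot.powerBasis' hf).basis
    have hrank₁ : Module.finrank A (AdjoinRoot (X ^ q ^ e - C (s ^ m₀ * a') : A[X])) = q ^ e := by
      rw [(AdjoinRoot.powerBasis' hf).finrank, AdjoinRoot.powerBasis'_dim, natDegree_X_pow_sub_C]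
    have hnt₁ : Nontrivial (AdjoinRoot (X ^ q ^ e - C (s ^ m₀ * a') : A[X])) :=
      Module.nontrivial_of_finrank_pos (R := A) (by rw [hrank₁]; exact hQpos)
    have hinj₁ : Function.Injective
        (algebraMap A (AdjoinRoot (X ^ q ^ e - C (s ^ m₀ * a') : A[X]))) :=
      FaithfulSMul.algebraMap_injective A _
    have hrad₁ := radicial_adjoinRoot (q := q) (s ^ m₀ * a') e hinj₁
    have hexp₁ : ExpChar (AdjoinRoot (X ^ q ^ e - C (s ^ m₀ * a') : A[X])) q :=
      expChar_of_injective_ringHom hinj₁ q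
    -- the field `K₁`
    have hK₁rank : Module.finrank K K⟮b⟯ = q ^ e := by
      rw [adjoin.finrank hint, hmin, natDegree_X_pow_sub_C]
    have hexpK₁ : ExpChar K⟮b⟯ q :=
      expChar_of_injective_algebraMap (algebraMap K K⟮b⟯).injective q
    have hst : IsScalarTower A K⟮b⟯ K' := IsScalarTower.of_algebraMap_eq (fun x => rfl)
    have hb'mem : algebraMap A K' s * b ∈ K⟮b⟯ := by
      rw [IsScalarTower.algebraMap_apply A K K']
      exact mul_mem (K⟮b⟯.algebraMap_mem _) (mem_adjoin_simple_self K b)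
    have hroot₁ : (X ^ q ^ e - C (s ^ m₀ * a') : A[X]).eval₂ (algebraMap A K⟮b⟯)
        ⟨algebraMap A K' s * b, hb'mem⟩ = 0 := by
      apply (algebraMap K⟮b⟯ K').injective
      rw [Polynomial.hom_eval₂, map_zero, ← IsScalarTower.algebraMap_eq A K⟮b⟯ K']
      exact hroot
    letI algA₁K₁ : Algebra (AdjoinRoot (X ^ q ^ e - C (s ^ m₀ * a') : A[X])) K⟮b⟯ :=
      (AdjoinRoot.lift (algebraMap A K⟮b⟯) ⟨_, hb'mem⟩ hroot₁).toAlgebra
    letI algA₁K' : Algebra (AdjoinRoot (X ^ q ^ e - C (s ^ m₀ * a') : A[X])) K' :=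
      (AdjoinRoot.lift (algebraMap A K') (algebraMap A K' s * b) hroot).toAlgebra
    have hst₁ : IsScalarTower (AdjoinRoot (X ^ q ^ e - C (s ^ m₀ * a') : A[X])) K⟮b⟯ K' := by
      refine IsScalarTower.of_algebraMap_eq (fun x => ?_)
      induction x using AdjoinRoot.induction_on with
      | ih p =>
        change AdjoinRoot.lift _ _ _ _ = algebraMap K⟮b⟯ K' (AdjoinRoot.lift _ _ _ _)
        rw [AdjoinRoot.lift_mk, AdjoinRoot.lift_mk, Polynomial.hom_eval₂,
          ← IsScalarTower.algebraMap_eq A K⟮b⟯ K']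
        rfl
    have hofK' : ∀ t : A, algebraMap (AdjoinRoot (X ^ q ^ e - C (s ^ m₀ * a') : A[X])) K'
        (AdjoinRoot.of _ t) = algebraMap A K' t := fun t => AdjoinRoot.lift_of _
    have hFS₁ : FS (AdjoinRoot (X ^ q ^ e - C (s ^ m₀ * a') : A[X]))
        (AdjoinRoot (X ^ q ^ e - C (s ^ m₀ * a') : A[X])) K⟮b⟯ := by
      intro z
      have hz : (z : K') ∈ Algebra.adjoin K ({b} : Set K') := by
        rw [← adjoin_simple_toSubalgebra_of_isAlgebraic hint.isAlgebraic]
        exact z.2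
      obtain ⟨x, t, ht, hx⟩ := fs_step hFS _ b s hs' hroot (z : K') hz
      refine ⟨x, AdjoinRoot.of _ t, ?_, ?_⟩
      · intro h
        apply ht
        rw [← hofK', IsScalarTower.algebraMap_apply _ K⟮b⟯ K', h, map_zero]
      · apply (algebraMap K⟮b⟯ K').injective
        rw [map_mul, ← IsScalarTower.algebraMap_apply _ K⟮b⟯ K',
          ← IsScalarTower.algebraMap_apply _ K⟮b⟯ K', hofK']
        exact hx
    have hmul : q ^ e * Module.finrank K⟮b⟯ K' = n := by
      rw [← hn, ← hK₁rank, Module.finrank_mul_finrank]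
    have hQ2 : 2 ≤ q ^ e := by
      by_contra hlt
      have h1 : q ^ e = 1 := by omega
      apply hb
      apply minpoly.mem_range_of_degree_eq_one K b
      rw [hmin, degree_X_pow_sub_C hQpos, h1]
      rfl
    have hmpos : 0 < Module.finrank K⟮b⟯ K' := Module.finrank_pos
    have hm : Module.finrank K⟮b⟯ K' < n := by
      rw [← hmul]
      nlinarith
    obtain ⟨B, _, _, _, _, hfin, hfree, hrank, hinj, hrad, hfs⟩ :=
      IH _ hm (AdjoinRoot (X ^ q ^ e - C (s ^ m₀ * a') : A[X])) q K⟮b⟯ K' hFS₁ rfl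
    letI algAB : Algebra A B := ((algebraMap (AdjoinRoot (X ^ q ^ e - C (s ^ m₀ * a') : A[X])) B).comp
      (algebraMap A (AdjoinRoot (X ^ q ^ e - C (s ^ m₀ * a') : A[X])))).toAlgebra
    have hstAB : IsScalarTower A (AdjoinRoot (X ^ q ^ e - C (s ^ m₀ * a') : A[X])) B :=
      IsScalarTower.of_algebraMap_eq (fun x => rfl)
    have hstABK' : IsScalarTower A B K' := by
      refine IsScalarTower.of_algebraMap_eq (fun x => ?_)
      change _ = algebraMap B K' (algebraMap (AdjoinRoot (X ^ q ^ e - C (s ^ m₀ * a') : A[X])) B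
        (algebraMap A (AdjoinRoot (X ^ q ^ e - C (s ^ m₀ * a') : A[X])) x))
      rw [← IsScalarTower.algebraMap_apply (AdjoinRoot (X ^ q ^ e - C (s ^ m₀ * a') : A[X])) B K']
      exact (hofK' x).symm
    refine ⟨B, inferInstance, algAB, inferInstance, hstABK', ?_, ?_, ?_, ?_, ?_, ?_⟩
    · exact Module.Finite.trans (AdjoinRoot (X ^ q ^ e - C (s ^ m₀ * a') : A[X])) B
    · exact Module.Free.trans (R := A) (S := AdjoinRoot (X ^ q ^ e - C (s ^ m₀ * a') : A[X])) (M := B)
    · rw [← Module.finrank_mul_finrank A (AdjoinRoot (X ^ q ^ e - C (s ^ m₀ * a') : A[X])) B,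
        hrank₁, hrank, hmul]
    · exact hinj.comp hinj₁
    · exact hrad₁.trans hrad
    · intro z
      obtain ⟨x, s₁, hs₁, hx⟩ := hfs z
      obtain ⟨k, t, ht⟩ := hrad₁ s₁
      obtain ⟨m₁, hm₁⟩ : ∃ m₁, q ^ k = m₁ + 1 := ⟨q ^ k - 1, by
        have := pow_pos (expChar_pos K q) k
        omega⟩
      have htK' : algebraMap A K' t = (algebraMap _ K' s₁) ^ q ^ k := by
        rw [← map_pow, ← ht]
        exact (hofK' t).symm
      refine ⟨x * algebraMap _ B (s₁ ^ m₁), t, ?_, ?_⟩
      · rw [htK']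
        exact pow_ne_zero _ hs₁
      · rw [htK', hm₁, pow_succ, map_mul (algebraMap B K'), ← hx,
          ← IsScalarTower.algebraMap_apply (AdjoinRoot (X ^ q ^ e - C (s ^ m₀ * a') : A[X])) B K',
          map_pow (algebraMap (AdjoinRoot (X ^ q ^ e - C (s ^ m₀ * a') : A[X])) K')]
        ring

end Groth.Agent.Lib.Helper37.SmStrat
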