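import Mathlib
import Groth.Agent.Lib.Helper37.SmStratInsep

/-!
# Finite free radicial covers realising a purely inseparable extension of the generic residue field (helper37)
-/

set_option autoImplicit false
set_option linter.style.haveILetI false
set_option backward.isDefEq.respectTransparency false

universe u

open CategoryTheory AlgebraicGeometry

namespace Groth.Agent.Lib.Helper37.SmStrat

attribute [local instance] RingHom.ker_isPrime in
theorem isLocalization_atPrime_of_fs {A B K K' : Type*} [CommRing A] [CommRing B] [Field K]
    [Field K'] [Algebra A K] [Algebra K K'] [Algebra A K'] [IsScalarTower A K K'] [Algebra A B]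
    [Algebra B K'] [IsScalarTower A B K'] (𝔭 : Ideal A) [𝔭.IsPrime] [IsLocalization.AtPrime K 𝔭]
    [Module.Finite A B] [Module.Free A B] [FiniteDimensional K K']
    (hrank : Module.finrank A B = Module.finrank K K') (hfs : FS A B K') :
    IsLocalization.AtPrime K' (RingHom.ker (algebraMap B K')) := by
  classical
  have hAnt : Nontrivial A := (algebraMap A K).domain_nontrivial
  let e := Module.Free.chooseBasis A B
  have hcard : Fintype.card (Module.Free.ChooseBasisIndex A B) = Module.finrank K K' := by
    rw [← hrank, Module.finrank_eq_card_chooseBasisIndex]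
  have hψ : ∀ x : B, algebraMap B K' x =
      ∑ i, algebraMap A K (e.repr x i) • algebraMap B K' (e i) := by
    intro x
    conv_lhs => rw [← e.sum_repr x]
    rw [map_sum]
    refine Finset.sum_congr rfl (fun i _ => ?_)
    rw [Algebra.smul_def, map_mul, ← IsScalarTower.algebraMap_apply A B K',
      IsScalarTower.algebraMap_apply A K K', Algebra.smul_def]
  have hspan : ⊤ ≤ Submodule.span K (Set.range (fun i => algebraMap B K' (e i))) := by
    intro z _
    obtain ⟨x, s, hs, hx⟩ := hfs z
    have hs' : algebraMap A K s ≠ 0 := by
      intro h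
      apply hs
      rw [IsScalarTower.algebraMap_apply A K K', h, map_zero]
    have hz : z = (algebraMap A K s)⁻¹ • algebraMap B K' x := by
      rw [← hx, Algebra.smul_def, map_inv₀, ← IsScalarTower.algebraMap_apply A K K']
      field_simp
    rw [hz]
    refine Submodule.smul_mem _ _ ?_
    rw [hψ x]
    exact Submodule.sum_mem _ (fun i _ => Submodule.smul_mem _ _
      (Submodule.subset_span ⟨i, rfl⟩))
  have hli : LinearIndependent K (fun i => algebraMap B K' (e i)) :=
    linearIndependent_of_top_le_span_of_card_eq_finrank hspan hcard
  refine (isLocalization_iff (RingHom.ker (algebraMap B K')).primeCompl K').mpr ⟨?_, ?_, ?_⟩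
  · intro y
    exact IsUnit.mk0 _ (fun h => y.2 (by simpa [RingHom.mem_ker] using h))
  · intro z
    obtain ⟨x, s, hs, hx⟩ := hfs z
    refine ⟨⟨x, ⟨algebraMap A B s, ?_⟩⟩, ?_⟩
    · intro h
      apply hs
      rw [IsScalarTower.algebraMap_apply A B K']
      exact h
    · change z * algebraMap B K' (algebraMap A B s) = algebraMap B K' x
      rw [← IsScalarTower.algebraMap_apply A B K']
      exact hx
  · intro x y hxy
    have hd : algebraMap B K' (x - y) = 0 := by rw [map_sub, hxy, sub_self]
    rw [hψ] at hd
    have hc := Fintype.linearIndependent_iff.mp hli _ hd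
    have ht : ∀ i, ∃ t : 𝔭.primeCompl, (t : A) * e.repr (x - y) i = 0 := fun i =>
      (IsLocalization.map_eq_zero_iff 𝔭.primeCompl K _).mp (hc i)
    choose t ht using ht
    let T : 𝔭.primeCompl := ∏ i, t i
    have hT : ∀ i, (T : A) * e.repr (x - y) i = 0 := by
      intro i
      have : (T : A) = (∏ j ∈ Finset.univ.erase i, (t j : A)) * t i := by
        simp only [T, Submonoid.coe_finsetProd]
        rw [Finset.prod_erase_mul _ _ (Finset.mem_univ i)]
      rw [this, mul_assoc, ht, mul_zero]
    have hTd : (T : A) • (x - y) = 0 := by
      apply e.repr.injective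
      ext i
      rw [map_smul, map_zero, Finsupp.smul_apply, smul_eq_mul, hT]
      rfl
    refine ⟨⟨algebraMap A B T, ?_⟩, ?_⟩
    · intro h
      rw [SetLike.mem_coe, RingHom.mem_ker, ← IsScalarTower.algebraMap_apply A B K',
        IsScalarTower.algebraMap_apply A K K'] at h
      have h2 : algebraMap A K T = 0 := (algebraMap K K').injective (by rw [h, map_zero])
      exact (IsLocalization.map_units K T).ne_zero h2
    · change algebraMap A B T * x = algebraMap A B T * y
      rw [← sub_eq_zero, ← mul_sub, ← Algebra.smul_def]
      exact hTd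

attribute [local instance] RingHom.ker_isPrime in
/-- **Purely inseparable tower, packaged**: if `K = A_𝔭` is a field and `K'/K` is finite purely
inseparable, there is a finite free radicial `A`-algebra `B` with a prime whose localization is `K'`. -/
theorem exists_finite_free_radicial {A K K' : Type u} [CommRing A] (q : ℕ) [ExpChar A q] [Field K]
    [Algebra A K] [ExpChar K q] [Field K'] [Algebra K K'] [Algebra A K'] [IsScalarTower A K K']
    [FiniteDimensional K K'] [IsPurelyInseparable K K'] (𝔭 : Ideal A) [𝔭.IsPrime]
    [IsLocalization.AtPrime K 𝔭] :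
    ∃ (B : Type u) (_ : CommRing B) (_ : Algebra A B) (_ : Algebra B K')
      (_ : IsScalarTower A B K'),
      Module.Finite A B ∧ Module.Free A B ∧ Function.Injective (algebraMap A B) ∧
      Radicial q A B ∧ IsLocalization.AtPrime K' (RingHom.ker (algebraMap B K')) := by
  have hFS : FS A A K := by
    intro z
    obtain ⟨⟨x, s⟩, h⟩ := IsLocalization.surj 𝔭.primeCompl z
    exact ⟨x, s, (IsLocalization.map_units K s).ne_zero, h⟩
  obtain ⟨B, _, _, _, _, hfin, hfree, hrank, hinj, hrad, hfs⟩ := exists_tower _ A q K K' hFS rfl
  exact ⟨B, inferInstance, inferInstance, inferInstance, inferInstance, hfin, hfree, hinj, hrad,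
    isLocalization_atPrime_of_fs 𝔭 hrank hfs⟩

section
variable {A B : Type u} [CommRing A] [CommRing B] [Algebra A B]

theorem isFinite_specMap_algebraMap [Module.Finite A B] :
    IsFinite (Spec.map (CommRingCat.ofHom (algebraMap A B))) := by
  rw [IsFinite.SpecMap_iff]
  exact RingHom.finite_algebraMap.mpr inferInstance

theorem flat_specMap_algebraMap [Module.Flat A B] :
    Flat (Spec.map (CommRingCat.ofHom (algebraMap A B))) := by
  rw [Flat.SpecMap_iff]
  exact RingHom.flat_algebraMap_iff.mpr inferInstance

theorem lfp_specMap_algebraMap [Algebra.FinitePresentation A B] :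
    LocallyOfFinitePresentation (Spec.map (CommRingCat.ofHom (algebraMap A B))) := by
  rw [LocallyOfFinitePresentation.SpecMap_iff]
  exact RingHom.finitePresentation_algebraMap.mpr inferInstance

theorem surjective_specMap_algebraMap [Module.Finite A B]
    (hinj : Function.Injective (algebraMap A B)) :
    Surjective (Spec.map (CommRingCat.ofHom (algebraMap A B))) := by
  have : FaithfulSMul A B := (faithfulSMul_iff_algebraMap_injective A B).mpr hinj
  have : Algebra.IsIntegral A B := inferInstance
  rw [surjective_iff]
  exact Algebra.IsIntegral.comap_surjective A B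

theorem universallyInjective_specMap_of_radicial (q : ℕ) [ExpChar A q] (hrad : Radicial q A B) :
    UniversallyInjective (Spec.map (CommRingCat.ofHom (algebraMap A B))) := by
  refine ((tfae_universallyInjective
    (Spec.map (CommRingCat.ofHom (algebraMap A B)))).out 0 1).mpr ?_
  intro L _ g₁ g₂ hg
  obtain ⟨φ₁, rfl⟩ := Spec.map_surjective g₁
  obtain ⟨φ₂, rfl⟩ := Spec.map_surjective g₂
  simp only [← Spec.map_comp] at hg
  have h := Spec.map_injective hg
  have hA : ∀ a : A, φ₁.hom (algebraMap A B a) = φ₂.hom (algebraMap A B a) := by
    intro a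
    have := congrArg (fun t => t.hom a) h
    simpa using this
  congr 1
  ext x
  obtain ⟨k, a, ha⟩ := hrad x
  have hpow : φ₁.hom x ^ q ^ k = φ₂.hom x ^ q ^ k := by
    rw [← map_pow, ← map_pow, ← ha, hA]
  cases ‹ExpChar A q› with
  | zero =>
    simpa using hpow
  | prime hq =>
    have hqL : (q : L) = 0 := by
      have h0 : (q : A) = 0 := CharP.cast_eq_zero A q
      have h1 : (φ₁.hom.comp (algebraMap A B)) (q : A) = 0 := by rw [h0, map_zero]
      rwa [map_natCast] at h1
    have : CharP L q := by
      have hr := CharP.ringChar_of_prime_eq_zero hq hqL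
      exact hr ▸ ringChar.charP L
    have : ExpChar L q := ExpChar.prime hq
    exact iterateFrobenius_inj L q k hpow

end

end Groth.Agent.Lib.Helper37.SmStrat
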