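import Mathlib

/-!
# Smoothness stratifications: localisation lemmas (helper37)

* `exists_basicOpen_disjoint`: a closed subset of a quasi-compact `Spec R`-scheme missing the fibre over a minimal
  prime misses the preimage of a basic open neighbourhood of that prime.
* `exists_app_eq_sec_mul`: sections of the generic fibre `Y ×_{Spec R} Spec κ` (`κ = R_q`) over the preimage of an
  affine open are fractions of sections of `Y` with denominators from `R ∖ q`.
-/

set_option autoImplicit false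
set_option linter.style.haveILetI false
set_option backward.isDefEq.respectTransparency false
universe u
open CategoryTheory Limits AlgebraicGeometry TopologicalSpace

namespace Groth.Agent.Lib.Helper37.SmStrat

/-- A closed subset of `Spec B` none of whose points lies over the minimal prime `q` of `R`
is contained in the zero locus of an element outside `q`. -/
theorem exists_notMem_forall_mem_of_minimal {R B : Type*} [CommRing R] [CommRing B] (φ : R →+* B)
    (q : Ideal R) [q.IsPrime] (hq : q ∈ minimalPrimes R) (Z : Set (PrimeSpectrum B))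
    (hZ : IsClosed Z) (hdis : ∀ z ∈ Z, z.asIdeal.comap φ ≠ q) :
    ∃ r ∉ q, ∀ z ∈ Z, φ r ∈ z.asIdeal := by
  classical
  set 𝔞 := PrimeSpectrum.vanishingIdeal Z with h𝔞
  by_contra hcon
  push Not at hcon
  have hle : 𝔞.comap φ ≤ q := by
    intro r hr
    by_contra hrq
    obtain ⟨z, hz, hzr⟩ := hcon r hrq
    exact hzr ((PrimeSpectrum.mem_vanishingIdeal _ _).mp hr z hz)
  have hmin : q ∈ (𝔞.comap φ).minimalPrimes := by
    refine ⟨⟨inferInstance, hle⟩, fun p ⟨hp, _⟩ hpq => hq.2 ⟨hp, bot_le⟩ hpq⟩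
  obtain ⟨p', hp', hle', hcomap⟩ := Ideal.exists_comap_eq_of_mem_minimalPrimes φ q hmin
  have hmem : (⟨p', hp'⟩ : PrimeSpectrum B) ∈ Z := by
    rw [← hZ.closure_eq, ← PrimeSpectrum.zeroLocus_vanishingIdeal_eq_closure]
    exact hle'
  exact hdis _ hmem hcomap

/-- A closed subset of a quasi-compact scheme over `Spec R` missing the fibre over a minimal
prime `q` misses the preimage of a basic open neighbourhood of `q`. -/
theorem exists_basicOpen_disjoint {R : Type u} [CommRing R] {Q : Scheme.{u}}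
    (h : Q ⟶ Spec (.of R)) [QuasiCompact h] (q : PrimeSpectrum R)
    (hq : q.asIdeal ∈ minimalPrimes R) (N : Set Q) (hN : IsClosed N)
    (hdis : ∀ x ∈ N, h x ≠ q) :
    ∃ r ∉ q.asIdeal, ∀ x ∈ N, h x ∉ PrimeSpectrum.basicOpen r := by
  classical
  haveI : CompactSpace Q := QuasiCompact.compactSpace_of_compactSpace h
  obtain ⟨s, hsfin, hs⟩ := (isCompact_iff_finite_and_eq_biUnion_affineOpens
    (U := (⊤ : Q.Opens))).mp (by simpa using CompactSpace.isCompact_univ)
  have key : ∀ W : Q.affineOpens, ∃ r ∉ q.asIdeal, ∀ x ∈ N, x ∈ W.1 →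
      h x ∉ PrimeSpectrum.basicOpen r := by
    intro W
    obtain ⟨φ, hφ⟩ := Spec.map_surjective (W.2.fromSpec ≫ h)
    obtain ⟨r, hr, hrZ⟩ := exists_notMem_forall_mem_of_minimal φ.hom q.asIdeal hq
      (W.2.fromSpec ⁻¹' N) (hN.preimage W.2.fromSpec.continuous) (by
        intro z hz hcon
        refine hdis _ hz ?_
        have : (W.2.fromSpec ≫ h) z = (Spec.map φ) z := by rw [hφ]
        rw [Scheme.Hom.comp_apply] at this
        rw [this]
        exact PrimeSpectrum.ext hcon)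
    refine ⟨r, hr, fun x hxN hxW => ?_⟩
    have hx := W.2.fromSpec_primeIdealOf ⟨x, hxW⟩
    have h1 := hrZ (W.2.primeIdealOf ⟨x, hxW⟩) (by
      change W.2.fromSpec _ ∈ N
      rw [hx]; exact hxN)
    have : (W.2.fromSpec ≫ h) (W.2.primeIdealOf ⟨x, hxW⟩) =
        (Spec.map φ) (W.2.primeIdealOf ⟨x, hxW⟩) := by rw [hφ]
    rw [Scheme.Hom.comp_apply, hx] at this
    rw [this]
    intro hmem
    exact hmem h1
  choose r hr hrN using key
  haveI : Fintype s := hsfin.fintype
  refine ⟨∏ W : s, r W.1, ?_, fun x hxN => ?_⟩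
  · intro hmem
    obtain ⟨W, -, hW⟩ := (Ideal.IsPrime.prod_mem_iff (hp := q.2)).mp hmem
    exact hr _ hW
  · have hx : x ∈ (⊤ : Q.Opens) := trivial
    rw [hs] at hx
    simp only [Opens.iSup_mk, Opens.carrier_eq_coe, Opens.mem_mk, Set.mem_iUnion] at hx
    obtain ⟨W, hWs, hxW⟩ := hx
    intro hmem
    refine hrN W x hxN hxW ?_
    rw [PrimeSpectrum.mem_basicOpen] at hmem ⊢
    intro h1
    apply hmem
    have : ∏ W : s, r W.1 = r W * ∏ W' ∈ Finset.univ.erase (⟨W, hWs⟩ : s), r W'.1 := by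
      rw [← Finset.mul_prod_erase _ (fun W' : s => r W'.1) (Finset.mem_univ (⟨W, hWs⟩ : s))]
    rw [this]
    exact Ideal.mul_mem_right _ _ h1

/-- In a pushout of commutative rings `P = B ⊗ κ` where every element of `κ` is a fraction with
denominator in `M`, every element of `P` becomes a section of `B` after multiplying by an
element of `M`. -/
theorem exists_mul_eq_of_isPushout {R₀ B κ P : CommRingCat.{u}} {φB : R₀ ⟶ B} {φκ : R₀ ⟶ κ}
    {inB : B ⟶ P} {inκ : κ ⟶ P} (H : IsPushout φB φκ inB inκ) (M : Submonoid R₀)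
    (hM : ∀ c : κ, ∃ s ∈ M, ∃ r : R₀, φκ.hom s * c = φκ.hom r) (k : P) :
    ∃ s ∈ M, ∃ m : B, inB.hom m = inB.hom (φB.hom s) * k := by
  let P₀ : Subring P :=
    { carrier := {k | ∃ s ∈ M, ∃ m : B, inB.hom m = inB.hom (φB.hom s) * k}
      zero_mem' := ⟨1, M.one_mem, 0, by simp⟩
      one_mem' := ⟨1, M.one_mem, 1, by simp⟩
      add_mem' := by
        rintro a b ⟨s₁, hs₁, m₁, h₁⟩ ⟨s₂, hs₂, m₂, h₂⟩
        refine ⟨s₁ * s₂, M.mul_mem hs₁ hs₂, φB.hom s₂ * m₁ + φB.hom s₁ * m₂, ?_⟩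
        simp only [map_add, map_mul, h₁, h₂]
        ring
      mul_mem' := by
        rintro a b ⟨s₁, hs₁, m₁, h₁⟩ ⟨s₂, hs₂, m₂, h₂⟩
        refine ⟨s₁ * s₂, M.mul_mem hs₁ hs₂, m₁ * m₂, ?_⟩
        simp only [map_mul, h₁, h₂]
        ring
      neg_mem' := by
        rintro a ⟨s₁, hs₁, m₁, h₁⟩
        exact ⟨s₁, hs₁, -m₁, by simp [h₁]⟩ }
  have hw : ∀ x : R₀, inB.hom (φB.hom x) = inκ.hom (φκ.hom x) := fun x => by
    have := congrArg (fun f => f.hom x) H.w
    simpa using this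
  let jB : B ⟶ CommRingCat.of P₀ := CommRingCat.ofHom (inB.hom.codRestrict P₀
    (fun b => ⟨1, M.one_mem, b, by simp⟩))
  let jκ : κ ⟶ CommRingCat.of P₀ := CommRingCat.ofHom (inκ.hom.codRestrict P₀ (fun c => by
    obtain ⟨s, hs, r, hr⟩ := hM c
    refine ⟨s, hs, φB.hom r, ?_⟩
    rw [hw, hw, ← hr, map_mul]))
  let inc : CommRingCat.of P₀ ⟶ P := CommRingCat.ofHom P₀.subtype
  have hjB : jB ≫ inc = inB := by ext x; rfl
  have hjκ : jκ ≫ inc = inκ := by ext x; rfl
  have hcomm : φB ≫ jB = φκ ≫ jκ := by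
    ext x
    exact hw x
  have hu : H.desc jB jκ hcomm ≫ inc = 𝟙 P := by
    apply H.hom_ext
    · rw [IsPushout.inl_desc_assoc, hjB, Category.comp_id]
    · rw [IsPushout.inr_desc_assoc, hjκ, Category.comp_id]
  have := congrArg (fun f => f.hom k) hu
  simp only [CommRingCat.hom_comp, RingHom.coe_comp, Function.comp_apply, CommRingCat.hom_id,
    RingHom.id_apply] at this
  have hk : k ∈ P₀ := by
    rw [← this]
    exact ((H.desc jB jκ hcomm).hom k).2
  exact hk

section

variable {R κ : Type u} [CommRing R] [Field κ] [Algebra R κ] (q : Ideal R) [q.IsPrime]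
  [IsLocalization.AtPrime κ q]
  {Y Yξ : Scheme.{u}} {ι : Yξ ⟶ Y} {gξ : Yξ ⟶ Spec (.of κ)} {g : Y ⟶ Spec (.of R)}
  (H : IsPullback ι gξ g (Spec.map (CommRingCat.ofHom (algebraMap R κ))))

/-- the section on `U` given by `s : R` -/
noncomputable def sec (g : Y ⟶ Spec (.of R)) (U : Y.Opens) (s : R) : Γ(Y, U) :=
  (g.appLE ⊤ U (show U ≤ g ⁻¹ᵁ ⊤ from le_top)).hom ((Scheme.ΓSpecIso (.of R)).inv.hom s)

include H in
theorem app_sec (U : Y.Opens) (s : R) :
    (ι.app U).hom (sec g U s) = sec gξ (ι ⁻¹ᵁ U) (algebraMap R κ s) := by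
  unfold sec
  have h1 : g.appLE ⊤ U (show U ≤ g ⁻¹ᵁ ⊤ from le_top) ≫ ι.app U =
      (Spec.map (CommRingCat.ofHom (algebraMap R κ))).app ⊤ ≫
        gξ.appLE ((Spec.map (CommRingCat.ofHom (algebraMap R κ))) ⁻¹ᵁ ⊤) (ι ⁻¹ᵁ U)
          (show ι ⁻¹ᵁ U ≤ gξ ⁻¹ᵁ _ from le_top) := by
    rw [Scheme.Hom.app_eq_appLE, Scheme.Hom.appLE_comp_appLE, ← Scheme.Hom.comp_appLE]
    congr 1
    exact H.w
  have h2 := congrArg (fun f => f.hom ((Scheme.ΓSpecIso (.of R)).inv.hom s)) h1
  simp only [CommRingCat.hom_comp, RingHom.coe_comp, Function.comp_apply] at h2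
  rw [h2]
  have h3 := Scheme.ΓSpecIso_inv_naturality (CommRingCat.ofHom (algebraMap R κ))
  have h4 := congrArg (fun f => f.hom s) h3
  simp only [CommRingCat.hom_comp, RingHom.coe_comp, Function.comp_apply] at h4
  change (gξ.appLE ⊤ (ι ⁻¹ᵁ U) _).hom
    ((Spec.map (CommRingCat.ofHom (algebraMap R κ))).appTop.hom _) = _
  rw [← h4]
  rfl

include H in
theorem isUnit_app_sec (U : Y.Opens) {s : R} (hs : s ∉ q) :
    IsUnit ((ι.app U).hom (sec g U s)) := by
  rw [app_sec H]
  unfold sec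
  refine IsUnit.map _ (IsUnit.map _ ?_)
  exact IsLocalization.map_units κ (⟨s, hs⟩ : q.primeCompl)

include H in
/-- every section of the generic fibre over the preimage of an affine open is, up to a
denominator outside `q`, the restriction of a section on the affine open. -/
theorem exists_app_eq_sec_mul (U : Y.Opens) (hU : IsAffineOpen U) (k : Γ(Yξ, ι ⁻¹ᵁ U)) :
    ∃ s : R, s ∉ q ∧ ∃ m : Γ(Y, U), (ι.app U).hom m = (ι.app U).hom (sec g U s) * k := by
  have hiso := isIso_pushoutSection_of_isAffineOpen H (US := ⊤) (UT := ⊤) (UX := U)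
    (UY := ι ⁻¹ᵁ U) le_top le_top (by simp) (isAffineOpen_top _) (isAffineOpen_top _) hU
  have hpo := (isIso_pushoutSection_iff H _ _ _).mp hiso
  let M : Submonoid Γ(Spec (.of R), ⊤) :=
    q.primeCompl.map (Scheme.ΓSpecIso (.of R)).inv.hom
  obtain ⟨s', ⟨s, hs, rfl⟩, m, hm⟩ := exists_mul_eq_of_isPushout hpo M (by
    intro c
    obtain ⟨⟨r, s⟩, hrs⟩ := IsLocalization.surj q.primeCompl ((Scheme.ΓSpecIso (.of κ)).hom.hom c)
    refine ⟨_, ⟨s.1, s.2, rfl⟩, (Scheme.ΓSpecIso (.of R)).inv.hom r, ?_⟩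
    have h3 := Scheme.ΓSpecIso_inv_naturality (CommRingCat.ofHom (algebraMap R κ))
    have h4 : ∀ x : R, (Spec.map (CommRingCat.ofHom (algebraMap R κ))).appTop.hom
        ((Scheme.ΓSpecIso (.of R)).inv.hom x) =
        (Scheme.ΓSpecIso (.of κ)).inv.hom (algebraMap R κ x) := fun x => by
      have := congrArg (fun f => f.hom x) h3
      exact this.symm
    change (Spec.map (CommRingCat.ofHom (algebraMap R κ))).appTop.hom _ * c =
      (Spec.map (CommRingCat.ofHom (algebraMap R κ))).appTop.hom _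
    rw [h4, h4]
    have hc : c = (Scheme.ΓSpecIso (.of κ)).inv.hom ((Scheme.ΓSpecIso (.of κ)).hom.hom c) := by
      simp
    rw [← hrs, map_mul, ← hc, mul_comm]) k
  refine ⟨s, hs, m, ?_⟩
  rw [Scheme.Hom.app_eq_appLE]
  exact hm

end

end Groth.Agent.Lib.Helper37.SmStrat
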