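import Mathlib
import Groth.Agent.Lib.Helper37.SmStratBasic
import Groth.Agent.Lib.Helper37.SmStratLoc
import Groth.Agent.Lib.Helper18.FTIdeal
import Groth.Agent.Lib.Helper14.SmoothFibre
import Groth.Agent.Lib.Helper37.FinGrpdStratFP

/-!
# Smoothness stratifications: spreading out from the generic fibre (helper37)

`exists_smoothStrat_restrict`: for `g : Y ⟶ Spec R` of finite presentation and a prime `q` with `κ = R_q` a field, a
smoothness stratification of the fibre `Y ×_{Spec R} Spec κ` extends to one of `g` over a basic open neighbourhood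
of `q`.
-/

set_option autoImplicit false
set_option linter.style.haveILetI false
set_option backward.isDefEq.respectTransparency false
universe u
open CategoryTheory Limits AlgebraicGeometry TopologicalSpace

namespace Groth.Agent.Lib.Helper37.SmStrat

open Scheme IdealSheafData

section
variable {Y : Scheme.{u}}

/-- the complement of the support of a finite type ideal sheaf is retrocompact. -/
theorem quasiCompact_cmpl_ι (J : Y.IdealSheafData) (hJ : ∀ O : Y.affineOpens, (J.ideal O).FG) :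
    QuasiCompact (cmpl J).ι := by
  rw [quasiCompact_iff_forall_isAffineOpen]
  intro U hU
  obtain ⟨t, ht⟩ := hJ ⟨U, hU⟩
  have h1 : ((cmpl J).ι ⁻¹ᵁ U : Set (cmpl J)) =
      (cmpl J).ι ⁻¹' (⋃ f ∈ t, (Y.basicOpen f : Set Y)) := by
    ext x
    simp only [Scheme.Hom.coe_preimage, Set.mem_preimage, SetLike.mem_coe, Set.mem_iUnion,
      exists_prop]
    constructor
    · intro hxU
      have hx : (cmpl J).ι x ∉ J.support := x.2
      rw [mem_support_iff_of_mem (U := ⟨U, hU⟩) hxU, ← ht, Scheme.zeroLocus_span,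
        Scheme.mem_zeroLocus_iff] at hx
      push Not at hx
      obtain ⟨f, hf, hxf⟩ := hx
      exact ⟨f, hf, hxf⟩
    · rintro ⟨f, hf, hxf⟩
      exact Y.basicOpen_le f hxf
  rw [h1]
  have h2 : IsCompact (⋃ f ∈ t, (Y.basicOpen f : Set Y)) :=
    t.finite_toSet.isCompact_biUnion (fun f _ => (hU.basicOpen f).isCompact)
  have h3 : (⋃ f ∈ t, (Y.basicOpen f : Set Y)) ⊆ Set.range (cmpl J).ι := by
    intro x hx
    simp only [Set.mem_iUnion, exists_prop] at hx
    obtain ⟨f, hf, hxf⟩ := hx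
    rw [Scheme.Opens.range_ι]
    intro hxJ
    have hxU : x ∈ U := Y.basicOpen_le f hxf
    rw [SetLike.mem_coe, mem_support_iff_of_mem (U := ⟨U, hU⟩) hxU, ← ht, Scheme.zeroLocus_span,
      Scheme.mem_zeroLocus_iff] at hxJ
    exact hxJ f hf hxf
  exact (cmpl J).ι.isOpenEmbedding.isInducing.isCompact_preimage' h2 h3

end

section
variable {Y T : Scheme.{u}}

theorem isPullback_restrict_le (g : Y ⟶ T) {W W' : T.Opens} (hle : W ≤ W') :
    IsPullback (Y.homOfLE (g.preimage_mono hle)) (g ∣_ W) (g ∣_ W') (T.homOfLE hle) := by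
  refine IsPullback.of_right ?_ ?_ (isPullback_morphismRestrict g W').flip
  · rw [Scheme.homOfLE_ι, Scheme.homOfLE_ι]
    exact (isPullback_morphismRestrict g W).flip
  · rw [← cancel_mono W'.ι, Category.assoc, Category.assoc, morphismRestrict_ι,
      Scheme.homOfLE_ι_assoc, Scheme.homOfLE_ι, morphismRestrict_ι]

theorem comap_homOfLE_comap (g : Y ⟶ T) (J : Y.IdealSheafData) {W W' : T.Opens} (hle : W ≤ W') :
    (J.comap (g ⁻¹ᵁ W').ι).comap (Y.homOfLE (g.preimage_mono hle)) = J.comap (g ⁻¹ᵁ W).ι := by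
  rw [← comap_comp, Scheme.homOfLE_ι]

theorem ChainFrom.restrict_le {g : Y ⟶ T} {J : Y.IdealSheafData} {W W' : T.Opens} (hle : W ≤ W')
    (h : ChainFrom (g ∣_ W') (J.comap (g ⁻¹ᵁ W').ι)) :
    ChainFrom (g ∣_ W) (J.comap (g ⁻¹ᵁ W).ι) := by
  rw [← comap_homOfLE_comap g J hle]
  exact h.baseChange (isPullback_restrict_le g hle)

theorem StratSmooth.restrict_le {g : Y ⟶ T} {J J' : Y.IdealSheafData} {W W' : T.Opens}
    (hle : W ≤ W')
    (h : StratSmooth (g ∣_ W') (J.comap (g ⁻¹ᵁ W').ι) (J'.comap (g ⁻¹ᵁ W').ι)) :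
    StratSmooth (g ∣_ W) (J.comap (g ⁻¹ᵁ W).ι) (J'.comap (g ⁻¹ᵁ W).ι) := by
  rw [← comap_homOfLE_comap g J hle, ← comap_homOfLE_comap g J' hle]
  exact h.baseChange (isPullback_restrict_le g hle)

/-- If the preimage of `W` in the stratum lies in the smooth locus, the restricted stratum is
smooth over `W`. -/
theorem stratSmooth_restrict_of_le_smoothLocus (g : Y ⟶ T) (J J' : Y.IdealSheafData)
    [LocallyOfFinitePresentation ((J.comap (cmpl J').ι).subschemeι ≫ (cmpl J').ι ≫ g)]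
    (W : T.Opens)
    (hW : ((J.comap (cmpl J').ι).subschemeι ≫ (cmpl J').ι ≫ g) ⁻¹ᵁ W ≤
      ((J.comap (cmpl J').ι).subschemeι ≫ (cmpl J').ι ≫ g).smoothLocus) :
    StratSmooth (g ∣_ W) (J.comap (g ⁻¹ᵁ W).ι) (J'.comap (g ⁻¹ᵁ W).ι) := by
  set hQ := (J.comap (cmpl J').ι).subschemeι ≫ (cmpl J').ι ≫ g with hQdef
  rw [stratSmooth_iff, support_compl_comap, comap_comap_restrict]
  have hpb := isPullback_strat (isPullback_morphismRestrict g W).flip J (cmpl J')
  -- the restriction of `hQ` over `W` is smooth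
  have h1 : Smooth ((hQ ⁻¹ᵁ W).ι ≫ hQ) := by
    rw [← Scheme.Hom.smoothLocus_eq_top_iff, ← Scheme.Hom.preimage_smoothLocus_eq, eq_top_iff]
    intro x _
    exact hW x.2
  have h2 : Smooth (hQ ∣_ W) := by
    refine MorphismProperty.of_postcomp (W := @Smooth) (W' := MorphismProperty.monomorphisms _)
      (hQ ∣_ W) W.ι (inferInstanceAs (Mono W.ι)) ?_
    rw [morphismRestrict_ι]
    exact h1
  have h3 : Smooth (pullback.snd hQ W.ι) := by
    rw [← pullbackRestrictIsoRestrict_hom_morphismRestrict]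
    infer_instance
  have h4 := hpb.isoPullback_hom_snd
  rw [← h4]
  infer_instance

end

section

variable {R κ : Type u} [CommRing R] [Field κ] [Algebra R κ] (q : Ideal R) [q.IsPrime]
  [IsLocalization.AtPrime κ q]

include κ in
theorem algebraMap_eq_zero_iff_mem (x : R) : algebraMap R κ x = 0 ↔ x ∈ q := by
  have := IsLocalization.AtPrime.to_map_mem_maximal_iff κ q x
  rwa [IsLocalRing.maximalIdeal_eq_bot, Ideal.mem_bot] at this

include κ in
theorem mem_minimalPrimes_of_field : q ∈ minimalPrimes R := by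
  refine ⟨⟨inferInstance, bot_le⟩, fun p ⟨hp, _⟩ hpq x hx => ?_⟩
  have h0 := (algebraMap_eq_zero_iff_mem (κ := κ) q x).mpr hx
  rw [← map_zero (algebraMap R κ), IsLocalization.eq_iff_exists q.primeCompl] at h0
  obtain ⟨s, hs⟩ := h0
  rw [mul_zero] at hs
  have : (s : R) * x ∈ p := hs ▸ p.zero_mem
  exact (hp.mem_or_mem this).resolve_left (fun h => s.2 (hpq h))

variable {Y Yξ : Scheme.{u}} {ι : Yξ ⟶ Y} {gξ : Yξ ⟶ Spec (.of κ)} {g : Y ⟶ Spec (.of R)}
  (H : IsPullback ι gξ g (Spec.map (CommRingCat.ofHom (algebraMap R κ))))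

theorem specMap_apply_eq (x : Spec (.of κ)) :
    (Spec.map (CommRingCat.ofHom (algebraMap R κ))) x = ⟨q, inferInstance⟩ := by
  apply PrimeSpectrum.ext
  ext r
  change algebraMap R κ r ∈ x.asIdeal ↔ r ∈ q
  have hx : x.asIdeal = ⊥ := by
    have := x.2
    exact ((Ideal.eq_bot_or_top x.asIdeal).resolve_right this.ne_top)
  rw [hx, Ideal.mem_bot, algebraMap_eq_zero_iff_mem q]

include H in
theorem apply_ι_eq (x : Yξ) : g (ι x) = ⟨q, inferInstance⟩ := by
  rw [← Scheme.Hom.comp_apply, H.w, Scheme.Hom.comp_apply, specMap_apply_eq q]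

include H in
theorem exists_ι_eq_of_apply_eq (y : Y) (hy : g y = ⟨q, inferInstance⟩) : ∃ x : Yξ, ι x = y := by
  have hne : Nonempty (Spec (.of κ)) := ⟨⟨⊥, Ideal.isPrime_bot⟩⟩
  obtain ⟨z⟩ := hne
  obtain ⟨w, hw1, -⟩ := Scheme.Pullback.exists_preimage_pullback (f := g)
    (g := Spec.map (CommRingCat.ofHom (algebraMap R κ))) y z (by rw [hy, specMap_apply_eq q])
  refine ⟨H.isoPullback.inv w, ?_⟩
  rw [← Scheme.Hom.comp_apply, H.isoPullback_inv_fst]
  exact hw1

include q in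
theorem flat_specMap_localization : Flat (Spec.map (CommRingCat.ofHom (algebraMap R κ))) := by
  rw [HasRingHomProperty.Spec_iff (P := @Flat)]
  change (algebraMap R κ).Flat
  rw [RingHom.flat_algebraMap_iff]
  exact IsLocalization.flat κ q.primeCompl

end

section

variable {R κ : Type u} [CommRing R] [Field κ] [Algebra R κ] (q : Ideal R) [q.IsPrime]
  [IsLocalization.AtPrime κ q]
  {Y Yξ : Scheme.{u}} {ι : Yξ ⟶ Y} {gξ : Yξ ⟶ Spec (.of κ)} {g : Y ⟶ Spec (.of R)}
  (H : IsPullback ι gξ g (Spec.map (CommRingCat.ofHom (algebraMap R κ))))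

include H in
theorem isAffineHom_of_isPullback : IsAffineHom ι :=
  MorphismProperty.of_isPullback H.flip (inferInstance : IsAffineHom (Spec.map _))

theorem iSup_preimage_affineOpens (ι : Yξ ⟶ Y) [IsAffineHom ι] :
    ⨆ U : Y.affineOpens, ((⟨ι ⁻¹ᵁ U.1, U.2.preimage ι⟩ : Yξ.affineOpens) : Yξ.Opens) = ⊤ := by
  rw [eq_top_iff]
  intro x _
  have hx : ι x ∈ ⨆ V : Y.affineOpens, (V : Y.Opens) := iSup_affineOpens_eq_top Y ▸ trivial
  obtain ⟨V, hV⟩ := Opens.mem_iSup.mp hx
  exact Opens.mem_iSup.mpr ⟨V, hV⟩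

include q H in
/-- ideal sheaves on the generic fibre are restrictions of their push-forwards. -/
theorem comap_map_eq (K : Yξ.IdealSheafData) : (K.map ι).comap ι = K := by
  haveI := isAffineHom_of_isPullback H
  refine le_antisymm (comap_map_le K ι) ?_
  refine le_of_iSup_eq_top (fun U : Y.affineOpens => (⟨ι ⁻¹ᵁ U.1, U.2.preimage ι⟩ : Yξ.affineOpens))
    (iSup_preimage_affineOpens ι) (fun U => ?_)
  rw [Groth.Agent.Lib.Helper18.ideal_comap_of_le ι (K.map ι) ⟨ι ⁻¹ᵁ U.1, U.2.preimage ι⟩ U le_rfl,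
    ideal_map_of_isAffineHom, Scheme.Hom.appLE_eq_app]
  intro k hk
  obtain ⟨s, hs, m, hm⟩ := exists_app_eq_sec_mul q H U.1 U.2 k
  obtain ⟨u, hu⟩ := isUnit_app_sec q H U.1 hs
  have hk' : k = ↑u⁻¹ * (ι.app U.1).hom m := by
    rw [hm, ← hu, ← mul_assoc, Units.inv_mul, one_mul]
  rw [hk']
  refine Ideal.mul_mem_left _ _ (Ideal.mem_map_of_mem _ ?_)
  rw [Ideal.mem_comap, hm]
  exact Ideal.mul_mem_left _ _ hk

include q H in
/-- finite type ideal sheaves on the generic fibre extend to finite type ideal sheaves. -/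
theorem exists_ft_comap_eq [CompactSpace Y] [QuasiSeparatedSpace Y] (K : Yξ.IdealSheafData)
    (hK : ∀ O : Yξ.affineOpens, (K.ideal O).FG) :
    ∃ E : Y.IdealSheafData, (∀ O : Y.affineOpens, (E.ideal O).FG) ∧ E.comap ι = K := by
  classical
  haveI := isAffineHom_of_isPullback H
  obtain ⟨s, hsfin, hs⟩ := (isCompact_iff_finite_and_eq_biUnion_affineOpens
    (U := (⊤ : Y.Opens))).mp (by simpa using CompactSpace.isCompact_univ)
  haveI : Finite s := hsfin.to_subtype
  -- generators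
  have hgen : ∀ U : s, ∃ t : Finset Γ(Y, U.1.1), (↑t : Set Γ(Y, U.1.1)) ⊆ (K.map ι).ideal U.1 ∧
      K.ideal ⟨ι ⁻¹ᵁ U.1.1, U.1.2.preimage ι⟩ ≤ Ideal.span ((ι.app U.1.1).hom '' ↑t) := by
    intro U
    obtain ⟨t₀, ht₀⟩ := hK ⟨ι ⁻¹ᵁ U.1.1, U.1.2.preimage ι⟩
    have hmem : ∀ k ∈ t₀, ∃ m ∈ (K.map ι).ideal U.1, ∃ c, k = c * (ι.app U.1.1).hom m := by
      intro k hk
      have hkK : k ∈ K.ideal ⟨ι ⁻¹ᵁ U.1.1, U.1.2.preimage ι⟩ := ht₀ ▸ Ideal.subset_span hk
      obtain ⟨s, hs, m, hm⟩ := exists_app_eq_sec_mul q H U.1.1 U.1.2 k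
      obtain ⟨u, hu⟩ := isUnit_app_sec q H U.1.1 hs
      refine ⟨m, ?_, ↑u⁻¹, ?_⟩
      · rw [ideal_map_of_isAffineHom, Ideal.mem_comap, hm]
        exact Ideal.mul_mem_left _ _ hkK
      · rw [hm, ← hu, ← mul_assoc, Units.inv_mul, one_mul]
    choose! m hm c hc using hmem
    refine ⟨t₀.image m, ?_, ?_⟩
    · intro x hx
      simp only [Finset.coe_image, Set.mem_image] at hx
      obtain ⟨k, hk, rfl⟩ := hx
      exact hm k hk
    · rw [← ht₀, Ideal.span_le]
      intro k hk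
      rw [hc k hk]
      refine Ideal.mul_mem_left _ _ (Ideal.subset_span ⟨m k, ?_, rfl⟩)
      simp only [Finset.coe_image, Set.mem_image]
      exact ⟨k, hk, rfl⟩
  choose t ht1 ht2 using hgen
  -- the finite family of sections
  let Idx := Σ U : s, (t U : Set Γ(Y, U.1.1))
  obtain ⟨E, hEle, hEmem, hEfg⟩ :=
    Groth.Agent.Lib.Helper18.FTApprox.exists_le_ft_mem_family (K.map ι) (ι := Idx)
      (fun i => i.1.1) (fun i => i.2.1) (fun i => ht1 i.1 i.2.2)
  refine ⟨E, hEfg, le_antisymm ?_ ?_⟩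
  · exact (comap_mono ι hEle).trans (comap_map_le K ι)
  · have hcov : ⨆ U : s, ((⟨ι ⁻¹ᵁ U.1.1, U.1.2.preimage ι⟩ : Yξ.affineOpens) : Yξ.Opens) = ⊤ := by
      rw [eq_top_iff]
      intro x _
      have hx : ι x ∈ (⊤ : Y.Opens) := trivial
      rw [hs] at hx
      simp only [Opens.iSup_mk, Opens.carrier_eq_coe, Opens.mem_mk, Set.mem_iUnion] at hx
      obtain ⟨W, hWs, hxW⟩ := hx
      exact Opens.mem_iSup.mpr ⟨⟨W, hWs⟩, hxW⟩
    refine le_of_iSup_eq_top
      (fun U : s => (⟨ι ⁻¹ᵁ U.1.1, U.1.2.preimage ι⟩ : Yξ.affineOpens)) hcov (fun U => ?_)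
    rw [Groth.Agent.Lib.Helper18.ideal_comap_of_le ι E ⟨ι ⁻¹ᵁ U.1.1, U.1.2.preimage ι⟩ U.1 le_rfl,
      Scheme.Hom.appLE_eq_app]
    refine (ht2 U).trans ?_
    rw [Ideal.span_le]
    rintro _ ⟨m, hm, rfl⟩
    exact Ideal.mem_map_of_mem _ (hEmem ⟨U, ⟨m, hm⟩⟩)

end


section

variable {R κ : Type u} [CommRing R] [Field κ] [Algebra R κ] (q : Ideal R) [q.IsPrime]
  [IsLocalization.AtPrime κ q]
  {Y Yξ : Scheme.{u}} {ι : Yξ ⟶ Y} {gξ : Yξ ⟶ Spec (.of κ)} {g : Y ⟶ Spec (.of R)}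
  (H : IsPullback ι gξ g (Spec.map (CommRingCat.ofHom (algebraMap R κ))))

/-- the basic open of `Spec R` -/
abbrev D (r : R) : (Spec (.of R)).Opens := PrimeSpectrum.basicOpen r

theorem ChainFrom.fg {Y T : Scheme.{u}} {g : Y ⟶ T} {I : Y.IdealSheafData} (h : ChainFrom g I) :
    ∀ O : Y.affineOpens, (I.ideal O).FG := by
  cases h with
  | top => exact fun O => ⟨{1}, by simp⟩
  | cons _ _ _ hfg _ _ => exact hfg

include q H in
theorem exists_stratSmooth_restrict [LocallyOfFinitePresentation g] [QuasiCompact g]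
    (J J' : Y.IdealSheafData) (hJ : ∀ O : Y.affineOpens, (J.ideal O).FG)
    (hJ' : ∀ O : Y.affineOpens, (J'.ideal O).FG)
    (hs : StratSmooth gξ (J.comap ι) (J'.comap ι)) :
    ∃ r ∉ q, StratSmooth (g ∣_ D r) (J.comap (g ⁻¹ᵁ D r).ι) (J'.comap (g ⁻¹ᵁ D r).ι) := by
  have hfgc : ∀ O : (cmpl J' : Scheme.{u}).affineOpens, ((J.comap (cmpl J').ι).ideal O).FG :=
    Groth.Agent.Lib.Helper93.FiniteTypeIdeal.isFiniteTypeIdeal_comap J hJ _
  haveI : LocallyOfFinitePresentation (J.comap (cmpl J').ι).subschemeι :=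
    FS.lfp_subschemeι_of_fg _ hfgc
  haveI : QuasiCompact (cmpl J').ι := quasiCompact_cmpl_ι J' hJ'
  have hpb := isPullback_strat H J (cmpl J')
  rw [stratSmooth_iff, support_compl_comap, comap_comap_restrict] at hs
  set hQ := (J.comap (cmpl J').ι).subschemeι ≫ (cmpl J').ι ≫ g with hQdef
  haveI : LocallyOfFinitePresentation hQ := by rw [hQdef]; infer_instance
  haveI : QuasiCompact hQ := by rw [hQdef]; infer_instance
  have hfib : ∀ x, hQ x = ⟨q, inferInstance⟩ → x ∈ hQ.smoothLocus := by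
    intro x hx
    obtain ⟨x', rfl⟩ := exists_ι_eq_of_apply_eq q hpb x hx
    haveI := flat_specMap_localization (κ := κ) q
    refine Groth.Agent.Lib.Helper14.mem_smoothLocus_fst_of_isPullback hpb x'
      (Flat.stalkMap _ _) ?_
    rw [Scheme.Hom.smoothLocus_eq_top]
    trivial
  obtain ⟨r, hr, hrN⟩ := exists_basicOpen_disjoint hQ ⟨q, inferInstance⟩
    (mem_minimalPrimes_of_field (κ := κ) q) ((hQ.smoothLocus : Set _)ᶜ)
    hQ.smoothLocus.2.isClosed_compl (fun x hxN hx => hxN (hfib x hx))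
  refine ⟨r, hr, stratSmooth_restrict_of_le_smoothLocus g J J' (D r) ?_⟩
  intro x hx
  by_contra hns
  exact hrN x hns hx

include q H in
theorem exists_chainFrom_restrict [LocallyOfFinitePresentation g] [QuasiCompact g]
    [QuasiSeparated g] {K : Yξ.IdealSheafData} (hK : ChainFrom gξ K) :
    ∀ J : Y.IdealSheafData, (∀ O : Y.affineOpens, (J.ideal O).FG) → J.comap ι = K →
      ∃ r ∉ q, ChainFrom (g ∣_ D r) (J.comap (g ⁻¹ᵁ D r).ι) := by
  haveI : CompactSpace Y := QuasiCompact.compactSpace_of_compactSpace g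
  haveI : QuasiSeparatedSpace Y := quasiSeparatedSpace_of_quasiSeparated g
  induction hK with
  | top =>
    intro J hJ hJK
    obtain ⟨r, hr, hrN⟩ := exists_basicOpen_disjoint g ⟨q, inferInstance⟩
      (mem_minimalPrimes_of_field (κ := κ) q) (J.support : Set Y) J.support.isClosed
      (fun x hx hgx => by
        obtain ⟨x', rfl⟩ := exists_ι_eq_of_apply_eq q H x hgx
        have h1 : x' ∈ (J.comap ι).support := by
          rw [support_comap]; exact hx
        rw [hJK, support_top] at h1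
        exact h1)
    refine ⟨r, hr, ?_⟩
    have : J.comap (g ⁻¹ᵁ D r).ι = ⊤ := by
      rw [← support_eq_bot_iff, support_comap]
      ext x
      simp only [Closeds.coe_preimage, Set.mem_preimage, SetLike.mem_coe, Closeds.coe_bot,
        Set.mem_empty_iff_false, iff_false]
      intro hx
      exact hrN _ hx x.2
    rw [this]
    exact .top
  | cons K K' hle hfg hs hK' ih =>
    intro J hJ hJK
    obtain ⟨E', hE'fg, hE'⟩ := exists_ft_comap_eq q H K' hK'.fg
    have hJ'fg : ∀ O : Y.affineOpens, ((E' ⊔ J).ideal O).FG := fun O =>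
      Submodule.FG.sup (hE'fg O) (hJ O)
    have hJ'K : (E' ⊔ J).comap ι = K' := by
      rw [comap_sup, hE', hJK]
      exact sup_eq_left.mpr hle
    obtain ⟨r', hr', hc'⟩ := ih (E' ⊔ J) hJ'fg hJ'K
    obtain ⟨r'', hr'', hs''⟩ := exists_stratSmooth_restrict q H J (E' ⊔ J) hJ hJ'fg
      (by rw [hJK, hJ'K]; exact hs)
    have hle' : D (r' * r'') ≤ D r' := by
      rw [D, PrimeSpectrum.basicOpen_mul]; exact inf_le_left
    have hle'' : D (r' * r'') ≤ D r'' := by
      rw [D, PrimeSpectrum.basicOpen_mul]; exact inf_le_right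
    refine ⟨r' * r'', fun h => (Ideal.IsPrime.mem_or_mem inferInstance h).elim hr' hr'', ?_⟩
    exact .cons _ _ (comap_mono _ le_sup_right)
      (Groth.Agent.Lib.Helper93.FiniteTypeIdeal.isFiniteTypeIdeal_comap J hJ _)
      (hs''.restrict_le hle'') (hc'.restrict_le hle')

include q H in
/-- **Spreading out**: a smoothness stratification of the generic fibre extends over a basic
open neighbourhood of the generic point. -/
theorem exists_smoothStrat_restrict [LocallyOfFinitePresentation g] [QuasiCompact g]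
    [QuasiSeparated g] (hS : SmoothStrat gξ) : ∃ r ∉ q, SmoothStrat (g ∣_ D r) := by
  haveI : CompactSpace Y := QuasiCompact.compactSpace_of_compactSpace g
  haveI : QuasiSeparatedSpace Y := quasiSeparatedSpace_of_quasiSeparated g
  obtain ⟨K, hKsupp, hK⟩ := hS.exists_chainFrom
  obtain ⟨E, hEfg, hE⟩ := exists_ft_comap_eq q H K hK.fg
  obtain ⟨r₁, hr₁, hc⟩ := exists_chainFrom_restrict q H hK E hEfg hE
  haveI : QuasiCompact (cmpl E).ι := quasiCompact_cmpl_ι E hEfg
  obtain ⟨r₂, hr₂, hrN⟩ := exists_basicOpen_disjoint ((cmpl E).ι ≫ g) ⟨q, inferInstance⟩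
    (mem_minimalPrimes_of_field (κ := κ) q) Set.univ isClosed_univ (fun x _ hgx => by
      rw [Scheme.Hom.comp_apply] at hgx
      obtain ⟨x', hx'⟩ := exists_ι_eq_of_apply_eq q H _ hgx
      have h1 : x' ∈ (E.comap ι).support := by
        rw [hE, ← SetLike.mem_coe, hKsupp]; trivial
      rw [support_comap] at h1
      have h2 : ι x' ∈ E.support := h1
      rw [hx'] at h2
      exact x.2 h2)
  have hle₁ : D (r₁ * r₂) ≤ D r₁ := by
    rw [D, PrimeSpectrum.basicOpen_mul]; exact inf_le_left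
  have hle₂ : D (r₁ * r₂) ≤ D r₂ := by
    rw [D, PrimeSpectrum.basicOpen_mul]; exact inf_le_right
  refine ⟨r₁ * r₂, fun h => (Ideal.IsPrime.mem_or_mem inferInstance h).elim hr₁ hr₂,
    (hc.restrict_le hle₁).smoothStrat ?_⟩
  rw [support_comap]
  ext x
  simp only [Closeds.coe_preimage, Set.mem_preimage, SetLike.mem_coe, Set.mem_univ, iff_true]
  by_contra hx
  have := hrN ⟨_, hx⟩ trivial
  rw [Scheme.Hom.comp_apply] at this
  exact this (hle₂ x.2)

end

end Groth.Agent.Lib.Helper37.SmStrat
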