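import Mathlib
import Groth.Agent.Lib.Helper37.SmStratSpread
import Groth.Agent.Lib.Helper37.SmStratField
import Groth.Agent.Lib.Helper37.SmStratFin
import Groth.Agent.Lib.Helper50.RedBC

/-!
# Smoothness stratification near a generic point (helper37)
-/

set_option autoImplicit false
set_option linter.style.haveILetI false
set_option backward.isDefEq.respectTransparency false
universe u
open CategoryTheory Limits AlgebraicGeometry TopologicalSpace

namespace Groth.Agent.Lib.Helper37.SmStrat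

open Scheme IdealSheafData

/-- a stratification over an open `W` of the base passes to any base change landing in `W`. -/
theorem SmoothStrat.of_restrict {Y T Y' T' : Scheme.{u}} {g₀ : Y ⟶ T} (W : T.Opens)
    (hS : SmoothStrat (g₀ ∣_ W)) {h' : Y' ⟶ Y} {g' : Y' ⟶ T'} {b' : T' ⟶ T}
    (H : IsPullback h' g' g₀ b') (hb : ∀ x, b' x ∈ W) : SmoothStrat g' := by
  have hb' : Set.range b' ⊆ Set.range W.ι := by
    rintro _ ⟨x, rfl⟩
    rw [Scheme.Opens.range_ι]
    exact hb x
  have hh' : Set.range h' ⊆ Set.range (g₀ ⁻¹ᵁ W).ι := by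
    rintro _ ⟨y, rfl⟩
    rw [Scheme.Opens.range_ι]
    change g₀ (h' y) ∈ W
    rw [← Scheme.Hom.comp_apply, H.w, Scheme.Hom.comp_apply]
    exact hb _
  let b'' : T' ⟶ W := IsOpenImmersion.lift W.ι b' hb'
  let h'' : Y' ⟶ g₀ ⁻¹ᵁ W := IsOpenImmersion.lift (g₀ ⁻¹ᵁ W).ι h' hh'
  have hb'' : b'' ≫ W.ι = b' := IsOpenImmersion.lift_fac _ _ _
  have hh'' : h'' ≫ (g₀ ⁻¹ᵁ W).ι = h' := IsOpenImmersion.lift_fac _ _ _
  have hcomm : h'' ≫ (g₀ ∣_ W) = g' ≫ b'' := by
    rw [← cancel_mono W.ι, Category.assoc, Category.assoc, morphismRestrict_ι, reassoc_of% hh'',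
      hb'', H.w]
  have big : IsPullback (h'' ≫ (g₀ ⁻¹ᵁ W).ι) g' g₀ (b'' ≫ W.ι) := by
    rw [hh'', hb'']
    exact H
  exact hS.baseChange (IsPullback.of_right big hcomm (isPullback_morphismRestrict g₀ W).flip)

/-- **Affine core** of the smoothness stratification near a generic point. -/
theorem exists_smoothStrat_affine {X S : Scheme.{u}} (f : X ⟶ S) [LocallyOfFinitePresentation f]
    [QuasiCompact f] [QuasiSeparated f] {A K : Type u} [CommRing A] [Field K]
    [Algebra A K] (𝔭 : Ideal A) [𝔭.IsPrime] [IsLocalization.AtPrime K 𝔭]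
    (q : ℕ) [ExpChar A q] [ExpChar K q] (j : Spec (.of A) ⟶ S) :
    ∃ (B : Type u) (_ : CommRing B) (_ : Algebra A B) (a : A), a ∉ 𝔭 ∧
      Module.Finite A B ∧ Module.Free A B ∧ Function.Injective (algebraMap A B) ∧
      Radicial q A B ∧
      ∃ r : B, D (algebraMap A B a) ≤ D r ∧
        SmoothStrat
          ((pullback.snd f (Spec.map (CommRingCat.ofHom (algebraMap A B)) ≫ j)) ∣_ D r) := by
  -- the generic fibre
  let m : Spec (.of K) ⟶ S := Spec.map (CommRingCat.ofHom (algebraMap A K)) ≫ j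
  obtain ⟨K', _, _, _, _, Y', fst', snd', hpb, hS⟩ := exists_smoothStrat_field K (pullback.snd f m)
  letI algAK' : Algebra A K' := ((algebraMap K K').comp (algebraMap A K)).toAlgebra
  haveI hst : IsScalarTower A K K' := IsScalarTower.of_algebraMap_eq (fun _ => rfl)
  obtain ⟨B, _, _, _, _, hfin, hfree, hinj, hrad, hloc⟩ :=
    exists_finite_free_radicial (K := K) (K' := K') q 𝔭
  haveI := RingHom.ker_isPrime (algebraMap B K')
  let w : Spec (.of B) ⟶ S := Spec.map (CommRingCat.ofHom (algebraMap A B)) ≫ j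
  have hcomp : Spec.map (CommRingCat.ofHom (algebraMap K K')) ≫ m =
      Spec.map (CommRingCat.ofHom (algebraMap B K')) ≫ w := by
    simp only [m, w, ← Category.assoc, ← Spec.map_comp, ← CommRingCat.ofHom_comp]
    rw [← IsScalarTower.algebraMap_eq A K K', ← IsScalarTower.algebraMap_eq A B K']
  have big : IsPullback (fst' ≫ pullback.fst f m) snd' f
      (Spec.map (CommRingCat.ofHom (algebraMap K K')) ≫ m) :=
    hpb.paste_horiz (IsPullback.of_hasPullback f m)
  let ι : Y' ⟶ pullback f w := pullback.lift (fst' ≫ pullback.fst f m)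
    (snd' ≫ Spec.map (CommRingCat.ofHom (algebraMap B K'))) (by
      rw [Category.assoc snd', ← hcomp]; exact big.w)
  have big' : IsPullback (ι ≫ pullback.fst f w) snd' f
      (Spec.map (CommRingCat.ofHom (algebraMap B K')) ≫ w) := by
    rw [pullback.lift_fst, ← hcomp]
    exact big
  have H : IsPullback ι snd' (pullback.snd f w)
      (Spec.map (CommRingCat.ofHom (algebraMap B K'))) :=
    IsPullback.of_right big' (pullback.lift_snd _ _ _) (IsPullback.of_hasPullback f w)
  obtain ⟨r, hr, hSr⟩ := exists_smoothStrat_restrict (RingHom.ker (algebraMap B K')) H hS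
  obtain ⟨k, a, ha⟩ := hrad r
  refine ⟨B, inferInstance, inferInstance, a, ?_, hfin, hfree, hinj, hrad, r, ?_, hSr⟩
  · intro ha𝔭
    apply hr
    rw [RingHom.mem_ker]
    have h0 : algebraMap A K a = 0 := (algebraMap_eq_zero_iff_mem (κ := K) 𝔭 a).mpr ha𝔭
    have h1 : algebraMap B K' (algebraMap A B a) = 0 := by
      rw [← IsScalarTower.algebraMap_apply A B K', IsScalarTower.algebraMap_apply A K K', h0,
        map_zero]
    rw [ha, map_pow] at h1
    exact pow_eq_zero_iff (pow_pos (expChar_pos K q) k).ne' |>.mp h1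
  · intro x hx
    change algebraMap A B a ∉ x.asIdeal at hx
    change r ∉ x.asIdeal
    intro hrx
    apply hx
    rw [ha]
    exact Ideal.pow_mem_of_mem _ hrx _ (pow_pos (expChar_pos K q) k)

theorem exists_affineOpen_expChar {S : Scheme.{u}} (η : S) (q : ℕ)
    [Nontrivial (S.presheaf.stalk η)] [hK : ExpChar (S.presheaf.stalk η) q] :
    ∃ U : S.Opens, IsAffineOpen U ∧ ∃ _ : η ∈ U, ExpChar Γ(S, U) q := by
  cases hK with
  | zero =>
    obtain ⟨_, ⟨U, hU, rfl⟩, hηU, -⟩ :=
      S.isBasis_affineOpens.exists_subset_of_mem_open (Set.mem_univ η) isOpen_univ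
    refine ⟨U, hU, hηU, ?_⟩
    haveI : CharZero Γ(S, U) := (S.presheaf.germ U η hηU).hom.charZero
    exact ExpChar.zero
  | prime hq =>
    have hη : η ∈ (⊤ : S.Opens) := trivial
    have hgerm : S.presheaf.germ ⊤ η hη (q : Γ(S, ⊤)) = S.presheaf.germ ⊤ η hη 0 := by
      rw [map_natCast, map_zero]
      exact CharP.cast_eq_zero _ q
    obtain ⟨W, hηW, iU, iV, hW⟩ := TopCat.Presheaf.germ_eq S.presheaf η hη hη _ _ hgerm
    rw [map_natCast, map_zero] at hW
    obtain ⟨_, ⟨U, hU, rfl⟩, hηU, hUW⟩ :=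
      S.isBasis_affineOpens.exists_subset_of_mem_open hηW W.2
    refine ⟨U, hU, hηU, ?_⟩
    have hqU : (q : Γ(S, U)) = 0 := by
      have := congrArg (S.presheaf.map (homOfLE hUW).op) hW
      rwa [map_natCast, map_zero] at this
    haveI : Nontrivial Γ(S, U) := (S.presheaf.germ U η hηU).hom.domain_nontrivial
    haveI : CharP Γ(S, U) q := by
      have hr := CharP.ringChar_of_prime_eq_zero hq hqU
      exact hr ▸ ringChar.charP _
    exact ExpChar.prime hq

/-- base change of a pullback along a further morphism. -/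
theorem smoothStrat_pullback_snd_of_eq {X S V V' : Scheme.{u}} (f : X ⟶ S) (w : V ⟶ S)
    (W : V.Opens) (hS : SmoothStrat ((pullback.snd f w) ∣_ W)) (b' : V' ⟶ V)
    (hb : ∀ x, b' x ∈ W) (m : V' ⟶ S) (hm : m = b' ≫ w) : SmoothStrat (pullback.snd f m) := by
  subst hm
  let h : pullback f (b' ≫ w) ⟶ pullback f w :=
    pullback.lift (pullback.fst f (b' ≫ w)) (pullback.snd f (b' ≫ w) ≫ b')
      (by rw [Category.assoc]; exact pullback.condition)
  have big : IsPullback (h ≫ pullback.fst f w) (pullback.snd f (b' ≫ w)) f (b' ≫ w) := by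
    rw [pullback.lift_fst]
    exact IsPullback.of_hasPullback f (b' ≫ w)
  have H : IsPullback h (pullback.snd f (b' ≫ w)) (pullback.snd f w) b' :=
    IsPullback.of_right big (pullback.lift_snd _ _ _) (IsPullback.of_hasPullback f w)
  exact SmoothStrat.of_restrict W hS H hb

/-- **Smoothness stratification near a generic point.** -/
theorem exists_smoothStrat_near_generic {X S : Scheme.{u}} (f : X ⟶ S)
    [LocallyOfFinitePresentation f] [QuasiCompact f] [QuasiSeparated f] [IsReduced S]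
    (η : S) (hgen : ∀ y : S, y ⤳ η → y = η) :
    ∃ (U : S.Opens) (V : Scheme.{u}) (v : V ⟶ (U : Scheme.{u})), η ∈ U ∧ Surjective v ∧
      UniversallyInjective v ∧ IsFinite v ∧ Flat v ∧ LocallyOfFinitePresentation v ∧
      SmoothStrat (pullback.snd f (v ≫ U.ι)) := by
  haveI := Groth.Agent.Lib.Helper50.subsingleton_primeSpectrum_stalk η hgen
  have hfield : IsField (S.presheaf.stalk η) :=
    PrimeSpectrum.subsingleton_iff_isField_of_isReduced.mp inferInstance
  letI : Field (S.presheaf.stalk η) := hfield.toField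
  obtain ⟨q, hq⟩ := ExpChar.exists (S.presheaf.stalk η)
  obtain ⟨U, hU, hηU, hqU⟩ := exists_affineOpen_expChar η q
  letI := S.presheaf.algebra_section_stalk ⟨η, hηU⟩
  haveI := hU.isLocalization_stalk ⟨η, hηU⟩
  obtain ⟨B, _, _, a, ha, hfin, hfree, hinj, hrad, r, hDr, hSr⟩ :=
    exists_smoothStrat_affine f (A := Γ(S, U)) (K := S.presheaf.stalk η)
      (hU.primeIdealOf ⟨η, hηU⟩).asIdeal q hU.fromSpec
  let v₀ : Spec (.of B) ⟶ Spec Γ(S, U) := Spec.map (CommRingCat.ofHom (algebraMap Γ(S, U) B))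
  let Da : (Spec Γ(S, U)).Opens := D (R := Γ(S, U)) a
  let v : (v₀ ⁻¹ᵁ Da).toScheme ⟶ (hU.fromSpec ''ᵁ Da).toScheme :=
    (v₀ ∣_ Da) ≫ (hU.fromSpec.isoImage Da).hom
  haveI : Module.FinitePresentation Γ(S, U) B := Module.finitePresentation_of_projective _ _
  haveI : Surjective v₀ := surjective_specMap_algebraMap hinj
  haveI : UniversallyInjective v₀ := universallyInjective_specMap_of_radicial q hrad
  haveI : IsFinite v₀ := isFinite_specMap_algebraMap
  haveI : Flat v₀ := flat_specMap_algebraMap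
  haveI : LocallyOfFinitePresentation v₀ := lfp_specMap_algebraMap
  haveI : Surjective (v₀ ∣_ Da) := IsZariskiLocalAtTarget.restrict ‹_› _
  haveI : UniversallyInjective (v₀ ∣_ Da) := IsZariskiLocalAtTarget.restrict ‹_› _
  haveI : IsFinite (v₀ ∣_ Da) := IsZariskiLocalAtTarget.restrict ‹_› _
  haveI : Flat (v₀ ∣_ Da) := IsZariskiLocalAtTarget.restrict ‹_› _
  haveI : LocallyOfFinitePresentation (v₀ ∣_ Da) := IsZariskiLocalAtTarget.restrict ‹_› _
  haveI : UniversallyInjective v :=
    MorphismProperty.comp_mem _ _ _ ‹UniversallyInjective (v₀ ∣_ Da)› inferInstance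
  refine ⟨hU.fromSpec ''ᵁ Da, _, v, ?_, inferInstance, inferInstance, inferInstance, inferInstance,
    inferInstance, ?_⟩
  · exact ⟨hU.primeIdealOf ⟨η, hηU⟩, ha, hU.fromSpec_primeIdealOf ⟨η, hηU⟩⟩
  · refine smoothStrat_pullback_snd_of_eq f (v₀ ≫ hU.fromSpec) (D r) hSr (v₀ ⁻¹ᵁ Da).ι ?_
      (v ≫ (hU.fromSpec ''ᵁ Da).ι) ?_
    · intro x
      apply hDr
      exact x.2
    · rw [Category.assoc, Scheme.Hom.isoImage_hom_ι, morphismRestrict_ι_assoc]

end Groth.Agent.Lib.Helper37.SmStrat
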