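import Mathlib
import Groth.Agent.Lib.Helper37.SmStratBase
import Groth.Agent.Lib.Helper37.SmStratMain

set_option autoImplicit false
set_option linter.style.haveILetI false
set_option backward.isDefEq.respectTransparency false
universe u
open CategoryTheory Limits AlgebraicGeometry TopologicalSpace

namespace Groth.Agent.Lib.Helper37.SmStrat

open Scheme IdealSheafData

variable {X S : Scheme.{u}}

/-- `pullback f (m ≫ ι)` versus the iterated pullback. -/
theorem smoothStrat_of_pullback_pullback (f : X ⟶ S) {Z T : Scheme.{u}} (ι : Z ⟶ S) (m : T ⟶ Z)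
    (hS : SmoothStrat (pullback.snd (pullback.snd f ι) m)) :
    SmoothStrat (pullback.snd f (m ≫ ι)) := by
  obtain ⟨h'', H''⟩ := exists_isPullback_snd (IsPullback.of_hasPullback f ι) (m ≫ ι) m (𝟙 T)
    (by simp)
  haveI : IsIso h'' := H''.isIso_fst_of_isIso
  have H : IsPullback (inv h'') (pullback.snd f (m ≫ ι)) (pullback.snd (pullback.snd f ι) m)
      (𝟙 T) := IsPullback.of_horiz_isIso ⟨by
        rw [IsIso.inv_comp_eq, Category.comp_id]
        simpa using H''.w.symm⟩
  exact hS.baseChange H

theorem baseChain_step [IsNoetherian S] (f : X ⟶ S) [LocallyOfFinitePresentation f]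
    [QuasiCompact f] [QuasiSeparated f] (Z : Closeds S)
    (ih : ∀ Z' : Closeds S, Z' < Z → BaseChain f (vanishingIdeal Z')) :
    BaseChain f (vanishingIdeal Z) := by
  by_cases hZ : Z = ⊥
  · rw [hZ, vanishingIdeal_bot]; exact .top
  set I := vanishingIdeal Z with hI
  have hIsupp : (I.support : Set S) = Z := coe_support_vanishingIdeal Z
  have hIrad : I = I.radical := by
    rw [← vanishingIdeal_support]
    congr 1
  haveI : IsReduced I.subscheme := by
    rw [hIrad]; exact Groth.Agent.Lib.Helper50.isReduced_subscheme_radical' I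
  -- a generic point of the reduced closed subscheme
  obtain ⟨z₀, hz₀⟩ : ∃ z₀ : S, z₀ ∈ (Z : Set S) := by
    by_contra hne
    push Not at hne
    exact hZ (Closeds.ext (Set.eq_empty_of_forall_notMem hne))
  obtain ⟨y₀, hy₀⟩ : ∃ y₀ : I.subscheme, I.subschemeι y₀ = z₀ := by
    have : z₀ ∈ Set.range I.subschemeι := by rw [range_subschemeι, hIsupp]; exact hz₀
    exact this
  have hW : irreducibleComponent y₀ ∈ irreducibleComponents I.subscheme :=
    irreducibleComponent_mem_irreducibleComponents y₀
  obtain ⟨η, hη⟩ := QuasiSober.sober hW.1 isClosed_irreducibleComponent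
  have hgen : ∀ y : I.subscheme, y ⤳ η → y = η := fun y hy =>
    Groth.Agent.Lib.Helper50.eq_of_specializes_of_closure_mem_irreducibleComponents
      (by rw [hη.def]; exact hW) y hy
  obtain ⟨U, V, v, hηU, h1, h2, h3, h4, h5, hS⟩ :=
    exists_smoothStrat_near_generic (pullback.snd f I.subschemeι) η hgen
  -- the smaller closed subset
  let Z' : Closeds S := ⟨I.subschemeι '' (U : Set I.subscheme)ᶜ,
    I.subschemeι.isClosedEmbedding.isClosedMap _ U.2.isClosed_compl⟩
  have hZ'le : Z' ≤ Z := by
    rintro _ ⟨y, -, rfl⟩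
    change I.subschemeι y ∈ (Z : Set S)
    rw [← hIsupp, ← range_subschemeι]
    exact ⟨y, rfl⟩
  have hZ'lt : Z' < Z := by
    refine lt_of_le_of_ne hZ'le (fun heq => ?_)
    have hmem : I.subschemeι η ∈ (Z' : Set S) := by
      rw [heq, ← hIsupp, ← range_subschemeι]
      exact ⟨η, rfl⟩
    obtain ⟨y, hy, hyη⟩ := hmem
    exact hy (I.subschemeι.isClosedEmbedding.injective hyη ▸ hηU)
  have hc := ih Z' hZ'lt
  refine .cons I (vanishingIdeal Z') (vanishingIdeal_antimono hZ'le)
    (fun O => fg_of_isLocallyNoetherian I O) ?_ hc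
  refine stratumOK_of f I _ U ?_ V v (smoothStrat_of_pullback_pullback f I.subschemeι _ hS)
  ext y
  have hsupp : ((vanishingIdeal Z').support : Set S) = Z' := coe_support_vanishingIdeal Z'
  change y ∈ (U : Set I.subscheme) ↔ I.subschemeι y ∉ ((vanishingIdeal Z').support : Set S)
  rw [hsupp]
  constructor
  · rintro hy ⟨y', hy', hyy'⟩
    exact hy' (I.subschemeι.isClosedEmbedding.injective hyy' ▸ hy)
  · intro hy
    by_contra hyU
    exact hy ⟨y, hyU, rfl⟩

theorem baseChain_of_isNoetherian [IsNoetherian S] (f : X ⟶ S) [LocallyOfFinitePresentation f]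
    [QuasiCompact f] [QuasiSeparated f] :
    ∃ I : S.IdealSheafData, (I.support : Set S) = Set.univ ∧ BaseChain f I := by
  refine ⟨vanishingIdeal ⊤, coe_support_vanishingIdeal ⊤, ?_⟩
  exact WellFoundedLT.induction (motive := fun Z => BaseChain f (vanishingIdeal Z)) ⊤
    (fun Z ih => baseChain_step f Z ih)

end Groth.Agent.Lib.Helper37.SmStrat
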