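import Mathlib
import Groth.Agent.S0590
import Groth.Agent.S0591
import Groth.Agent.Lib.Helper37.SmStratNoeth

set_option autoImplicit false
set_option linter.style.haveILetI false
set_option backward.isDefEq.respectTransparency false
universe u
open CategoryTheory Limits AlgebraicGeometry TopologicalSpace

namespace Groth.Agent.Lib.Helper37.SmStrat

open Scheme IdealSheafData

variable {X S : Scheme.{u}}

theorem isNoetherian_of_lft' {T : Scheme.{u}} [CompactSpace T]
    (h : LocallyOfFiniteType (Limits.IsTerminal.from specULiftZIsTerminal T)) :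
    IsNoetherian T := by
  haveI := h
  haveI : IsNoetherianRing (ULift.{u} ℤ) := isNoetherianRing_of_ringEquiv ℤ ULift.ringEquiv.symm
  haveI : IsLocallyNoetherian T :=
    LocallyOfFiniteType.isLocallyNoetherian (Limits.IsTerminal.from specULiftZIsTerminal T)
  exact {}

/-- **Smoothness stratification of the base**, chain form. -/
theorem exists_baseChain (f : X ⟶ S) [LocallyOfFinitePresentation f] [QuasiCompact f]
    [QuasiSeparated f] [CompactSpace S] [QuasiSeparatedSpace S] :
    ∃ I : S.IdealSheafData, (I.support : Set S) = Set.univ ∧ BaseChain f I := by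
  obtain ⟨J, _, _, _, D, c, hc, haff, hD, ⟨e⟩⟩ := Groth.Agent.S0590.result S
  haveI : ∀ (i j : Jᵒᵖ) (f : i ⟶ j), IsAffineHom (D.map f) := haff
  haveI : ∀ i, CompactSpace (D.obj i) := fun i => (hD i).1
  haveI : ∀ i, IsNoetherian (D.obj i) := fun i => isNoetherian_of_lft' (hD i).2
  haveI : ∀ i, QuasiSeparatedSpace (D.obj i) := fun i => inferInstance
  obtain ⟨i, Xi, fi, g, h1, h2, h3, hpb⟩ := Groth.Agent.S0591.result D c hc X (f ≫ e.inv)
  obtain ⟨I, hI, hchain⟩ := baseChain_of_isNoetherian fi
  have top : IsPullback (𝟙 X) f (f ≫ e.inv) e.inv := IsPullback.of_horiz_isIso ⟨by simp⟩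
  have H : IsPullback g f fi (e.inv ≫ c.π.app i) := by
    have := top.paste_horiz hpb
    rwa [Category.id_comp] at this
  refine ⟨I.comap (e.inv ≫ c.π.app i), ?_, hchain.baseChange H⟩
  rw [support_comap]
  simp [hI]

end Groth.Agent.Lib.Helper37.SmStrat
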