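import Mathlib.Topology.Spectral.Basic
import Mathlib.Topology.Spectral.Hom
import Mathlib.Topology.Spectral.ConstructibleTopology
import Mathlib.Topology.Constructible
import Mathlib.Topology.Homeomorph.Lemmas

/-!
# Helper library on spectral spaces and the constructible topology (helper37)
-/

set_option autoImplicit false

namespace Groth.Agent.Lib.Helper37

open Topology TopologicalSpace Set

section Basic

variable {X : Type*} [τ : TopologicalSpace X]

/-- The constructible topology of a prespectral space is finer than the given topology. -/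
theorem constructibleTopology_le [PrespectralSpace X] : constructibleTopology X ≤ τ := by
  intro s hs
  rw [PrespectralSpace.isTopologicalBasis.isOpen_iff] at hs
  refine @isOpen_iff_forall_mem_open X (constructibleTopology X) s |>.mpr ?_
  intro x hx
  obtain ⟨t, ⟨hto, htc⟩, hxt, hts⟩ := hs x hx
  exact ⟨t, hts, htc.isOpen_constructibleTopology_of_isOpen hto, hxt⟩

theorem isOpen_constructibleTopology_of_isOpen [PrespectralSpace X] {s : Set X} (hs : IsOpen s) :
    IsOpen[constructibleTopology X] s :=
  constructibleTopology_le s hs

theorem isClosed_constructibleTopology_of_isClosed [PrespectralSpace X] {s : Set X}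
    (hs : IsClosed s) : IsClosed[constructibleTopology X] s := by
  rw [← @isOpen_compl_iff X s (constructibleTopology X)]
  exact isOpen_constructibleTopology_of_isOpen hs.isOpen_compl

theorem isClosed_constructibleTopology_of_isCompact_isOpen {s : Set X}
    (hc : IsCompact s) (ho : IsOpen s) : IsClosed[constructibleTopology X] s := by
  rw [← @isOpen_compl_iff X s (constructibleTopology X)]
  exact IsCompact.isOpen_constructibleTopology_of_isClosed (by simpa using hc) ho.isClosed_compl

theorem isClopen_constructibleTopology_of_isCompact_isOpen {s : Set X}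
    (hc : IsCompact s) (ho : IsOpen s) : @IsClopen X (constructibleTopology X) s :=
  ⟨isClosed_constructibleTopology_of_isCompact_isOpen hc ho,
    hc.isOpen_constructibleTopology_of_isOpen ho⟩

/-- The constructible topology on a T0 prespectral space is Hausdorff. -/
theorem t2Space_constructibleTopology [T0Space X] [PrespectralSpace X] :
    @T2Space X (constructibleTopology X) := by
  refine @T2Space.mk X (constructibleTopology X) ?_
  intro x y hxy
  obtain ⟨U, hU, hxU⟩ := exists_isOpen_xor_mem hxy
  rcases hxU with ⟨hx, hy⟩ | ⟨hy, hx⟩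
  · obtain ⟨V, ⟨hVo, hVc⟩, hxV, hVU⟩ :=
      PrespectralSpace.isTopologicalBasis.exists_subset_of_mem_open hx hU
    have := isClopen_constructibleTopology_of_isCompact_isOpen hVc hVo
    exact ⟨V, Vᶜ, this.2, (@isOpen_compl_iff X V (constructibleTopology X)).mpr this.1,
      hxV, fun h => hy (hVU h), disjoint_compl_right⟩
  · obtain ⟨V, ⟨hVo, hVc⟩, hyV, hVU⟩ :=
      PrespectralSpace.isTopologicalBasis.exists_subset_of_mem_open hy hU
    have := isClopen_constructibleTopology_of_isCompact_isOpen hVc hVo
    exact ⟨Vᶜ, V, (@isOpen_compl_iff X V (constructibleTopology X)).mpr this.1, this.2,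
      fun h => hx (hVU h), hyV, disjoint_compl_left⟩

/-- The constructible topology of a spectral space is compact. -/
theorem compactSpace_constructibleTopology [CompactSpace X] [QuasiSober X]
    [PrespectralSpace X] [QuasiSeparatedSpace X] : @CompactSpace X (constructibleTopology X) :=
  @Function.Surjective.compactSpace (WithConstructibleTopology X) X _ (constructibleTopology X)
      WithTopology.ofTopology (WithTopology.continuous_ofTopology _) inferInstance
      (WithTopology.ofTopology_surjective _)

/-- A constructibly closed subset of a spectral space is compact for the constructible topology. -/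
theorem isCompact_constructibleTopology_of_isClosed [CompactSpace X] [QuasiSober X]
    [PrespectralSpace X] [QuasiSeparatedSpace X] {E : Set X}
    (hE : IsClosed[constructibleTopology X] E) : @IsCompact X (constructibleTopology X) E :=
  @IsClosed.isCompact X (constructibleTopology X) E compactSpace_constructibleTopology hE

/-- Compactness for a finer topology implies compactness. -/
theorem isCompact_of_le {τ' : TopologicalSpace X} (h : τ' ≤ τ) {E : Set X}
    (hE : @IsCompact X τ' E) : @IsCompact X τ E := by
  have hc : @Continuous X X τ' τ id := continuous_id_of_le h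
  have := @IsCompact.image X X τ' τ E id hE hc
  rwa [image_id] at this

/-- A constructibly closed subset of a spectral space is compact. -/
theorem isCompact_of_isClosed_constructibleTopology [CompactSpace X] [QuasiSober X]
    [PrespectralSpace X] [QuasiSeparatedSpace X] {E : Set X}
    (hE : IsClosed[constructibleTopology X] E) : @IsCompact X τ E :=
  isCompact_of_le constructibleTopology_le (isCompact_constructibleTopology_of_isClosed hE)

theorem isOpen_preimage_ofTopology {t : TopologicalSpace X} {U : Set X} :
    IsOpen (WithTopology.ofTopology ⁻¹' U : Set (WithTopology X t)) ↔ IsOpen[t] U :=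
  WithTopology.isOpen_iff t

theorem isClosed_preimage_ofTopology {t : TopologicalSpace X} {U : Set X} :
    IsClosed (WithTopology.ofTopology ⁻¹' U : Set (WithTopology X t)) ↔ IsClosed[t] U :=
  WithTopology.isClosed_iff t

theorem isClopen_preimage_ofTopology {t : TopologicalSpace X} {U : Set X} :
    IsClopen (WithTopology.ofTopology ⁻¹' U : Set (WithTopology X t)) ↔ @IsClopen X t U :=
  and_congr isClosed_preimage_ofTopology isOpen_preimage_ofTopology

end Basic

section Patch

variable {X : Type*} [τ : TopologicalSpace X]

/-- **Hochster's patch criterion.** Let `X` be a T0 space whose topology is generated by a family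
`𝔅` of sets, and suppose there is a compact space `Y` with a surjection `e : Y → X` for which the
preimages of all members of `𝔅` are clopen. Then `X` is spectral, and `e` is a quotient map
to `X` with the constructible topology. -/
theorem spectralSpace_of_patch [T0Space X] (𝔅 : Set (Set X)) (hgen : τ = generateFrom 𝔅)
    {Y : Type*} [TopologicalSpace Y] [CompactSpace Y] (e : Y → X) (he : Function.Surjective e)
    (hclopen : ∀ B ∈ 𝔅, IsClopen (e ⁻¹' B)) :
    SpectralSpace X ∧ (∀ s : Set X, IsClosed[constructibleTopology X] s ↔ IsClosed (e ⁻¹' s)) := by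
  have hcont : Continuous e := by
    rw [hgen]; exact continuous_generateFrom_iff.mpr fun B hB => (hclopen B hB).2
  have hcomp : ∀ C : Set X, IsClosed (e ⁻¹' C) → IsCompact C := fun C hC => by
    have := hC.isCompact.image hcont
    rwa [image_preimage_eq C he] at this
  set 𝔅f : Set (Set X) := (fun f => ⋂₀ f) '' { f : Set (Set X) | f.Finite ∧ f ⊆ 𝔅 } with h𝔅f
  have hbasis : IsTopologicalBasis 𝔅f := isTopologicalBasis_of_subbasis hgen
  have hclopenf : ∀ B ∈ 𝔅f, IsClopen (e ⁻¹' B) := by
    rintro _ ⟨f, ⟨hfin, hsub⟩, rfl⟩
    simp only [preimage_sInter]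
    exact hfin.isClopen_biInter (fun i hi => hclopen i (hsub hi))
  have hinter : ∀ B ∈ 𝔅f, ∀ B' ∈ 𝔅f, B ∩ B' ∈ 𝔅f := by
    rintro _ ⟨f, ⟨hfin, hsub⟩, rfl⟩ _ ⟨f', ⟨hfin', hsub'⟩, rfl⟩
    exact ⟨f ∪ f', ⟨hfin.union hfin', union_subset hsub hsub'⟩, sInter_union f f'⟩
  have hcompf : ∀ B ∈ 𝔅f, IsCompact B := fun B hB => hcomp B (hclopenf B hB).1
  have hpre : PrespectralSpace X := PrespectralSpace.of_isTopologicalBasis hbasis hcompf
  have hqs : QuasiSeparatedSpace X := by
    refine QuasiSeparatedSpace.of_isTopologicalBasis (b := fun B : 𝔅f => (B : Set X)) ?_ ?_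
    · simpa using hbasis
    · rintro ⟨B, hB⟩ ⟨B', hB'⟩
      exact hcompf _ (hinter B hB B' hB')
  have hcpt : CompactSpace X := ⟨hcomp univ (by simp)⟩
  have hsober : QuasiSober X := by
    refine ⟨fun {S} hS hSc => ?_⟩
    have hK : IsCompact (e ⁻¹' S) := (hSc.preimage hcont).isCompact
    have hne : (e ⁻¹' S ∩ ⋂ i : {B : Set X // B ∈ 𝔅f ∧ (S ∩ B).Nonempty}, e ⁻¹' i.1).Nonempty := by
      refine hK.inter_iInter_nonempty _ (fun i => (hclopenf i.1 i.2.1).1) ?_
      intro u
      classical
      obtain ⟨x, hxS, hx⟩ := isIrreducible_iff_sInter.mp hS (u.image Subtype.val)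
        (by
          intro v hv
          obtain ⟨i, -, rfl⟩ := Finset.mem_image.mp hv
          exact hbasis.isOpen i.2.1)
        (by
          intro v hv
          obtain ⟨i, -, rfl⟩ := Finset.mem_image.mp hv
          exact i.2.2)
      obtain ⟨y, rfl⟩ := he x
      refine ⟨y, hxS, ?_⟩
      simp only [mem_iInter]
      intro i hi
      exact hx i.1 (by simpa using ⟨i.2, hi⟩)
    obtain ⟨y, hyS, hy⟩ := hne
    refine ⟨e y, ?_⟩
    rw [isGenericPoint_def]
    refine subset_antisymm (hSc.closure_subset_iff.mpr (singleton_subset_iff.mpr hyS)) ?_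
    intro x hx
    rw [mem_closure_iff_nhds_basis (hbasis.nhds_hasBasis (a := x))]
    rintro B ⟨hB, hxB⟩
    refine ⟨e y, rfl, ?_⟩
    exact mem_iInter.mp hy ⟨B, hB, ⟨x, hx, hxB⟩⟩
  have hspec : SpectralSpace X := { }
  refine ⟨hspec, ?_⟩
  -- every compact open has clopen preimage
  have hco : ∀ U : Set X, IsOpen U → IsCompact U → IsClopen (e ⁻¹' U) := by
    intro U hUo hUc
    obtain ⟨s, hs, rfl⟩ := (isCompact_open_iff_eq_finite_iUnion_of_isTopologicalBasis
      (fun B : 𝔅f => (B : Set X)) (by simpa using hbasis) (fun B => hcompf _ B.2) U).mp ⟨hUc, hUo⟩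
    simp only [preimage_iUnion]
    exact hs.isClopen_biUnion (fun B _ => hclopenf _ B.2)
  have hcont' : @Continuous Y X _ (constructibleTopology X) e := by
    refine continuous_generateFrom_iff.mpr ?_
    rintro s (⟨hso, hsc⟩ | ⟨hsc, hscc⟩)
    · exact (hco s hso hsc).2
    · have := (hco sᶜ hsc.isOpen_compl hscc).1
      rwa [preimage_compl, isClosed_compl_iff] at this
  intro s
  constructor
  · intro hs
    exact @IsClosed.preimage Y X _ (constructibleTopology X) e hcont' s hs
  · intro hs
    have ht2 : @T2Space X (constructibleTopology X) := t2Space_constructibleTopology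
    have h1 : @IsCompact X (constructibleTopology X) (e '' (e ⁻¹' s)) :=
      @IsCompact.image Y X _ (constructibleTopology X) _ e hs.isCompact hcont'
    rw [image_preimage_eq s he] at h1
    exact @IsCompact.isClosed X (constructibleTopology X) ht2 _ h1

end Patch

end Groth.Agent.Lib.Helper37
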