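import Groth.Agent.Lib.Helper37.SpectralLimits
import Mathlib.Topology.Category.TopCat.Limits.Konig

/-!
# Cofiltered limits of spectral spaces (helper37)
-/

set_option autoImplicit false

universe u

namespace Groth.Agent.Lib.Helper37

open Topology TopologicalSpace Set CategoryTheory CategoryTheory.Limits

section Cofiltered

variable {J : Type u} [SmallCategory J] {F : J ⥤ TopCat.{u}}

/-- The system of constructibly closed subsets `Z j`, each with its constructible topology, as a
functor to topological spaces. -/
noncomputable def subFunctor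
    (hFm : ∀ {i j : J} (a : i ⟶ j), IsSpectralMap (F.map a : F.obj i → F.obj j))
    (Z : ∀ j, Set (F.obj j))
    (hmaps : ∀ {i j : J} (a : i ⟶ j), Set.MapsTo (F.map a) (Z i) (Z j)) : J ⥤ TopCat.{u} where
  obj j := TopCat.of {y : WithConstructibleTopology (F.obj j) // y.ofTopology ∈ Z j}
  map {i j} a := TopCat.ofHom
    { toFun := fun y => ⟨WithTopology.toTopology _ (F.map a y.1.ofTopology), hmaps a y.2⟩
      continuous_toFun := by
        refine Continuous.subtype_mk ?_ _
        have hc := continuous_constructibleTopology_of_isSpectralMap (hFm a)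
        have : Continuous (fun y : WithConstructibleTopology (F.obj i) =>
            WithTopology.toTopology (constructibleTopology (F.obj j)) (F.map a y.ofTopology)) := by
          refine ⟨fun s hs => ?_⟩
          exact isOpen_preimage_ofTopology.mpr
            (@IsOpen.preimage _ _ (constructibleTopology (F.obj i))
              (constructibleTopology (F.obj j)) _ hc _ ((WithTopology.isOpen_iff _).mp hs))
        exact this.comp continuous_subtype_val }
  map_id j := by
    ext y
    show F.map (𝟙 j) y.1.ofTopology = y.1.ofTopology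
    rw [F.map_id]
    rfl
  map_comp {i j k} a b := by
    ext y
    show F.map (a ≫ b) y.1.ofTopology = F.map b (F.map a y.1.ofTopology)
    rw [F.map_comp]
    rfl

/-- Cofiltered limits of nonempty constructibly closed subsets of spectral spaces along spectral
maps are nonempty. -/
theorem exists_forall_mem_of_isLimit [IsCofilteredOrEmpty J] {c : Cone F}
    (hF : ∀ j, SpectralSpace (F.obj j))
    (hFm : ∀ {i j : J} (a : i ⟶ j), IsSpectralMap (F.map a : F.obj i → F.obj j))
    (hc : IsLimit c) (Z : ∀ j, Set (F.obj j)) (hne : ∀ j, (Z j).Nonempty)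
    (hcl : ∀ j, IsClosed[constructibleTopology (F.obj j)] (Z j))
    (hmaps : ∀ {i j : J} (a : i ⟶ j), Set.MapsTo (F.map a) (Z i) (Z j)) :
    ∃ x : c.pt, ∀ j, c.π.app j x ∈ Z j := by
  let G := subFunctor hFm Z hmaps
  have h1 : ∀ j, Nonempty (G.obj j) := by
    intro j
    obtain ⟨z, hz⟩ := hne j
    exact ⟨⟨WithTopology.toTopology _ z, hz⟩⟩
  have h2 : ∀ j, CompactSpace (G.obj j) := by
    intro j
    refine isCompact_iff_compactSpace.mp (IsClosed.isCompact ?_)
    exact isClosed_preimage_ofTopology.mpr (hcl j)
  have h3 : ∀ j, T2Space (G.obj j) := by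
    intro j
    have : T2Space (WithConstructibleTopology (F.obj j)) :=
      t2Space_withTopology t2Space_constructibleTopology
    exact (inferInstance : T2Space {y : WithConstructibleTopology (F.obj j) // y.ofTopology ∈ Z j})
  obtain ⟨u⟩ := TopCat.nonempty_limitCone_of_compact_t2_cofiltered_system.{u, u} G
  let v : ∀ j, F.obj j := fun j => (u.1 j).1.ofTopology
  have hv : v ∈ compatSet F := by
    intro i j f
    have := u.2 f
    exact congrArg (fun y : G.obj j => y.1.ofTopology) this
  rw [← range_toPi hc] at hv
  obtain ⟨x, hx⟩ := hv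
  refine ⟨x, fun j => ?_⟩
  have : c.π.app j x = v j := congrFun hx j
  rw [this]
  exact (u.1 j).2

/-- If the preimage in a cofiltered limit of a constructibly closed set is empty, then its
preimage at some finite stage is already empty. -/
theorem exists_preimage_eq_empty [IsCofiltered J] {c : Cone F}
    (hF : ∀ j, SpectralSpace (F.obj j))
    (hFm : ∀ {i j : J} (a : i ⟶ j), IsSpectralMap (F.map a : F.obj i → F.obj j))
    (hc : IsLimit c) (i : J) (W : Set (F.obj i))
    (hW : IsClosed[constructibleTopology (F.obj i)] W) (hempty : c.π.app i ⁻¹' W = ∅) :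
    ∃ (j : J) (a : j ⟶ i), F.map a ⁻¹' W = ∅ := by
  by_contra hcon
  have hne : ∀ j (a : j ⟶ i), (F.map a ⁻¹' W).Nonempty := by
    intro j a
    rw [nonempty_iff_ne_empty]
    exact fun h => hcon ⟨j, a, h⟩
  let Z : ∀ j, Set (F.obj j) := fun j => ⋂ a : j ⟶ i, F.map a ⁻¹' W
  have hpre : ∀ j (a : j ⟶ i), IsClosed[constructibleTopology (F.obj j)] (F.map a ⁻¹' W) :=
    fun j a => @IsClosed.preimage _ _ (constructibleTopology (F.obj j))
      (constructibleTopology (F.obj i)) _
      (continuous_constructibleTopology_of_isSpectralMap (hFm a)) _ hW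
  have hZcl : ∀ j, IsClosed[constructibleTopology (F.obj j)] (Z j) := fun j =>
    @isClosed_iInter _ _ (constructibleTopology (F.obj j)) _ (hpre j)
  have hZmaps : ∀ {k j : J} (b : k ⟶ j), Set.MapsTo (F.map b) (Z k) (Z j) := by
    intro k j b x hx
    simp only [Z, mem_iInter, mem_preimage] at hx ⊢
    intro a
    have := hx (b ≫ a)
    rwa [F.map_comp] at this
  have hZne : ∀ j, (Z j).Nonempty := by
    intro j
    have hK : @IsCompact _ (constructibleTopology (F.obj j)) (univ : Set (F.obj j)) :=
      @isCompact_univ _ (constructibleTopology (F.obj j)) compactSpace_constructibleTopology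
    have := @IsCompact.inter_iInter_nonempty _ (constructibleTopology (F.obj j)) univ _ hK
      (fun a : j ⟶ i => F.map a ⁻¹' W) (hpre j) (fun A => ?_)
    · rwa [univ_inter] at this
    classical
    obtain ⟨S, T, hT⟩ := IsCofiltered.inf_exists ({j, i} : Finset J)
      (A.image fun a => ⟨j, i, by simp, by simp, a⟩)
    obtain ⟨x, hx⟩ := hne S (T (by simp : i ∈ ({j, i} : Finset J)))
    refine ⟨F.map (T (by simp : j ∈ ({j, i} : Finset J))) x, mem_univ _, ?_⟩
    simp only [mem_iInter]
    intro a ha
    show F.map a (F.map (T _) x) ∈ W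
    have h1 := hT (by simp : j ∈ ({j, i} : Finset J)) (by simp : i ∈ ({j, i} : Finset J))
      (Finset.mem_image_of_mem _ ha)
    have h2 : F.map a (F.map (T (by simp : j ∈ ({j, i} : Finset J))) x) =
        F.map (T (by simp : i ∈ ({j, i} : Finset J))) x := by
      rw [← h1, F.map_comp]
      rfl
    rw [h2]
    exact hx
  obtain ⟨x, hx⟩ := exists_forall_mem_of_isLimit hF hFm hc Z hZne hZcl hZmaps
  have hxW : c.π.app i x ∈ W := by
    have := mem_iInter.mp (hx i) (𝟙 i)
    rw [mem_preimage, F.map_id] at this
    exact this
  have : x ∈ c.π.app i ⁻¹' W := hxW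
  rw [hempty] at this
  exact this

end Cofiltered

end Groth.Agent.Lib.Helper37
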