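import Groth.Agent.Lib.Helper37.SpectralCofiltered

/-!
# Constructible subsets of cofiltered limits of spectral spaces (helper37)
-/

set_option autoImplicit false

universe u

namespace Groth.Agent.Lib.Helper37

open Topology TopologicalSpace Set CategoryTheory CategoryTheory.Limits

section Constructible

/-- In a spectral space constructible sets are clopen for the constructible topology. -/
theorem isClopen_constructibleTopology_of_isConstructible {X : Type*} [TopologicalSpace X]
    [CompactSpace X] {E : Set X} (hE : IsConstructible E) :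
    @IsClopen X (constructibleTopology X) E := by
  induction hE using IsConstructible.empty_union_induction with
  | open_retrocompact U hUo hUc =>
    exact isClopen_constructibleTopology_of_isCompact_isOpen hUc.isCompact hUo
  | union s hs t ht hs' ht' => exact @IsClopen.union _ (constructibleTopology X) _ _ hs' ht'
  | compl s hs hs' => exact @IsClopen.compl _ (constructibleTopology X) _ hs'

/-- Preimages of constructible sets under spectral maps of quasi-separated spaces are
constructible. -/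
theorem isConstructible_preimage_of_isSpectralMap {X Y : Type*} [TopologicalSpace X]
    [TopologicalSpace Y] [CompactSpace Y] [QuasiSeparatedSpace X] {f : X → Y}
    (hf : IsSpectralMap f) {E : Set Y} (hE : IsConstructible E) : IsConstructible (f ⁻¹' E) := by
  refine hE.preimage hf.continuous fun s hso hsc => ?_
  exact (hf.isCompact_preimage_of_isOpen hso hsc.isCompact).isRetrocompact
    (hso.preimage hf.continuous)

variable {J : Type u} [SmallCategory J] {F : J ⥤ TopCat.{u}} {c : Cone F}

theorem cone_π_apply {i j : J} (a : i ⟶ j) (x : c.pt) :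
    c.π.app j x = F.map a (c.π.app i x) :=
  (ConcreteCategory.congr_hom (c.w a) x).symm

theorem cone_π_preimage {i j : J} (a : i ⟶ j) (U : Set (F.obj j)) :
    c.π.app j ⁻¹' U = c.π.app i ⁻¹' (F.map a ⁻¹' U) := by
  ext x
  simp only [mem_preimage, cone_π_apply a x]

/-- The topology of a limit of prespectral spaces is generated by the preimages of the compact
opens of the terms. -/
theorem isLimit_eq_generateFrom (hF : ∀ j, SpectralSpace (F.obj j)) (hc : IsLimit c) :
    (c.pt.str : TopologicalSpace c.pt) = generateFrom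
      {U : Set c.pt | ∃ (i : J) (Ui : Set (F.obj i)), IsOpen Ui ∧ IsCompact Ui ∧
        c.π.app i ⁻¹' Ui = U} := by
  have hind := (isEmbedding_toPi hc).isInducing.eq_induced
  have h1 : (c.pt.str : TopologicalSpace c.pt) = generateFrom (preimage (toPi F c) ''
      (⋃ j : J, preimage (fun x : ∀ j, F.obj j => x j) ''
        {U : Set (F.obj j) | IsOpen U ∧ IsCompact U})) := by
    rw [← induced_generateFrom_eq, ← pi_eq_generateFrom (fun j => F.obj j)]
    exact hind
  rw [h1]
  congr 1
  ext U
  constructor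
  · rintro ⟨_, hV, rfl⟩
    obtain ⟨j, hV⟩ := mem_iUnion.mp hV
    obtain ⟨V, ⟨hVo, hVc⟩, rfl⟩ := hV
    exact ⟨j, V, hVo, hVc, rfl⟩
  · rintro ⟨j, V, hVo, hVc, rfl⟩
    exact ⟨_, mem_iUnion.mpr ⟨j, V, ⟨hVo, hVc⟩, rfl⟩, rfl⟩

/-- In a cofiltered limit of spectral spaces along spectral maps, every compact open subset is
the preimage of a compact open subset of some term. -/
theorem exists_preimage_eq_of_isCompact_isOpen [IsCofiltered J]
    (hF : ∀ j, SpectralSpace (F.obj j))
    (hFm : ∀ {i j : J} (a : i ⟶ j), IsSpectralMap (F.map a : F.obj i → F.obj j))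
    (hc : IsLimit c) {U : Set c.pt} (hUo : IsOpen U) (hUc : IsCompact U) :
    ∃ (i : J) (Ui : Set (F.obj i)), IsOpen Ui ∧ IsCompact Ui ∧ c.π.app i ⁻¹' Ui = U := by
  obtain ⟨hS, -, hπ⟩ := spectralSpace_of_isLimit hF hFm hc
  set 𝔇 : Set (Set c.pt) := {U : Set c.pt | ∃ (i : J) (Ui : Set (F.obj i)),
    IsOpen Ui ∧ IsCompact Ui ∧ c.π.app i ⁻¹' Ui = U} with h𝔇
  have hgen := isLimit_eq_generateFrom hF hc
  have huniv : univ ∈ 𝔇 := by
    obtain ⟨i⟩ := IsCofiltered.nonempty (C := J)
    exact ⟨i, univ, isOpen_univ, isCompact_univ, preimage_univ⟩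
  have hempty : ∅ ∈ 𝔇 := by
    obtain ⟨i⟩ := IsCofiltered.nonempty (C := J)
    exact ⟨i, ∅, isOpen_empty, isCompact_empty, preimage_empty⟩
  have hinter : ∀ ⦃s⦄, s ∈ 𝔇 → ∀ ⦃t⦄, t ∈ 𝔇 → s ∩ t ∈ 𝔇 := by
    rintro _ ⟨i, Ui, hUio, hUic, rfl⟩ _ ⟨j, Uj, hUjo, hUjc, rfl⟩
    refine ⟨IsCofiltered.min i j,
      F.map (IsCofiltered.minToLeft i j) ⁻¹' Ui ∩ F.map (IsCofiltered.minToRight i j) ⁻¹' Uj,
      ?_, ?_, ?_⟩
    · exact (hUio.preimage (hFm _).continuous).inter (hUjo.preimage (hFm _).continuous)
    · exact ((hFm _).isCompact_preimage_of_isOpen hUio hUic).inter_of_isOpen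
        ((hFm _).isCompact_preimage_of_isOpen hUjo hUjc)
        (hUio.preimage (hFm _).continuous) (hUjo.preimage (hFm _).continuous)
    · rw [preimage_inter, ← cone_π_preimage, ← cone_π_preimage]
  have hunion : ∀ ⦃s⦄, s ∈ 𝔇 → ∀ ⦃t⦄, t ∈ 𝔇 → s ∪ t ∈ 𝔇 := by
    rintro _ ⟨i, Ui, hUio, hUic, rfl⟩ _ ⟨j, Uj, hUjo, hUjc, rfl⟩
    refine ⟨IsCofiltered.min i j,
      F.map (IsCofiltered.minToLeft i j) ⁻¹' Ui ∪ F.map (IsCofiltered.minToRight i j) ⁻¹' Uj,
      ?_, ?_, ?_⟩
    · exact (hUio.preimage (hFm _).continuous).union (hUjo.preimage (hFm _).continuous)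
    · exact ((hFm _).isCompact_preimage_of_isOpen hUio hUic).union
        ((hFm _).isCompact_preimage_of_isOpen hUjo hUjc)
    · rw [preimage_union, ← cone_π_preimage, ← cone_π_preimage]
  have hbasis : IsTopologicalBasis 𝔇 :=
    isTopologicalBasis_of_subbasis_of_finiteInter hgen ⟨huniv, hinter⟩
  have hcomp : ∀ B : 𝔇, IsCompact (B : Set c.pt) := by
    rintro ⟨_, i, Ui, hUio, hUic, rfl⟩
    exact (hπ i).isCompact_preimage_of_isOpen hUio hUic
  obtain ⟨s, hs, rfl⟩ := (isCompact_open_iff_eq_finite_iUnion_of_isTopologicalBasis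
    (fun B : 𝔇 => (B : Set c.pt)) (by simpa using hbasis) hcomp U).mp ⟨hUc, hUo⟩
  induction s, hs using Set.Finite.induction_on with
  | empty =>
    rw [biUnion_empty]
    exact hempty
  | insert ha hs ih =>
    rename_i B s
    rw [biUnion_insert]
    refine hunion B.2 (ih ?_ ?_)
    · exact isOpen_biUnion fun i _ => hbasis.isOpen i.2
    · exact hs.isCompact_biUnion fun i _ => hcomp i

end Constructible

end Groth.Agent.Lib.Helper37
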