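import Groth.Agent.Lib.Helper37.SpectralPi
import Mathlib.Topology.Category.TopCat.Limits.Basic

/-!
# Limits of spectral spaces along spectral maps (helper37)
-/

set_option autoImplicit false

universe u

namespace Groth.Agent.Lib.Helper37

open Topology TopologicalSpace Set CategoryTheory CategoryTheory.Limits

section Limits

variable {J : Type u} [SmallCategory J] (F : J ⥤ TopCat.{u}) (c : Cone F)

/-- The canonical map from the point of a cone to the product. -/
def toPi : c.pt → ∀ j, F.obj j := fun x j => c.π.app j x

/-- The set of compatible families in the product. -/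
def compatSet : Set (∀ j, F.obj j) := {u | ∀ {i j : J} (f : i ⟶ j), F.map f (u i) = u j}

variable {F c}

theorem toPi_eq (hc : IsLimit c) :
    toPi F c = Subtype.val ∘ (hc.conePointUniqueUpToIso (TopCat.limitConeIsLimit.{u, u} F)).hom := by
  funext x j
  have := IsLimit.conePointUniqueUpToIso_hom_comp hc (TopCat.limitConeIsLimit.{u, u} F) j
  exact (ConcreteCategory.congr_hom this x).symm

theorem isEmbedding_toPi (hc : IsLimit c) : IsEmbedding (toPi F c) := by
  rw [toPi_eq hc]
  exact IsEmbedding.subtypeVal.comp
    (TopCat.homeoOfIso (hc.conePointUniqueUpToIso (TopCat.limitConeIsLimit.{u, u} F))).isEmbedding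

theorem range_toPi (hc : IsLimit c) : range (toPi F c) = compatSet F := by
  ext u
  constructor
  · rintro ⟨x, rfl⟩
    intro i j f
    exact ConcreteCategory.congr_hom (c.w f) x
  · intro hu
    let e := hc.conePointUniqueUpToIso (TopCat.limitConeIsLimit.{u, u} F)
    let y : (TopCat.limitCone.{u, u} F).pt := ⟨u, hu⟩
    refine ⟨e.inv y, ?_⟩
    rw [toPi_eq hc]
    show Subtype.val (e.hom (e.inv y)) = u
    have : e.hom (e.inv y) = y := by
      rw [← ConcreteCategory.comp_apply, e.inv_hom_id]
      rfl
    rw [this]

theorem isClosed_constructibleTopology_compatSet (hF : ∀ j, SpectralSpace (F.obj j))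
    (hFm : ∀ {i j : J} (a : i ⟶ j), IsSpectralMap (F.map a : F.obj i → F.obj j)) :
    IsClosed[constructibleTopology (∀ j, F.obj j)] (compatSet F) := by
  have : compatSet F = ⋂ (i : J) (j : J) (f : i ⟶ j),
      {u : ∀ j, F.obj j | F.map f (u i) = u j} := by
    ext u
    simp only [compatSet, mem_ofPred_eq, mem_iInter]
  rw [this]
  refine @isClosed_iInter _ _ (constructibleTopology (∀ j, F.obj j)) _ fun i => ?_
  refine @isClosed_iInter _ _ (constructibleTopology (∀ j, F.obj j)) _ fun j => ?_
  refine @isClosed_iInter _ _ (constructibleTopology (∀ j, F.obj j)) _ fun f => ?_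
  exact isClosed_constructibleTopology_setOf_eq (fun j => F.obj j) (F.map f) (hFm f)

/-- A limit of spectral spaces along spectral maps is spectral, with spectral projections. -/
theorem spectralSpace_of_isLimit (hF : ∀ j, SpectralSpace (F.obj j))
    (hFm : ∀ {i j : J} (a : i ⟶ j), IsSpectralMap (F.map a : F.obj i → F.obj j))
    (hc : IsLimit c) :
    SpectralSpace c.pt ∧ IsSpectralMap (toPi F c) ∧
      ∀ j, IsSpectralMap (c.π.app j : c.pt → F.obj j) := by
  have hpi := (spectralSpace_pi (fun j => F.obj j)).1
  have hemb := isEmbedding_toPi hc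
  have : T0Space c.pt := hemb.t0Space
  have hr : IsClosed[constructibleTopology (∀ j, F.obj j)] (range (toPi F c)) := by
    rw [range_toPi hc]
    exact isClosed_constructibleTopology_compatSet hF hFm
  obtain ⟨h1, h2⟩ := spectralSpace_of_isInducing hemb.isInducing hr
  refine ⟨h1, h2, fun j => ?_⟩
  exact (isSpectralMap_apply (fun j => F.obj j) j).comp h2

end Limits

end Groth.Agent.Lib.Helper37
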