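import Groth.Agent.Lib.Helper37.Spectral

/-!
# Spectral maps and constructibly closed subsets of spectral spaces (helper37)
-/

set_option autoImplicit false

namespace Groth.Agent.Lib.Helper37

open Topology TopologicalSpace Set

section Maps

variable {X Y : Type*} [TopologicalSpace X] [TopologicalSpace Y]

/-- A spectral map is continuous for the constructible topologies. -/
theorem continuous_constructibleTopology_of_isSpectralMap {f : X → Y} (hf : IsSpectralMap f) :
    @Continuous X Y (constructibleTopology X) (constructibleTopology Y) f := by
  refine continuous_generateFrom_iff.mpr ?_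
  rintro s (⟨hso, hsc⟩ | ⟨hsc, hscc⟩)
  · exact (hf.isCompact_preimage_of_isOpen hso hsc).isOpen_constructibleTopology_of_isOpen
      (hso.preimage hf.continuous)
  · refine IsCompact.isOpen_constructibleTopology_of_isClosed ?_ (hsc.preimage hf.continuous)
    rw [← preimage_compl]
    exact hf.isCompact_preimage_of_isOpen hsc.isOpen_compl hscc

/-- The image of a constructibly closed set under a spectral map of spectral spaces is
constructibly closed. -/
theorem isClosed_constructibleTopology_image [SpectralSpace X] [T0Space Y] [PrespectralSpace Y]
    {f : X → Y} (hf : IsSpectralMap f) {E : Set X} (hE : IsClosed[constructibleTopology X] E) :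
    IsClosed[constructibleTopology Y] (f '' E) := by
  have ht2 : @T2Space Y (constructibleTopology Y) := t2Space_constructibleTopology
  have h1 : @IsCompact X (constructibleTopology X) E := isCompact_constructibleTopology_of_isClosed hE
  have h2 := @IsCompact.image X Y (constructibleTopology X) (constructibleTopology Y) E f h1
    (continuous_constructibleTopology_of_isSpectralMap hf)
  exact @IsCompact.isClosed Y (constructibleTopology Y) ht2 _ h2

/-- A continuous map of spectral spaces that is continuous for the constructible topologies is
spectral. -/
theorem isSpectralMap_of_continuous_constructibleTopology [SpectralSpace X] {f : X → Y}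
    (hf : Continuous f)
    (hf' : @Continuous X Y (constructibleTopology X) (constructibleTopology Y) f) :
    IsSpectralMap f := by
  refine ⟨hf, fun s hso hsc => ?_⟩
  have := isClosed_constructibleTopology_of_isCompact_isOpen hsc hso
  exact isCompact_of_isClosed_constructibleTopology
    (@IsClosed.preimage X Y (constructibleTopology X) (constructibleTopology Y) f hf' s this)

end Maps

section Closure

variable {X : Type*} [TopologicalSpace X] [SpectralSpace X]

/-- In a spectral space, every point of the closure of a constructibly closed set `E` is a
specialization of a point of `E`. -/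
theorem exists_specializes_of_mem_closure {E : Set X}
    (hE : IsClosed[constructibleTopology X] E) {x : X} (hx : x ∈ closure E) :
    ∃ e ∈ E, e ⤳ x := by
  have hK : @IsCompact X (constructibleTopology X) E := isCompact_constructibleTopology_of_isClosed hE
  have hne : (E ∩ ⋂ i : {U : Set X // (IsOpen U ∧ IsCompact U) ∧ x ∈ U}, i.1).Nonempty := by
    refine @IsCompact.inter_iInter_nonempty X (constructibleTopology X) E _ hK _
      (fun i => isClosed_constructibleTopology_of_isCompact_isOpen i.2.1.2 i.2.1.1) ?_
    intro u
    have hU : IsOpen (⋂ i ∈ u, (i : Set X)) := isOpen_biInter_finset fun i _ => i.2.1.1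
    have hxU : x ∈ ⋂ i ∈ u, (i : Set X) := by
      simp only [mem_iInter]; exact fun i _ => i.2.2
    obtain ⟨y, hyU, hyE⟩ := mem_closure_iff.mp hx _ hU hxU
    exact ⟨y, hyE, hyU⟩
  obtain ⟨e, heE, he⟩ := hne
  refine ⟨e, heE, ?_⟩
  rw [specializes_iff_forall_open]
  intro U hU hxU
  obtain ⟨V, hV, hxV, hVU⟩ :=
    PrespectralSpace.isTopologicalBasis.exists_subset_of_mem_open hxU hU
  exact hVU (mem_iInter.mp he ⟨V, hV, hxV⟩)

/-- A constructibly closed subset of a spectral space that is stable under specialization is
closed. -/
theorem isClosed_of_isClosed_constructibleTopology_of_stableUnderSpecialization {E : Set X}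
    (hE : IsClosed[constructibleTopology X] E) (hs : StableUnderSpecialization E) : IsClosed E := by
  rw [← closure_subset_iff_isClosed]
  intro x hx
  obtain ⟨e, heE, he⟩ := exists_specializes_of_mem_closure hE hx
  exact hs he heE

/-- A constructibly open subset of a spectral space that is stable under generalization is
open. -/
theorem isOpen_of_isOpen_constructibleTopology_of_stableUnderGeneralization {E : Set X}
    (hE : IsOpen[constructibleTopology X] E) (hs : StableUnderGeneralization E) : IsOpen E := by
  rw [← isClosed_compl_iff]
  refine isClosed_of_isClosed_constructibleTopology_of_stableUnderSpecialization ?_ ?_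
  · rwa [@isClosed_compl_iff X (constructibleTopology X)]
  · exact hs.compl

end Closure

end Groth.Agent.Lib.Helper37
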