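import Groth.Agent.Lib.Helper37.SpectralSub

/-!
# Products of spectral spaces (helper37)
-/

set_option autoImplicit false

namespace Groth.Agent.Lib.Helper37

open Topology TopologicalSpace Set

theorem t2Space_withTopology {X : Type*} {t : TopologicalSpace X} (h : @T2Space X t) :
    T2Space (WithTopology X t) := by
  refine ⟨fun x y hxy => ?_⟩
  obtain ⟨u, v, hu, hv, hxu, hyv, huv⟩ := @t2_separation X t h x.ofTopology y.ofTopology
    (fun h => hxy (WithTopology.ofTopology_injective _ h))
  exact ⟨WithTopology.ofTopology ⁻¹' u, WithTopology.ofTopology ⁻¹' v,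
    isOpen_preimage_ofTopology.mpr hu, isOpen_preimage_ofTopology.mpr hv, hxu, hyv,
    huv.preimage _⟩

section Pi

variable {ι : Type*} (X : ι → Type*) [∀ j, TopologicalSpace (X j)]

/-- The comparison map from the product of the constructible topologies to the product. -/
def piOfTop : (∀ j, WithConstructibleTopology (X j)) → ∀ j, X j :=
  fun y j => (y j).ofTopology

theorem piOfTop_surjective : Function.Surjective (piOfTop X) :=
  fun x => ⟨fun j => WithTopology.toTopology _ (x j), rfl⟩

theorem piOfTop_injective : Function.Injective (piOfTop X) := by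
  intro y y' h
  funext j
  exact WithTopology.ofTopology_injective _ (congrFun h j)

theorem pi_eq_generateFrom [∀ j, PrespectralSpace (X j)] :
    (Pi.topologicalSpace : TopologicalSpace (∀ j, X j)) =
      generateFrom (⋃ j : ι, preimage (fun x : ∀ j, X j => x j) ''
        {U : Set (X j) | IsOpen U ∧ IsCompact U}) := by
  rw [generateFrom_iUnion]
  have h1 : (Pi.topologicalSpace : TopologicalSpace (∀ j, X j)) =
      ⨅ j : ι, induced (fun x : ∀ j, X j => x j) inferInstance := rfl
  rw [h1]
  congr 1
  funext j
  rw [← induced_generateFrom_eq, ← PrespectralSpace.isTopologicalBasis.eq_generateFrom]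

theorem isClopen_piOfTop_preimage (j : ι) {U : Set (X j)} (hUo : IsOpen U) (hUc : IsCompact U) :
    IsClopen (piOfTop X ⁻¹' ((fun x : ∀ j, X j => x j) ⁻¹' U)) := by
  have : piOfTop X ⁻¹' ((fun x : ∀ j, X j => x j) ⁻¹' U) =
      (fun y : ∀ j, WithConstructibleTopology (X j) => y j) ⁻¹'
        (WithTopology.ofTopology ⁻¹' U) := rfl
  rw [this]
  exact (isClopen_preimage_ofTopology.mpr
    (isClopen_constructibleTopology_of_isCompact_isOpen hUc hUo)).preimage (continuous_apply j)

/-- A product of spectral spaces is spectral, and its constructible topology is the product of the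
constructible topologies. -/
theorem spectralSpace_pi [∀ j, SpectralSpace (X j)] :
    SpectralSpace (∀ j, X j) ∧
    ∀ s : Set (∀ j, X j), IsClosed[constructibleTopology (∀ j, X j)] s ↔
      IsClosed (piOfTop X ⁻¹' s) := by
  refine spectralSpace_of_patch _ (pi_eq_generateFrom X) (piOfTop X) (piOfTop_surjective X) ?_
  intro B hB
  obtain ⟨j, hB⟩ := mem_iUnion.mp hB
  obtain ⟨U, ⟨hUo, hUc⟩, rfl⟩ := hB
  exact isClopen_piOfTop_preimage X j hUo hUc

/-- The projections from a product of spectral spaces are spectral. -/
theorem isSpectralMap_apply [∀ j, SpectralSpace (X j)] (j : ι) :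
    IsSpectralMap (fun x : ∀ j, X j => x j) := by
  obtain ⟨hS, hc⟩ := spectralSpace_pi X
  refine ⟨continuous_apply j, fun U hUo hUc => ?_⟩
  exact isCompact_of_isClosed_constructibleTopology
    ((hc _).mpr (isClopen_piOfTop_preimage X j hUo hUc).1)

/-- The set of "compatible families" for a family of spectral transition maps is constructibly
closed in the product. -/
theorem isClosed_constructibleTopology_setOf_eq [∀ j, SpectralSpace (X j)] {i j : ι}
    (f : X i → X j) (hf : IsSpectralMap f) :
    IsClosed[constructibleTopology (∀ j, X j)] {x : ∀ j, X j | f (x i) = x j} := by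
  rw [(spectralSpace_pi X).2]
  have ht2 : T2Space (WithConstructibleTopology (X j)) :=
    t2Space_withTopology t2Space_constructibleTopology
  have hfc : Continuous (fun y : WithConstructibleTopology (X i) =>
      WithTopology.toTopology (constructibleTopology (X j)) (f y.ofTopology)) := by
    have := continuous_constructibleTopology_of_isSpectralMap hf
    refine ⟨fun s hs => ?_⟩
    exact isOpen_preimage_ofTopology.mpr
      (@IsOpen.preimage _ _ (constructibleTopology (X i)) (constructibleTopology (X j)) f this _
        ((WithTopology.isOpen_iff _).mp hs))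
  have : piOfTop X ⁻¹' {x : ∀ j, X j | f (x i) = x j} =
      {y : ∀ j, WithConstructibleTopology (X j) |
        WithTopology.toTopology (constructibleTopology (X j)) (f (y i).ofTopology) = y j} := by
    ext y
    simp only [mem_preimage, mem_ofPred_eq, piOfTop]
    constructor
    · intro h
      exact WithTopology.ofTopology_injective _ h
    · intro h
      rw [← h]
  rw [this]
  exact isClosed_eq (hfc.comp (continuous_apply i)) (continuous_apply j)

end Pi

end Groth.Agent.Lib.Helper37
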