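import Groth.Agent.Lib.Helper37.SpectralSub
import Mathlib.Topology.ContinuousMap.T0Sierpinski

/-!
# Powers of the Sierpiński space are spectral (helper37)
-/

set_option autoImplicit false

namespace Groth.Agent.Lib.Helper37

open Topology TopologicalSpace Set

/-- The Sierpiński space is T0. -/
theorem t0Space_Prop : T0Space Prop := by
  refine ⟨fun p q h => ?_⟩
  have := h.mem_open_iff isOpen_singleton_true
  simp only [mem_singleton_iff, eq_iff_iff, iff_true] at this
  exact propext this

/-- A spectrality criterion for maps in terms of a subbasis of the target. -/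
theorem isSpectralMap_of_subbasis {X Y : Type*} [TopologicalSpace X] [tY : TopologicalSpace Y]
    [CompactSpace X] [QuasiSeparatedSpace X] (𝔅 : Set (Set Y)) (hgen : tY = generateFrom 𝔅)
    {f : X → Y} (hf : Continuous f) (hc : ∀ B ∈ 𝔅, IsCompact (f ⁻¹' B)) : IsSpectralMap f := by
  refine ⟨hf, fun U hUo hUc => ?_⟩
  set 𝔅f : Set (Set Y) := (fun f => ⋂₀ f) '' { f : Set (Set Y) | f.Finite ∧ f ⊆ 𝔅 } with h𝔅f
  have hbasis : IsTopologicalBasis 𝔅f := isTopologicalBasis_of_subbasis hgen
  have hcf : ∀ B ∈ 𝔅f, IsCompact (f ⁻¹' B) := by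
    rintro _ ⟨F, ⟨hfin, hsub⟩, rfl⟩
    have : f ⁻¹' (⋂₀ F) = ⋂₀ (preimage f '' F) := by
      rw [preimage_sInter, sInter_image]
    rw [this]
    refine QuasiSeparatedSpace.isCompact_sInter (hfin.image _) ?_ ?_
    · rintro _ ⟨B, hB, rfl⟩
      exact Or.inl ((hbasis.isOpen ⟨{B}, ⟨finite_singleton B, singleton_subset_iff.mpr (hsub hB)⟩,
        sInter_singleton B⟩).preimage hf)
    · rintro _ ⟨B, hB, rfl⟩
      exact hc B (hsub hB)
  obtain ⟨S, hSsub, hSfin, hUS⟩ := hUc.elim_finite_subcover_image
    (b := {B | B ∈ 𝔅f ∧ B ⊆ U}) (c := fun B => B) (fun B hB => hbasis.isOpen hB.1) (by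
      intro y hy
      obtain ⟨B, hB, hyB, hBU⟩ := hbasis.exists_subset_of_mem_open hy hUo
      exact mem_biUnion (show B ∈ {B | B ∈ 𝔅f ∧ B ⊆ U} from ⟨hB, hBU⟩) hyB)
  have hU : U = ⋃ B ∈ S, B := by
    refine subset_antisymm hUS ?_
    exact iUnion₂_subset fun B hB => (hSsub hB).2
  rw [hU, preimage_iUnion₂]
  exact hSfin.isCompact_biUnion fun B hB => hcf B (hSsub hB).1

section Pi

variable (I : Type*)

/-- The comparison map from the Cantor cube to the Sierpiński cube. -/
def boolToProp : (I → Bool) → (I → Prop) := fun b i => b i = true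

theorem boolToProp_surjective : Function.Surjective (boolToProp I) := by
  classical
  intro p
  exact ⟨fun i => decide (p i), by ext i; simp [boolToProp]⟩

theorem pi_Prop_eq_generateFrom :
    (inferInstance : TopologicalSpace (I → Prop)) =
      generateFrom (range fun i : I => {p : I → Prop | p i}) := by
  have h1 : (inferInstance : TopologicalSpace (I → Prop)) =
      ⨅ i : I, induced (fun p : I → Prop => p i) sierpinskiSpace := rfl
  rw [h1]
  have h2 : ∀ i : I, induced (fun p : I → Prop => p i) sierpinskiSpace =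
      generateFrom {{p : I → Prop | p i}} := by
    intro i
    rw [sierpinskiSpace, induced_generateFrom_eq, image_singleton]
    congr 2
    ext p
    simp
  simp_rw [h2]
  rw [← generateFrom_iUnion]
  congr 1
  ext s
  simp [eq_comm]

theorem isClopen_boolToProp_preimage (i : I) :
    IsClopen (boolToProp I ⁻¹' {p : I → Prop | p i}) := by
  have : boolToProp I ⁻¹' {p : I → Prop | p i} = (fun b : I → Bool => b i) ⁻¹' {true} := by
    ext b; simp [boolToProp]
  rw [this]
  exact (isClopen_discrete _).preimage (continuous_apply i)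

/-- Powers of the Sierpiński space are spectral, and the constructible topology is that of the
Cantor cube. -/
theorem spectralSpace_pi_Prop :
    SpectralSpace (I → Prop) ∧
    ∀ s : Set (I → Prop), IsClosed[constructibleTopology (I → Prop)] s ↔
      IsClosed (boolToProp I ⁻¹' s) := by
  have : T0Space Prop := t0Space_Prop
  refine spectralSpace_of_patch _ (pi_Prop_eq_generateFrom I) (boolToProp I)
    (boolToProp_surjective I) ?_
  rintro _ ⟨i, rfl⟩
  exact isClopen_boolToProp_preimage I i

end Pi

end Groth.Agent.Lib.Helper37
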