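import Groth.Agent.Lib.Helper37.SpectralMaps

/-!
# Constructibly closed subspaces of spectral spaces are spectral (helper37)
-/

set_option autoImplicit false

namespace Groth.Agent.Lib.Helper37

open Topology TopologicalSpace Set

section Sub

variable {E X : Type*} [TopologicalSpace E] [TopologicalSpace X]

/-- If `f : E → X` is an inducing map from a T0 space to a spectral space whose range is closed
in the constructible topology, then `E` is spectral and `f` is a spectral map. -/
theorem spectralSpace_of_isInducing [SpectralSpace X] [T0Space E] {f : E → X}
    (hf : IsInducing f) (hr : IsClosed[constructibleTopology X] (range f)) :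
    SpectralSpace E ∧ IsSpectralMap f := by
  have hinj : Function.Injective f := hf.injective
  -- the compact space
  let Y := {y : WithConstructibleTopology X // WithTopology.ofTopology y ∈ range f}
  have hYc : CompactSpace Y := by
    refine isCompact_iff_compactSpace.mp (IsClosed.isCompact ?_)
    exact isClosed_preimage_ofTopology.mpr hr
  let e : Y → E := fun y => Classical.choose y.2
  have he : ∀ y : Y, f (e y) = WithTopology.ofTopology y.1 := fun y => Classical.choose_spec y.2
  have hes : Function.Surjective e := by
    intro x
    refine ⟨⟨WithTopology.toTopology _ (f x), ⟨x, rfl⟩⟩, hinj ?_⟩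
    rw [he]
  have hgen : (inferInstance : TopologicalSpace E) =
      generateFrom (preimage f '' {U : Set X | IsOpen U ∧ IsCompact U}) := by
    rw [← induced_generateFrom_eq, ← PrespectralSpace.isTopologicalBasis.eq_generateFrom]
    exact hf.eq_induced
  have hpre : ∀ U : Set X, e ⁻¹' (f ⁻¹' U) =
      Subtype.val ⁻¹' (WithTopology.ofTopology ⁻¹' U : Set (WithConstructibleTopology X)) := by
    intro U
    ext y
    simp only [mem_preimage, he]
  have hcl : ∀ U : Set X, IsOpen U → IsCompact U → IsClopen (e ⁻¹' (f ⁻¹' U)) := by
    intro U hUo hUc
    rw [hpre]
    exact (isClopen_preimage_ofTopology.mpr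
      (isClopen_constructibleTopology_of_isCompact_isOpen hUc hUo)).preimage continuous_subtype_val
  obtain ⟨hE, hEc⟩ := spectralSpace_of_patch _ hgen e hes (by
    rintro _ ⟨U, ⟨hUo, hUc⟩, rfl⟩
    exact hcl U hUo hUc)
  refine ⟨hE, hf.continuous, fun U hUo hUc => ?_⟩
  exact isCompact_of_isClosed_constructibleTopology ((hEc _).mpr (hcl U hUo hUc).1)

/-- Under the assumptions of `spectralSpace_of_isInducing`, a subset of `E` is constructibly closed
iff its image is. -/
theorem isClosed_constructibleTopology_iff_image [SpectralSpace X] [SpectralSpace E] {f : E → X}
    (hf : IsSpectralMap f) (hinj : Function.Injective f) (s : Set E) :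
    IsClosed[constructibleTopology E] s ↔ IsClosed[constructibleTopology X] (f '' s) := by
  constructor
  · exact fun hs => isClosed_constructibleTopology_image hf hs
  · intro hs
    have := @IsClosed.preimage E X (constructibleTopology E) (constructibleTopology X) f
      (continuous_constructibleTopology_of_isSpectralMap hf) _ hs
    rwa [preimage_image_eq s hinj] at this

end Sub

end Groth.Agent.Lib.Helper37
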