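import Mathlib.AlgebraicGeometry.ValuativeCriterion
import Mathlib.RingTheory.Valuation.LocalSubring

/-!
# Specializations are realised by valuation rings (helper37)
-/

set_option autoImplicit false

universe u

namespace Groth.Agent.Lib.Helper37

open CategoryTheory CategoryTheory.Limits AlgebraicGeometry IsLocalRing

/-- A specialization `y' ⤳ y` in a scheme `X` is realised by a morphism from the spectrum of a
valuation ring of `κ(y')`: the closed point goes to `y` and the generic point to `y'`. -/
theorem exists_valuationSubring_of_specializes {X : Scheme.{u}} {y' y : X} (h : y' ⤳ y) :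
    ∃ (A : ValuationSubring (X.residueField y')) (v : Spec (CommRingCat.of A) ⟶ X),
      v (closedPoint A) = y ∧
      Spec.map (CommRingCat.ofHom (algebraMap A (X.residueField y'))) ≫ v =
        X.fromSpecResidueField y' := by
  obtain ⟨A, hA, hA_local⟩ := exists_factor_valuationRing
    (X.presheaf.stalkSpecializes h ≫ X.residue y').hom
  refine ⟨A, Spec.map (CommRingCat.ofHom
    ((X.presheaf.stalkSpecializes h ≫ X.residue y').hom.codRestrict _ hA)) ≫
      X.fromSpecStalk y, ?_, ?_⟩
  · rw [Scheme.Hom.comp_apply]
    have : Spec.map (CommRingCat.ofHom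
        ((X.presheaf.stalkSpecializes h ≫ X.residue y').hom.codRestrict _ hA)) (closedPoint A) =
        closedPoint (X.presheaf.stalk y) :=
      comap_closedPoint (S := A)
        ((X.presheaf.stalkSpecializes h ≫ X.residue y').hom.codRestrict A.toSubring hA)
    rw [this, X.fromSpecStalk_closedPoint]
  · have hfac : CommRingCat.ofHom
        ((X.presheaf.stalkSpecializes h ≫ X.residue y').hom.codRestrict _ hA) ≫
        CommRingCat.ofHom (algebraMap A (X.residueField y')) =
        X.presheaf.stalkSpecializes h ≫ X.residue y' := rfl
    rw [← Category.assoc, ← Spec.map_comp, hfac, Spec.map_comp, Category.assoc,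
      Scheme.SpecMap_stalkSpecializes_fromSpecStalk]
    rfl

/-- The generic point of the spectrum of a valuation subring `A ⊆ L` is the image of `Spec L`. -/
theorem specMap_algebraMap_valuationSubring_apply {L : Type u} [Field L] (A : ValuationSubring L)
    (p : Spec (CommRingCat.of L)) :
    (Spec.map (CommRingCat.ofHom (algebraMap A L)) p).asIdeal = ⊥ := by
  have hp : p.asIdeal = ⊥ := by
    have := p.2
    rcases Ideal.eq_bot_or_top p.asIdeal with h | h
    · exact h
    · exact absurd h this.ne_top
  show Ideal.comap (algebraMap A L) p.asIdeal = ⊥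
  rw [hp]
  exact (RingHom.injective_iff_ker_eq_bot _).mp (Subtype.val_injective)

end Groth.Agent.Lib.Helper37
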