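import Groth.Agent.Lib.Helper37.ValLift
import Groth.Agent.S7467
import Groth.Agent.S7470

/-!
# Refining open coverings of affine schemes by standard V coverings (helper37)
-/

set_option autoImplicit false

universe w w' u

namespace Groth.Agent.Lib.Helper37

open CategoryTheory CategoryTheory.Limits AlgebraicGeometry HTop Opposite

/-- Every open covering of an affine scheme is refined by a standard V covering consisting of
finitely many affine opens. -/
theorem exists_isStandardV_refining_openCover {A : Scheme.{u}} [IsAffine A]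
    (𝒲 : Scheme.OpenCover.{w} A) :
    ∃ F : PreZeroHypercover.{0} A, IsStandardV F ∧
      ∀ k : F.I₀, ∃ (i : 𝒲.I₀) (r : F.X k ⟶ 𝒲.X i), r ≫ 𝒲.f i = F.f k := by
  let 𝒜 : A.OpenCover := 𝒲.bind (fun i => (𝒲.X i).affineCover)
  let ℬ : A.OpenCover := 𝒜.finiteSubcover
  have hfin : Finite ℬ.I₀ := inferInstance
  let e : Fin (Nat.card ℬ.I₀) ≃ ℬ.I₀ := (Finite.equivFin ℬ.I₀).symm
  let F : PreZeroHypercover.{0} A :=
    { I₀ := Fin (Nat.card ℬ.I₀)
      X := fun k => ℬ.X (e k)
      f := fun k => ℬ.f (e k) }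
  refine ⟨F, ?_, fun k => ?_⟩
  · refine Groth.Agent.S7467.result F (inferInstanceAs (Finite (Fin _))) (fun k => ?_)
      (fun k => ?_) (fun t => ?_)
    · show IsAffine ((𝒲.X (𝒜.idx (e k).1).1).affineCover.X (𝒜.idx (e k).1).2)
      infer_instance
    · show Flat (ℬ.f (e k))
      infer_instance
    · obtain ⟨i, x, hx⟩ := ℬ.exists_eq t
      obtain ⟨k, rfl⟩ := e.surjective i
      exact ⟨k, x, hx⟩
  · exact ⟨(𝒜.idx (e k).1).1, (𝒲.X (𝒜.idx (e k).1).1).affineCover.f (𝒜.idx (e k).1).2, rfl⟩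

end Groth.Agent.Lib.Helper37
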