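import Groth.Agent.Lib.Helper37.SheafLocal
import Groth.Agent.Lib.Helper37.VCover

/-!
# V sheaves from standard V coverings (helper37)

For a Zariski sheaf `F` with the sheaf property for all standard V coverings, the sieve generated
by any V covering is covering for the finest topology making `F` a sheaf.
-/

set_option autoImplicit false

universe w w' u

namespace Groth.Agent.Lib.Helper37

open CategoryTheory CategoryTheory.Limits AlgebraicGeometry HTop Opposite

theorem isStandardV_pullback₂ {T T' : Scheme.{u}} [IsAffine T'] (g : T' ⟶ T)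
    (E : PreZeroHypercover.{w} T) (hE : IsStandardV E) : IsStandardV (E.pullback₂ g) := by
  have hT : IsAffine T := hE.isAffine
  refine ⟨inferInstance, hE.finite_index, fun j => ?_, ?_⟩
  · have : IsAffine (E.X j) := hE.isAffine_obj j
    exact AlgebraicGeometry.Scheme.Pullback.isAffine_of_isAffine_isAffine_isAffine (E.f j) g
  · intro V _ _ v
    obtain ⟨W, hW1, hW2, φ, hφ, j, g', hg'⟩ := hE.lift V (v ≫ g)
    refine ⟨W, hW1, hW2, φ, hφ, j, pullback.lift g' (Spec.map φ ≫ v) ?_, ?_⟩
    · rw [hg', Category.assoc]
    · exact pullback.lift_snd _ _ _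

theorem isStandardV_reindex {T : Scheme.{u}} (E : PreZeroHypercover.{w} T) {ι : Type w'}
    (e : ι ≃ E.I₀) (hE : IsStandardV E) : IsStandardV (E.reindex e) := by
  refine ⟨hE.isAffine, ?_, fun j => hE.isAffine_obj (e j), ?_⟩
  · have := hE.finite_index
    exact Finite.of_equiv _ e.symm
  · intro V _ _ v
    obtain ⟨W, hW1, hW2, φ, hφ, j, g', hg'⟩ := hE.lift V v
    refine ⟨W, hW1, hW2, φ, hφ, e.symm j, ?_⟩
    show ∃ g'' : Spec W ⟶ E.X (e (e.symm j)), g'' ≫ E.f (e (e.symm j)) = Spec.map φ ≫ v
    rw [e.apply_symm_apply]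
    exact ⟨g', hg'⟩

/-- A standard V covering can be re-indexed by a type in any universe. -/
theorem exists_reindex_isStandardV {T : Scheme.{u}} (E : PreZeroHypercover.{w} T)
    (hE : IsStandardV E) :
    ∃ E' : PreZeroHypercover.{w'} T, IsStandardV E' ∧ E'.presieve₀ = E.presieve₀ ∧
      ∃ e : E'.I₀ ≃ E.I₀, E' = E.reindex e := by
  have := hE.finite_index
  let e : ULift.{w'} (Fin (Nat.card E.I₀)) ≃ E.I₀ :=
    Equiv.ulift.trans (Finite.equivFin E.I₀).symm
  exact ⟨E.reindex e, isStandardV_reindex E e hE, E.presieve₀_reindex e, e, rfl⟩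

variable {F : Scheme.{u}ᵒᵖ ⥤ Type w}

/-- If `F` is a Zariski sheaf with the sheaf property for standard V coverings, the sieve generated
by a standard V covering is covering for the finest topology of `F`. -/
theorem generate_mem_finestTopologySingle_of_isStandardV
    (hF : Presieve.IsSheaf Scheme.zariskiTopology F)
    (hstd : ∀ (T : Scheme.{u}) (E : PreZeroHypercover.{u} T), IsStandardV E →
      Presieve.IsSheafFor F E.presieve₀)
    {T : Scheme.{u}} (E : PreZeroHypercover.{w'} T) (hE : IsStandardV E) :
    Sieve.generate E.presieve₀ ∈ Sheaf.finestTopologySingle F T := by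
  refine mem_finestTopologySingle_of_forall_affine hF _ (fun W _ g => ?_)
  rw [← Sieve.pullbackArrows_comm, ← Presieve.isSheafFor_iff_generate,
    ← PreZeroHypercover.presieve₀_pullback₁]
  obtain ⟨E', hE', he, -⟩ := exists_reindex_isStandardV.{w', u, u} (E.pullback₂ g)
    (isStandardV_pullback₂ g E hE)
  rw [← he]
  exact hstd W E' hE'

/-- If `F` is a Zariski sheaf with the sheaf property for standard V coverings, the sieve generated
by a V covering is covering for the finest topology of `F`. -/
theorem generate_mem_finestTopologySingle_of_isVCover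
    (hF : Presieve.IsSheaf Scheme.zariskiTopology F)
    (hstd : ∀ (T : Scheme.{u}) (E : PreZeroHypercover.{u} T), IsStandardV E →
      Presieve.IsSheafFor F E.presieve₀)
    {X : Scheme.{u}} (E : PreZeroHypercover.{w'} X) (hE : IsVCover E) :
    Sieve.generate E.presieve₀ ∈ Sheaf.finestTopologySingle F X := by
  refine mem_finestTopologySingle_of_forall_affine hF _ (fun W _ g => ?_)
  obtain ⟨G, hG, hGE⟩ := exists_standardV_refinesOver g E hE
  refine isSheafFor_of_mem_finestTopologySingle ?_
  refine (Sheaf.finestTopologySingle F).superset_covering ?_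
    (generate_mem_finestTopologySingle_of_isStandardV hF hstd G hG)
  rw [Sieve.generate_le_iff]
  rintro _ _ ⟨j⟩
  obtain ⟨i, h, hh⟩ := hGE j
  show Sieve.generate E.presieve₀ (G.f j ≫ g)
  rw [← hh]
  exact ⟨_, h, E.f i, ⟨i⟩, rfl⟩

end Groth.Agent.Lib.Helper37
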