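import Groth.Agent.Lib.Helper37.VSheaf
import Groth.Agent.Lib.Helper37.PhSheaf

/-!
# V sheaves from single-arrow standard V coverings (helper37)
-/

set_option autoImplicit false

universe w w' w'' u

namespace Groth.Agent.Lib.Helper37

open CategoryTheory CategoryTheory.Limits AlgebraicGeometry HTop Opposite

/-- A standard V covering is a V covering. -/
theorem isVCover_of_isStandardV {T : Scheme.{u}} (E : PreZeroHypercover.{w} T)
    (hE : IsStandardV E) : IsVCover E := by
  intro U
  have hU : IsAffine ((U : T.Opens) : Scheme.{u}) := U.2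
  have hfin := hE.finite_index
  let e : Fin (Nat.card E.I₀) ≃ E.I₀ := (Finite.equivFin E.I₀).symm
  refine ⟨(E.pullback₁ (U : T.Opens).ι).reindex e,
    isStandardV_reindex (E.pullback₁ (U : T.Opens).ι) e
      (Groth.Agent.S7469.result (U : T.Opens).ι E hE), fun j => ?_⟩
  exact ⟨e j, pullback.snd _ _, pullback.condition.symm⟩

/-- A one-member family with affine source and target is a standard V covering as soon as it has
the valuation-ring lifting property. -/
theorem isStandardV_singleton_iff {U V : Scheme.{u}} (f : V ⟶ U) :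
    IsStandardV (PreZeroHypercover.singleton.{w} f) ↔
      IsAffine U ∧ IsAffine V ∧ HasValLift (PreZeroHypercover.singleton.{w} f) := by
  constructor
  · intro h
    exact ⟨h.isAffine, h.isAffine_obj PUnit.unit, h.lift⟩
  · rintro ⟨h1, h2, h3⟩
    exact ⟨h1, inferInstanceAs (Finite PUnit), fun _ => h2, h3⟩

theorem hasValLift_singleton_iff {U V : Scheme.{u}} (f : V ⟶ U) :
    HasValLift (PreZeroHypercover.singleton.{w} f) ↔
      ∀ (R : CommRingCat.{u}) [IsDomain R] [ValuationRing R] (g : Spec R ⟶ U),
        ∃ (W : CommRingCat.{u}) (_ : IsDomain W) (_ : ValuationRing W) (φ : R ⟶ W),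
          IsExtVal R W φ ∧ ∃ (g' : Spec W ⟶ V), g' ≫ f = Spec.map φ ≫ g := by
  constructor
  · intro h R _ _ g
    obtain ⟨W, hW1, hW2, φ, hφ, j, g', hg'⟩ := h R g
    exact ⟨W, hW1, hW2, φ, hφ, g', hg'⟩
  · intro h R _ _ g
    obtain ⟨W, hW1, hW2, φ, hφ, g', hg'⟩ := h R g
    exact ⟨W, hW1, hW2, φ, hφ, PUnit.unit, g', hg'⟩

/-- The universe of the index of a singleton family is irrelevant. -/
theorem isStandardV_singleton_univ {U V : Scheme.{u}} (f : V ⟶ U)
    (h : IsStandardV (PreZeroHypercover.singleton.{w} f)) :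
    IsStandardV (PreZeroHypercover.singleton.{w'} f) := by
  rw [isStandardV_singleton_iff, hasValLift_singleton_iff] at h ⊢
  exact h

/-- Base change of a single-arrow standard V covering to an affine scheme. -/
theorem isStandardV_singleton_pullback_snd {U V W : Scheme.{u}} [IsAffine W] (f : V ⟶ U)
    (g : W ⟶ U) (h : IsStandardV (PreZeroHypercover.singleton.{w} f)) :
    IsStandardV (PreZeroHypercover.singleton.{w'} (pullback.snd f g)) := by
  rw [isStandardV_singleton_iff, hasValLift_singleton_iff] at h ⊢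
  obtain ⟨h1, h2, h3⟩ := h
  refine ⟨inferInstance, AlgebraicGeometry.Scheme.Pullback.isAffine_of_isAffine_isAffine_isAffine f g,
    ?_⟩
  intro R _ _ v
  obtain ⟨W', hW1, hW2, φ, hφ, g', hg'⟩ := h3 R (v ≫ g)
  refine ⟨W', hW1, hW2, φ, hφ, pullback.lift g' (Spec.map φ ≫ v) ?_, ?_⟩
  · rw [hg', Category.assoc]
  · exact pullback.lift_snd _ _ _

/-- The single arrow out of the coproduct of a standard V covering is a standard V covering. -/
theorem isStandardV_singleton_sigmaDesc {T : Scheme.{u}} (E : PreZeroHypercover.{0} T)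
    (hE : IsStandardV E) [Finite E.I₀] :
    IsStandardV (PreZeroHypercover.singleton.{w} (Sigma.desc E.f)) := by
  rw [isStandardV_singleton_iff, hasValLift_singleton_iff]
  have := hE.isAffine_obj
  refine ⟨hE.isAffine, inferInstance, ?_⟩
  intro R _ _ v
  obtain ⟨W', hW1, hW2, φ, hφ, j, g', hg'⟩ := hE.lift R v
  refine ⟨W', hW1, hW2, φ, hφ, g' ≫ Sigma.ι E.X j, ?_⟩
  rw [Category.assoc, Sigma.ι_desc, hg']

variable {F : Scheme.{u}ᵒᵖ ⥤ Type w}

theorem generate_singleton_mem_finestTopologySingle_of_isStandardV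
    (hF : Presieve.IsSheaf Scheme.zariskiTopology F)
    (h1 : ∀ (U V : Scheme.{u}) (f : V ⟶ U), IsStandardV (PreZeroHypercover.singleton.{w'} f) →
      Presieve.IsSheafFor F (Presieve.singleton f))
    {U V : Scheme.{u}} (f : V ⟶ U) (hf : IsStandardV (PreZeroHypercover.singleton.{w''} f)) :
    Sieve.generate (Presieve.singleton f) ∈ Sheaf.finestTopologySingle F U := by
  refine mem_finestTopologySingle_of_forall_affine hF _ (fun W _ g => ?_)
  rw [← Sieve.pullbackArrows_comm, ← Presieve.isSheafFor_iff_generate,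
    Presieve.pullback_singleton]
  exact h1 _ _ _ (isStandardV_singleton_pullback_snd f g hf)

/-- The sheaf property for single-arrow standard V coverings implies the sheaf property for all
standard V coverings, for a Zariski sheaf. -/
theorem isSheafFor_of_isStandardV_of_singleton
    (hF : Presieve.IsSheaf Scheme.zariskiTopology F)
    (h1 : ∀ (U V : Scheme.{u}) (f : V ⟶ U), IsStandardV (PreZeroHypercover.singleton.{w'} f) →
      Presieve.IsSheafFor F (Presieve.singleton f))
    {T : Scheme.{u}} (E₀ : PreZeroHypercover.{w''} T) (hE₀ : IsStandardV E₀) :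
    Presieve.IsSheafFor F E₀.presieve₀ := by
  obtain ⟨E, hE, he, -⟩ := exists_reindex_isStandardV.{w'', 0, u} E₀ hE₀
  rw [← he]
  have hfin := hE.finite_index
  refine isSheafFor_of_generate_mem_finestTopologySingle ?_
  refine (Sheaf.finestTopologySingle F).transitive
    (generate_singleton_mem_finestTopologySingle_of_isStandardV hF h1 (Sigma.desc E.f)
      (isStandardV_singleton_sigmaDesc.{0} E hE)) _ ?_
  rintro Y k ⟨Y', k', _, ⟨⟩, rfl⟩
  have hZ : Sieve.generate (Presieve.ofArrows E.X (Sigma.ι E.X)) ∈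
      Sheaf.finestTopologySingle F (∐ E.X) :=
    zariskiTopology_le_finestTopologySingle hF _ (sigmaOpenCover E.X).mem_grothendieckTopology
  refine (Sheaf.finestTopologySingle F).superset_covering ?_
    ((Sheaf.finestTopologySingle F).pullback_stable k' hZ)
  rintro Y'' m ⟨Y₃, m', _, ⟨j⟩, e⟩
  show Sieve.generate E.presieve₀ (m ≫ k' ≫ Sigma.desc E.f)
  rw [← Category.assoc, ← e, Category.assoc, Sigma.ι_desc]
  exact ⟨_, m', E.f j, ⟨j⟩, rfl⟩

end Groth.Agent.Lib.Helper37
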