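import Groth.Agent.Lib.Helper37.ValLift
import Groth.Prelude.Def_SGA1

/-!
# V coverings are universally submersive (helper37)
-/

set_option autoImplicit false

universe w w' u

namespace Groth.Agent.Lib.Helper37

open CategoryTheory CategoryTheory.Limits AlgebraicGeometry HTop Opposite IsLocalRing

/-- A surjective map of prime spectra along which specializations lift (weakly: *some* lift of the
generic point specializes to some lift of the special point) is a quotient map. -/
lemma isQuotientMap_comap_of_exists_specializes {R S : Type*} [CommSemiring R] [CommSemiring S]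
    (f : R →+* S) (h₁ : Function.Surjective (PrimeSpectrum.comap f))
    (h₂ : ∀ z' z : PrimeSpectrum R, z' ⤳ z → ∃ w' w : PrimeSpectrum S, w' ⤳ w ∧
      PrimeSpectrum.comap f w' = z' ∧ PrimeSpectrum.comap f w = z) :
    Topology.IsQuotientMap (PrimeSpectrum.comap f) := by
  rw [Topology.isQuotientMap_iff_isClosed]
  refine ⟨h₁, fun s => ⟨fun hs => hs.preimage (PrimeSpectrum.continuous_comap f), fun hsc => ?_⟩⟩
  rw [← Set.image_preimage_eq s h₁]
  apply PrimeSpectrum.isClosed_image_of_stableUnderSpecialization _ _ hsc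
  rw [Set.image_preimage_eq s h₁]
  intro z' z hz hz's
  obtain ⟨w', w, hw, rfl, rfl⟩ := h₂ z' z hz
  exact hw.mem_closed hsc hz's

/-- A surjective morphism of affine schemes along which specializations lift weakly is a
quotient map. -/
theorem isQuotientMap_of_isAffine_of_exists_specializes {V U : Scheme.{u}} [IsAffine V]
    [IsAffine U] (σ : V ⟶ U) (h₁ : Function.Surjective σ)
    (h₂ : ∀ z' z : U, z' ⤳ z → ∃ w' w : V, w' ⤳ w ∧ σ w' = z' ∧ σ w = z) :
    Topology.IsQuotientMap σ := by
  have nat : V.isoSpec.hom ≫ Spec.map σ.appTop = σ ≫ U.isoSpec.hom :=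
    Scheme.isoSpec_hom_naturality σ
  have hU : ∀ z, U.isoSpec.hom (U.isoSpec.inv z) = z := fun z => by
    rw [← Scheme.Hom.comp_apply, Iso.inv_hom_id]; rfl
  have key : Topology.IsQuotientMap (Spec.map σ.appTop) := by
    refine isQuotientMap_comap_of_exists_specializes σ.appTop.hom ?_ ?_
    · intro z
      obtain ⟨v, hv⟩ := h₁ (U.isoSpec.inv z)
      refine ⟨V.isoSpec.hom v, ?_⟩
      show Spec.map σ.appTop (V.isoSpec.hom v) = z
      rw [← Scheme.Hom.comp_apply, nat, Scheme.Hom.comp_apply, hv, hU]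
    · intro z' z hz
      obtain ⟨w', w, hw, hw', hwz⟩ := h₂ _ _ (hz.map U.isoSpec.inv.continuous)
      refine ⟨V.isoSpec.hom w', V.isoSpec.hom w, hw.map V.isoSpec.hom.continuous, ?_, ?_⟩
      · show Spec.map σ.appTop (V.isoSpec.hom w') = z'
        rw [← Scheme.Hom.comp_apply, nat, Scheme.Hom.comp_apply, hw', hU]
      · show Spec.map σ.appTop (V.isoSpec.hom w) = z
        rw [← Scheme.Hom.comp_apply, nat, Scheme.Hom.comp_apply, hwz, hU]
  have e : σ = V.isoSpec.hom ≫ Spec.map σ.appTop ≫ U.isoSpec.inv := by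
    rw [← Category.assoc, nat, Category.assoc, Iso.hom_inv_id, Category.comp_id]
  have e' : (σ : V → U) = (Scheme.homeoOfIso U.isoSpec.symm) ∘ (Spec.map σ.appTop) ∘
      (Scheme.homeoOfIso V.isoSpec) := by
    funext x
    conv_lhs => rw [e]
    rfl
  rw [e']
  exact (Scheme.homeoOfIso U.isoSpec.symm).isQuotientMap.comp
    (key.comp (Scheme.homeoOfIso V.isoSpec).isQuotientMap)

/-- The morphism out of the coproduct of a standard V covering is a quotient map. -/
theorem isQuotientMap_sigmaDesc_of_isStandardV {T : Scheme.{u}} (E : PreZeroHypercover.{0} T)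
    (hE : IsStandardV E) : Topology.IsQuotientMap (Sigma.desc E.f) := by
  have hfin := hE.finite_index
  have := hE.isAffine_obj
  have := hE.isAffine
  have key : ∀ z' z : T, z' ⤳ z → ∃ w' w : ↑(∐ E.X), w' ⤳ w ∧ Sigma.desc E.f w' = z' ∧
      Sigma.desc E.f w = z := by
    intro z' z hz
    obtain ⟨j, w', w, hw, hw', hwz⟩ := exists_specializes_of_hasValLift E hE.lift (𝟙 T) hz
    refine ⟨(pullback.snd (𝟙 T) (E.f j) ≫ Sigma.ι E.X j) w',
      (pullback.snd (𝟙 T) (E.f j) ≫ Sigma.ι E.X j) w, hw.map (Scheme.Hom.continuous _), ?_, ?_⟩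
    · rw [← Scheme.Hom.comp_apply, Category.assoc, Sigma.ι_desc, ← pullback.condition,
        Category.comp_id, hw']
    · rw [← Scheme.Hom.comp_apply, Category.assoc, Sigma.ι_desc, ← pullback.condition,
        Category.comp_id, hwz]
  refine isQuotientMap_of_isAffine_of_exists_specializes _ ?_ key
  intro z
  obtain ⟨w', w, -, -, hw⟩ := key z z specializes_rfl
  exact ⟨w, hw⟩

/-- If `{f_i : X_i ⟶ X}` is a V covering then `∐ X_i ⟶ X` is universally submersive. -/
theorem univSubmersive_sigmaDesc_of_isVCover {X : Scheme.{u}} (E : PreZeroHypercover.{u} X)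
    (hE : IsVCover E) : SGA1.UnivSubmersive (Sigma.desc E.f) := by
  intro P' T' i₁ i₂ f' hP
  have hlift := hasValLift_of_isVCover E hE
  show Topology.IsQuotientMap f'
  rw [Topology.isQuotientMap_iff]
  refine ⟨.of_isOpen_preimage_iff_isOpen fun s =>
    ⟨fun hs => ?_, fun hs => hs.preimage f'.continuous⟩, ?_⟩
  rotate_left
  · -- surjectivity
    intro t
    obtain ⟨W, hW1, hW2, φ, hφ, j, g', hg'⟩ := hlift (T'.residueField t)
      (T'.fromSpecResidueField t ≫ i₂)
    let ℓ : Spec W ⟶ P' := hP.lift (Spec.map φ ≫ T'.fromSpecResidueField t)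
      (g' ≫ Sigma.ι E.X j) (by rw [Category.assoc, Category.assoc, Sigma.ι_desc, hg'])
    refine ⟨ℓ (closedPoint W), ?_⟩
    rw [← Scheme.Hom.comp_apply, hP.lift_fst, Scheme.Hom.comp_apply,
      Scheme.fromSpecResidueField_apply]
  · -- openness
    rw [isOpen_iff_mem_nhds]
    intro t ht
    obtain ⟨(U' : T'.Opens), hU', htU', -⟩ :=
      TopologicalSpace.Opens.isBasis_iff_nbhd.mp T'.isBasis_affineOpens
        (TopologicalSpace.Opens.mem_top t)
    have hU'aff : IsAffine (U' : Scheme.{u}) := hU'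
    obtain ⟨G, hG, hGE⟩ := exists_standardV_refinesOver (U'.ι ≫ i₂) E hE
    choose i h hh using hGE
    have hfin := hG.finite_index
    let htot : ∐ G.X ⟶ P' := hP.lift (Sigma.desc G.f ≫ U'.ι)
      (Sigma.desc fun j => h j ≫ Sigma.ι E.X (i j)) (by
        apply Sigma.hom_ext
        intro j
        simp only [Category.assoc, Sigma.ι_desc_assoc, Sigma.ι_desc]
        exact (hh j).symm)
    have htot_fst : htot ≫ f' = Sigma.desc G.f ≫ U'.ι := hP.lift_fst _ _ _
    have hq := isQuotientMap_sigmaDesc_of_isStandardV G hG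
    have hopen : IsOpen ((U'.ι : U' → T') ⁻¹' s) := by
      rw [← hq.isOpen_preimage]
      have e : (Sigma.desc G.f : ↑(∐ G.X) → U') ⁻¹' ((U'.ι : U' → T') ⁻¹' s) =
          (htot : ↑(∐ G.X) → P') ⁻¹' ((f' : P' → T') ⁻¹' s) := by
        ext x
        simp only [Set.mem_preimage]
        rw [← Scheme.Hom.comp_apply, ← Scheme.Hom.comp_apply, htot_fst]
      rw [e]
      exact hs.preimage htot.continuous
    have himg : IsOpen ((U'.ι : U' → T') '' ((U'.ι : U' → T') ⁻¹' s)) :=
      U'.ι.isOpenEmbedding.isOpenMap _ hopen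
    refine Filter.mem_of_superset (himg.mem_nhds ⟨⟨t, htU'⟩, ht, rfl⟩) ?_
    rintro _ ⟨x, hx, rfl⟩
    exact hx

end Groth.Agent.Lib.Helper37
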