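import Groth.Agent.Lib.Helper37.VSheafSingle
import Groth.Agent.Lib.Helper37.ValuationSpecializes

/-!
# The valuation-ring lifting property (helper37)

* `hasValLift_of_isVCover`: a V covering has the valuation-ring lifting property.
* `isVCover_singleton_of_hasValLift`: a quasi-compact morphism with the lifting property is a
  V covering.
* `exists_specializes_of_hasValLift`: the lifting property lifts specializations universally.
* `hasValLift_singleton_of_specializes`: conversely for a single morphism.
-/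

set_option autoImplicit false

universe w w' u

namespace Groth.Agent.Lib.Helper37

open CategoryTheory CategoryTheory.Limits AlgebraicGeometry HTop Opposite IsLocalRing

/-- A V covering has the valuation-ring lifting property. -/
theorem hasValLift_of_isVCover {T : Scheme.{u}} (E : PreZeroHypercover.{w} T) (hE : IsVCover E) :
    HasValLift E := by
  intro R _ _ g
  obtain ⟨(U : T.Opens), hU, hyU, -⟩ := TopologicalSpace.Opens.isBasis_iff_nbhd.mp T.isBasis_affineOpens
    (TopologicalSpace.Opens.mem_top (g (closedPoint R)))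
  have hrange : Set.range g ⊆ Set.range U.ι := by
    rw [Scheme.Opens.range_ι]
    exact range_subset_of_closedPoint_mem g U hyU
  obtain ⟨G, hG, hGE⟩ := hE ⟨U, hU⟩
  obtain ⟨W, hW1, hW2, φ, hφ, j, g', hg'⟩ := hG.lift R (IsOpenImmersion.lift U.ι g hrange)
  obtain ⟨i, h, hh⟩ := hGE j
  refine ⟨W, hW1, hW2, φ, hφ, i, g' ≫ h, ?_⟩
  have hh' : h ≫ E.f i = G.f j ≫ U.ι := hh
  rw [Category.assoc, hh', ← Category.assoc, hg', Category.assoc, IsOpenImmersion.lift_fac]

/-- The universe of the index of a singleton family is irrelevant for the lifting property. -/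
theorem hasValLift_singleton_univ {X Y : Scheme.{u}} (f : X ⟶ Y)
    (h : HasValLift (PreZeroHypercover.singleton.{w} f)) :
    HasValLift (PreZeroHypercover.singleton.{w'} f) := by
  rw [hasValLift_singleton_iff] at h ⊢
  exact h

/-- A quasi-compact morphism with the valuation-ring lifting property is a V covering. -/
theorem isVCover_singleton_of_hasValLift {X Y : Scheme.{u}} (f : X ⟶ Y) [QuasiCompact f]
    (hf : HasValLift (PreZeroHypercover.singleton.{w} f)) :
    IsVCover (PreZeroHypercover.singleton.{w'} f) := by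
  rw [hasValLift_singleton_iff] at hf
  intro U
  have hUaff : IsAffine ((U : Y.Opens) : Scheme.{u}) := U.2
  have hc : IsCompact ((f ⁻¹ᵁ (U : Y.Opens) : X.Opens) : Set X) :=
    QuasiCompact.isCompact_preimage (f := f) _ (U : Y.Opens).2 U.2.isCompact
  obtain ⟨s, hs, hsU⟩ := isCompact_iff_finite_and_eq_biUnion_affineOpens.mp hc
  have hsfin : Finite s := hs
  let e : Fin (Nat.card s) ≃ s := (Finite.equivFin s).symm
  have hle : ∀ k, ((e k : X.affineOpens) : X.Opens) ≤ f ⁻¹ᵁ (U : Y.Opens) := by
    intro k
    rw [hsU]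
    exact le_iSup₂ (f := fun (i : X.affineOpens) (_ : i ∈ s) => (i : X.Opens)) (e k).1 (e k).2
  let G : PreZeroHypercover.{0} ((U : Y.Opens) : Scheme.{u}) :=
    { I₀ := Fin (Nat.card s)
      X := fun k => (((e k : X.affineOpens) : X.Opens) : Scheme.{u})
      f := fun k => f.resLE (U : Y.Opens) ((e k : X.affineOpens) : X.Opens) (hle k) }
  refine ⟨G, ⟨hUaff, inferInstanceAs (Finite (Fin _)), fun k => (e k).1.2, ?_⟩, ?_⟩
  · intro R _ _ v
    obtain ⟨W, hW1, hW2, φ, hφ, g', hg'⟩ := hf R (v ≫ (U : Y.Opens).ι)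
    have hx : g' (closedPoint W) ∈ f ⁻¹ᵁ (U : Y.Opens) := by
      show f (g' (closedPoint W)) ∈ (U : Y.Opens)
      rw [← Scheme.Hom.comp_apply, hg', Scheme.Hom.comp_apply, Scheme.Hom.comp_apply]
      exact ((v (Spec.map φ (closedPoint W)))).2
    rw [hsU] at hx
    simp only [TopologicalSpace.Opens.mem_iSup] at hx
    obtain ⟨V, hVs, hxV⟩ := hx
    obtain ⟨k, hk⟩ : ∃ k, e k = ⟨V, hVs⟩ := ⟨e.symm ⟨V, hVs⟩, e.apply_symm_apply _⟩
    have hxk : g' (closedPoint W) ∈ ((e k : X.affineOpens) : X.Opens) := by rw [hk]; exact hxV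
    have hrange : Set.range g' ⊆ Set.range ((e k : X.affineOpens) : X.Opens).ι := by
      rw [Scheme.Opens.range_ι]
      exact range_subset_of_closedPoint_mem g' _ hxk
    refine ⟨W, hW1, hW2, φ, hφ, k,
      IsOpenImmersion.lift ((e k : X.affineOpens) : X.Opens).ι g' hrange, ?_⟩
    show IsOpenImmersion.lift ((e k : X.affineOpens) : X.Opens).ι g' hrange ≫
      f.resLE (U : Y.Opens) ((e k : X.affineOpens) : X.Opens) (hle k) = Spec.map φ ≫ v
    rw [← cancel_mono (U : Y.Opens).ι, Category.assoc, Scheme.Hom.resLE_comp_ι,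
      ← Category.assoc, IsOpenImmersion.lift_fac, hg', Category.assoc]
  · intro k
    refine ⟨PUnit.unit, ((e k : X.affineOpens) : X.Opens).ι, ?_⟩
    show ((e k : X.affineOpens) : X.Opens).ι ≫ f =
      f.resLE (U : Y.Opens) ((e k : X.affineOpens) : X.Opens) (hle k) ≫ (U : Y.Opens).ι
    rw [Scheme.Hom.resLE_comp_ι]

/-- The generic point of the spectrum of a domain. -/
def genericPt (R : CommRingCat.{u}) [IsDomain R] : Spec R := ⟨⊥, Ideal.isPrime_bot⟩

lemma specMap_genericPt {R W : CommRingCat.{u}} [IsDomain R] [IsDomain W] (φ : R ⟶ W)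
    (hφ : Function.Injective φ.hom) : Spec.map φ (genericPt W) = genericPt R := by
  apply PrimeSpectrum.ext
  show Ideal.comap φ.hom ⊥ = ⊥
  exact (RingHom.injective_iff_ker_eq_bot _).mp hφ

lemma specMap_closedPoint {R W : CommRingCat.{u}} [IsLocalRing R] [IsLocalRing W] (φ : R ⟶ W)
    (hφ : IsLocalHom φ.hom) : Spec.map φ (closedPoint W) = closedPoint R :=
  comap_closedPoint φ.hom

/-- The morphism from the spectrum of a valuation subring of `κ(y')` realising a specialization
sends the generic point to `y'`. -/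
lemma apply_genericPt_of_fromSpecResidueField {X : Scheme.{u}} {y' : X}
    (A : ValuationSubring (X.residueField y')) (v : Spec (CommRingCat.of A) ⟶ X)
    (hv : Spec.map (CommRingCat.ofHom (algebraMap A (X.residueField y'))) ≫ v =
        X.fromSpecResidueField y') :
    v (genericPt (CommRingCat.of A)) = y' := by
  have p : Spec (X.residueField y') := closedPoint (X.residueField y')
  have h1 : Spec.map (CommRingCat.ofHom (algebraMap A (X.residueField y'))) p =
      genericPt (CommRingCat.of A) := by
    apply PrimeSpectrum.ext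
    exact specMap_algebraMap_valuationSubring_apply A p
  rw [← h1, ← Scheme.Hom.comp_apply, hv, Scheme.fromSpecResidueField_apply]

/-- The valuation-ring lifting property lifts specializations, universally. -/
theorem exists_specializes_of_hasValLift {T : Scheme.{u}} (E : PreZeroHypercover.{w} T)
    (hE : HasValLift E) {Z : Scheme.{u}} (g : Z ⟶ T) {z' z : Z} (h : z' ⤳ z) :
    ∃ (j : E.I₀) (w' w : ↑(pullback g (E.f j))), w' ⤳ w ∧
      pullback.fst g (E.f j) w' = z' ∧ pullback.fst g (E.f j) w = z := by
  obtain ⟨A, v, hvc, hvg⟩ := exists_valuationSubring_of_specializes h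
  obtain ⟨W, hW1, hW2, φ, hφ, j, g', hg'⟩ := hE (CommRingCat.of A) (v ≫ g)
  let ℓ : Spec W ⟶ pullback g (E.f j) := pullback.lift (Spec.map φ ≫ v) g'
    (by rw [hg', Category.assoc])
  have hℓ : ℓ ≫ pullback.fst g (E.f j) = Spec.map φ ≫ v := pullback.lift_fst _ _ _
  refine ⟨j, ℓ (genericPt W), ℓ (closedPoint W), ?_, ?_, ?_⟩
  · exact (specializes_closedPoint (genericPt W)).map ℓ.continuous
  · rw [← Scheme.Hom.comp_apply, hℓ, Scheme.Hom.comp_apply, specMap_genericPt φ hφ.1]
    exact apply_genericPt_of_fromSpecResidueField A v hvg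
  · rw [← Scheme.Hom.comp_apply, hℓ, Scheme.Hom.comp_apply, specMap_closedPoint φ hφ.2]
    exact hvc

/-- A morphism lifting specializations universally has the valuation-ring lifting property. -/
theorem hasValLift_singleton_of_specializes {X Y : Scheme.{u}} (f : X ⟶ Y)
    (H : ∀ (Z : Scheme.{u}) (g : Z ⟶ Y) (z' z : Z), z' ⤳ z →
      ∃ w' w : ↑(pullback g f), w' ⤳ w ∧ pullback.fst g f w' = z' ∧ pullback.fst g f w = z) :
    HasValLift (PreZeroHypercover.singleton.{w} f) := by
  rw [hasValLift_singleton_iff]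
  intro R _ _ g
  obtain ⟨w', w, hw, hw', hwc⟩ := H (Spec R) g (genericPt R) (closedPoint R)
    (specializes_closedPoint _)
  obtain ⟨B, v, hvc, hvg⟩ := exists_valuationSubring_of_specializes hw
  have hvgen : v (genericPt (CommRingCat.of B)) = w' :=
    apply_genericPt_of_fromSpecResidueField B v hvg
  let ψ : Spec (CommRingCat.of B) ⟶ Spec R := v ≫ pullback.fst g f
  let φ : R ⟶ CommRingCat.of B := Spec.preimage ψ
  have hφ : Spec.map φ = ψ := Spec.map_preimage ψ
  refine ⟨CommRingCat.of B, inferInstance, inferInstance, φ, ⟨?_, ?_⟩, v ≫ pullback.snd g f, ?_⟩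
  · rw [RingHom.injective_iff_ker_eq_bot]
    have h1 : Spec.map φ (genericPt (CommRingCat.of B)) = genericPt R := by
      rw [hφ, Scheme.Hom.comp_apply, hvgen, hw']
    exact congrArg PrimeSpectrum.asIdeal h1
  · rw [isLocalHom_iff_comap_closedPoint]
    have h1 : Spec.map φ (closedPoint (CommRingCat.of B)) = closedPoint R := by
      rw [hφ, Scheme.Hom.comp_apply, hvc, hwc]
    exact h1
  · rw [hφ, Category.assoc, Category.assoc, pullback.condition]

end Groth.Agent.Lib.Helper37
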